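import Cfsg.Agent.Lib.Rec.RegM
set_option autoImplicit false
set_option linter.all false
set_option maxRecDepth 100000
universe u
namespace CA.CoQ
open CA.CNet CA.CWord CA.CLevel CA.CSimple CA.CPoint CA.CTodd CA.CLow CA.RegM
noncomputable section
def rels : List Word := [[0,0,0,0], [0,0,3,3], [0,0,5,5], [0,0,7,7], [0,0,9,9], [0,0,11,11], [0,0,13,13], [0,0,15,15], [0,2,1,2], [0,4,1,5], [0,6,1,7], [0,8,1,9], [0,10,1,11], [0,12,1,13], [0,14,1,15], [2,4,3,5], [2,6,3,7], [2,8,3,9], [2,10,3,11], [2,12,3,13], [2,14,3,15], [4,6,5,6], [4,8,5,9], [4,10,5,11], [4,12,5,13], [4,14,5,15], [6,8,7,9], [6,10,7,11], [6,12,7,13], [6,14,7,15], [8,10,9,10], [8,12,9,13], [8,14,9,15], [10,12,11,13], [10,14,11,15], [12,14,13,14]]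
namespace T0
noncomputable def A_0 : List (ℕ) := [nat_lit 0xbc07c2ce1f0c307c32a1f0e107c3a21f0da07c3d01705285c16c1708885c2041706185c2d01e0cb07830a1e0e90783821e0d207816a16053058202160890581a6160c402c32e0b01902c0820b01202c15018090860264180798603300a0210280620a00a028262190910641c619023848070120ea84838c1204184826e0408301022a0404a01006e130e284c3ac1303984c22c0308280c008030eb8443901102984420e1d0aa07438e100318402881c0640681ae1a0a10682a21a07b0683700c0308300a40c0128301b01b0a086c2a41b07306c0c40d02883402a0d0a40182ae0604b0180b01403a8502b00500301410a150408380e40e01383812e0700401c10e090090241e20800b83c3e81a0b98343c81b0b1830168010c1838148020c983c246070220002660801a024226060ea050206050e205434c0e06280436c0f06a8080cc000a28200ac090aa81c1ce0103883c124020440001ee0201100002200]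
noncomputable def A : List (List (ℕ)) := [A_0]
noncomputable def K_0 : List (ℕ) := [nat_lit 0x8f472230f8643a2f198ec6e0f098a45a25108141a170d8d462090382c2a111589c060000]
noncomputable def K : List (List (ℕ)) := [K_0]
noncomputable def R_0 : List (Rule) := [Rule.mk (nat_lit 7) (nat_lit 33) (Steps.bwd (nat_lit 7) (Steps.bwd (nat_lit 2) (Steps.fwd (nat_lit 512) Steps.nil))) (nat_lit 7) (nat_lit 1),
  Rule.mk (nat_lit 1) (nat_lit 33) (Steps.bwd (nat_lit 8) (Steps.fwd (nat_lit 512) (Steps.bwd (nat_lit 7) Steps.nil))) (nat_lit 21) (nat_lit 2),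
  Rule.mk (nat_lit 2) (nat_lit 33) (Steps.bwd (nat_lit 2) (Steps.bwd (nat_lit 2) (Steps.fwd (nat_lit 512) Steps.nil))) (nat_lit 1) (nat_lit 0),
  Rule.mk (nat_lit 7) (nat_lit 33) (Steps.bwd (nat_lit 2) (Steps.bwd (nat_lit 2) (Steps.fwd (nat_lit 4096) Steps.nil))) (nat_lit 7) (nat_lit 2),
  Rule.mk (nat_lit 8) (nat_lit 33) (Steps.bwd (nat_lit 1) (Steps.bwd (nat_lit 1) (Steps.bwd (nat_lit 8) Steps.nil))) (nat_lit 6) (nat_lit 0),
  Rule.mk (nat_lit 7) (nat_lit 33) (Steps.bwd (nat_lit 1) (Steps.fwd (nat_lit 3584) (Steps.bwd (nat_lit 2) Steps.nil))) (nat_lit 21) (nat_lit 1),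
  Rule.mk (nat_lit 7) (nat_lit 33) (Steps.bwd (nat_lit 7) (Steps.bwd (nat_lit 2) (Steps.bwd (nat_lit 2) Steps.nil))) (nat_lit 7) (nat_lit 1),
  Rule.mk (nat_lit 2) (nat_lit 33) (Steps.bwd (nat_lit 7) (Steps.bwd (nat_lit 7) (Steps.fwd (nat_lit 512) Steps.nil))) (nat_lit 7) (nat_lit 0),
  Rule.mk (nat_lit 1) (nat_lit 33) (Steps.bwd (nat_lit 7) (Steps.bwd (nat_lit 2) (Steps.fwd (nat_lit 3584) Steps.nil))) (nat_lit 20) (nat_lit 1),
  Rule.mk (nat_lit 5) (nat_lit 33) (Steps.bwd (nat_lit 5) (Steps.bwd (nat_lit 2) (Steps.fwd (nat_lit 512) Steps.nil))) (nat_lit 5) (nat_lit 1),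
  Rule.mk (nat_lit 6) (nat_lit 33) (Steps.bwd (nat_lit 6) (Steps.fwd (nat_lit 1024) (Steps.bwd (nat_lit 1) Steps.nil))) (nat_lit 4) (nat_lit 3),
  Rule.mk (nat_lit 8) (nat_lit 33) (Steps.bwd (nat_lit 6) (Steps.fwd (nat_lit 3584) (Steps.bwd (nat_lit 5) Steps.nil))) (nat_lit 43) (nat_lit 3),
  Rule.mk (nat_lit 5) (nat_lit 33) (Steps.bwd (nat_lit 5) (Steps.fwd (nat_lit 512) (Steps.fwd (nat_lit 512) Steps.nil))) (nat_lit 5) (nat_lit 1),
  Rule.mk (nat_lit 8) (nat_lit 33) (Steps.bwd (nat_lit 5) (Steps.bwd (nat_lit 8) (Steps.bwd (nat_lit 6) Steps.nil))) (nat_lit 43) (nat_lit 1),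
  Rule.mk (nat_lit 6) (nat_lit 33) (Steps.bwd (nat_lit 6) (Steps.fwd (nat_lit 1024) (Steps.fwd (nat_lit 1024) Steps.nil))) (nat_lit 4) (nat_lit 3),
  Rule.mk (nat_lit 7) (nat_lit 33) (Steps.bwd (nat_lit 6) (Steps.fwd (nat_lit 4096) (Steps.bwd (nat_lit 5) Steps.nil))) (nat_lit 42) (nat_lit 2),
  Rule.mk (nat_lit 8) (nat_lit 33) (Steps.bwd (nat_lit 6) (Steps.bwd (nat_lit 8) (Steps.bwd (nat_lit 5) Steps.nil))) (nat_lit 43) (nat_lit 3),
  Rule.mk (nat_lit 1) (nat_lit 33) (Steps.bwd (nat_lit 5) (Steps.bwd (nat_lit 2) (Steps.bwd (nat_lit 6) Steps.nil))) (nat_lit 18) (nat_lit 1),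
  Rule.mk (nat_lit 2) (nat_lit 33) (Steps.bwd (nat_lit 5) (Steps.fwd (nat_lit 1024) (Steps.bwd (nat_lit 6) Steps.nil))) (nat_lit 19) (nat_lit 0),
  Rule.mk (nat_lit 6) (nat_lit 33) (Steps.bwd (nat_lit 6) (Steps.bwd (nat_lit 1) (Steps.bwd (nat_lit 1) Steps.nil))) (nat_lit 4) (nat_lit 3),
  Rule.mk (nat_lit 2) (nat_lit 33) (Steps.bwd (nat_lit 6) (Steps.bwd (nat_lit 1) (Steps.bwd (nat_lit 5) Steps.nil))) (nat_lit 18) (nat_lit 3),
  Rule.mk (nat_lit 1) (nat_lit 33) (Steps.bwd (nat_lit 6) (Steps.fwd (nat_lit 512) (Steps.bwd (nat_lit 5) Steps.nil))) (nat_lit 19) (nat_lit 2),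
  Rule.mk (nat_lit 5) (nat_lit 33) (Steps.bwd (nat_lit 5) (Steps.bwd (nat_lit 2) (Steps.bwd (nat_lit 2) Steps.nil))) (nat_lit 5) (nat_lit 1),
  Rule.mk (nat_lit 2) (nat_lit 33) (Steps.bwd (nat_lit 5) (Steps.bwd (nat_lit 5) (Steps.fwd (nat_lit 512) Steps.nil))) (nat_lit 5) (nat_lit 0),
  Rule.mk (nat_lit 8) (nat_lit 33) (Steps.bwd (nat_lit 5) (Steps.fwd (nat_lit 3584) (Steps.bwd (nat_lit 6) Steps.nil))) (nat_lit 43) (nat_lit 1),
  Rule.mk (nat_lit 1) (nat_lit 33) (Steps.bwd (nat_lit 6) (Steps.bwd (nat_lit 6) (Steps.fwd (nat_lit 1024) Steps.nil))) (nat_lit 4) (nat_lit 2),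
  Rule.mk (nat_lit 2) (nat_lit 33) (Steps.bwd (nat_lit 6) (Steps.fwd (nat_lit 1024) (Steps.bwd (nat_lit 5) Steps.nil))) (nat_lit 18) (nat_lit 3),
  Rule.mk (nat_lit 7) (nat_lit 33) (Steps.bwd (nat_lit 6) (Steps.bwd (nat_lit 7) (Steps.bwd (nat_lit 5) Steps.nil))) (nat_lit 42) (nat_lit 2),
  Rule.mk (nat_lit 4) (nat_lit 33) (Steps.bwd (nat_lit 4) (Steps.bwd (nat_lit 1) (Steps.fwd (nat_lit 1024) Steps.nil))) (nat_lit 2) (nat_lit 3),
  Rule.mk (nat_lit 3) (nat_lit 33) (Steps.bwd (nat_lit 3) (Steps.bwd (nat_lit 2) (Steps.fwd (nat_lit 512) Steps.nil))) (nat_lit 3) (nat_lit 1),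
  Rule.mk (nat_lit 7) (nat_lit 33) (Steps.bwd (nat_lit 3) (Steps.bwd (nat_lit 8) (Steps.bwd (nat_lit 4) Steps.nil))) (nat_lit 33) (nat_lit 1),
  Rule.mk (nat_lit 7) (nat_lit 33) (Steps.bwd (nat_lit 4) (Steps.bwd (nat_lit 8) (Steps.bwd (nat_lit 3) Steps.nil))) (nat_lit 32) (nat_lit 2),
  Rule.mk (nat_lit 8) (nat_lit 33) (Steps.bwd (nat_lit 3) (Steps.fwd (nat_lit 4096) (Steps.bwd (nat_lit 4) Steps.nil))) (nat_lit 32) (nat_lit 0),
  Rule.mk (nat_lit 7) (nat_lit 33) (Steps.bwd (nat_lit 3) (Steps.fwd (nat_lit 3584) (Steps.bwd (nat_lit 4) Steps.nil))) (nat_lit 33) (nat_lit 1),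
  Rule.mk (nat_lit 4) (nat_lit 33) (Steps.bwd (nat_lit 4) (Steps.fwd (nat_lit 1024) (Steps.bwd (nat_lit 1) Steps.nil))) (nat_lit 2) (nat_lit 3),
  Rule.mk (nat_lit 5) (nat_lit 33) (Steps.bwd (nat_lit 4) (Steps.bwd (nat_lit 6) (Steps.bwd (nat_lit 3) Steps.nil))) (nat_lit 30) (nat_lit 2),
  Rule.mk (nat_lit 6) (nat_lit 33) (Steps.bwd (nat_lit 4) (Steps.fwd (nat_lit 3072) (Steps.bwd (nat_lit 3) Steps.nil))) (nat_lit 31) (nat_lit 3),
  Rule.mk (nat_lit 3) (nat_lit 33) (Steps.bwd (nat_lit 3) (Steps.fwd (nat_lit 512) (Steps.fwd (nat_lit 512) Steps.nil))) (nat_lit 3) (nat_lit 1),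
  Rule.mk (nat_lit 6) (nat_lit 33) (Steps.bwd (nat_lit 3) (Steps.bwd (nat_lit 5) (Steps.bwd (nat_lit 4) Steps.nil))) (nat_lit 30) (nat_lit 0),
  Rule.mk (nat_lit 5) (nat_lit 33) (Steps.bwd (nat_lit 3) (Steps.fwd (nat_lit 2560) (Steps.bwd (nat_lit 4) Steps.nil))) (nat_lit 31) (nat_lit 1),
  Rule.mk (nat_lit 4) (nat_lit 33) (Steps.bwd (nat_lit 4) (Steps.fwd (nat_lit 1024) (Steps.fwd (nat_lit 1024) Steps.nil))) (nat_lit 2) (nat_lit 3),
  Rule.mk (nat_lit 3) (nat_lit 33) (Steps.bwd (nat_lit 3) (Steps.fwd (nat_lit 512) (Steps.bwd (nat_lit 2) Steps.nil))) (nat_lit 3) (nat_lit 1),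
  Rule.mk (nat_lit 2) (nat_lit 33) (Steps.bwd (nat_lit 3) (Steps.bwd (nat_lit 1) (Steps.bwd (nat_lit 3) Steps.nil))) (nat_lit 16) (nat_lit 3),
  Rule.mk (nat_lit 1) (nat_lit 33) (Steps.bwd (nat_lit 3) (Steps.fwd (nat_lit 512) (Steps.bwd (nat_lit 3) Steps.nil))) (nat_lit 16) (nat_lit 1),
  Rule.mk (nat_lit 1) (nat_lit 33) (Steps.bwd (nat_lit 4) (Steps.bwd (nat_lit 2) (Steps.bwd (nat_lit 4) Steps.nil))) (nat_lit 17) (nat_lit 2),
  Rule.mk (nat_lit 2) (nat_lit 33) (Steps.bwd (nat_lit 4) (Steps.fwd (nat_lit 1024) (Steps.bwd (nat_lit 4) Steps.nil))) (nat_lit 17) (nat_lit 0),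
  Rule.mk (nat_lit 8) (nat_lit 33) (Steps.bwd (nat_lit 4) (Steps.bwd (nat_lit 7) (Steps.bwd (nat_lit 3) Steps.nil))) (nat_lit 33) (nat_lit 3),
  Rule.mk (nat_lit 2) (nat_lit 33) (Steps.bwd (nat_lit 3) (Steps.bwd (nat_lit 3) (Steps.fwd (nat_lit 512) Steps.nil))) (nat_lit 3) (nat_lit 0),
  Rule.mk (nat_lit 8) (nat_lit 33) (Steps.bwd (nat_lit 3) (Steps.bwd (nat_lit 7) (Steps.bwd (nat_lit 4) Steps.nil))) (nat_lit 32) (nat_lit 0),
  Rule.mk (nat_lit 1) (nat_lit 33) (Steps.bwd (nat_lit 4) (Steps.bwd (nat_lit 4) (Steps.fwd (nat_lit 1024) Steps.nil))) (nat_lit 2) (nat_lit 2),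
  Rule.mk (nat_lit 2) (nat_lit 33) (Steps.bwd (nat_lit 4) (Steps.bwd (nat_lit 1) (Steps.bwd (nat_lit 4) Steps.nil))) (nat_lit 17) (nat_lit 0),
  Rule.mk (nat_lit 7) (nat_lit 33) (Steps.bwd (nat_lit 4) (Steps.fwd (nat_lit 3584) (Steps.bwd (nat_lit 3) Steps.nil))) (nat_lit 32) (nat_lit 2),
  Rule.mk (nat_lit 2) (nat_lit 33) (Steps.bwd (nat_lit 3) (Steps.fwd (nat_lit 1024) (Steps.bwd (nat_lit 3) Steps.nil))) (nat_lit 16) (nat_lit 3),
  Rule.mk (nat_lit 1) (nat_lit 33) (Steps.bwd (nat_lit 4) (Steps.fwd (nat_lit 512) (Steps.bwd (nat_lit 4) Steps.nil))) (nat_lit 17) (nat_lit 2),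
  Rule.mk (nat_lit 8) (nat_lit 33) (Steps.bwd (nat_lit 4) (Steps.fwd (nat_lit 4096) (Steps.bwd (nat_lit 3) Steps.nil))) (nat_lit 33) (nat_lit 3)]
noncomputable def R : List (List (Rule)) := [R_0]
def LW : List Word := [[], [0], [1], [2], [3], [4], [5], [6], [7]]
def par : Par := ⟨9, 4, 13, 22, 511, 8191, 4194303⟩
theorem hpar : par.ok := by decide
theorem hR0_0 : lall (R) (fun l => lall l (ruleOK rels LW par)) = true := by decide +kernel
theorem hR0 : lall (R) (fun l => lall l (ruleOK rels LW par)) = true := hR0_0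
theorem hR : RulesOK rels LW par R := rulesOK_of rfl hR0
def cols : List (ℕ × ℕ) := [(512, 2), (1536, 4), (2560, 6), (3584, 8)]
theorem hcols : lall cols (colOK rels LW par) = true := by decide +kernel
noncomputable def JS0 : List ℕ := [nat_lit 0x68dc5ee0442c2e6c0e0816b4350a0b0b030cc58c82c2e2b480c071530320a8a57028585260245e2858161313aa0b090994020b44c981c5e25485e2e121403058911028a84680a056223c0428111c2505084d0081c4260a00e202c0001101404028809100183e4080061e1c04040f0c1f0107450f0803a20803e1c0c001f0e041e0e8701,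
  nat_lit 0x28e08b7834b044b8265a21da392b10a9071508560147041ac6252205407191022068c87f08449a3ea026281ece2b160f1e030b879003c8c3b9414261d484a268e690292872f8308638a010231bce45150da6021046d281c3635908e261a46030c0d220285867084c243278041419400e068c5d0085462f81c1030780403183a070c8c0c,
  nat_lit 0xa8fcbfa074825e94466d2ec83a1e972e05030b7910c765a8c14392d621b231668091a8b138bc8657b0120b2b603a20956a048ecabb8607a5494206329c82b1d14ae168e0a3b0c070508c103428500f2e93e7140c09d608c604dd46a2e26540723932f0697c97a070c84acc0c0824e46131121d0316c9188347247b00a0723603e1b9166,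
  nat_lit 0xb1f9837]
theorem S0_c : blocks (facts 9 4 13 22 511 8191 4194303 9 511 6 63 A R 32) 32 JS0 286 = true := by decide +kernel
theorem S0 : On (Step.{u} rels LW par A) 286 414 :=
  steps_of_blocks hpar hR S0_c (by decide +kernel)
theorem D0_c : allB (defOK 9 13 22 511 4194303 287 A K) 1 2 = true := by decide +kernel
theorem D0 : On (fun r => defOK par.W par.WL par.E par.mW par.mE 287 A K r = true) 256 384 :=
  On.of_allB D0_c
noncomputable def JW0 : List ℕ := [nat_lit 0x10044404481345c414602d0a546c5f2c49547c473252512cd23012118cc42045b230881bc431f87a0fc4e15852164641b0683a4ec2dcd537ce62f4c3280a22987d238922588b2b8a92c86b2e09b2e8553f8c7439323c8d7428ee344dc408da2fcce418ca1c051424741e467434843e0e327d354dd2a450fc3d12e440f138129460d93952d470cd2609c44c83244aa45c734e1261dd3b4c12221cfb3dceb2b53c]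
theorem W0_c : blocks (rows 9 4 13 22 511 8191 4194303 10 1023 40 A 414 32 cols 32) 32 JW0 0 = true := by decide +kernel
theorem W0 : On (Row.{u} rels LW par A 414 32 cols) 0 32 :=
  rows_of_blocks hpar (by decide) hcols W0_c (by decide +kernel)
theorem idx : Idx.{u} rels [[0], [2], [4], [6]] [] 32 :=
  idx_of_cert hpar hR (K := K) (by decide +kernel) (T := 287) (T' := 384) (by decide) D0
    (subs := []) (by decide +kernel) (T1 := 286) (by decide) (N := 414) S0
    (by decide) (n' := 32) (by decide) W0 (by decide +kernel) (by decide +kernel)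
end T0
theorem b0 : Bound.{u} rels [[0], [2], [4], [6]] 32 := .of_idx T0.idx (.nil _) (by decide)
namespace T1
noncomputable def A_0 : List (ℕ) := [nat_lit 0x1b00203580402800804c0100900201100400a0080ce0301940603180c06101809203012004023008044010084020030040038000050000060000040001500006901009800]
noncomputable def A : List (List (ℕ)) := [A_0]
noncomputable def K_0 : List (ℕ) := [nat_lit 0x80c020400]
noncomputable def K : List (List (ℕ)) := [K_0]
noncomputable def R_0 : List (Rule) := [Rule.mk (nat_lit 12) (nat_lit 32) (Steps.bwd (nat_lit 12) (Steps.bwd (nat_lit 1) (Steps.bwd (nat_lit 1) Steps.nil))) (nat_lit 10) (nat_lit 3),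
  Rule.mk (nat_lit 2) (nat_lit 32) (Steps.bwd (nat_lit 12) (Steps.bwd (nat_lit 1) (Steps.fwd (nat_lit 6144) Steps.nil))) (nat_lit 24) (nat_lit 3),
  Rule.mk (nat_lit 4) (nat_lit 32) (Steps.bwd (nat_lit 12) (Steps.bwd (nat_lit 3) (Steps.fwd (nat_lit 6144) Steps.nil))) (nat_lit 36) (nat_lit 3),
  Rule.mk (nat_lit 6) (nat_lit 32) (Steps.bwd (nat_lit 12) (Steps.bwd (nat_lit 5) (Steps.fwd (nat_lit 6144) Steps.nil))) (nat_lit 46) (nat_lit 3),
  Rule.mk (nat_lit 8) (nat_lit 32) (Steps.bwd (nat_lit 12) (Steps.bwd (nat_lit 7) (Steps.fwd (nat_lit 6144) Steps.nil))) (nat_lit 54) (nat_lit 3),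
  Rule.mk (nat_lit 9) (nat_lit 32) (Steps.bwd (nat_lit 9) (Steps.bwd (nat_lit 2) (Steps.bwd (nat_lit 2) Steps.nil))) (nat_lit 9) (nat_lit 1),
  Rule.mk (nat_lit 1) (nat_lit 32) (Steps.bwd (nat_lit 9) (Steps.bwd (nat_lit 2) (Steps.fwd (nat_lit 4608) Steps.nil))) (nat_lit 22) (nat_lit 1),
  Rule.mk (nat_lit 3) (nat_lit 32) (Steps.bwd (nat_lit 9) (Steps.bwd (nat_lit 4) (Steps.fwd (nat_lit 4608) Steps.nil))) (nat_lit 34) (nat_lit 1),
  Rule.mk (nat_lit 5) (nat_lit 32) (Steps.bwd (nat_lit 9) (Steps.bwd (nat_lit 6) (Steps.fwd (nat_lit 4608) Steps.nil))) (nat_lit 44) (nat_lit 1),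
  Rule.mk (nat_lit 7) (nat_lit 32) (Steps.bwd (nat_lit 9) (Steps.bwd (nat_lit 8) (Steps.fwd (nat_lit 4608) Steps.nil))) (nat_lit 52) (nat_lit 1),
  Rule.mk (nat_lit 10) (nat_lit 32) (Steps.bwd (nat_lit 10) (Steps.bwd (nat_lit 1) (Steps.bwd (nat_lit 1) Steps.nil))) (nat_lit 8) (nat_lit 3),
  Rule.mk (nat_lit 2) (nat_lit 32) (Steps.bwd (nat_lit 10) (Steps.bwd (nat_lit 1) (Steps.fwd (nat_lit 5120) Steps.nil))) (nat_lit 22) (nat_lit 3),
  Rule.mk (nat_lit 4) (nat_lit 32) (Steps.bwd (nat_lit 10) (Steps.bwd (nat_lit 3) (Steps.fwd (nat_lit 5120) Steps.nil))) (nat_lit 34) (nat_lit 3),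
  Rule.mk (nat_lit 6) (nat_lit 32) (Steps.bwd (nat_lit 10) (Steps.bwd (nat_lit 5) (Steps.fwd (nat_lit 5120) Steps.nil))) (nat_lit 44) (nat_lit 3),
  Rule.mk (nat_lit 8) (nat_lit 32) (Steps.bwd (nat_lit 10) (Steps.bwd (nat_lit 7) (Steps.fwd (nat_lit 5120) Steps.nil))) (nat_lit 52) (nat_lit 3),
  Rule.mk (nat_lit 11) (nat_lit 32) (Steps.bwd (nat_lit 10) (Steps.fwd (nat_lit 6144) (Steps.bwd (nat_lit 9) Steps.nil))) (nat_lit 60) (nat_lit 2),
  Rule.mk (nat_lit 12) (nat_lit 32) (Steps.bwd (nat_lit 10) (Steps.bwd (nat_lit 12) (Steps.bwd (nat_lit 9) Steps.nil))) (nat_lit 61) (nat_lit 3)]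
noncomputable def R : List (List (Rule)) := [R_0]
def LW : List Word := [[], [0], [1], [2], [3], [4], [5], [6], [7], [8], [9], [10], [11], [0], [1], [2], [3], [4], [5], [6], [7]]
def par : Par := ⟨9, 5, 14, 23, 511, 16383, 8388607⟩
theorem hpar : par.ok := by decide
theorem hR0_0 : lall (R) (fun l => lall l (ruleOK rels LW par)) = true := by decide +kernel
theorem hR0 : lall (R) (fun l => lall l (ruleOK rels LW par)) = true := hR0_0
theorem hR : RulesOK rels LW par R := rulesOK_of rfl hR0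
def cols : List (ℕ × ℕ) := [(512, 2), (1536, 4), (2560, 6), (3584, 8), (4608, 10), (5632, 12)]
theorem hcols : lall cols (colOK rels LW par) = true := by decide +kernel
noncomputable def JS0 : List ℕ := [nat_lit 0x503c291048542700903824f0883822e0803820d078381ec068341cb070101ca068101a906010188058101670180c146050101450481012404010103038100e20180c0c1]
theorem S0_c : blocks (facts 9 5 14 23 511 16383 8388607 9 511 5 31 A R 32) 32 JS0 262 = true := by decide +kernel
theorem S0 : On (Step.{u} rels LW par A) 262 294 :=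
  steps_of_blocks hpar hR S0_c (by decide +kernel)
theorem D0_c : allB (defOK 9 14 23 511 8388607 259 A K) 1 2 = true := by decide +kernel
theorem D0 : On (fun r => defOK par.W par.WL par.E par.mW par.mE 259 A K r = true) 256 384 :=
  On.of_allB D0_c
noncomputable def JW0 : List ℕ := [nat_lit 0x7c340b02e0c0321344a0dc390ec3d0804908c2509c290fc2b1004211046]
theorem W0_c : blocks (rows 9 5 14 23 511 16383 8388607 10 1023 60 A 294 4 cols 21) 21 JW0 0 = true := by decide +kernel
theorem W0 : On (Row.{u} rels LW par A 294 4 cols) 0 21 :=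
  rows_of_blocks hpar (by decide) hcols W0_c (by decide +kernel)
theorem idx : Idx.{u} rels [[0], [2], [4], [6], [8], [10]] [[0], [2], [4], [6]] 4 :=
  idx_of_cert hpar hR (K := K) (by decide +kernel) (T := 259) (T' := 384) (by decide) D0
    (subs := [1,3,5,7]) (by decide +kernel) (T1 := 262) (by decide) (N := 294) S0
    (by decide) (n' := 21) (by decide) W0 (by decide +kernel) (by decide +kernel)
end T1
theorem b1 : Bound.{u} rels [[0], [2], [4], [6], [8], [10]] 128 := .of_idx T1.idx b0 (by decide)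
namespace T2
noncomputable def A_0 : List (ℕ) := [nat_lit 0x1c00203780402c0080540100a0020130040240080440100380203580c0690180ce0301940603180c06101809a0301300402500804801008c02011004021008010010016000024000038000050000060000040001700006d0100a000]
noncomputable def A : List (List (ℕ)) := [A_0]
noncomputable def K_0 : List (ℕ) := [nat_lit 0x80c020400]
noncomputable def K : List (List (ℕ)) := [K_0]
noncomputable def R_0 : List (Rule) := [Rule.mk (nat_lit 16) (nat_lit 32) (Steps.bwd (nat_lit 16) (Steps.bwd (nat_lit 1) (Steps.bwd (nat_lit 1) Steps.nil))) (nat_lit 14) (nat_lit 3),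
  Rule.mk (nat_lit 2) (nat_lit 32) (Steps.bwd (nat_lit 16) (Steps.bwd (nat_lit 1) (Steps.fwd (nat_lit 8192) Steps.nil))) (nat_lit 28) (nat_lit 3),
  Rule.mk (nat_lit 4) (nat_lit 32) (Steps.bwd (nat_lit 16) (Steps.bwd (nat_lit 3) (Steps.fwd (nat_lit 8192) Steps.nil))) (nat_lit 40) (nat_lit 3),
  Rule.mk (nat_lit 6) (nat_lit 32) (Steps.bwd (nat_lit 16) (Steps.bwd (nat_lit 5) (Steps.fwd (nat_lit 8192) Steps.nil))) (nat_lit 50) (nat_lit 3),
  Rule.mk (nat_lit 8) (nat_lit 32) (Steps.bwd (nat_lit 16) (Steps.bwd (nat_lit 7) (Steps.fwd (nat_lit 8192) Steps.nil))) (nat_lit 58) (nat_lit 3),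
  Rule.mk (nat_lit 10) (nat_lit 32) (Steps.bwd (nat_lit 16) (Steps.bwd (nat_lit 9) (Steps.fwd (nat_lit 8192) Steps.nil))) (nat_lit 64) (nat_lit 3),
  Rule.mk (nat_lit 12) (nat_lit 32) (Steps.bwd (nat_lit 16) (Steps.bwd (nat_lit 11) (Steps.fwd (nat_lit 8192) Steps.nil))) (nat_lit 68) (nat_lit 3),
  Rule.mk (nat_lit 13) (nat_lit 32) (Steps.bwd (nat_lit 13) (Steps.bwd (nat_lit 2) (Steps.bwd (nat_lit 2) Steps.nil))) (nat_lit 13) (nat_lit 1),
  Rule.mk (nat_lit 1) (nat_lit 32) (Steps.bwd (nat_lit 13) (Steps.bwd (nat_lit 2) (Steps.fwd (nat_lit 6656) Steps.nil))) (nat_lit 26) (nat_lit 1),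
  Rule.mk (nat_lit 3) (nat_lit 32) (Steps.bwd (nat_lit 13) (Steps.bwd (nat_lit 4) (Steps.fwd (nat_lit 6656) Steps.nil))) (nat_lit 38) (nat_lit 1),
  Rule.mk (nat_lit 5) (nat_lit 32) (Steps.bwd (nat_lit 13) (Steps.bwd (nat_lit 6) (Steps.fwd (nat_lit 6656) Steps.nil))) (nat_lit 48) (nat_lit 1),
  Rule.mk (nat_lit 7) (nat_lit 32) (Steps.bwd (nat_lit 13) (Steps.bwd (nat_lit 8) (Steps.fwd (nat_lit 6656) Steps.nil))) (nat_lit 56) (nat_lit 1),
  Rule.mk (nat_lit 9) (nat_lit 32) (Steps.bwd (nat_lit 13) (Steps.bwd (nat_lit 10) (Steps.fwd (nat_lit 6656) Steps.nil))) (nat_lit 62) (nat_lit 1),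
  Rule.mk (nat_lit 11) (nat_lit 32) (Steps.bwd (nat_lit 13) (Steps.bwd (nat_lit 12) (Steps.fwd (nat_lit 6656) Steps.nil))) (nat_lit 66) (nat_lit 1),
  Rule.mk (nat_lit 14) (nat_lit 32) (Steps.bwd (nat_lit 14) (Steps.bwd (nat_lit 1) (Steps.bwd (nat_lit 1) Steps.nil))) (nat_lit 12) (nat_lit 3),
  Rule.mk (nat_lit 2) (nat_lit 32) (Steps.bwd (nat_lit 14) (Steps.bwd (nat_lit 1) (Steps.fwd (nat_lit 7168) Steps.nil))) (nat_lit 26) (nat_lit 3),
  Rule.mk (nat_lit 4) (nat_lit 32) (Steps.bwd (nat_lit 14) (Steps.bwd (nat_lit 3) (Steps.fwd (nat_lit 7168) Steps.nil))) (nat_lit 38) (nat_lit 3),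
  Rule.mk (nat_lit 6) (nat_lit 32) (Steps.bwd (nat_lit 14) (Steps.bwd (nat_lit 5) (Steps.fwd (nat_lit 7168) Steps.nil))) (nat_lit 48) (nat_lit 3),
  Rule.mk (nat_lit 8) (nat_lit 32) (Steps.bwd (nat_lit 14) (Steps.bwd (nat_lit 7) (Steps.fwd (nat_lit 7168) Steps.nil))) (nat_lit 56) (nat_lit 3),
  Rule.mk (nat_lit 10) (nat_lit 32) (Steps.bwd (nat_lit 14) (Steps.bwd (nat_lit 9) (Steps.fwd (nat_lit 7168) Steps.nil))) (nat_lit 62) (nat_lit 3),
  Rule.mk (nat_lit 12) (nat_lit 32) (Steps.bwd (nat_lit 14) (Steps.bwd (nat_lit 11) (Steps.fwd (nat_lit 7168) Steps.nil))) (nat_lit 66) (nat_lit 3),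
  Rule.mk (nat_lit 15) (nat_lit 32) (Steps.bwd (nat_lit 14) (Steps.fwd (nat_lit 8192) (Steps.bwd (nat_lit 13) Steps.nil))) (nat_lit 70) (nat_lit 2),
  Rule.mk (nat_lit 16) (nat_lit 32) (Steps.bwd (nat_lit 14) (Steps.bwd (nat_lit 16) (Steps.bwd (nat_lit 13) Steps.nil))) (nat_lit 71) (nat_lit 3)]
noncomputable def R : List (List (Rule)) := [R_0]
def LW : List Word := [[], [0], [1], [2], [3], [4], [5], [6], [7], [8], [9], [10], [11], [12], [13], [14], [15], [0], [1], [2], [3], [4], [5], [6], [7], [8], [9], [10], [11]]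
def par : Par := ⟨9, 5, 14, 23, 511, 16383, 8388607⟩
theorem hpar : par.ok := by decide
theorem hR0_0 : lall (R) (fun l => lall l (ruleOK rels LW par)) = true := by decide +kernel
theorem hR0 : lall (R) (fun l => lall l (ruleOK rels LW par)) = true := hR0_0
theorem hR : RulesOK rels LW par R := rulesOK_of rfl hR0
def cols : List (ℕ × ℕ) := [(512, 2), (1536, 4), (2560, 6), (3584, 8), (4608, 10), (5632, 12), (6656, 14), (7680, 16)]
theorem hcols : lall cols (colOK rels LW par) = true := by decide +kernel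
noncomputable def JS0 : List ℕ := [nat_lit 0x7054397068743760d0503550c8503340c0503130b8502f20b0502d10a8502b00984c28f0a01828e0981826d0901824c0881822b0801820a078181e9028141c8070181c7068181a60601818505818164050181430481812202814101]
theorem S0_c : blocks (facts 9 5 14 23 511 16383 8388607 9 511 5 31 A R 32) 32 JS0 264 = true := by decide +kernel
theorem S0 : On (Step.{u} rels LW par A) 264 296 :=
  steps_of_blocks hpar hR S0_c (by decide +kernel)
theorem D0_c : allB (defOK 9 14 23 511 8388607 259 A K) 1 2 = true := by decide +kernel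
theorem D0 : On (fun r => defOK par.W par.WL par.E par.mW par.mE 259 A K r = true) 256 384 :=
  On.of_allB D0_c
noncomputable def JW0 : List ℕ := [nat_lit 0x4c30090260a02a0b02e1444e0cc350dc390ec3d0504d05c1906c1d07c210fc2310042110461204a]
theorem W0_c : blocks (rows 9 5 14 23 511 16383 8388607 10 1023 80 A 296 4 cols 16) 16 JW0 0 = true := by decide +kernel
theorem W0 : On (Row.{u} rels LW par A 296 4 cols) 0 16 :=
  rows_of_blocks hpar (by decide) hcols W0_c (by decide +kernel)
theorem idx : Idx.{u} rels [[0], [2], [4], [6], [8], [10], [12], [14]] [[0], [2], [4], [6], [8], [10]] 4 :=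
  idx_of_cert hpar hR (K := K) (by decide +kernel) (T := 259) (T' := 384) (by decide) D0
    (subs := [1,3,5,7,9,11]) (by decide +kernel) (T1 := 264) (by decide) (N := 296) S0
    (by decide) (n' := 16) (by decide) W0 (by decide +kernel) (by decide +kernel)
end T2
theorem b2 : Bound.{u} rels [[0], [2], [4], [6], [8], [10], [12], [14]] 512 := .of_idx T2.idx b1 (by decide)
def t0 : Net := [(nat_lit 0x41555000000555555555540000000000000015555555555555555500000000000000000000555555555555555554000000000000001555555555500000040001, nat_lit 1),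
  (nat_lit 0x33333333333333333333333333333333333333333333333333333333333333333333333333333333333333333333333333333333333333333333333300000002, nat_lit 2),
  (nat_lit 0x3030f0c0c0c0c0c0c03030303030303030303030303030f0c0c0c0c0c0c0c0c03030303030303030f0c0c0c0c0c0c0c0c0c0c0c0c0c0c030303030308080000, nat_lit 4),
  (nat_lit 0x300c3003f003f00ff00fc00fc00fc00fc00fc00fc00fc003f003f003f003f00fc00fc00fc00fc003f003f003f003f003f003f003f00ff00fc00fc00080000, nat_lit 8),
  (nat_lit 0x3ffc000003c0000003c00000ffc00000fc000000fc000000003f0000003f000000000000000000000000000000000000ffc00000ffc0000003ff0000fff6, nat_lit 16),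
  (nat_lit 0x3f03ff00000000ffffffc000000000fc000000000000000000003f000000000000000000000000003f000000000000003fffff0000000000000000, nat_lit 32),
  (nat_lit 0x3f03ffffc0fc3f0000000000000000ffffffffffffffff0000000000000000ffffffffffff03ff0000000000000000ffffffff00000000, nat_lit 64),
  (nat_lit 0x3ffc000000000000000000000000000000000000000000000000000000003ffc000000000000000000, nat_lit 128),
  (nat_lit 0x3f000000000000000000000000000000000000000000000000000000000000fc0000000000000000000000000000000000, nat_lit 64),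
  (nat_lit 0x3f03ff00000000fc000000000000000000000000000000000000000000000000000000000000000000fc0000000000fffffc000000000000000000, nat_lit 32),
  (nat_lit 0x3f0000fc000000fc00000000000000000000000000000000000000003f0000003f0000fc000000fc000000fc00000000000000000000000000, nat_lit 16),
  (nat_lit 0x300000000000000000000000000c0000000000000000000000000000000000000000000000000000000000000000000030000000000000000000000010000, nat_lit 8),
  (nat_lit 0x30000000000000000000000000003000000000000000000000000000000000000000000000000000000000000000000000c0000000000000000000001010000, nat_lit 4),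
  (nat_lit 0x11132220, nat_lit 2),
  (nat_lit 0x55554, nat_lit 1)]
def t1 : Net := [(nat_lit 0x4001000555000000015540000000555555540000000001555555500000000005555555555000000015555555554000000055555554001555555500055540005, nat_lit 1),
  (nat_lit 0x3333000333000000000000000000000000033333333333000000000000000003333333333000000000000000000000000000000003333000000022233320001, nat_lit 2),
  (nat_lit 0xf0c000000000003030f0f0f0f00000003030303030f0f0f0f0c0c0c0c0c0c0c0c0c0c0000000000000000000000000c0c0c0c00000000000f0d00000202, nat_lit 4),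
  (nat_lit 0x33003300cc003c003c00cc00c0003c003c0000000000cc000f00cf000c000c00000000003c000c003f0003000300cf00cf003000f300cf00cf002f00c0000c, nat_lit 8),
  (nat_lit 0x30ef0000ffd30000c3d00000f0d00000ffd00000fcd00000c31f0000c31000003c2f00000c2c0000cc230000cf2300000c2f00003ce30000002000000c1e, nat_lit 16),
  (nat_lit 0x30d33cef000000000f300c3300000000cc003cc0000000000c2fc31f0000000030cff3c000000000cf3cc03000000000000030c000000000002fffd0, nat_lit 32),
  (nat_lit 0x1cffeff3ffffff0000000000000000ffe030d00c2fc31f000000000000000000000000001ff3ec0000000000000000fff00c3ff3cf0000, nat_lit 64),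
  (nat_lit 0xffffffffffffffffffffffffffffffff0000000000000000000000000000000030cff3c00c3fffffcf20001000000000, nat_lit 128),
  (nat_lit 0xcf300c3ff3c0000030dfffefffffffff00000000000000000000000000000000, nat_lit 256),
  (nat_lit 0xcf300c3ff3c0000030dfffefffffffff0000000000000000000000000000000000000000000000000000000000000000, nat_lit 128),
  (nat_lit 0x30e330d00c3fffff000000000000000000000000001ff3ec0000000000000000ffe030d00c2fc31f00000000000000000000000000000000, nat_lit 64),
  (nat_lit 0xf3ccf330000000030d03cef000000000c20301000000000001ff3ec00000000cf2fc3100000000030c000030000000000200c100000000000000000, nat_lit 32),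
  (nat_lit 0x3fd3000030ec0000fcd00000c3100000c3100000c310000030e0000030dc0000002f0000001f00003ce300003cef0000002f0000c0230000001f00000000, nat_lit 16),
  (nat_lit 0x3003300c000c300c300c0000000c300c300c000c000fc0030003c000000000003000300cf000c00c3000000000030003000030033003000300031000c0000, nat_lit 8),
  (nat_lit 0xf0300000c0f000000030000000000000000000000000000000000030303030300000000000303030300000000000000000f0f0f0f0c0c0000000c0c03030000, nat_lit 4),
  (nat_lit 0x30000333000000000033330000000000000000000000000000000033333333330000000000000000033333333333000000000000000000000000011100000000, nat_lit 2),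
  (nat_lit 0x55550, nat_lit 1)]
def t2 : Net := [(nat_lit 0x54155055055400015541550000555400015555400000155000055555000000555500000055555000055400000155554000155500005541554000155155140015, nat_lit 1),
  (nat_lit 0x3000333000000003330000000333333330000333333332222200000222223333300000333332222222200002222222200000002221000011122200120000, nat_lit 2),
  (nat_lit 0x703000c0c0c08080b030000000f0b080804040404040f0f0909000000000003030700000000080006060f0f0f0000000400000002060f0f090901000e060f, nat_lit 4),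
  (nat_lit 0x33000f001300200020003300c400040004000000c800c8000f002f002f000900000058005800100034003d001b0040004b007f008000df00d600400040008a, nat_lit 8),
  (nat_lit 0xa0640000a3f80000ffdb00006b470000803f000068100000000b00005907000020f80000a75f000012a4000040030000dfbf0000802d0000d6070000d49e, nat_lit 16),
  (nat_lit 0x20d8ab6f000000001f24d4b8000000005f840b40000000002950049c000000000323734000000000aff46b640000000000042b400000000054abff58, nat_lit 32),
  (nat_lit 0x7443bff8fcffffff00000000000000008b206b4780a8549b00000000000000005400000080982b6700000000000000008224d4bf7fcb0000, nat_lit 64),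
  (nat_lit 0xf6fffb7fffffffffffffffffffffffff000000000000000000000000000000007ddb2b4780bcffffab74400000000000, nat_lit 128),
  (nat_lit 0xa264d4b87f430000548bbfffffffffff09000000000000000000000000000000, nat_lit 256),
  (nat_lit 0xa264d4b87c430000548bbfffffffffff0000000000000000000000000000000000000000000000000000000000000000, nat_lit 128),
  (nat_lit 0xd4ab6b4783b8f4ff00000000000000007440000080982b67000000000000000082206b4780a8549b00000000000000000000000000000000, nat_lit 64),
  (nat_lit 0x9f30d4b8000000002050ab6c0000000003237340000000002fe46b64000000005f840b40000000002950049f000000005423d4180000000000000000, nat_lit 32),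
  (nat_lit 0xbfd80000903c0000606400007fd7000023f80000874f000010a000006043000084bf000020100000009b00005007000000a0000094b80000400000000000, nat_lit 16),
  (nat_lit 0x1f00330003004b00cb000f00d000d300030058006800200032003b003b00200080008000800080009f00bf00260000002000a7004000340014000200800000, nat_lit 8),
  (nat_lit 0xf0303000c08080b0b03030000000000000007070703030800000000000f0606040404000008080b0f000000000009090f070000000e06000001090d00020200, nat_lit 4),
  (nat_lit 0x33000300000003000030000000000000000000000000000001111100000111110000000000000001111111100001111111100000001112000022211100210020, nat_lit 2),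
  (nat_lit 0x100100115540, nat_lit 1)]
def t3 : Net := [(nat_lit 0x400100100401540004010055000401540015400155401005500055000555005500055500555005515400155401554015455500551545554015555555540055, nat_lit 1),
  (nat_lit 0x303300033000000003330000000333333330333300333333322200222000223300033300333223300000000001111111100000003330001110122100222231, nat_lit 2),
  (nat_lit 0x303000c0c080c00000300000f0f0c0f0303030f00000c0c0f0600060f0f080308080800080800000c0003030f06020103030000000c000b0f0901000e0c0d, nat_lit 4),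
  (nat_lit 0x20005002600a60042004600ba00ce003d00c1000000cf0000000f00f200f50009009c002100be004200fe0056004a0030003e00c300ff000b0062006100e6, nat_lit 8),
  (nat_lit 0x68300001e3b000039040000749a000086bf00007ff6000000f90000ff79000007850000298400008643000075800000bee3000080ce0000fd840000fde6, nat_lit 16),
  (nat_lit 0xcdfa39fe00000000c325b8fa00000000beaf737900000000c108388600000000348c6601000000004b5bbfff000000003ec33701000000003ee7fd78, nat_lit 32),
  (nat_lit 0x35c689e2c9f6bfff0000000000000000c1ef410aff71c800000000000000000000000000084a07bd00000000000000004301fe633efd0000, nat_lit 64),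
  (nat_lit 0x3ef7f79dcb6ffdfefffffffffbffffff00000000000000000000000000000000fdfe019eff63ffffc2197ea500000000, nat_lit 128),
  (nat_lit 0x211fee1009c06017de6897affffffffc1080002340000000000000000000000, nat_lit 256),
  (nat_lit 0xc211fee1309c06017de6897afff7f9fe0000000000000000000000000000000000000000000000000000000000000000, nat_lit 128),
  (nat_lit 0xfce64178ff71c886000000000000000030140080094287ff000000000000000043c34102be61480000000000000000000000000000000000, nat_lit 64),
  (nat_lit 0xc205cc0400000000c10038860000000034d6470100000000c315b8fa000000003e93330100000000c111c88600000000348460000000000000000000, nat_lit 32),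
  (nat_lit 0x3b250000867f0000c0f60000f17c00001c7a000079bc000088460000c05a00007b61000043c2000080090000f48400000203000008420000650000000000, nat_lit 16),
  (nat_lit 0xe50045000100c200ff000f00fa00f50018002100bd008100be0046002a004e00f1003e00c3000000fc0000000d00f4008b009e002100010026008100c10000, nat_lit 8),
  (nat_lit 0xf0303000c0c0c0c000c03000000000000040704040003000000000000000008000c0c0000000c0c0c0000090000000f01070700000e00000100040500000000, nat_lit 4),
  (nat_lit 0x33000000300303030030000000000000000000000000000330033300222000220000000000000000000000111101111111100000001110000000122100000000, nat_lit 2),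
  (nat_lit 0x100400415500, nat_lit 1)]
def t4 : Net := [(nat_lit 0x55415505505414150054150505401414150041500500541050540105401401500540140150401505041500500541005414140150505415005454551551540155, nat_lit 1),
  (nat_lit 0x22211122210122000003002211222201020010220110000001002010220110221102201102010030303303300003001020111122112013322211202111231010, nat_lit 2),
  (nat_lit 0x40901020b0a0805080804020b090f0204060000060f040b070e070e0107010b00000400050c0509040a0804030704020409090d04060f0f0e01010800020206, nat_lit 4),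
  (nat_lit 0x18000100d30076000e00ca0080003c001100e70008007c00e0000700f80001006e0043003400c1000d00b1005e00250087002800ee00f7000100e000be00a5, nat_lit 8),
  (nat_lit 0x78d5000024a500008f3d00008450000028430000872c0000781500007f39000008d60000dbbc0000b6c70000152a0000feb7000028150000878600004b3e, nat_lit 16),
  (nat_lit 0x11611fd60000000073f059fb00000000ee23578100000000371d074c00000000e60653a8000000008174dfff00000000d6b007400000000048f2d7f8, nat_lit 32),
  (nat_lit 0x485af8a719739f770000000000000000379c745d48f4f8aa000000000000000008000000013080c6000000000000000081cc73bdfef3d000, nat_lit 64),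
  (nat_lit 0xc9afa75cb7ffff7fffffffffffffffff000000000000000000000000000000007f3bac4649fcffffb6c55bbb00000000, nat_lit 128),
  (nat_lit 0x80c45bbbb6030000497af4e5ffffffff36100000480000800000000000000000, nat_lit 256),
  (nat_lit 0x90c45bab50030000497af4e5ffffff7f0000000000000000000000000000000000000000000000000000000000000000, nat_lit 128),
  (nat_lit 0x31ac74dde7fcf87a000000000000000048082802013096470000000000000000819c245c48f0d0a800000000000000000000000000000000, nat_lit 64),
  (nat_lit 0x7adfc83a0000000011dd007c00000000c20fa00400000000fbc559fb00000000c7080744000000004f0ca8ae00000000480210800000000000000000, nat_lit 32),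
  (nat_lit 0xbbaf00006823000098d40000ff6a0000a5250000404a00007bb9000020400000dfbb000050d400007feb00008606000000c100006f390000010a00000000, nat_lit 16),
  (nat_lit 0xf7008000110078007f001f0001006e00d3000800e00046003500d9007700830038005300e8000100370080007f00e0000100be002c001f0081002100280000, nat_lit 8),
  (nat_lit 0xb05040004060609070701080e040d000b0a03010a09040b080b080b040d040600020b02090f090f04030701080801080106060d090a09090b00040200020200, nat_lit 4),
  (nat_lit 0x11133211120211222331021122111102010020110330330303000030110220112201102201020010000001102201002010222211221030000033001222110200, nat_lit 2),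
  (nat_lit 0x4040401001015400, nat_lit 1)]
def t5 : Net := [(nat_lit 0x40010010040410500401010414040410504105105144101041410414414511041441451414515144105105145051454541451515455055555555555540555, nat_lit 1),
  (nat_lit 0x13011112220122330201202112111300330033303003333302022330222111212122211100011010003330120223002211200030030300232211201112220131, nat_lit 2),
  (nat_lit 0x80a010f0106000b070402010409060000040304080a090b070608060806090609060f010902000804070b0204000d01090d0207000805080e060908000e0a02, nat_lit 4),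
  (nat_lit 0x400e1007900a70042005200b3005800a400df000400d900e000fb009e006000060087008400df000200240090008500d30010005b00d900800000009e003d, nat_lit 8),
  (nat_lit 0x23090000201f0000df3f0000d010000000e70000d856000020080000cc17000073e80000df77000063890000df100000e9ef0000002000005fe000009c76, nat_lit 16),
  (nat_lit 0x8c963fbf00000000a4d5bd7f00000000f3e75fb8000000001c199da6000000006341c768000000008c16f3ed00000000f348019000000000f3ee47f8, nat_lit 32),
  (nat_lit 0x70286b8cf6fcb700000000000000003f89c3a4ebeee24f0000000000000000102000028416038800000000000000006788467ef3ef5800, nat_lit 64),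
  (nat_lit 0xe3fe5694ff9ffdf7fffffefbefffffff000000000000000000000000000000009c77b981fffee7ff6b99fe7d00000000, nat_lit 128),
  (nat_lit 0x63986e7f00011980946601eeffffffff1c018100006002080000000000000000, nat_lit 256),
  (nat_lit 0x6f186e7b00001980846601ecfffffcf70000000000000000000000000000000000000000000000000000000000000000, nat_lit 128),
  (nat_lit 0xafcfc0aceb9fe0470000000000000000007028038c166181000000000000000067884704f3eec24e00000000000000000000000000000000, nat_lit 64),
  (nat_lit 0x2be9f847000000003f98d8a6000000005356188000000000f6f9bc7d000000005710009000000000ac0ee24f00000000006042680000000000000000, nat_lit 32),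
  (nat_lit 0xc73f0000a7f70000238800005ce100004917000018c00000df7f000028530000e778000000280000a7ff000036e80000e31e00009c7700000c1000000000, nat_lit 16),
  (nat_lit 0xbf00e300a4000400f9007f006100100079006000a70002006f0073002a00b700100067001300a000d90080001f00000066000e000000420024000500000000, nat_lit 8),
  (nat_lit 0x7070a09000b04090a0708080f0f000901090200060704070404000d010f0200010b0c0004000405090b080006090608000f00000106080b07040201020b0800, nat_lit 4),
  (nat_lit 0x11311112000300000231232112111122110031101200330002022000222111210300033300033030000010120220002211222212210120100011201130000000, nat_lit 2),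
  (nat_lit 0x4101004004015000, nat_lit 1)]
def t6 : Net := [(nat_lit 0x55541550550541410055415050401541410054100500415505040150401401055040140105401050554100500415004141540105054155114545515515541555, nat_lit 1),
  (nat_lit 0x2221112231112202310133003303221123011312121011122332131121212212112121220210011220012121310303003321221122101210112220112220230, nat_lit 2),
  (nat_lit 0x4080109010e080f0905060403040b090d0e02000f000601070401070806090f00060f010e0e0b08080f0e050a020b080c040b060b020f080e070108060e050b, nat_lit 4),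
  (nat_lit 0x9400f500f700e90094001200630094009900ff006000ff00ec0017009e006400060097001800c70050006b001500dd005b002400f6009f008000fc009e00bb, nat_lit 8),
  (nat_lit 0xf89100003c9f000057ee000060440000284f000097f20000781000000f9f0000f4640000d3ff0000ac13000053a000009dbf00002004000017e4000097de, nat_lit 16),
  (nat_lit 0x292a5ff00000000ae5bd7970000000063ffdf68000000009ab3017200000000ed4d5360000000000200f7fb000000004bb4016800000000634c5ff8, nat_lit 32),
  (nat_lit 0x214c98060af2b5ff0000000000000000de250e91774cfe930000000000000000010c0002000080000000000000000000640057fb6bff5e00, nat_lit 64),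
  (nat_lit 0x459e6ffdfeb3ffdffffffb6ffffbffff000000000000000000000000000000009bffa805f74cfffffcb3f7fc00000000, nat_lit 128),
  (nat_lit 0x6440d7fe08b30028234c1c93ffffffff9a210000014c00000000000000000000, nat_lit 256),
  (nat_lit 0x6640d36e01be0028234c1c91ffffffff0000000000000000000000000000000000000000000000000000000000000000, nat_lit 128),
  (nat_lit 0xdf450e91ff0dfe930000000000000000014c88060200b47b000000000000000044004699634cde0000000000000000000000000000000000, nat_lit 64),
  (nat_lit 0xfdfbfe9300000000f29206f200000000c1d2880000000000bcffd796000000004204016c0000000074a8b69300000000014c50600000000000000000, nat_lit 32),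
  (nat_lit 0xd7eb000061fb0000781000009b6d0000cb9f00002a10000057ea00000c5b00004bb0000028040000f7fb0000100000006092000013df0000000400000000, nat_lit 16),
  (nat_lit 0x6b006b004b0000006a006f0065000000e900600028001000b0005a00a600630004004200b4000f00ff0001006b00800062000e000000c100aa00a400240000, nat_lit 8),
  (nat_lit 0x70907070d020f0908070101090f000901020e070801000705090207080f03040b06000d02020c0f0601080708010b08000f0006080e08010005020802020000, nat_lit 4),
  (nat_lit 0x11131003132221101213122112212112213022321212020122002030030303301221212110120022111012121011302112212112211202100112230021112000, nat_lit 2),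
  (nat_lit 0x1110404010010014000, nat_lit 1)]
def t7 : Net := [(nat_lit 0x4001001004041140040101045004041140411411454010104501045045150104504515045151540411411454114545504515154555555555555555545555, nat_lit 1),
  (nat_lit 0x2023333201221133111033300303300030310221112231112202000003030332212021013020221113221112201033000330300333011122112213322223131, nat_lit 2),
  (nat_lit 0x1080b0e010405010a010100020c0e020e0e0f090e080501070e08030003040209040e070e030b0c0c010e0108010f00030101000e0e0e080701010c0f0a030f, nat_lit 4),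
  (nat_lit 0xa100a30063006e002100b200800060004d00960060007e00f800a700bb008200d200a200bc0043008000ff0046007d00bf00a00072001e008000f800fe007f, nat_lit 8),
  (nat_lit 0xe8a10000b8e60000af5e00008e000000889e0000f67f00002880000047fc0000fcc30000ff1a000078870000af400000e1ff000080800000f7e00000e7be, nat_lit 16),
  (nat_lit 0x1215cc9b0000000052bfe7970000000097fe6e7900000000ae97c44c00000000d8aa2364000000000200efff000000009f6000680000000017687bf8, nat_lit 32),
  (nat_lit 0x120b1149215eeff00000000000000006edb4a9477e87b07000000000000000004200000820040010000000000000000d04863ff9f7e7e00, nat_lit 64),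
  (nat_lit 0xd16cdeeb6fffff9fffffbf7cffffffff000000000000000000000000000000002fb79c0777e9fbfff8dfe7fc00000000, nat_lit 128),
  (nat_lit 0xd048e3f88816046807207997ffffffff2e930004100000000000000000000000, nat_lit 256),
  (nat_lit 0xd259a37890140468032079977fffffff0000000000000000000000000000000000000000000000000000000000000000, nat_lit 128),
  (nat_lit 0x6a934a907feb7b87000000000000000001209000820068ff0000000000000000d048428f17e87a0100000000000000000000000000000000, nat_lit 64),
  (nat_lit 0x6dff7787000000002695c38400000000450c540100000000f0fff7960000000092008068000000006088730700000000102820400000000000000000, nat_lit 32),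
  (nat_lit 0x2f5e000011fe0000e8a00000be130000db1a000039010000af58000050bf00001f60000088980000177f000030000000012c0000a73e0000000000000000, nat_lit 16),
  (nat_lit 0x4f009e009f000000df00970082009c005d00d3003c0080004000be0082008000a000b20060009f007e000100fe0044000700d200a400c2007e004000a00000, nat_lit 8),
  (nat_lit 0x30a02020d0f07050807070f08010d0e080d04020c0a0107010e0e030f030100020c02010201000e0e0708070801000f03060002080c0c020107010c02020000, nat_lit 4),
  (nat_lit 0x32320000031221100111000033030102013010221112201112202033030003000030003030020221111221112201300030012122111011100112210000000000, nat_lit 2),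
  (nat_lit 0x1441010040040010000, nat_lit 1)]
def C : Ctx := ⟨512, 9, [t0, t1, t2, t3, t4, t5, t6, t7]⟩
theorem hC : C.ok = true := by decide +kernel
def lk : ℕ → ℕ → ℕ := look C 64
theorem hlk : Good C lk := good_look hC (by decide +kernel)
def ws : List Word := [[0], [2], [4], [6], [8], [10], [12], [14]]
theorem bound : Bound.{u} rels ws 512 := b2
def Ek : List (Word × List Word) := [([], []), ([1], [[2]]), ([0], [[2]]), ([3], [[0]]), ([2], [[0]]), ([5], [[6]]),
  ([4], [[6]]), ([7], [[4]]), ([6], [[4]]), ([9], [[10]]), ([8], [[10]]), ([11], [[8]]),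
  ([10], [[8]]), ([13], [[14]]), ([12], [[14]]), ([15], [[12]]), ([14], [[12]]), ([1,1], []),
  ([2,1], [[0]]), ([3,1], [[0]]), ([5,1], [[2]]), ([4,1], [[2]]), ([7,1], [[2]]), ([6,1], [[2]]),
  ([9,1], [[2]]), ([8,1], [[2]]), ([11,1], [[2]]), ([10,1], [[2]]), ([13,1], [[2]]), ([12,1], [[2]]),
  ([15,1], [[2]]), ([14,1], [[2]]), ([5,3], [[0]]), ([4,3], [[0]]), ([7,3], [[0]]), ([6,3], [[0]]),
  ([9,3], [[0]]), ([8,3], [[0]]), ([11,3], [[0]]), ([10,3], [[0]]), ([13,3], [[0]]), ([12,3], [[0]]),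
  ([15,3], [[0]]), ([14,3], [[0]]), ([6,5], [[4]]), ([7,5], [[4]]), ([9,5], [[6]]), ([8,5], [[6]]),
  ([11,5], [[6]]), ([10,5], [[6]]), ([13,5], [[6]]), ([12,5], [[6]]), ([15,5], [[6]]), ([14,5], [[6]]),
  ([9,7], [[4]]), ([8,7], [[4]]), ([11,7], [[4]]), ([10,7], [[4]]), ([13,7], [[4]]), ([12,7], [[4]]),
  ([15,7], [[4]]), ([14,7], [[4]]), ([10,9], [[8]]), ([11,9], [[8]]), ([13,9], [[10]]), ([12,9], [[10]]),
  ([15,9], [[10]]), ([14,9], [[10]]), ([13,11], [[8]]), ([12,11], [[8]]), ([15,11], [[8]]), ([14,11], [[8]]),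
  ([14,13], [[12]]), ([15,13], [[12]]), ([4,3,1], [[0]]), ([5,3,1], [[0]]), ([6,3,1], [[0]]), ([7,3,1], [[0]]),
  ([8,3,1], [[0]]), ([9,3,1], [[0]]), ([10,3,1], [[0]]), ([11,3,1], [[0]]), ([12,3,1], [[0]]), ([13,3,1], [[0]]),
  ([14,3,1], [[0]]), ([15,3,1], [[0]]), ([6,5,1], [[2]]), ([7,5,1], [[2]]), ([9,5,1], [[2]]), ([8,5,1], [[2]]),
  ([11,5,1], [[2]]), ([10,5,1], [[2]]), ([13,5,1], [[2]]), ([12,5,1], [[2]]), ([15,5,1], [[2]]), ([14,5,1], [[2]]),
  ([9,7,1], [[2]]), ([8,7,1], [[2]]), ([11,7,1], [[2]]), ([10,7,1], [[2]]), ([13,7,1], [[2]]), ([12,7,1], [[2]]),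
  ([15,7,1], [[2]]), ([14,7,1], [[2]]), ([10,9,1], [[2]]), ([11,9,1], [[2]]), ([13,9,1], [[2]]), ([12,9,1], [[2]]),
  ([15,9,1], [[2]]), ([14,9,1], [[2]]), ([13,11,1], [[2]]), ([12,11,1], [[2]]), ([15,11,1], [[2]]), ([14,11,1], [[2]]),
  ([14,13,1], [[2]]), ([15,13,1], [[2]]), ([6,5,3], [[0]]), ([7,5,3], [[0]]), ([9,5,3], [[0]]), ([8,5,3], [[0]]),
  ([11,5,3], [[0]]), ([10,5,3], [[0]]), ([13,5,3], [[0]]), ([12,5,3], [[0]]), ([15,5,3], [[0]]), ([14,5,3], [[0]]),
  ([9,7,3], [[0]]), ([8,7,3], [[0]]), ([11,7,3], [[0]]), ([10,7,3], [[0]]), ([13,7,3], [[0]]), ([12,7,3], [[0]]),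
  ([15,7,3], [[0]]), ([14,7,3], [[0]]), ([10,9,3], [[0]]), ([11,9,3], [[0]]), ([13,9,3], [[0]]), ([12,9,3], [[0]]),
  ([15,9,3], [[0]]), ([14,9,3], [[0]]), ([13,11,3], [[0]]), ([12,11,3], [[0]]), ([15,11,3], [[0]]), ([14,11,3], [[0]]),
  ([14,13,3], [[0]]), ([15,13,3], [[0]]), ([8,7,5], [[4]]), ([9,7,5], [[4]]), ([10,7,5], [[4]]), ([11,7,5], [[4]]),
  ([12,7,5], [[4]]), ([13,7,5], [[4]]), ([14,7,5], [[4]]), ([15,7,5], [[4]]), ([10,9,5], [[6]]), ([11,9,5], [[6]]),
  ([13,9,5], [[6]]), ([12,9,5], [[6]]), ([15,9,5], [[6]]), ([14,9,5], [[6]]), ([13,11,5], [[6]]), ([12,11,5], [[6]]),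
  ([15,11,5], [[6]]), ([14,11,5], [[6]]), ([14,13,5], [[6]]), ([15,13,5], [[6]]), ([10,9,7], [[4]]), ([11,9,7], [[4]]),
  ([13,9,7], [[4]]), ([12,9,7], [[4]]), ([15,9,7], [[4]]), ([14,9,7], [[4]]), ([13,11,7], [[4]]), ([12,11,7], [[4]]),
  ([15,11,7], [[4]]), ([14,11,7], [[4]]), ([14,13,7], [[4]]), ([15,13,7], [[4]]), ([12,11,9], [[8]]), ([13,11,9], [[8]]),
  ([14,11,9], [[8]]), ([15,11,9], [[8]]), ([14,13,9], [[10]]), ([15,13,9], [[10]]), ([14,13,11], [[8]]), ([15,13,11], [[8]]),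
  ([7,5,3,1], [[0]]), ([6,5,3,1], [[0]]), ([8,5,3,1], [[0]]), ([9,5,3,1], [[0]]), ([10,5,3,1], [[0]]), ([11,5,3,1], [[0]]),
  ([12,5,3,1], [[0]]), ([13,5,3,1], [[0]]), ([14,5,3,1], [[0]]), ([15,5,3,1], [[0]]), ([8,7,3,1], [[0]]), ([9,7,3,1], [[0]]),
  ([10,7,3,1], [[0]]), ([11,7,3,1], [[0]]), ([12,7,3,1], [[0]]), ([13,7,3,1], [[0]]), ([14,7,3,1], [[0]]), ([15,7,3,1], [[0]]),
  ([11,9,3,1], [[0]]), ([10,9,3,1], [[0]]), ([12,9,3,1], [[0]]), ([13,9,3,1], [[0]]), ([14,9,3,1], [[0]]), ([15,9,3,1], [[0]]),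
  ([12,11,3,1], [[0]]), ([13,11,3,1], [[0]]), ([14,11,3,1], [[0]]), ([15,11,3,1], [[0]]), ([15,13,3,1], [[0]]), ([14,13,3,1], [[0]]),
  ([8,7,5,1], [[2]]), ([9,7,5,1], [[2]]), ([10,7,5,1], [[2]]), ([11,7,5,1], [[2]]), ([12,7,5,1], [[2]]), ([13,7,5,1], [[2]]),
  ([14,7,5,1], [[2]]), ([15,7,5,1], [[2]]), ([10,9,5,1], [[2]]), ([11,9,5,1], [[2]]), ([13,9,5,1], [[2]]), ([12,9,5,1], [[2]]),
  ([15,9,5,1], [[2]]), ([14,9,5,1], [[2]]), ([13,11,5,1], [[2]]), ([12,11,5,1], [[2]]), ([15,11,5,1], [[2]]), ([14,11,5,1], [[2]]),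
  ([14,13,5,1], [[2]]), ([15,13,5,1], [[2]]), ([10,9,7,1], [[2]]), ([11,9,7,1], [[2]]), ([13,9,7,1], [[2]]), ([12,9,7,1], [[2]]),
  ([15,9,7,1], [[2]]), ([14,9,7,1], [[2]]), ([13,11,7,1], [[2]]), ([12,11,7,1], [[2]]), ([15,11,7,1], [[2]]), ([14,11,7,1], [[2]]),
  ([14,13,7,1], [[2]]), ([15,13,7,1], [[2]]), ([12,11,9,1], [[2]]), ([13,11,9,1], [[2]]), ([14,11,9,1], [[2]]), ([15,11,9,1], [[2]]),
  ([14,13,9,1], [[2]]), ([15,13,9,1], [[2]]), ([14,13,11,1], [[2]]), ([15,13,11,1], [[2]]), ([8,7,5,3], [[0]]), ([9,7,5,3], [[0]]),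
  ([10,7,5,3], [[0]]), ([11,7,5,3], [[0]]), ([12,7,5,3], [[0]]), ([13,7,5,3], [[0]]), ([14,7,5,3], [[0]]), ([15,7,5,3], [[0]]),
  ([10,9,5,3], [[0]]), ([11,9,5,3], [[0]]), ([13,9,5,3], [[0]]), ([12,9,5,3], [[0]]), ([15,9,5,3], [[0]]), ([14,9,5,3], [[0]]),
  ([13,11,5,3], [[0]]), ([12,11,5,3], [[0]]), ([15,11,5,3], [[0]]), ([14,11,5,3], [[0]]), ([14,13,5,3], [[0]]), ([15,13,5,3], [[0]]),
  ([10,9,7,3], [[0]]), ([11,9,7,3], [[0]]), ([13,9,7,3], [[0]]), ([12,9,7,3], [[0]]), ([15,9,7,3], [[0]]), ([14,9,7,3], [[0]]),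
  ([13,11,7,3], [[0]]), ([12,11,7,3], [[0]]), ([15,11,7,3], [[0]]), ([14,11,7,3], [[0]]), ([14,13,7,3], [[0]]), ([15,13,7,3], [[0]]),
  ([12,11,9,3], [[0]]), ([13,11,9,3], [[0]]), ([14,11,9,3], [[0]]), ([15,11,9,3], [[0]]), ([14,13,9,3], [[0]]), ([15,13,9,3], [[0]]),
  ([14,13,11,3], [[0]]), ([15,13,11,3], [[0]]), ([11,9,7,5], [[4]]), ([10,9,7,5], [[4]]), ([12,9,7,5], [[4]]), ([13,9,7,5], [[4]]),
  ([14,9,7,5], [[4]]), ([15,9,7,5], [[4]]), ([12,11,7,5], [[4]]), ([13,11,7,5], [[4]]), ([14,11,7,5], [[4]]), ([15,11,7,5], [[4]]),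
  ([15,13,7,5], [[4]]), ([14,13,7,5], [[4]]), ([12,11,9,5], [[6]]), ([13,11,9,5], [[6]]), ([14,11,9,5], [[6]]), ([15,11,9,5], [[6]]),
  ([14,13,9,5], [[6]]), ([15,13,9,5], [[6]]), ([14,13,11,5], [[6]]), ([15,13,11,5], [[6]]), ([12,11,9,7], [[4]]), ([13,11,9,7], [[4]]),
  ([14,11,9,7], [[4]]), ([15,11,9,7], [[4]]), ([14,13,9,7], [[4]]), ([15,13,9,7], [[4]]), ([14,13,11,7], [[4]]), ([15,13,11,7], [[4]]),
  ([15,13,11,9], [[8]]), ([14,13,11,9], [[8]]), ([9,7,5,3,1], [[0]]), ([8,7,5,3,1], [[0]]), ([11,7,5,3,1], [[0]]), ([10,7,5,3,1], [[0]]),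
  ([13,7,5,3,1], [[0]]), ([12,7,5,3,1], [[0]]), ([15,7,5,3,1], [[0]]), ([14,7,5,3,1], [[0]]), ([11,9,5,3,1], [[0]]), ([10,9,5,3,1], [[0]]),
  ([12,9,5,3,1], [[0]]), ([13,9,5,3,1], [[0]]), ([14,9,5,3,1], [[0]]), ([15,9,5,3,1], [[0]]), ([12,11,5,3,1], [[0]]), ([13,11,5,3,1], [[0]]),
  ([14,11,5,3,1], [[0]]), ([15,11,5,3,1], [[0]]), ([15,13,5,3,1], [[0]]), ([14,13,5,3,1], [[0]]), ([11,9,7,3,1], [[0]]), ([10,9,7,3,1], [[0]]),
  ([12,9,7,3,1], [[0]]), ([13,9,7,3,1], [[0]]), ([14,9,7,3,1], [[0]]), ([15,9,7,3,1], [[0]]), ([12,11,7,3,1], [[0]]), ([13,11,7,3,1], [[0]]),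
  ([14,11,7,3,1], [[0]]), ([15,11,7,3,1], [[0]]), ([15,13,7,3,1], [[0]]), ([14,13,7,3,1], [[0]]), ([13,11,9,3,1], [[0]]), ([12,11,9,3,1], [[0]]),
  ([15,11,9,3,1], [[0]]), ([14,11,9,3,1], [[0]]), ([15,13,9,3,1], [[0]]), ([14,13,9,3,1], [[0]]), ([15,13,11,3,1], [[0]]), ([14,13,11,3,1], [[0]]),
  ([11,9,7,5,1], [[2]]), ([10,9,7,5,1], [[2]]), ([12,9,7,5,1], [[2]]), ([13,9,7,5,1], [[2]]), ([14,9,7,5,1], [[2]]), ([15,9,7,5,1], [[2]]),
  ([12,11,7,5,1], [[2]]), ([13,11,7,5,1], [[2]]), ([14,11,7,5,1], [[2]]), ([15,11,7,5,1], [[2]]), ([15,13,7,5,1], [[2]]), ([14,13,7,5,1], [[2]]),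
  ([12,11,9,5,1], [[2]]), ([13,11,9,5,1], [[2]]), ([14,11,9,5,1], [[2]]), ([15,11,9,5,1], [[2]]), ([14,13,9,5,1], [[2]]), ([15,13,9,5,1], [[2]]),
  ([14,13,11,5,1], [[2]]), ([15,13,11,5,1], [[2]]), ([12,11,9,7,1], [[2]]), ([13,11,9,7,1], [[2]]), ([14,11,9,7,1], [[2]]), ([15,11,9,7,1], [[2]]),
  ([14,13,9,7,1], [[2]]), ([15,13,9,7,1], [[2]]), ([14,13,11,7,1], [[2]]), ([15,13,11,7,1], [[2]]), ([15,13,11,9,1], [[2]]), ([14,13,11,9,1], [[2]]),
  ([11,9,7,5,3], [[0]]), ([10,9,7,5,3], [[0]]), ([12,9,7,5,3], [[0]]), ([13,9,7,5,3], [[0]]), ([14,9,7,5,3], [[0]]), ([15,9,7,5,3], [[0]]),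
  ([12,11,7,5,3], [[0]]), ([13,11,7,5,3], [[0]]), ([14,11,7,5,3], [[0]]), ([15,11,7,5,3], [[0]]), ([15,13,7,5,3], [[0]]), ([14,13,7,5,3], [[0]]),
  ([12,11,9,5,3], [[0]]), ([13,11,9,5,3], [[0]]), ([14,11,9,5,3], [[0]]), ([15,11,9,5,3], [[0]]), ([14,13,9,5,3], [[0]]), ([15,13,9,5,3], [[0]]),
  ([14,13,11,5,3], [[0]]), ([15,13,11,5,3], [[0]]), ([12,11,9,7,3], [[0]]), ([13,11,9,7,3], [[0]]), ([14,11,9,7,3], [[0]]), ([15,11,9,7,3], [[0]]),
  ([14,13,9,7,3], [[0]]), ([15,13,9,7,3], [[0]]), ([14,13,11,7,3], [[0]]), ([15,13,11,7,3], [[0]]), ([15,13,11,9,3], [[0]]), ([14,13,11,9,3], [[0]]),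
  ([13,11,9,7,5], [[4]]), ([12,11,9,7,5], [[4]]), ([15,11,9,7,5], [[4]]), ([14,11,9,7,5], [[4]]), ([15,13,9,7,5], [[4]]), ([14,13,9,7,5], [[4]]),
  ([15,13,11,7,5], [[4]]), ([14,13,11,7,5], [[4]]), ([15,13,11,9,5], [[6]]), ([14,13,11,9,5], [[6]]), ([15,13,11,9,7], [[4]]), ([14,13,11,9,7], [[4]]),
  ([10,9,7,5,3,1], [[0]]), ([11,9,7,5,3,1], [[0]]), ([13,9,7,5,3,1], [[0]]), ([12,9,7,5,3,1], [[0]]), ([15,9,7,5,3,1], [[0]]), ([14,9,7,5,3,1], [[0]]),
  ([13,11,7,5,3,1], [[0]]), ([12,11,7,5,3,1], [[0]]), ([15,11,7,5,3,1], [[0]]), ([14,11,7,5,3,1], [[0]]), ([14,13,7,5,3,1], [[0]]), ([15,13,7,5,3,1], [[0]]),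
  ([13,11,9,5,3,1], [[0]]), ([12,11,9,5,3,1], [[0]]), ([15,11,9,5,3,1], [[0]]), ([14,11,9,5,3,1], [[0]]), ([15,13,9,5,3,1], [[0]]), ([14,13,9,5,3,1], [[0]]),
  ([15,13,11,5,3,1], [[0]]), ([14,13,11,5,3,1], [[0]]), ([13,11,9,7,3,1], [[0]]), ([12,11,9,7,3,1], [[0]]), ([15,11,9,7,3,1], [[0]]), ([14,11,9,7,3,1], [[0]]),
  ([15,13,9,7,3,1], [[0]]), ([14,13,9,7,3,1], [[0]]), ([15,13,11,7,3,1], [[0]]), ([14,13,11,7,3,1], [[0]]), ([14,13,11,9,3,1], [[0]]), ([15,13,11,9,3,1], [[0]]),
  ([13,11,9,7,5,1], [[2]]), ([12,11,9,7,5,1], [[2]]), ([15,11,9,7,5,1], [[2]]), ([14,11,9,7,5,1], [[2]]), ([15,13,9,7,5,1], [[2]]), ([14,13,9,7,5,1], [[2]]),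
  ([15,13,11,7,5,1], [[2]]), ([14,13,11,7,5,1], [[2]]), ([15,13,11,9,5,1], [[2]]), ([14,13,11,9,5,1], [[2]]), ([15,13,11,9,7,1], [[2]]), ([14,13,11,9,7,1], [[2]]),
  ([13,11,9,7,5,3], [[0]]), ([12,11,9,7,5,3], [[0]]), ([15,11,9,7,5,3], [[0]]), ([14,11,9,7,5,3], [[0]]), ([15,13,9,7,5,3], [[0]]), ([14,13,9,7,5,3], [[0]]),
  ([15,13,11,7,5,3], [[0]]), ([14,13,11,7,5,3], [[0]]), ([15,13,11,9,5,3], [[0]]), ([14,13,11,9,5,3], [[0]]), ([15,13,11,9,7,3], [[0]]), ([14,13,11,9,7,3], [[0]]),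
  ([14,13,11,9,7,5], [[4]]), ([15,13,11,9,7,5], [[4]]), ([12,11,9,7,5,3,1], [[0]]), ([13,11,9,7,5,3,1], [[0]]), ([14,11,9,7,5,3,1], [[0]]), ([15,11,9,7,5,3,1], [[0]]),
  ([14,13,9,7,5,3,1], [[0]]), ([15,13,9,7,5,3,1], [[0]]), ([14,13,11,7,5,3,1], [[0]]), ([15,13,11,7,5,3,1], [[0]]), ([14,13,11,9,5,3,1], [[0]]), ([15,13,11,9,5,3,1], [[0]]),
  ([14,13,11,9,7,3,1], [[0]]), ([15,13,11,9,7,3,1], [[0]]), ([14,13,11,9,7,5,1], [[2]]), ([15,13,11,9,7,5,1], [[2]]), ([14,13,11,9,7,5,3], [[0]]), ([15,13,11,9,7,5,3], [[0]]),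
  ([15,13,11,9,7,5,3,1], [[0]]), ([14,13,11,9,7,5,3,1], [[0]])]
def key (w : Word) : ℕ := ipt lk w 0
def El : List Word := lmap Prod.fst Ek
theorem low : Low (C.grp ws) 512 [0] :=
  low_clo hC hlk 0 (by decide) [0,2,4,6,8,10,12,14,0,0] (m := 512) (us := []) (grp_mono _ (by simp)) (by decide +kernel) (by decide +kernel) (low_nil C) (by decide)
theorem reg : Reg C lk 8 ws rels Ek [0,0] :=
  ⟨hlk, rfl, sing_of _ _ (by decide), by decide, rels_of_eqW hC (by decide +kernel), low, bound,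
    by decide +kernel, by decide +kernel⟩
theorem md {G : Type u} [Group G] {l : List G} (hl : l.length = 8) (hr : ∀ r ∈ rels, ev (gl l) r = 1)
    (hz : ev (gl l) [0,0] ≠ 1) : Md (gl l) key El (grp (gl l) ws) ∧ Nat.card (grp (gl l) ws) = 512 :=
  reg.md bound (gl_one hl) hr hz
end
end CA.CoQ
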