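import Cfsg.Agent.Lib.Rec.SzQ
import Cfsg.Agent.Lib.Comp.CBlk
set_option autoImplicit false
set_option linter.all false
set_option maxRecDepth 100000
universe u
namespace CA.SzF
open CA.CNet CA.CWord CA.CLevel CA.CSimple CA.CPoint CA.CTodd CA.CLow CA.RegM CA.CLevel CA.SzQ
noncomputable section
def sg : List (List Word) := [[[0,0,1], [0,2,1], [0,4,1], [0,6,1], [0,8,1], [0,10,1]],
  [[2,0,3], [2,2,3], [2,4,3], [2,6,3], [2,8,3], [2,10,3]],
  [[4,0,5], [4,2,5], [4,4,5], [4,6,5], [4,8,5], [4,10,5]],
  [[6,0,7], [6,2,7], [6,4,7], [6,6,7], [6,8,7], [6,10,7]],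
  [[8,0,9], [8,2,9], [8,4,9], [8,6,9], [8,8,9], [8,10,9]],
  [[10,0,11], [10,2,11], [10,4,11], [10,6,11], [10,8,11], [10,10,11]],
  [[2], [3,0], [4], [6], [8], [10]],
  [[0], [2], [6], [7,4], [8], [10]],
  [[0], [2], [4], [6], [10], [11,8]],
  [[4], [6], [8], [10], [0], [2]],
  [[0], [9,4,2,0], [4], [9,6,4,0], [11,4,0], [11,8,4,0]]]
def f0 : Net := [(nat_lit 0x51545500555005550005500055004010, nat_lit 1),
  (nat_lit 32, nat_lit 2),
  (nat_lit 8, nat_lit 4),
  (nat_lit 32, nat_lit 2),
  (nat_lit 16, nat_lit 1)]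
def f1 : Net := [(nat_lit 0x45540055555000005555500000554004, nat_lit 1),
  (nat_lit 2, nat_lit 2),
  (nat_lit 4, nat_lit 1)]
def f2 : Net := [(nat_lit 0x55154545141451411410414104040100, nat_lit 1),
  (nat_lit 512, nat_lit 2),
  (nat_lit 0x800, nat_lit 4),
  (nat_lit 128, nat_lit 8),
  (nat_lit 0x800, nat_lit 4),
  (nat_lit 512, nat_lit 2),
  (nat_lit 256, nat_lit 1)]
def f3 : Net := [(nat_lit 0x54551515015150150150101501010040, nat_lit 1),
  (nat_lit 32, nat_lit 2),
  (nat_lit 64, nat_lit 1)]
def f4 : Net := [(nat_lit 0x55515454510545105104051040401000, nat_lit 1),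
  (nat_lit 0x2000, nat_lit 2),
  (nat_lit 0x800, nat_lit 4),
  (nat_lit 0x2000, nat_lit 2),
  (nat_lit 0x1000, nat_lit 1)]
def f5 : Net := [(nat_lit 0x55455151444514444441044410100400, nat_lit 1),
  (nat_lit 512, nat_lit 2),
  (nat_lit 0x400, nat_lit 1)]
def f6 : Net := [(nat_lit 0x45540055555000005555500000550000, nat_lit 1),
  (nat_lit 0x3330000000000000000000000000012, nat_lit 2),
  (nat_lit 0xf0c00000f0f0000000f0f0000000804, nat_lit 4),
  (nat_lit 0x3f00ff00f0000000f0000000ff0048, nat_lit 8),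
  (nat_lit 0xff00000000ff00000f0000000000, nat_lit 16),
  (nat_lit 0xff0f0000000000ff000000, nat_lit 32),
  (nat_lit 0xff0f0000000000, nat_lit 64),
  (nat_lit 0xff0f000000000000000000, nat_lit 32),
  (nat_lit 0xf0000000f0000000000, nat_lit 16),
  (nat_lit 0x3f000000f0000000f0000000000000, nat_lit 8),
  (nat_lit 0xc0c0000000f00000f0f0f0000000800, nat_lit 4),
  (nat_lit 0x33330000000000000000000000000010, nat_lit 2)]
def f7 : Net := [(nat_lit 0x54551515015150150150101401010000, nat_lit 1),
  (nat_lit 0x30333333333330330330303303030120, nat_lit 2),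
  (nat_lit 0xc030c030f000c00030c030f00000400, nat_lit 4),
  (nat_lit 0x7f00bc00bc004f0030007000000040, nat_lit 8),
  (nat_lit 0xbc4c00008c400000300000000000, nat_lit 16),
  (nat_lit 0x4080ffcc00000000000c4080, nat_lit 32),
  (nat_lit 0x3c00b04c0c000000, nat_lit 64),
  (nat_lit 0x3000804c0000000000000000, nat_lit 32),
  (nat_lit 0xc000000bc400000000000000000, nat_lit 16),
  (nat_lit 0x7c00bc008c004c0000004000000000, nat_lit 8),
  (nat_lit 0xf030c0303000c03000c030c00000400, nat_lit 4),
  (nat_lit 0x30330000333000030030000300000100, nat_lit 2)]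
def f8 : Net := [(nat_lit 0x55455151444514444441004410100000, nat_lit 1),
  (nat_lit 0x30033333030330300303003030301200, nat_lit 2),
  (nat_lit 0xf0c000c030f030c030c070c0c000400, nat_lit 4),
  (nat_lit 0xff00fc003c00c000cc003000000000, nat_lit 8),
  (nat_lit 0xfccc00003cc00000000000000000, nat_lit 16),
  (nat_lit 0xc0f0fcf00000000000c04800, nat_lit 32),
  (nat_lit 0xfc0030c00c000000, nat_lit 64),
  (nat_lit 0xc00030c00000000000000000, nat_lit 32),
  (nat_lit 0x3c0000003cc00000000000000000, nat_lit 16),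
  (nat_lit 0x3c003c0030003000c0000000000000, nat_lit 8),
  (nat_lit 0xf0f000c000f0300000c07000c000000, nat_lit 4),
  (nat_lit 0x30033030030300300300003000001000, nat_lit 2)]
def f9 : Net := [(nat_lit 0x3303333003030300333333300000, nat_lit 2),
  (nat_lit 0xc030c0303030000030300000f0f0e, nat_lit 4),
  (nat_lit 0x3c000300c300300003003c00c000f0, nat_lit 8),
  (nat_lit 0x3fc0000000000000f0cf00000000, nat_lit 16),
  (nat_lit 0x3ff3f30f0000000030cf0c00, nat_lit 32),
  (nat_lit 0x30f30f00000000, nat_lit 64),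
  (nat_lit 0x30f30f0000000000000000, nat_lit 32),
  (nat_lit 0x3fc00000000c000030cf00000000, nat_lit 16),
  (nat_lit 0xcf0000003000030000000c0000, nat_lit 8),
  (nat_lit 0x300000f0003000000000303030c0e00, nat_lit 4),
  (nat_lit 0x300030033330000003030000000, nat_lit 2)]
def f10 : Net := [(nat_lit 0x44515040400405000000044111044000, nat_lit 1),
  (nat_lit 0x21122232221221211131201321211200, nat_lit 2),
  (nat_lit 0xb0b050b0d0c0c0a00030905030c0000, nat_lit 4),
  (nat_lit 0x59008100d300f1000400080098, nat_lit 8),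
  (nat_lit 0xa75a000008db0000c7b300008900, nat_lit 16),
  (nat_lit 0x66405ac3000000002534cf08, nat_lit 32),
  (nat_lit 0x250200428991d998, nat_lit 64),
  (nat_lit 0xac8311980000000000000000, nat_lit 32),
  (nat_lit 0x10000000c18800004a2400000000, nat_lit 16),
  (nat_lit 0x3c009100c0009000760008008d0000, nat_lit 8),
  (nat_lit 0xc0c020b0d0d040a0803010203050100, nat_lit 4),
  (nat_lit 0x21122202221021211321202221111000, nat_lit 2),
  (nat_lit 0x4400000000000000000040000000000, nat_lit 1)]
def F : Ctx := ⟨128, 7, [f0, f1, f2, f3, f4, f5, f6, f7, f8, f9, f10]⟩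
theorem hF : F.ok = true := by decide +kernel
def lf : ℕ → ℕ → ℕ := look F 64
theorem hlf : Good F lf := good_look hF (by decide +kernel)
def gens : List Word := [[0], [2], [4], [6], [8], [10], [12], [14], [16], [18], [20]]
def lowF_w5 : List Word := [[4]]
theorem lowF_5 : Low (F.grp lowF_w5) 2 [7] :=
  low_orb hF hlf 7 (by decide) [(7,0)] (m := 2) (grp_mono _ (by decide +kernel))
    (by decide +kernel) (by decide +kernel) (low_nil F) (by decide)
def lowF_w4 : List Word := [[4], [2,6]]
theorem lowF_4 : Low (F.grp lowF_w4) 4 [1,7] :=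
  low_orb hF hlf 1 (by decide) [(1,2)] (m := 2) (grp_mono _ (by decide +kernel))
    (by decide +kernel) (by decide +kernel) lowF_5 (by decide)
def lowF_w3 : List Word := [[4], [2,6], [0], [14,19,21,18,18,20,19,13], [17,21,15,17,20,19,21,8,12]]
theorem lowF_3 : Low (F.grp lowF_w3) 32 [3,1,7] :=
  low_orb hF hlf 3 (by decide) [(3,4), (3,6), (3,8), (3,9), (4,6), (15,8), (15,9)] (m := 8) (grp_mono _ (by decide +kernel))
    (by decide +kernel) (by decide +kernel) lowF_4 (by decide)
def lowF_w2 : List Word := [[4], [2,6], [0], [14,19,21,18,18,20,19,13], [17,21,15,17,20,19,21,8,12], [2], [12]]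
theorem lowF_2 : Low (F.grp lowF_w2) 576 [16,3,1,7] :=
  low_orb hF hlf 16 (by decide) [(16,10), (16,12), (16,13), (17,12), (17,13), (45,8), (45,9), (24,8), (24,9), (18,12), (18,13), (19,12), (19,13), (52,12), (52,13), (53,12), (53,13)] (m := 18) (grp_mono _ (by decide +kernel))
    (by decide +kernel) (by decide +kernel) lowF_3 (by decide)
def lowF_w1 : List Word := [[4], [2,6], [0], [14,19,21,18,18,20,19,13], [17,21,15,17,20,19,21,8,12], [2], [12], [8], [20,17,10]]
theorem lowF_1 : Low (F.grp lowF_w1) 23040 [12,16,3,1,7] :=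
  low_orb hF hlf 12 (by decide) [(12,14), (12,16), (11,16), (56,12), (56,13), (57,12), (57,13), (89,8), (89,9), (89,16), (89,17), (68,8), (68,9), (68,16), (68,17), (60,12), (60,13), (60,16), (60,17), (61,12), (61,13), (119,13), (118,13), (98,12), (98,13), (98,16), (98,17), (99,12), (99,13), (102,12), (102,13), (103,12), (103,13), (100,16), (101,16), (122,12), (122,13), (123,12), (123,13)] (m := 40) (grp_mono _ (by decide +kernel))
    (by decide +kernel) (by decide +kernel) lowF_2 (by decide)
theorem lowF : Low (F.grp gens) 1658880 [10,12,16,3,1,7] :=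
  low_orb hF hlf 10 (by decide) [(10,10), (10,16), (10,17), (10,18), (10,19), (10,20), (10,21), (9,17), (9,18), (9,19), (9,21), (42,18), (42,19), (12,18), (12,19), (12,20), (12,21), (43,18), (43,19), (56,12), (56,13), (56,14), (56,15), (56,17), (56,18), (56,19), (11,18), (11,19), (11,20), (57,12), (57,13), (57,14), (57,15), (57,18), (57,19), (32,20), (14,20), (8,20), (8,21), (4,20), (4,21), (54,12), (54,14), (100,13), (100,15), (89,14), (89,15), (89,17), (89,19), (68,14), (68,15), (68,19), (99,17), (99,18), (88,14), (88,15), (88,19), (69,14), (69,15), (69,19), (98,18), (103,12), (103,13), (109,14), (123,12), (123,13), (123,18), (119,15), (87,14), (108,15), (116,17)] (m := 72) (le_of_subst _ [[4], [2,6], [0], [14,19,21,18,18,20,19,13], [17,21,15,17,20,19,21,8,12], [2], [12], [8], [20,17,10]] (by decide +kernel))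
    (by decide +kernel) (by decide +kernel) lowF_1 (by decide)
def sc4 : List ℕ := [10,16,18,18,20,12,14,16,20,12]
def scp : List ℕ := [14,16,12,6,8,16,12,16]
def sc2 : List ℕ := [2,12,14,18,12,18,14,12]
theorem k_el : ∀ j < 128, key (nth El [] j) = j := by decide +kernel
theorem k_lt : ∀ w ∈ El, key w < 128 := by decide +kernel
theorem k_act : ∀ i < 11, ∀ j < 128, key (subst (nth sg [] i) (nth El [] j)) = lf (2 * i) j := by decide +kernel
theorem k_4 : lall El (fun w => imp (eqk key (w ++ w) [0,0]) (tb (F.clo gens sc4 (bit 10)) (key w))) = true := by decide +kernel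
theorem k_p : lall El (fun w => imp (eqk key (w ++ w) [0,0]) (bor (eqk key (w ++ [8]) ([8] ++ w)) (tb (F.clo lowF_w1 scp (bit 12)) (key w)))) = true := by decide +kernel
theorem k_2 : lall El (fun w => imp (eqk key (w ++ w) []) (bor (eqk key w []) (bor (eqk key w [0,0]) (tb (F.clo gens sc2 (bit 16)) (key w))))) = true := by decide +kernel
theorem c_4 : Nat.ble 72 (cnt F.n (F.clo gens sc4 (bit 10))) = true := by decide +kernel
theorem c_p : Nat.ble 40 (cnt F.n (F.clo lowF_w1 scp (bit 12))) = true := by decide +kernel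
end
end CA.SzF
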