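import Cfsg.Agent.Lib.Rec.RegM
set_option autoImplicit false
set_option linter.all false
set_option maxRecDepth 100000
universe u
namespace CA.SzU
open CA.CNet CA.CWord CA.CLevel CA.CSimple CA.CPoint CA.CTodd CA.CLow CA.RegM CA.CTrans
noncomputable section
def rels : List Word := [[0,0], [2,2], [4,4], [6,6], [10,10], [12,12], [0,2,0,2,0,2,0,2,0,2], [0,4,0,4], [0,6,0,6], [0,10,0,10], [0,12,0,12], [2,4,2,4,2,4], [2,6,2,6], [2,10,2,10,2,10], [2,12,2,12,2,12], [4,6,4,6,4,6,4,6,4,6,4,6,4,6,4,6], [4,10,4,10], [4,12,4,12], [6,10,6,10], [6,12,6,12], [10,12,10,12,10,12,10,12], [0,7,5,7,5,7,5,7,5], [0,13,11,13,11], [0,2,4,10,0,2,4,10,0,2,4,10,0,2,4,10,0,2,4,10], [2,10,12,2,10,12,2,10,12,2,10,12,2,10,12], [2,4,6,4,6,2,4,6,4,6,2,4,6,4,6,2,4,6,4,6,2,4,6,4,6]]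
namespace T0
noncomputable def A_0 : List (ℕ) := [nat_lit 0x440904a070420603c050340402a030220201c010140000a00]
noncomputable def A : List (List (ℕ)) := [A_0]
noncomputable def K_0 : List (ℕ) := [nat_lit 0x21107834160903814060000]
noncomputable def K : List (List (ℕ)) := [K_0]
noncomputable def R_0 : List (Rule) := [Rule.mk (nat_lit 2) (nat_lit 82) (Steps.bwd (nat_lit 1) (Steps.bwd (nat_lit 2) (Steps.bwd (nat_lit 1) (Steps.bwd (nat_lit 2) (Steps.bwd (nat_lit 1) (Steps.fwd (nat_lit 1024) (Steps.fwd (nat_lit 512) (Steps.fwd (nat_lit 1024) (Steps.fwd (nat_lit 512) Steps.nil))))))))) (nat_lit 12) (nat_lit 0)]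
noncomputable def R : List (List (Rule)) := [R_0]
def LW : List Word := [[], [0], [2]]
def par : Par := ⟨9, 2, 11, 20, 511, 2047, 1048575⟩
theorem hpar : par.ok := by decide
theorem hR0_0 : lall (R) (fun l => lall l (ruleOK rels LW par)) = true := by decide +kernel
theorem hR0 : lall (R) (fun l => lall l (ruleOK rels LW par)) = true := hR0_0
theorem hR : RulesOK rels LW par R := rulesOK_of rfl hR0
def cols : List (ℕ × ℕ) := [(512, 1), (1024, 2)]
theorem hcols : lall cols (colOK rels LW par) = true := by decide +kernel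
noncomputable def JS0 : List ℕ := [nat_lit 0x2030281c10060200801]
theorem S0_c : blocks (facts 9 2 11 20 511 2047 1048575 9 511 1 1 A R 32) 32 JS0 264 = true := by decide +kernel
theorem S0 : On (Step.{u} rels LW par A) 264 296 :=
  steps_of_blocks hpar hR S0_c (by decide +kernel)
theorem D0_c : allB (defOK 9 11 20 511 1048575 265 A K) 1 2 = true := by decide +kernel
theorem D0 : On (fun r => defOK par.W par.WL par.E par.mW par.mE 265 A K r = true) 256 384 :=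
  On.of_allB D0_c
noncomputable def JW0 : List ℕ := [nat_lit 0xf8410fc431144011c42110491184b1344813c4a1305113850]
theorem W0_c : blocks (rows 9 2 11 20 511 2047 1048575 10 1023 20 A 296 10 cols 64) 64 JW0 0 = true := by decide +kernel
theorem W0 : On (Row.{u} rels LW par A 296 10 cols) 0 64 :=
  rows_of_blocks hpar (by decide) hcols W0_c (by decide +kernel)
theorem idx : Idx.{u} rels [[0], [2]] [] 10 :=
  idx_of_cert hpar hR (K := K) (by decide +kernel) (T := 265) (T' := 384) (by decide) D0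
    (subs := []) (by decide +kernel) (T1 := 264) (by decide) (N := 296) S0
    (by decide) (n' := 64) (by decide) W0 (by decide +kernel) (by decide +kernel)
end T0
theorem b0 : Bound.{u} rels [[0], [2]] 10 := .of_idx T0.idx (.nil _) (by decide)
namespace T1
noncomputable def A_0 : List (ℕ) := [nat_lit 0x8e64720911c742471d18e85243a0c98944a4250c88946c4361308d86e2451318dc5283b1d98ec2460b058124240481598ac3a82b232104642411890c444231211108662421520f47c8321f90c82e4221190cc804432210f0584391390e05e4341010b86882e1a88b86083f1a9910504351418e4502390ca0985863c1c1918588381809006043e1020bc2e6201198d02e8230e88a43a42a2409243841c092070244120d889c36424082068206100f20b42c4210b187c2c21f0720601c61505a04c1441105183c1e20f05082812609068850102080320300c606028814084070208100660301100804202008804004000008008e8371d21144a8361b19148a43b1b91187622b1590f48263118a1088463d1e890c646221120cc6664321a0f05c63f1f8910888401aa0907282714206c4c41a0c90407822a2308f87022d1608788062f1f18b460621178884402151a0890462180b88385261c1518783a6132498489060b0e084c2420b139868486180d9844342110808245a41f0f1050428150fa0502c80d0c103c2a40d0710202640c0590182280907a020148050490142860c06981c1060406081c0c2030298080e8030220040640101200002600]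
noncomputable def A : List (List (ℕ)) := [A_0]
noncomputable def K_0 : List (ℕ) := [nat_lit 0x24320a44be89369ccfa812c9bcae7b30a151e692ea1d166b279d4f27f2a94ce2312da0c8e49338ecca8d1c934ee2d288ac5e451f8dc6a631392c52250a8847a1d1986c46130787c3217088241a0b03814060000]
noncomputable def K : List (List (ℕ)) := [K_0]
noncomputable def R_0 : List (Rule) := [Rule.mk (nat_lit 1) (nat_lit 33) (Steps.bwd (nat_lit 3) (Steps.fwd (nat_lit 512) (Steps.fwd (nat_lit 1536) Steps.nil))) (nat_lit 14) (nat_lit 1),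
  Rule.mk (nat_lit 1) (nat_lit 33) (Steps.bwd (nat_lit 4) (Steps.fwd (nat_lit 512) (Steps.fwd (nat_lit 2048) Steps.nil))) (nat_lit 16) (nat_lit 1),
  Rule.mk (nat_lit 2) (nat_lit 33) (Steps.bwd (nat_lit 4) (Steps.fwd (nat_lit 1024) (Steps.fwd (nat_lit 2048) Steps.nil))) (nat_lit 24) (nat_lit 1),
  Rule.mk (nat_lit 3) (nat_lit 51) (Steps.bwd (nat_lit 2) (Steps.bwd (nat_lit 3) (Steps.fwd (nat_lit 1024) (Steps.fwd (nat_lit 1536) (Steps.fwd (nat_lit 1024) Steps.nil))))) (nat_lit 22) (nat_lit 0),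
  Rule.mk (nat_lit 2) (nat_lit 33) (Steps.bwd (nat_lit 4) (Steps.bwd (nat_lit 2) (Steps.fwd (nat_lit 2048) Steps.nil))) (nat_lit 24) (nat_lit 1),
  Rule.mk (nat_lit 3) (nat_lit 33) (Steps.bwd (nat_lit 1) (Steps.fwd (nat_lit 1536) (Steps.fwd (nat_lit 512) Steps.nil))) (nat_lit 14) (nat_lit 0),
  Rule.mk (nat_lit 4) (nat_lit 33) (Steps.bwd (nat_lit 1) (Steps.bwd (nat_lit 4) (Steps.fwd (nat_lit 512) Steps.nil))) (nat_lit 16) (nat_lit 0),
  Rule.mk (nat_lit 1) (nat_lit 33) (Steps.bwd (nat_lit 3) (Steps.bwd (nat_lit 1) (Steps.fwd (nat_lit 1536) Steps.nil))) (nat_lit 14) (nat_lit 1),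
  Rule.mk (nat_lit 3) (nat_lit 78) (Steps.bwd (nat_lit 4) (Steps.bwd (nat_lit 3) (Steps.fwd (nat_lit 512) (Steps.bwd (nat_lit 4) (Steps.bwd (nat_lit 3) (Steps.fwd (nat_lit 2048) (Steps.fwd (nat_lit 1536) (Steps.fwd (nat_lit 2048) Steps.nil)))))))) (nat_lit 42) (nat_lit 7),
  Rule.mk (nat_lit 4) (nat_lit 33) (Steps.bwd (nat_lit 2) (Steps.fwd (nat_lit 2048) (Steps.fwd (nat_lit 1024) Steps.nil))) (nat_lit 24) (nat_lit 0),
  Rule.mk (nat_lit 4) (nat_lit 33) (Steps.bwd (nat_lit 2) (Steps.bwd (nat_lit 4) (Steps.fwd (nat_lit 1024) Steps.nil))) (nat_lit 24) (nat_lit 0),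
  Rule.mk (nat_lit 3) (nat_lit 78) (Steps.bwd (nat_lit 4) (Steps.bwd (nat_lit 3) (Steps.bwd (nat_lit 1) (Steps.bwd (nat_lit 4) (Steps.fwd (nat_lit 1536) (Steps.fwd (nat_lit 2048) (Steps.fwd (nat_lit 1536) (Steps.fwd (nat_lit 2048) Steps.nil)))))))) (nat_lit 42) (nat_lit 7),
  Rule.mk (nat_lit 2) (nat_lit 51) (Steps.bwd (nat_lit 3) (Steps.bwd (nat_lit 2) (Steps.fwd (nat_lit 1536) (Steps.bwd (nat_lit 2) (Steps.fwd (nat_lit 1536) Steps.nil))))) (nat_lit 22) (nat_lit 1),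
  Rule.mk (nat_lit 2) (nat_lit 87) (Steps.bwd (nat_lit 1) (Steps.bwd (nat_lit 2) (Steps.bwd (nat_lit 1) (Steps.bwd (nat_lit 2) (Steps.fwd (nat_lit 512) (Steps.fwd (nat_lit 1024) (Steps.fwd (nat_lit 512) (Steps.fwd (nat_lit 1024) (Steps.fwd (nat_lit 512) Steps.nil))))))))) (nat_lit 12) (nat_lit 0),
  Rule.mk (nat_lit 4) (nat_lit 33) (Steps.bwd (nat_lit 1) (Steps.fwd (nat_lit 2048) (Steps.fwd (nat_lit 512) Steps.nil))) (nat_lit 16) (nat_lit 0),
  Rule.mk (nat_lit 2) (nat_lit 87) (Steps.bwd (nat_lit 1) (Steps.bwd (nat_lit 2) (Steps.bwd (nat_lit 1) (Steps.fwd (nat_lit 1024) (Steps.fwd (nat_lit 512) (Steps.bwd (nat_lit 2) (Steps.fwd (nat_lit 512) (Steps.fwd (nat_lit 1024) (Steps.fwd (nat_lit 512) Steps.nil))))))))) (nat_lit 12) (nat_lit 0),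
  Rule.mk (nat_lit 2) (nat_lit 51) (Steps.bwd (nat_lit 3) (Steps.bwd (nat_lit 2) (Steps.bwd (nat_lit 3) (Steps.fwd (nat_lit 1024) (Steps.fwd (nat_lit 1536) Steps.nil))))) (nat_lit 22) (nat_lit 1),
  Rule.mk (nat_lit 3) (nat_lit 33) (Steps.bwd (nat_lit 1) (Steps.bwd (nat_lit 3) (Steps.fwd (nat_lit 512) Steps.nil))) (nat_lit 14) (nat_lit 0),
  Rule.mk (nat_lit 3) (nat_lit 78) (Steps.bwd (nat_lit 4) (Steps.bwd (nat_lit 3) (Steps.bwd (nat_lit 1) (Steps.bwd (nat_lit 4) (Steps.fwd (nat_lit 1536) (Steps.bwd (nat_lit 4) (Steps.fwd (nat_lit 1536) (Steps.fwd (nat_lit 2048) Steps.nil)))))))) (nat_lit 42) (nat_lit 7),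
  Rule.mk (nat_lit 4) (nat_lit 78) (Steps.bwd (nat_lit 3) (Steps.bwd (nat_lit 1) (Steps.bwd (nat_lit 4) (Steps.bwd (nat_lit 3) (Steps.fwd (nat_lit 2048) (Steps.fwd (nat_lit 1536) (Steps.bwd (nat_lit 4) (Steps.bwd (nat_lit 3) Steps.nil)))))))) (nat_lit 42) (nat_lit 8),
  Rule.mk (nat_lit 2) (nat_lit 222) (Steps.bwd (nat_lit 3) (Steps.fwd (nat_lit 2048) (Steps.bwd (nat_lit 3) (Steps.bwd (nat_lit 4) (Steps.bwd (nat_lit 2) (Steps.bwd (nat_lit 3) (Steps.bwd (nat_lit 4) (Steps.fwd (nat_lit 1536) (Steps.fwd (nat_lit 2048) (Steps.fwd (nat_lit 1024) (Steps.fwd (nat_lit 1536) (Steps.fwd (nat_lit 2048) (Steps.fwd (nat_lit 1536) (Steps.bwd (nat_lit 4) (Steps.fwd (nat_lit 1024) (Steps.fwd (nat_lit 1536) (Steps.fwd (nat_lit 2048) (Steps.fwd (nat_lit 1536) (Steps.fwd (nat_lit 2048) (Steps.bwd (nat_lit 2) (Steps.bwd (nat_lit 3) (Steps.bwd (nat_lit 4) (Steps.bwd (nat_lit 3) (Steps.fwd (nat_lit 2048) Steps.nil))))))))))))))))))))))))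 (nat_lit 50) (nat_lit 1),
  Rule.mk (nat_lit 2) (nat_lit 222) (Steps.bwd (nat_lit 4) (Steps.bwd (nat_lit 3) (Steps.fwd (nat_lit 2048) (Steps.bwd (nat_lit 3) (Steps.fwd (nat_lit 1024) (Steps.bwd (nat_lit 4) (Steps.bwd (nat_lit 3) (Steps.bwd (nat_lit 4) (Steps.fwd (nat_lit 1536) (Steps.bwd (nat_lit 2) (Steps.fwd (nat_lit 2048) (Steps.fwd (nat_lit 1536) (Steps.fwd (nat_lit 2048) (Steps.fwd (nat_lit 1536) (Steps.bwd (nat_lit 2) (Steps.bwd (nat_lit 4) (Steps.fwd (nat_lit 1536) (Steps.fwd (nat_lit 2048) (Steps.fwd (nat_lit 1536) (Steps.bwd (nat_lit 2) (Steps.fwd (nat_lit 2048) (Steps.bwd (nat_lit 3) (Steps.bwd (nat_lit 4) (Steps.bwd (nat_lit 3) Steps.nil)))))))))))))))))))))))) (nat_lit 51) (nat_lit 0),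
  Rule.mk (nat_lit 2) (nat_lit 87) (Steps.bwd (nat_lit 1) (Steps.bwd (nat_lit 2) (Steps.fwd (nat_lit 512) (Steps.bwd (nat_lit 2) (Steps.fwd (nat_lit 512) (Steps.bwd (nat_lit 2) (Steps.bwd (nat_lit 1) (Steps.fwd (nat_lit 1024) (Steps.bwd (nat_lit 1) Steps.nil))))))))) (nat_lit 12) (nat_lit 0),
  Rule.mk (nat_lit 2) (nat_lit 51) (Steps.fwd (nat_lit 1536) (Steps.bwd (nat_lit 2) (Steps.fwd (nat_lit 1536) (Steps.bwd (nat_lit 2) (Steps.bwd (nat_lit 3) Steps.nil))))) (nat_lit 22) (nat_lit 1),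
  Rule.mk (nat_lit 2) (nat_lit 33) (Steps.bwd (nat_lit 4) (Steps.fwd (nat_lit 1024) (Steps.bwd (nat_lit 4) Steps.nil))) (nat_lit 24) (nat_lit 1),
  Rule.mk (nat_lit 2) (nat_lit 51) (Steps.bwd (nat_lit 3) (Steps.fwd (nat_lit 1024) (Steps.bwd (nat_lit 3) (Steps.bwd (nat_lit 2) (Steps.fwd (nat_lit 1536) Steps.nil))))) (nat_lit 22) (nat_lit 1),
  Rule.mk (nat_lit 2) (nat_lit 51) (Steps.bwd (nat_lit 3) (Steps.fwd (nat_lit 1024) (Steps.bwd (nat_lit 3) (Steps.bwd (nat_lit 2) (Steps.bwd (nat_lit 3) Steps.nil))))) (nat_lit 22) (nat_lit 1),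
  Rule.mk (nat_lit 4) (nat_lit 78) (Steps.bwd (nat_lit 3) (Steps.bwd (nat_lit 4) (Steps.bwd (nat_lit 3) (Steps.bwd (nat_lit 4) (Steps.fwd (nat_lit 1536) (Steps.bwd (nat_lit 1) (Steps.bwd (nat_lit 4) (Steps.fwd (nat_lit 1536) Steps.nil)))))))) (nat_lit 42) (nat_lit 4),
  Rule.mk (nat_lit 4) (nat_lit 33) (Steps.bwd (nat_lit 1) (Steps.bwd (nat_lit 4) (Steps.bwd (nat_lit 1) Steps.nil))) (nat_lit 16) (nat_lit 0),
  Rule.mk (nat_lit 2) (nat_lit 87) (Steps.fwd (nat_lit 512) (Steps.fwd (nat_lit 1024) (Steps.bwd (nat_lit 1) (Steps.bwd (nat_lit 2) (Steps.fwd (nat_lit 512) (Steps.fwd (nat_lit 1024) (Steps.fwd (nat_lit 512) (Steps.bwd (nat_lit 2) (Steps.bwd (nat_lit 1) Steps.nil))))))))) (nat_lit 12) (nat_lit 0),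
  Rule.mk (nat_lit 4) (nat_lit 78) (Steps.bwd (nat_lit 3) (Steps.fwd (nat_lit 512) (Steps.bwd (nat_lit 4) (Steps.bwd (nat_lit 3) (Steps.bwd (nat_lit 4) (Steps.fwd (nat_lit 1536) (Steps.bwd (nat_lit 4) (Steps.bwd (nat_lit 3) Steps.nil)))))))) (nat_lit 42) (nat_lit 8),
  Rule.mk (nat_lit 3) (nat_lit 51) (Steps.bwd (nat_lit 2) (Steps.fwd (nat_lit 1536) (Steps.fwd (nat_lit 1024) (Steps.bwd (nat_lit 3) (Steps.fwd (nat_lit 1024) Steps.nil))))) (nat_lit 22) (nat_lit 0),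
  Rule.mk (nat_lit 0) (nat_lit 87) (Steps.bwd (nat_lit 3) (Steps.bwd (nat_lit 4) (Steps.fwd (nat_lit 1536) (Steps.bwd (nat_lit 4) (Steps.fwd (nat_lit 1536) (Steps.fwd (nat_lit 2048) (Steps.bwd (nat_lit 3) (Steps.fwd (nat_lit 512) (Steps.fwd (nat_lit 2048) Steps.nil))))))))) (nat_lit 42) (nat_lit 2),
  Rule.mk (nat_lit 0) (nat_lit 33) (Steps.fwd (nat_lit 512) (Steps.fwd (nat_lit 0) (Steps.bwd (nat_lit 1) Steps.nil))) (nat_lit 52) (nat_lit 0),
  Rule.mk (nat_lit 3) (nat_lit 24) (Steps.bwd (nat_lit 0) (Steps.bwd (nat_lit 3) Steps.nil)) (nat_lit 52) (nat_lit 0),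
  Rule.mk (nat_lit 4) (nat_lit 33) (Steps.bwd (nat_lit 1) (Steps.fwd (nat_lit 2048) (Steps.bwd (nat_lit 1) Steps.nil))) (nat_lit 16) (nat_lit 0),
  Rule.mk (nat_lit 1) (nat_lit 87) (Steps.bwd (nat_lit 2) (Steps.bwd (nat_lit 1) (Steps.bwd (nat_lit 2) (Steps.bwd (nat_lit 1) (Steps.fwd (nat_lit 1024) (Steps.fwd (nat_lit 512) (Steps.bwd (nat_lit 2) (Steps.fwd (nat_lit 512) (Steps.fwd (nat_lit 1024) Steps.nil))))))))) (nat_lit 12) (nat_lit 1),
  Rule.mk (nat_lit 2) (nat_lit 51) (Steps.bwd (nat_lit 3) (Steps.bwd (nat_lit 2) (Steps.fwd (nat_lit 1536) (Steps.fwd (nat_lit 1024) (Steps.fwd (nat_lit 1536) Steps.nil))))) (nat_lit 22) (nat_lit 1),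
  Rule.mk (nat_lit 3) (nat_lit 222) (Steps.bwd (nat_lit 4) (Steps.bwd (nat_lit 3) (Steps.bwd (nat_lit 2) (Steps.fwd (nat_lit 2048) (Steps.bwd (nat_lit 3) (Steps.fwd (nat_lit 2048) (Steps.bwd (nat_lit 3) (Steps.bwd (nat_lit 2) (Steps.bwd (nat_lit 4) (Steps.fwd (nat_lit 1536) (Steps.fwd (nat_lit 2048) (Steps.fwd (nat_lit 1536) (Steps.bwd (nat_lit 2) (Steps.bwd (nat_lit 4) (Steps.fwd (nat_lit 1536) (Steps.bwd (nat_lit 4) (Steps.fwd (nat_lit 1536) (Steps.fwd (nat_lit 1024) (Steps.fwd (nat_lit 2048) (Steps.bwd (nat_lit 3) (Steps.bwd (nat_lit 4) (Steps.bwd (nat_lit 3) (Steps.fwd (nat_lit 1024) (Steps.fwd (nat_lit 2048) Steps.nil)))))))))))))))))))))))) (nat_lit 51) (nat_lit 2),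
  Rule.mk (nat_lit 3) (nat_lit 78) (Steps.bwd (nat_lit 4) (Steps.fwd (nat_lit 1536) (Steps.fwd (nat_lit 512) (Steps.fwd (nat_lit 2048) (Steps.bwd (nat_lit 3) (Steps.bwd (nat_lit 4) (Steps.bwd (nat_lit 3) (Steps.fwd (nat_lit 2048) Steps.nil)))))))) (nat_lit 42) (nat_lit 7),
  Rule.mk (nat_lit 1) (nat_lit 33) (Steps.bwd (nat_lit 4) (Steps.bwd (nat_lit 1) (Steps.fwd (nat_lit 2048) Steps.nil))) (nat_lit 16) (nat_lit 1),
  Rule.mk (nat_lit 2) (nat_lit 33) (Steps.bwd (nat_lit 4) (Steps.bwd (nat_lit 2) (Steps.bwd (nat_lit 4) Steps.nil))) (nat_lit 24) (nat_lit 1),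
  Rule.mk (nat_lit 3) (nat_lit 78) (Steps.bwd (nat_lit 4) (Steps.fwd (nat_lit 1536) (Steps.bwd (nat_lit 1) (Steps.fwd (nat_lit 2048) (Steps.fwd (nat_lit 1536) (Steps.bwd (nat_lit 4) (Steps.bwd (nat_lit 3) (Steps.fwd (nat_lit 2048) Steps.nil)))))))) (nat_lit 42) (nat_lit 7)]
noncomputable def R : List (List (Rule)) := [R_0]
def LW : List Word := [[], [0], [2], [4], [6], [0], [1], [2], [3]]
def par : Par := ⟨9, 4, 13, 22, 511, 8191, 4194303⟩
theorem hpar : par.ok := by decide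
theorem hR0_0 : lall (R) (fun l => lall l (ruleOK rels LW par)) = true := by decide +kernel
theorem hR0 : lall (R) (fun l => lall l (ruleOK rels LW par)) = true := hR0_0
theorem hR : RulesOK rels LW par R := rulesOK_of rfl hR0
def cols : List (ℕ × ℕ) := [(512, 1), (1024, 2), (1536, 3), (2048, 4)]
theorem hcols : lall cols (colOK rels LW par) = true := by decide +kernel
noncomputable def JS0 : List ℕ := [nat_lit 0x23964be522322482511c82415cc0170c05cc0572420480591cf23958be630d18cbe56239c492511c8240241450239a492a12072402c90312496482c964d248a4a2a968205a2b950926124104808964f24964a2982ca44910960725144d2712c52614cae582a824a04b24940325044a02928225140105025084b269288258109609309c4b1c9603258c4b0212c12613496292c064b08964d0193496212c044b0c940225044a009281,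
  nat_lit 0x9c0125040002988ea303a9880a00789a4a24905626925d2d090b0112612c94497098070b00090d85c00480c2a042b00090d12c0048640e080480018c034004b14321a2b800aa1e10198a0b9448e0424064c46f139bc4624381d4f47b179e4e8690e94c064500ac0d28118060424984dc26389c0466f3a0b0f02e3c1ccd4662900888a8381e0d0613c8a4421a8012190880410c84390cb81b0e1889e4c2126440990832196cd02034170b24230841020844308908a231408691108e43488810219e462391082283c2057221a462c1147240448a3118a045488c0e229e48259188,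
  nat_lit 0x15c142a02164100a2bd6112d95aa2b01cab4954ae560089c0a572ad0072b9505129a0fa661199c6c7e1e8f9083a1da15204745820667603158aa549ca6012986230094822914c0853294c01001441291984a2409960a85328ca623b854425180500528c850019406380023390004f10a0e06d00800026d1a1be1269400a5026c02303130a0c868305329144044c7c9e0125824b0092c3]
theorem S0_c : blocks (facts 9 4 13 22 511 8191 4194303 9 511 6 63 A R 32) 32 JS0 330 = true := by decide +kernel
theorem S0 : On (Step.{u} rels LW par A) 330 426 :=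
  steps_of_blocks hpar hR S0_c (by decide +kernel)
theorem D0_c : allB (defOK 9 13 22 511 4194303 329 A K) 1 2 = true := by decide +kernel
theorem D0 : On (fun r => defOK par.W par.WL par.E par.mW par.mE 329 A K r = true) 256 384 :=
  On.of_allB D0_c
noncomputable def JW0 : List ℕ := [nat_lit 0x4ac964909824d0e49cfa0e5112047f2190c211173b91f2348b2391a3c1211ac1f3cc232691c4bd081f4791350b4b497254994a09c4c5044a941498aa279104d51621c31221194e51e2812023c903c9234eca24b8a426c9d4cd0a4b1434c0ab2b9404d14727c304dd184f4a3284a64e0a84fd224e9454c8ac535422d1462bcb04d9494f14b4f8b253d442d4b6530b85454854d4a2e8bc53955540be54954300c2,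
  nat_lit 0x180e412ce7124ff1d0f6118d8348db3886c148f50b02e330d131c1a070193b466150681c06f158f93102a33c29320cb090263ac631905f1747a16107378e113845120dd1283d35cd40f840185011d4731d8fc16503170e51685e248fe494f81c46d154fb0e03634cd011d0f200f40b50d0747e3bc67194693b11b15c8a1a82b3c4273241e080223a91d231061f07b13d0937cdc130414a500251021dc7816d05,
  nat_lit 0x31414058180ec6e338f7318ca334283a46214ce638ce0140da358d9108440e8d505c3c3a0fd14472]
theorem W0_c : blocks (rows 9 4 13 22 511 8191 4194303 10 1023 40 A 426 72 cols 32) 32 JW0 0 = true := by decide +kernel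
theorem W0 : On (Row.{u} rels LW par A 426 72 cols) 0 96 :=
  rows_of_blocks hpar (by decide) hcols W0_c (by decide +kernel)
theorem idx : Idx.{u} rels [[0], [2], [4], [6]] [[0], [2]] 72 :=
  idx_of_cert hpar hR (K := K) (by decide +kernel) (T := 329) (T' := 384) (by decide) D0
    (subs := [1,2]) (by decide +kernel) (T1 := 330) (by decide) (N := 426) S0
    (by decide) (n' := 96) (by decide) W0 (by decide +kernel) (by decide +kernel)
end T1
theorem b1 : Bound.{u} rels [[0], [2], [4], [6]] 720 := .of_idx T1.idx b0 (by decide)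
namespace T2
noncomputable def A_0 : List (ℕ) := [nat_lit 0x1ba0d86ca371a90dc6e2371b08d8624341a98d05ca3417a0d064a3516a8cc5e23314a8c45423115207c5442a0ea8a85642f1598ac3e22b0f907c3e61f0a08783c61e14a078604290e88a46482d1308b45c2321390b83a6260a207428614101890344240ca090482241008802a8200a885432a150a9854322190c986410a0506a8240a03b0b283c1203a0780e42c0380c2884424250c20842c62107986060a271420c0582300da09c5862316288c4442c0d18943622514088836a2806204c26a1306084c18a0c0428ec1aa3a1c08e41e2160488342e40f0820682221a0e085c22a1c0e1070244120528481c2120728401240e0410201080805204416a0b03882c0ea0703901c0a8050328180820602101008a0401a80c068030128080480200a0040260100880400800001800004000008006e6361b10cc682351aa0cc6663118a0ac5462f17a89856a1e0fa8503c4281498b45a4321918b85c82613106c3a4130a103048a201010582a40d0c9040422180c108c6062713888c468251620884aa2211185c5061c0d98442660b06181c7663a1d20e472a161c283c2c80d0698201e8090d285c2e80e0e2048246100808281c60a0498141020508902c1440605a0180e80402900c0c6030218080620201100402a00]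
noncomputable def A : List (List (ℕ)) := [A_0]
noncomputable def K_0 : List (ℕ) := [nat_lit 0x8c45e2d159d4e66f389b4b66b2299cb25d1f994d25f1c90cae3d2890476492798cc2550f8dc464b23884524d298d43a130d89432271983c22170a834120b03814060000]
noncomputable def K : List (List (ℕ)) := [K_0]
noncomputable def R_0 : List (Rule) := [Rule.mk (nat_lit 1) (nat_lit 34) (Steps.bwd (nat_lit 5) (Steps.fwd (nat_lit 512) (Steps.fwd (nat_lit 2560) Steps.nil))) (nat_lit 18) (nat_lit 1),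
  Rule.mk (nat_lit 3) (nat_lit 34) (Steps.bwd (nat_lit 5) (Steps.fwd (nat_lit 1536) (Steps.fwd (nat_lit 2560) Steps.nil))) (nat_lit 32) (nat_lit 1),
  Rule.mk (nat_lit 4) (nat_lit 34) (Steps.bwd (nat_lit 5) (Steps.fwd (nat_lit 2048) (Steps.fwd (nat_lit 2560) Steps.nil))) (nat_lit 36) (nat_lit 1),
  Rule.mk (nat_lit 4) (nat_lit 34) (Steps.bwd (nat_lit 2) (Steps.fwd (nat_lit 2048) (Steps.fwd (nat_lit 1024) Steps.nil))) (nat_lit 24) (nat_lit 0),
  Rule.mk (nat_lit 5) (nat_lit 52) (Steps.bwd (nat_lit 2) (Steps.bwd (nat_lit 5) (Steps.fwd (nat_lit 1024) (Steps.fwd (nat_lit 2560) (Steps.fwd (nat_lit 1024) Steps.nil))))) (nat_lit 26) (nat_lit 0),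
  Rule.mk (nat_lit 4) (nat_lit 34) (Steps.bwd (nat_lit 1) (Steps.fwd (nat_lit 2048) (Steps.fwd (nat_lit 512) Steps.nil))) (nat_lit 16) (nat_lit 0),
  Rule.mk (nat_lit 5) (nat_lit 34) (Steps.bwd (nat_lit 1) (Steps.fwd (nat_lit 2560) (Steps.fwd (nat_lit 512) Steps.nil))) (nat_lit 18) (nat_lit 0),
  Rule.mk (nat_lit 5) (nat_lit 34) (Steps.bwd (nat_lit 3) (Steps.fwd (nat_lit 2560) (Steps.fwd (nat_lit 1536) Steps.nil))) (nat_lit 32) (nat_lit 0),
  Rule.mk (nat_lit 2) (nat_lit 52) (Steps.bwd (nat_lit 3) (Steps.bwd (nat_lit 2) (Steps.fwd (nat_lit 1536) (Steps.fwd (nat_lit 1024) (Steps.fwd (nat_lit 1536) Steps.nil))))) (nat_lit 22) (nat_lit 1),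
  Rule.mk (nat_lit 1) (nat_lit 34) (Steps.bwd (nat_lit 3) (Steps.bwd (nat_lit 1) (Steps.fwd (nat_lit 1536) Steps.nil))) (nat_lit 14) (nat_lit 1),
  Rule.mk (nat_lit 2) (nat_lit 34) (Steps.bwd (nat_lit 4) (Steps.fwd (nat_lit 1024) (Steps.fwd (nat_lit 2048) Steps.nil))) (nat_lit 24) (nat_lit 1),
  Rule.mk (nat_lit 5) (nat_lit 34) (Steps.bwd (nat_lit 4) (Steps.fwd (nat_lit 2560) (Steps.fwd (nat_lit 2048) Steps.nil))) (nat_lit 36) (nat_lit 0),
  Rule.mk (nat_lit 1) (nat_lit 34) (Steps.bwd (nat_lit 4) (Steps.fwd (nat_lit 512) (Steps.fwd (nat_lit 2048) Steps.nil))) (nat_lit 16) (nat_lit 1),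
  Rule.mk (nat_lit 4) (nat_lit 34) (Steps.bwd (nat_lit 2) (Steps.bwd (nat_lit 4) (Steps.fwd (nat_lit 1024) Steps.nil))) (nat_lit 24) (nat_lit 0),
  Rule.mk (nat_lit 2) (nat_lit 88) (Steps.bwd (nat_lit 1) (Steps.bwd (nat_lit 2) (Steps.bwd (nat_lit 1) (Steps.bwd (nat_lit 2) (Steps.fwd (nat_lit 512) (Steps.fwd (nat_lit 1024) (Steps.fwd (nat_lit 512) (Steps.fwd (nat_lit 1024) (Steps.fwd (nat_lit 512) Steps.nil))))))))) (nat_lit 12) (nat_lit 0),
  Rule.mk (nat_lit 2) (nat_lit 52) (Steps.bwd (nat_lit 3) (Steps.bwd (nat_lit 2) (Steps.bwd (nat_lit 3) (Steps.fwd (nat_lit 1024) (Steps.fwd (nat_lit 1536) Steps.nil))))) (nat_lit 22) (nat_lit 1),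
  Rule.mk (nat_lit 5) (nat_lit 178) (Steps.bwd (nat_lit 1) (Steps.bwd (nat_lit 2) (Steps.bwd (nat_lit 3) (Steps.fwd (nat_lit 2560) (Steps.bwd (nat_lit 1) (Steps.bwd (nat_lit 2) (Steps.fwd (nat_lit 1536) (Steps.bwd (nat_lit 5) (Steps.fwd (nat_lit 512) (Steps.fwd (nat_lit 1024) (Steps.fwd (nat_lit 1536) (Steps.fwd (nat_lit 2560) (Steps.fwd (nat_lit 512) (Steps.fwd (nat_lit 1024) (Steps.fwd (nat_lit 1536) (Steps.fwd (nat_lit 2560) (Steps.bwd (nat_lit 1) (Steps.fwd (nat_lit 1024) (Steps.fwd (nat_lit 1536) Steps.nil))))))))))))))))))) (nat_lit 46) (nat_lit 0),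
  Rule.mk (nat_lit 5) (nat_lit 34) (Steps.bwd (nat_lit 3) (Steps.fwd (nat_lit 2560) (Steps.bwd (nat_lit 3) Steps.nil))) (nat_lit 32) (nat_lit 0),
  Rule.mk (nat_lit 2) (nat_lit 52) (Steps.fwd (nat_lit 2560) (Steps.bwd (nat_lit 2) (Steps.fwd (nat_lit 2560) (Steps.fwd (nat_lit 1024) (Steps.bwd (nat_lit 5) Steps.nil))))) (nat_lit 26) (nat_lit 1),
  Rule.mk (nat_lit 5) (nat_lit 34) (Steps.bwd (nat_lit 4) (Steps.fwd (nat_lit 2560) (Steps.bwd (nat_lit 4) Steps.nil))) (nat_lit 36) (nat_lit 0),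
  Rule.mk (nat_lit 1) (nat_lit 34) (Steps.bwd (nat_lit 4) (Steps.bwd (nat_lit 1) (Steps.fwd (nat_lit 2048) Steps.nil))) (nat_lit 16) (nat_lit 1),
  Rule.mk (nat_lit 4) (nat_lit 34) (Steps.bwd (nat_lit 5) (Steps.bwd (nat_lit 4) (Steps.bwd (nat_lit 5) Steps.nil))) (nat_lit 36) (nat_lit 1),
  Rule.mk (nat_lit 2) (nat_lit 34) (Steps.bwd (nat_lit 4) (Steps.bwd (nat_lit 2) (Steps.fwd (nat_lit 2048) Steps.nil))) (nat_lit 24) (nat_lit 1),
  Rule.mk (nat_lit 5) (nat_lit 34) (Steps.bwd (nat_lit 4) (Steps.bwd (nat_lit 5) (Steps.bwd (nat_lit 4) Steps.nil))) (nat_lit 36) (nat_lit 0),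
  Rule.mk (nat_lit 1) (nat_lit 34) (Steps.bwd (nat_lit 3) (Steps.fwd (nat_lit 512) (Steps.fwd (nat_lit 1536) Steps.nil))) (nat_lit 14) (nat_lit 1),
  Rule.mk (nat_lit 4) (nat_lit 79) (Steps.bwd (nat_lit 3) (Steps.fwd (nat_lit 512) (Steps.bwd (nat_lit 4) (Steps.bwd (nat_lit 3) (Steps.fwd (nat_lit 2048) (Steps.fwd (nat_lit 1536) (Steps.fwd (nat_lit 2048) (Steps.fwd (nat_lit 1536) Steps.nil)))))))) (nat_lit 42) (nat_lit 8),
  Rule.mk (nat_lit 3) (nat_lit 34) (Steps.bwd (nat_lit 5) (Steps.bwd (nat_lit 3) (Steps.fwd (nat_lit 2560) Steps.nil))) (nat_lit 32) (nat_lit 1),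
  Rule.mk (nat_lit 2) (nat_lit 223) (Steps.bwd (nat_lit 4) (Steps.bwd (nat_lit 3) (Steps.bwd (nat_lit 4) (Steps.bwd (nat_lit 3) (Steps.bwd (nat_lit 2) (Steps.fwd (nat_lit 2048) (Steps.fwd (nat_lit 1536) (Steps.fwd (nat_lit 2048) (Steps.bwd (nat_lit 3) (Steps.fwd (nat_lit 1024) (Steps.bwd (nat_lit 4) (Steps.bwd (nat_lit 3) (Steps.fwd (nat_lit 2048) (Steps.fwd (nat_lit 1536) (Steps.fwd (nat_lit 1024) (Steps.fwd (nat_lit 2048) (Steps.fwd (nat_lit 1536) (Steps.bwd (nat_lit 4) (Steps.bwd (nat_lit 3) (Steps.fwd (nat_lit 1024) (Steps.fwd (nat_lit 2048) (Steps.fwd (nat_lit 1536) (Steps.fwd (nat_lit 2048) (Steps.fwd (nat_lit 1536) Steps.nil)))))))))))))))))))))))) (nat_lit 51) (nat_lit 0),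
  Rule.mk (nat_lit 5) (nat_lit 34) (Steps.bwd (nat_lit 4) (Steps.bwd (nat_lit 5) (Steps.fwd (nat_lit 2048) Steps.nil))) (nat_lit 36) (nat_lit 0),
  Rule.mk (nat_lit 3) (nat_lit 79) (Steps.bwd (nat_lit 4) (Steps.fwd (nat_lit 1536) (Steps.fwd (nat_lit 512) (Steps.fwd (nat_lit 2048) (Steps.fwd (nat_lit 1536) (Steps.fwd (nat_lit 2048) (Steps.fwd (nat_lit 1536) (Steps.fwd (nat_lit 2048) Steps.nil)))))))) (nat_lit 42) (nat_lit 7),
  Rule.mk (nat_lit 4) (nat_lit 34) (Steps.bwd (nat_lit 1) (Steps.bwd (nat_lit 4) (Steps.fwd (nat_lit 512) Steps.nil))) (nat_lit 16) (nat_lit 0),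
  Rule.mk (nat_lit 4) (nat_lit 79) (Steps.bwd (nat_lit 3) (Steps.bwd (nat_lit 1) (Steps.bwd (nat_lit 4) (Steps.fwd (nat_lit 1536) (Steps.fwd (nat_lit 2048) (Steps.fwd (nat_lit 1536) (Steps.fwd (nat_lit 2048) (Steps.fwd (nat_lit 1536) Steps.nil)))))))) (nat_lit 42) (nat_lit 8),
  Rule.mk (nat_lit 5) (nat_lit 34) (Steps.fwd (nat_lit 2048) (Steps.bwd (nat_lit 5) (Steps.bwd (nat_lit 4) Steps.nil))) (nat_lit 36) (nat_lit 0),
  Rule.mk (nat_lit 3) (nat_lit 52) (Steps.bwd (nat_lit 2) (Steps.fwd (nat_lit 1536) (Steps.fwd (nat_lit 1024) (Steps.bwd (nat_lit 3) (Steps.bwd (nat_lit 2) Steps.nil))))) (nat_lit 22) (nat_lit 0),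
  Rule.mk (nat_lit 3) (nat_lit 34) (Steps.bwd (nat_lit 1) (Steps.fwd (nat_lit 1536) (Steps.bwd (nat_lit 1) Steps.nil))) (nat_lit 14) (nat_lit 0),
  Rule.mk (nat_lit 4) (nat_lit 79) (Steps.fwd (nat_lit 1536) (Steps.bwd (nat_lit 4) (Steps.bwd (nat_lit 3) (Steps.fwd (nat_lit 2048) (Steps.fwd (nat_lit 1536) (Steps.fwd (nat_lit 2048) (Steps.bwd (nat_lit 3) (Steps.bwd (nat_lit 1) Steps.nil)))))))) (nat_lit 42) (nat_lit 2),
  Rule.mk (nat_lit 2) (nat_lit 34) (Steps.fwd (nat_lit 2048) (Steps.fwd (nat_lit 1024) (Steps.bwd (nat_lit 4) Steps.nil))) (nat_lit 24) (nat_lit 1),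
  Rule.mk (nat_lit 5) (nat_lit 52) (Steps.bwd (nat_lit 2) (Steps.bwd (nat_lit 5) (Steps.bwd (nat_lit 2) (Steps.bwd (nat_lit 5) (Steps.fwd (nat_lit 1024) Steps.nil))))) (nat_lit 26) (nat_lit 0),
  Rule.mk (nat_lit 0) (nat_lit 43) (Steps.bwd (nat_lit 5) (Steps.bwd (nat_lit 3) (Steps.bwd (nat_lit 5) (Steps.fwd (nat_lit 1536) Steps.nil)))) (nat_lit 32) (nat_lit 1),
  Rule.mk (nat_lit 0) (nat_lit 34) (Steps.fwd (nat_lit 512) (Steps.fwd (nat_lit 0) (Steps.fwd (nat_lit 512) Steps.nil))) (nat_lit 52) (nat_lit 0),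
  Rule.mk (nat_lit 0) (nat_lit 34) (Steps.bwd (nat_lit 4) (Steps.fwd (nat_lit 0) (Steps.bwd (nat_lit 4) Steps.nil))) (nat_lit 52) (nat_lit 0),
  Rule.mk (nat_lit 5) (nat_lit 25) (Steps.bwd (nat_lit 0) (Steps.bwd (nat_lit 5) Steps.nil)) (nat_lit 52) (nat_lit 0),
  Rule.mk (nat_lit 0) (nat_lit 34) (Steps.bwd (nat_lit 3) (Steps.fwd (nat_lit 0) (Steps.bwd (nat_lit 3) Steps.nil))) (nat_lit 52) (nat_lit 0),
  Rule.mk (nat_lit 5) (nat_lit 25) (Steps.bwd (nat_lit 0) (Steps.fwd (nat_lit 2560) Steps.nil)) (nat_lit 52) (nat_lit 0),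
  Rule.mk (nat_lit 3) (nat_lit 52) (Steps.bwd (nat_lit 2) (Steps.fwd (nat_lit 1536) (Steps.fwd (nat_lit 1024) (Steps.bwd (nat_lit 3) (Steps.fwd (nat_lit 1024) Steps.nil))))) (nat_lit 22) (nat_lit 0),
  Rule.mk (nat_lit 1) (nat_lit 88) (Steps.bwd (nat_lit 2) (Steps.bwd (nat_lit 1) (Steps.bwd (nat_lit 2) (Steps.fwd (nat_lit 512) (Steps.fwd (nat_lit 1024) (Steps.bwd (nat_lit 1) (Steps.fwd (nat_lit 1024) (Steps.fwd (nat_lit 512) (Steps.fwd (nat_lit 1024) Steps.nil))))))))) (nat_lit 12) (nat_lit 1),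
  Rule.mk (nat_lit 3) (nat_lit 52) (Steps.bwd (nat_lit 2) (Steps.bwd (nat_lit 3) (Steps.fwd (nat_lit 1024) (Steps.fwd (nat_lit 1536) (Steps.fwd (nat_lit 1024) Steps.nil))))) (nat_lit 22) (nat_lit 0),
  Rule.mk (nat_lit 1) (nat_lit 88) (Steps.bwd (nat_lit 2) (Steps.fwd (nat_lit 512) (Steps.bwd (nat_lit 2) (Steps.bwd (nat_lit 1) (Steps.fwd (nat_lit 1024) (Steps.fwd (nat_lit 512) (Steps.fwd (nat_lit 1024) (Steps.bwd (nat_lit 1) (Steps.fwd (nat_lit 1024) Steps.nil))))))))) (nat_lit 12) (nat_lit 1),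
  Rule.mk (nat_lit 1) (nat_lit 88) (Steps.bwd (nat_lit 2) (Steps.fwd (nat_lit 512) (Steps.fwd (nat_lit 1024) (Steps.fwd (nat_lit 512) (Steps.fwd (nat_lit 1024) (Steps.bwd (nat_lit 1) (Steps.bwd (nat_lit 2) (Steps.bwd (nat_lit 1) (Steps.fwd (nat_lit 1024) Steps.nil))))))))) (nat_lit 12) (nat_lit 1),
  Rule.mk (nat_lit 2) (nat_lit 52) (Steps.bwd (nat_lit 5) (Steps.bwd (nat_lit 2) (Steps.bwd (nat_lit 5) (Steps.fwd (nat_lit 1024) (Steps.fwd (nat_lit 2560) Steps.nil))))) (nat_lit 26) (nat_lit 1),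
  Rule.mk (nat_lit 3) (nat_lit 178) (Steps.bwd (nat_lit 5) (Steps.fwd (nat_lit 512) (Steps.bwd (nat_lit 2) (Steps.bwd (nat_lit 3) (Steps.fwd (nat_lit 2560) (Steps.fwd (nat_lit 512) (Steps.bwd (nat_lit 2) (Steps.fwd (nat_lit 1536) (Steps.bwd (nat_lit 5) (Steps.fwd (nat_lit 512) (Steps.fwd (nat_lit 1024) (Steps.fwd (nat_lit 1536) (Steps.fwd (nat_lit 2560) (Steps.bwd (nat_lit 1) (Steps.fwd (nat_lit 1024) (Steps.fwd (nat_lit 1536) (Steps.bwd (nat_lit 5) (Steps.bwd (nat_lit 1) (Steps.fwd (nat_lit 1024) Steps.nil))))))))))))))))))) (nat_lit 46) (nat_lit 3),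
  Rule.mk (nat_lit 3) (nat_lit 52) (Steps.bwd (nat_lit 2) (Steps.bwd (nat_lit 3) (Steps.bwd (nat_lit 2) (Steps.fwd (nat_lit 1536) (Steps.fwd (nat_lit 1024) Steps.nil))))) (nat_lit 22) (nat_lit 0),
  Rule.mk (nat_lit 2) (nat_lit 34) (Steps.bwd (nat_lit 4) (Steps.bwd (nat_lit 2) (Steps.bwd (nat_lit 4) Steps.nil))) (nat_lit 24) (nat_lit 1),
  Rule.mk (nat_lit 1) (nat_lit 79) (Steps.bwd (nat_lit 3) (Steps.bwd (nat_lit 4) (Steps.fwd (nat_lit 1536) (Steps.fwd (nat_lit 2048) (Steps.fwd (nat_lit 1536) (Steps.bwd (nat_lit 4) (Steps.bwd (nat_lit 3) (Steps.fwd (nat_lit 2048) Steps.nil)))))))) (nat_lit 43) (nat_lit 0),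
  Rule.mk (nat_lit 1) (nat_lit 88) (Steps.bwd (nat_lit 2) (Steps.fwd (nat_lit 512) (Steps.fwd (nat_lit 1024) (Steps.bwd (nat_lit 1) (Steps.fwd (nat_lit 1024) (Steps.fwd (nat_lit 512) (Steps.bwd (nat_lit 2) (Steps.fwd (nat_lit 512) (Steps.fwd (nat_lit 1024) Steps.nil))))))))) (nat_lit 12) (nat_lit 1),
  Rule.mk (nat_lit 4) (nat_lit 223) (Steps.bwd (nat_lit 2) (Steps.bwd (nat_lit 3) (Steps.bwd (nat_lit 4) (Steps.fwd (nat_lit 1536) (Steps.fwd (nat_lit 2048) (Steps.bwd (nat_lit 2) (Steps.bwd (nat_lit 3) (Steps.bwd (nat_lit 4) (Steps.bwd (nat_lit 3) (Steps.fwd (nat_lit 2048) (Steps.bwd (nat_lit 2) (Steps.fwd (nat_lit 1536) (Steps.fwd (nat_lit 2048) (Steps.fwd (nat_lit 1536) (Steps.fwd (nat_lit 2048) (Steps.fwd (nat_lit 1024) (Steps.fwd (nat_lit 1536) (Steps.fwd (nat_lit 2048) (Steps.fwd (nat_lit 1536) (Steps.bwd (nat_lit 4) (Steps.fwd (nat_lit 1024) (Steps.bwd (nat_lit 3) (Steps.fwd (nat_lit 2048)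 (Steps.fwd (nat_lit 1536) Steps.nil)))))))))))))))))))))))) (nat_lit 50) (nat_lit 0),
  Rule.mk (nat_lit 4) (nat_lit 34) (Steps.bwd (nat_lit 2) (Steps.bwd (nat_lit 4) (Steps.bwd (nat_lit 2) Steps.nil))) (nat_lit 24) (nat_lit 0),
  Rule.mk (nat_lit 1) (nat_lit 88) (Steps.bwd (nat_lit 2) (Steps.bwd (nat_lit 1) (Steps.bwd (nat_lit 2) (Steps.bwd (nat_lit 1) (Steps.bwd (nat_lit 2) (Steps.fwd (nat_lit 512) (Steps.bwd (nat_lit 2) (Steps.fwd (nat_lit 512) (Steps.fwd (nat_lit 1024) Steps.nil))))))))) (nat_lit 12) (nat_lit 1),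
  Rule.mk (nat_lit 2) (nat_lit 52) (Steps.bwd (nat_lit 5) (Steps.bwd (nat_lit 2) (Steps.fwd (nat_lit 2560) (Steps.fwd (nat_lit 1024) (Steps.fwd (nat_lit 2560) Steps.nil))))) (nat_lit 26) (nat_lit 1),
  Rule.mk (nat_lit 5) (nat_lit 34) (Steps.bwd (nat_lit 3) (Steps.bwd (nat_lit 5) (Steps.fwd (nat_lit 1536) Steps.nil))) (nat_lit 32) (nat_lit 0),
  Rule.mk (nat_lit 2) (nat_lit 52) (Steps.bwd (nat_lit 3) (Steps.fwd (nat_lit 1024) (Steps.fwd (nat_lit 1536) (Steps.bwd (nat_lit 2) (Steps.fwd (nat_lit 1536) Steps.nil))))) (nat_lit 22) (nat_lit 1),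
  Rule.mk (nat_lit 1) (nat_lit 34) (Steps.bwd (nat_lit 3) (Steps.fwd (nat_lit 512) (Steps.bwd (nat_lit 3) Steps.nil))) (nat_lit 14) (nat_lit 1),
  Rule.mk (nat_lit 3) (nat_lit 79) (Steps.bwd (nat_lit 1) (Steps.bwd (nat_lit 4) (Steps.bwd (nat_lit 3) (Steps.bwd (nat_lit 4) (Steps.fwd (nat_lit 1536) (Steps.fwd (nat_lit 2048) (Steps.fwd (nat_lit 1536) (Steps.fwd (nat_lit 2048) Steps.nil)))))))) (nat_lit 42) (nat_lit 0),
  Rule.mk (nat_lit 2) (nat_lit 178) (Steps.bwd (nat_lit 1) (Steps.fwd (nat_lit 2560) (Steps.bwd (nat_lit 3) (Steps.fwd (nat_lit 1024) (Steps.bwd (nat_lit 1) (Steps.fwd (nat_lit 2560) (Steps.bwd (nat_lit 3) (Steps.fwd (nat_lit 1024) (Steps.fwd (nat_lit 512) (Steps.fwd (nat_lit 2560) (Steps.fwd (nat_lit 1536) (Steps.fwd (nat_lit 1024) (Steps.fwd (nat_lit 512) (Steps.fwd (nat_lit 2560) (Steps.fwd (nat_lit 1536) (Steps.fwd (nat_lit 1024) (Steps.bwd (nat_lit 1) (Steps.bwd (nat_lit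 5) (Steps.bwd (nat_lit 3) Steps.nil))))))))))))))))))) (nat_lit 47) (nat_lit 3)]
noncomputable def R_1 : List (Rule) := [Rule.mk (nat_lit 2) (nat_lit 52) (Steps.bwd (nat_lit 3) (Steps.bwd (nat_lit 2) (Steps.bwd (nat_lit 3) (Steps.bwd (nat_lit 2) (Steps.fwd (nat_lit 1536) Steps.nil))))) (nat_lit 22) (nat_lit 1),
  Rule.mk (nat_lit 5) (nat_lit 178) (Steps.fwd (nat_lit 512) (Steps.fwd (nat_lit 1024) (Steps.bwd (nat_lit 3) (Steps.fwd (nat_lit 2560) (Steps.bwd (nat_lit 1) (Steps.fwd (nat_lit 1024) (Steps.fwd (nat_lit 1536) (Steps.bwd (nat_lit 5) (Steps.fwd (nat_lit 512) (Steps.fwd (nat_lit 1024) (Steps.bwd (nat_lit 3) (Steps.bwd (nat_lit 5) (Steps.bwd (nat_lit 1) (Steps.bwd (nat_lit 2) (Steps.bwd (nat_lit 3) (Steps.bwd (nat_lit 5) (Steps.bwd (nat_lit 1) (Steps.bwd (nat_lit 2) (Steps.bwd (nat_lit 3) Steps.nil))))))))))))))))))) (nat_lit 46) (nat_lit 0),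
  Rule.mk (nat_lit 4) (nat_lit 34) (Steps.bwd (nat_lit 2) (Steps.fwd (nat_lit 2048) (Steps.bwd (nat_lit 2) Steps.nil))) (nat_lit 24) (nat_lit 0)]
noncomputable def R : List (List (Rule)) := [R_0, R_1]
def LW : List Word := [[], [0], [2], [4], [6], [10], [0], [1], [2], [3], [4], [5], [6], [7]]
def par : Par := ⟨9, 4, 13, 22, 511, 8191, 4194303⟩
theorem hpar : par.ok := by decide
theorem hR0_0 : lall (R) (fun l => lall l (ruleOK rels LW par)) = true := by decide +kernel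
theorem hR0 : lall (R) (fun l => lall l (ruleOK rels LW par)) = true := hR0_0
theorem hR : RulesOK rels LW par R := rulesOK_of rfl hR0
def cols : List (ℕ × ℕ) := [(512, 1), (1024, 2), (1536, 3), (2048, 4), (2560, 5)]
theorem hcols : lall cols (colOK rels LW par) = true := by decide +kernel
noncomputable def JS0 : List ℕ := [nat_lit 0x9600248d289489228960924970392892580200240124810905410022414238008e2c004d06134004c90012312239188a288c4a050309e51099482a160b9482451280349c4a2291231309a4922902312c9c4f0893c9c4b230f228148a188c47228e230108c308c04228d228148a308803220b2201488108803220822114862886450311486248402210821004841c82012086209080c422085200008010800220031f8087e087c031f01,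
  nat_lit 0x160e0751a8d86a7538161715cdc263715d686802b03402586e00985598802a8ca0030290c0002ea00600021813944120a2b0013000a0534a4e00178be222f9780090260026a30a14c0c0426a2000240484a45f3004c0a4e269310004984b14042612cf9309c5b2f8702202259e25930947498592e868c04f02140c6223309ccc630f140084f31184ba5926128e15c964a36010012409281a49324a06924412cbc6111184bc17251a248549220921524192405490209a00241225924906092002401,
  nat_lit 0xd20133be059a8ce740005330d00844d258ca0101004caf41c65323c3299c626c323232010c808c8023181319ac646b31bb3102cc408d22f3400c0424140acc4e8c2751d1d4c2bc0021303936810c461301002004be64c0610198c507443a29184c269309a8c25a290e743201006613017dc1844818341a4d60100179b97c020201808025f2f360e97cbcd4be6f401b8bcd0be232f042f1b8786e2f2f2f8a01a1409078406a178b4ea1d0918822142f80cbccce82906178bac808022e032d800b604b624130a4562913090b6c4b66d2d0e2d08c5c2c150b05c232d302d0b05a042ca62c1ac5a6b2c2f,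
  nat_lit 0x4e26f866d001bc0a7a3c868e8730682c14783c86c0a0400006100c0470369b209ac006b326b030301c0f070300c6b626d02058f088259288e32171fd00371c2083076019ae01acd86d059b4d86b353f0a804d21c0469341f08800d030de013412]
theorem S0_c : blocks (facts 9 4 13 22 511 8191 4194303 9 511 7 127 A R 32) 32 JS0 318 = true := by decide +kernel
theorem S0 : On (Step.{u} rels LW par A) 318 446 :=
  steps_of_blocks hpar hR S0_c (by decide +kernel)
theorem D0_c : allB (defOK 9 13 22 511 4194303 315 A K) 1 2 = true := by decide +kernel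
theorem D0 : On (fun r => defOK par.W par.WL par.E par.mW par.mE 315 A K r = true) 256 384 :=
  On.of_allB D0_c
noncomputable def JW0 : List ℕ := [nat_lit 0x9325c9a4dd345695d508c53288b554994b8c01f0791f9311e91a1ac6c4ac572d0b2525282d8d257961340d4334de5196b324d631d604c9632295926cc4304d757165360d521d5455d30308b82cd4b4a8b73816f5216a388d337d645b5622195859cd930c85371563696939171528e638cea5b9755b0ec210e8599735a0f05c1773b8ed3c8f45d1725e4f63e1765ed785f4fa3f17a3f97c4010241106,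
  nat_lit 0x4244d100d4442749e4e45d281170ed14130410e525488661943f1811e4846229d3f294a8285194484e1345012847454481144316d1f1705e2c09f5151c2bc9c2893819d3b459241a12718d414f0aa250ac4b4721b8701d0a64f4a44d93a5013e50ca92b89225898255354b0781bd2f1d91b11854148514605a1611d1584b1a8694a45f3315f510ce32cb128d47498ad56cc62ac713207d1cc824cc80,
  nat_lit 0xb02b4242e0c02d0a90842c320f10f0dc2f430380e8360d10d0f90e4450a1003d1852348064]
theorem W0_c : blocks (rows 9 4 13 22 511 8191 4194303 10 1023 50 A 446 56 cols 25) 25 JW0 0 = true := by decide +kernel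
theorem W0 : On (Row.{u} rels LW par A 446 56 cols) 0 75 :=
  rows_of_blocks hpar (by decide) hcols W0_c (by decide +kernel)
theorem idx : Idx.{u} rels [[0], [2], [4], [6], [10]] [[0], [2], [4], [6]] 56 :=
  idx_of_cert hpar hR (K := K) (by decide +kernel) (T := 315) (T' := 384) (by decide) D0
    (subs := [1,2,3,4]) (by decide +kernel) (T1 := 318) (by decide) (N := 446) S0
    (by decide) (n' := 75) (by decide) W0 (by decide +kernel) (by decide +kernel)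
end T2
theorem b2 : Bound.{u} rels [[0], [2], [4], [6], [10]] 40320 := .of_idx T2.idx b1 (by decide)
namespace T3
noncomputable def A_0 : List (ℕ) := [nat_lit 0x99952a222a45a65428c8a810994ea4229c3c653048ca50a1948a22a8d44251088a321584642d10b43e20f854a230e044612287c2810f878a2d0994421420843841585041c0a0c382210882a411054415090c2a1220783a40c074c180694300e18602c50e8348160b182c0d08581a6068642190c94320f20641e10783ca0f078c1e0b204c2040d82c61006181807203010106038c11051022082838106040204080504120428240a30481860a01880c0530180c40301420602880a0520140e6038102070208080430100660180c80301180402200802500804801008c0201080400500000800000c0000100000100284a9d4e892c9e0a812c3452684a0500d369c224d3e24ba6048b49890c97322914147a3cc9b4d8928881a492454a2506954a99229112653214721468e4710f47b2179183389c4454308d028109a0d0645a2c290480d048209a4d262713843b43950c86318cc6326234a84421912892998cc63d1e845e2f0c8e652990c843f1f8a7f3f84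c0802980c063692c83b25186a3619089222b158a743a04e67329bcde42a150a582c04b2422964b223399ca4d2688743828e87411d8ecc3713982e6d09f4fa53e1f025f2f90984c0988c42419e44782e888c7609b10613b9b08773b88b6782970b812d168a723908aa75296cb63359aca703804d45029a8d422795c4412288604710c8662119048552a8cdc6e214ca63241202351a94483f1148a432010082e1708402408d0684128dca2512842e2610e42e20693cc44220ca25130f87c41c8e4c4623047a3d30c0603108806131798864320c4621150a082c160c783c20a85430d8a441e0d095aad2ab158155aacaaa550d4aa92aa150153a9caa653114aa52a9148151a8cc1f51181632208c4630f87c82d1684422110ac5650d870a100a141622086c2a1080782130904161808743a30885860c068c101910381e20484c40c0d882210102816203830a1108841c0e202410402024c0a05140e06280c0a50101c603020c0403080804200804c00,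
  nat_lit 0x3d8cf67b31ecf653d9ec27b4610e28c31c4e25461bc48c4605187109c4c242712c4614118c26129849c130a24481481902812a04d02341a0a68270cd0902a2cd2345a1c4904110d27e1208d254119046927149c8d321cca343998287320d0c890a18c62319e8a634204c68d1210f41469e468d310d08671a24cc2331346662e8cf45e3178bc52f17825e3f88ca793194fe4329342652618c8670990fc33f97cc7e4004fc7d31fd003301d04803e1900672200942301348602c8c9648312c6c52592824b2494943a2128b032509c8361b086c2430d89211b1246541a18923821248062b108856378cac6f0958e83399b8c742c90e85811ccaa6399608732918de3f31508412a104c581c08842e3108a662c968c5b3918ae7531e1066381dcc6a2e188a7631aca0636188c672e989a2530e07031c09c2381318743a18e84e51d8ec63b13884e27189ca223697ca6d2e90da7c19b4be33e9d447d3c90fa7611f0c443e12045f1b88985d2930f25311742793b94ec8321d8b433b20ca6c3c0d065c19b0b82361c86773a90f07209e0b642e11045a2290b45721c8e033a95c2752284b66b21c0dc23594026b2988e05021a87a2281146502b8cd445295c8e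12391cc4723948e33211c661198ccc331994663318cc6a3208b8a412984826e09548052a948a6e1f94a63429206e4240f843513106a5220fc5c11f8d063f2004a42f1100483170584240b90484310d06e31b89823718884a2518942e5130986260b8c2e3c293c7a4278f864f28849e3e0910604220bca442194a24621445851f0a0a39168c723008e4625230c864615147a2b18f4405180bc8201898402808805e3218b022f1e04862218c4786160646291418541e18a03021407442c1508782908a4326148a4a290d10521330883c60d8b4c3205982a2202a424608084c2b0d814c1a10483e6118c80a80a8144143070200528ac0a709015a23028c160550700a40f81581402ac3450d06821a0798341a186820656a886ad518d581c32ad48355854caa,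
  nat_lit 0xa1128542650a848a1508d42a10a853a14ea74c9d4e8d3a9d22753c24f280a9e4b193c9e22792e34f2588964b152c9a0a5934650268a9a478d349a22694045027069c4e19389f2a712424e27029c4f8d3e9f0a7d3e64fa6089f4c05309832612654c24c69849852693324d3654ba2c8974d852e8a1229145451a088a47951e95123d02447a4089b4409106622211c644254a884a0510950a490a6492188924391289932511244aa64a9148850a991a4508448a3489942951c6322150a2429ec48e]
noncomputable def A : List (List (ℕ)) := [A_0]
noncomputable def K_0 : List (ℕ) := [nat_lit 0x25d2d964ae55299449e4d259248f59a7d2eab57a6cfea333a4d16a7379cd1e77358fd065f1195c86870d9ec5e2b3187b0e3b257ebfe02d368cb612c95eafd8ab577bb56f2957bad3ad560ac5571b91b86170581c4d97277db3e0ec75dacd72e373aa5e29f74a6d267d56a0632df66be5eef34ca94eea73f9b5caa148a54f67532b65b6796ea25ea9745a8c8a6b399bd1e3f338ecc66134b5d0a874690c6a3d38904622b1c87cbe2516a0c52331b8845e170e88c2a270c86c1e11098241a0b03814060000]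
noncomputable def K : List (List (ℕ)) := [K_0]
noncomputable def R_0 : List (Rule) := [Rule.mk (nat_lit 1) (nat_lit 38) (Steps.bwd (nat_lit 6) (Steps.fwd (nat_lit 512) (Steps.fwd (nat_lit 3072) Steps.nil))) (nat_lit 20) (nat_lit 1),
  Rule.mk (nat_lit 3) (nat_lit 38) (Steps.bwd (nat_lit 6) (Steps.fwd (nat_lit 1536) (Steps.fwd (nat_lit 3072) Steps.nil))) (nat_lit 34) (nat_lit 1),
  Rule.mk (nat_lit 4) (nat_lit 38) (Steps.bwd (nat_lit 6) (Steps.fwd (nat_lit 2048) (Steps.fwd (nat_lit 3072) Steps.nil))) (nat_lit 38) (nat_lit 1),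
  Rule.mk (nat_lit 5) (nat_lit 48) (Steps.bwd (nat_lit 6) (Steps.fwd (nat_lit 2560) (Steps.fwd (nat_lit 512) (Steps.fwd (nat_lit 3072) Steps.nil)))) (nat_lit 44) (nat_lit 3),
  Rule.mk (nat_lit 4) (nat_lit 38) (Steps.bwd (nat_lit 2) (Steps.fwd (nat_lit 2048) (Steps.fwd (nat_lit 1024) Steps.nil))) (nat_lit 24) (nat_lit 0),
  Rule.mk (nat_lit 6) (nat_lit 58) (Steps.bwd (nat_lit 2) (Steps.bwd (nat_lit 6) (Steps.fwd (nat_lit 1024) (Steps.fwd (nat_lit 3072) (Steps.fwd (nat_lit 1024) Steps.nil))))) (nat_lit 28) (nat_lit 0),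
  Rule.mk (nat_lit 4) (nat_lit 38) (Steps.bwd (nat_lit 1) (Steps.fwd (nat_lit 2048) (Steps.fwd (nat_lit 512) Steps.nil))) (nat_lit 16) (nat_lit 0),
  Rule.mk (nat_lit 6) (nat_lit 38) (Steps.bwd (nat_lit 1) (Steps.fwd (nat_lit 3072) (Steps.fwd (nat_lit 512) Steps.nil))) (nat_lit 20) (nat_lit 0),
  Rule.mk (nat_lit 6) (nat_lit 38) (Steps.bwd (nat_lit 3) (Steps.fwd (nat_lit 3072) (Steps.fwd (nat_lit 1536) Steps.nil))) (nat_lit 34) (nat_lit 0),
  Rule.mk (nat_lit 2) (nat_lit 58) (Steps.bwd (nat_lit 3) (Steps.bwd (nat_lit 2) (Steps.fwd (nat_lit 1536) (Steps.fwd (nat_lit 1024) (Steps.fwd (nat_lit 1536) Steps.nil))))) (nat_lit 22) (nat_lit 1),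
  Rule.mk (nat_lit 1) (nat_lit 38) (Steps.bwd (nat_lit 3) (Steps.bwd (nat_lit 1) (Steps.fwd (nat_lit 1536) Steps.nil))) (nat_lit 14) (nat_lit 1),
  Rule.mk (nat_lit 4) (nat_lit 38) (Steps.bwd (nat_lit 5) (Steps.fwd (nat_lit 2048) (Steps.fwd (nat_lit 2560) Steps.nil))) (nat_lit 36) (nat_lit 1),
  Rule.mk (nat_lit 2) (nat_lit 58) (Steps.bwd (nat_lit 5) (Steps.bwd (nat_lit 2) (Steps.fwd (nat_lit 2560) (Steps.fwd (nat_lit 1024) (Steps.fwd (nat_lit 2560) Steps.nil))))) (nat_lit 26) (nat_lit 1),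
  Rule.mk (nat_lit 1) (nat_lit 38) (Steps.bwd (nat_lit 5) (Steps.bwd (nat_lit 1) (Steps.fwd (nat_lit 2560) Steps.nil))) (nat_lit 18) (nat_lit 1),
  Rule.mk (nat_lit 6) (nat_lit 48) (Steps.bwd (nat_lit 5) (Steps.bwd (nat_lit 1) (Steps.fwd (nat_lit 3072) (Steps.fwd (nat_lit 2560) Steps.nil)))) (nat_lit 44) (nat_lit 4),
  Rule.mk (nat_lit 2) (nat_lit 148) (Steps.fwd (nat_lit 3072) (Steps.bwd (nat_lit 5) (Steps.bwd (nat_lit 2) (Steps.bwd (nat_lit 6) (Steps.fwd (nat_lit 2560) (Steps.fwd (nat_lit 1024) (Steps.fwd (nat_lit 3072) (Steps.fwd (nat_lit 2560) (Steps.fwd (nat_lit 1024) (Steps.fwd (nat_lit 3072) (Steps.fwd (nat_lit 2560) (Steps.fwd (nat_lit 1024) (Steps.bwd (nat_lit 6) (Steps.bwd (nat_lit 5) Steps.nil)))))))))))))) (nat_lit 49) (nat_lit 0),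
  Rule.mk (nat_lit 3) (nat_lit 38) (Steps.bwd (nat_lit 5) (Steps.bwd (nat_lit 3) (Steps.fwd (nat_lit 2560) Steps.nil))) (nat_lit 32) (nat_lit 1),
  Rule.mk (nat_lit 5) (nat_lit 48) (Steps.bwd (nat_lit 6) (Steps.bwd (nat_lit 5) (Steps.fwd (nat_lit 512) (Steps.fwd (nat_lit 3072) Steps.nil)))) (nat_lit 44) (nat_lit 3),
  Rule.mk (nat_lit 1) (nat_lit 48) (Steps.bwd (nat_lit 6) (Steps.bwd (nat_lit 5) (Steps.fwd (nat_lit 3072) (Steps.fwd (nat_lit 2560) Steps.nil)))) (nat_lit 44) (nat_lit 1),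
  Rule.mk (nat_lit 2) (nat_lit 38) (Steps.bwd (nat_lit 4) (Steps.fwd (nat_lit 1024) (Steps.fwd (nat_lit 2048) Steps.nil))) (nat_lit 24) (nat_lit 1),
  Rule.mk (nat_lit 6) (nat_lit 38) (Steps.bwd (nat_lit 4) (Steps.fwd (nat_lit 3072) (Steps.fwd (nat_lit 2048) Steps.nil))) (nat_lit 38) (nat_lit 0),
  Rule.mk (nat_lit 5) (nat_lit 38) (Steps.bwd (nat_lit 4) (Steps.fwd (nat_lit 2560) (Steps.fwd (nat_lit 2048) Steps.nil))) (nat_lit 36) (nat_lit 0),
  Rule.mk (nat_lit 4) (nat_lit 38) (Steps.bwd (nat_lit 1) (Steps.bwd (nat_lit 4) (Steps.fwd (nat_lit 512) Steps.nil))) (nat_lit 16) (nat_lit 0),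
  Rule.mk (nat_lit 6) (nat_lit 48) (Steps.bwd (nat_lit 1) (Steps.fwd (nat_lit 2560) (Steps.fwd (nat_lit 3072) (Steps.bwd (nat_lit 5) Steps.nil)))) (nat_lit 45) (nat_lit 4),
  Rule.mk (nat_lit 4) (nat_lit 38) (Steps.bwd (nat_lit 5) (Steps.fwd (nat_lit 2048) (Steps.bwd (nat_lit 5) Steps.nil))) (nat_lit 36) (nat_lit 1),
  Rule.mk (nat_lit 6) (nat_lit 48) (Steps.bwd (nat_lit 5) (Steps.bwd (nat_lit 1) (Steps.bwd (nat_lit 6) (Steps.fwd (nat_lit 2560) Steps.nil)))) (nat_lit 44) (nat_lit 4),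
  Rule.mk (nat_lit 3) (nat_lit 58) (Steps.bwd (nat_lit 2) (Steps.fwd (nat_lit 1536) (Steps.fwd (nat_lit 1024) (Steps.fwd (nat_lit 1536) (Steps.fwd (nat_lit 1024) Steps.nil))))) (nat_lit 22) (nat_lit 0),
  Rule.mk (nat_lit 3) (nat_lit 58) (Steps.bwd (nat_lit 2) (Steps.fwd (nat_lit 1536) (Steps.fwd (nat_lit 1024) (Steps.bwd (nat_lit 3) (Steps.fwd (nat_lit 1024) Steps.nil))))) (nat_lit 22) (nat_lit 0),
  Rule.mk (nat_lit 5) (nat_lit 58) (Steps.bwd (nat_lit 2) (Steps.fwd (nat_lit 2560) (Steps.fwd (nat_lit 1024) (Steps.bwd (nat_lit 5) (Steps.fwd (nat_lit 1024) Steps.nil))))) (nat_lit 26) (nat_lit 0),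
  Rule.mk (nat_lit 1) (nat_lit 198) (Steps.bwd (nat_lit 2) (Steps.fwd (nat_lit 1536) (Steps.bwd (nat_lit 5) (Steps.fwd (nat_lit 512) (Steps.bwd (nat_lit 2) (Steps.bwd (nat_lit 3) (Steps.bwd (nat_lit 5) (Steps.fwd (nat_lit 512) (Steps.fwd (nat_lit 1024) (Steps.bwd (nat_lit 3) (Steps.fwd (nat_lit 2560) (Steps.bwd (nat_lit 1) (Steps.fwd (nat_lit 1024) (Steps.fwd (nat_lit 1536) (Steps.fwd (nat_lit 2560) (Steps.bwd (nat_lit 1) (Steps.fwd (nat_lit 1024) (Steps.fwd (nat_lit 1536) (Steps.fwd (nat_lit 2560) Steps.nil))))))))))))))))))) (nat_lit 46) (nat_lit 1),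
  Rule.mk (nat_lit 4) (nat_lit 38) (Steps.bwd (nat_lit 2) (Steps.bwd (nat_lit 4) (Steps.fwd (nat_lit 1024) Steps.nil))) (nat_lit 24) (nat_lit 0),
  Rule.mk (nat_lit 1) (nat_lit 38) (Steps.fwd (nat_lit 2048) (Steps.fwd (nat_lit 512) (Steps.bwd (nat_lit 4) Steps.nil))) (nat_lit 16) (nat_lit 1),
  Rule.mk (nat_lit 1) (nat_lit 38) (Steps.bwd (nat_lit 3) (Steps.fwd (nat_lit 512) (Steps.fwd (nat_lit 1536) Steps.nil))) (nat_lit 14) (nat_lit 1),
  Rule.mk (nat_lit 4) (nat_lit 88) (Steps.bwd (nat_lit 3) (Steps.fwd (nat_lit 512) (Steps.bwd (nat_lit 4) (Steps.bwd (nat_lit 3) (Steps.fwd (nat_lit 2048) (Steps.fwd (nat_lit 1536) (Steps.fwd (nat_lit 2048) (Steps.fwd (nat_lit 1536) Steps.nil)))))))) (nat_lit 42) (nat_lit 8),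
  Rule.mk (nat_lit 5) (nat_lit 38) (Steps.bwd (nat_lit 3) (Steps.fwd (nat_lit 2560) (Steps.fwd (nat_lit 1536) Steps.nil))) (nat_lit 32) (nat_lit 0),
  Rule.mk (nat_lit 3) (nat_lit 38) (Steps.bwd (nat_lit 1) (Steps.bwd (nat_lit 3) (Steps.bwd (nat_lit 1) Steps.nil))) (nat_lit 14) (nat_lit 0),
  Rule.mk (nat_lit 5) (nat_lit 38) (Steps.bwd (nat_lit 1) (Steps.fwd (nat_lit 2560) (Steps.fwd (nat_lit 512) Steps.nil))) (nat_lit 18) (nat_lit 0),
  Rule.mk (nat_lit 6) (nat_lit 48) (Steps.fwd (nat_lit 2560) (Steps.fwd (nat_lit 3072) (Steps.bwd (nat_lit 5) (Steps.bwd (nat_lit 1) Steps.nil)))) (nat_lit 44) (nat_lit 2),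
  Rule.mk (nat_lit 4) (nat_lit 88) (Steps.fwd (nat_lit 1536) (Steps.bwd (nat_lit 4) (Steps.fwd (nat_lit 1536) (Steps.fwd (nat_lit 2048) (Steps.bwd (nat_lit 3) (Steps.fwd (nat_lit 2048) (Steps.bwd (nat_lit 3) (Steps.bwd (nat_lit 1) Steps.nil)))))))) (nat_lit 42) (nat_lit 2),
  Rule.mk (nat_lit 3) (nat_lit 38) (Steps.bwd (nat_lit 1) (Steps.fwd (nat_lit 1536) (Steps.fwd (nat_lit 512) Steps.nil))) (nat_lit 14) (nat_lit 0),
  Rule.mk (nat_lit 2) (nat_lit 98) (Steps.bwd (nat_lit 1) (Steps.bwd (nat_lit 2) (Steps.bwd (nat_lit 1) (Steps.fwd (nat_lit 1024) (Steps.fwd (nat_lit 512) (Steps.bwd (nat_lit 2) (Steps.fwd (nat_lit 512) (Steps.fwd (nat_lit 1024) (Steps.fwd (nat_lit 512) Steps.nil))))))))) (nat_lit 12) (nat_lit 0),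
  Rule.mk (nat_lit 3) (nat_lit 38) (Steps.bwd (nat_lit 5) (Steps.fwd (nat_lit 1536) (Steps.fwd (nat_lit 2560) Steps.nil))) (nat_lit 32) (nat_lit 1),
  Rule.mk (nat_lit 2) (nat_lit 58) (Steps.bwd (nat_lit 5) (Steps.bwd (nat_lit 2) (Steps.bwd (nat_lit 5) (Steps.fwd (nat_lit 1024) (Steps.fwd (nat_lit 2560) Steps.nil))))) (nat_lit 26) (nat_lit 1),
  Rule.mk (nat_lit 5) (nat_lit 58) (Steps.bwd (nat_lit 2) (Steps.bwd (nat_lit 5) (Steps.bwd (nat_lit 2) (Steps.fwd (nat_lit 2560) (Steps.fwd (nat_lit 1024) Steps.nil))))) (nat_lit 26) (nat_lit 0),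
  Rule.mk (nat_lit 1) (nat_lit 38) (Steps.bwd (nat_lit 4) (Steps.bwd (nat_lit 1) (Steps.fwd (nat_lit 2048) Steps.nil))) (nat_lit 16) (nat_lit 1),
  Rule.mk (nat_lit 1) (nat_lit 38) (Steps.bwd (nat_lit 3) (Steps.fwd (nat_lit 512) (Steps.bwd (nat_lit 3) Steps.nil))) (nat_lit 14) (nat_lit 1),
  Rule.mk (nat_lit 5) (nat_lit 38) (Steps.bwd (nat_lit 3) (Steps.fwd (nat_lit 2560) (Steps.bwd (nat_lit 3) Steps.nil))) (nat_lit 32) (nat_lit 0),
  Rule.mk (nat_lit 2) (nat_lit 198) (Steps.fwd (nat_lit 512) (Steps.bwd (nat_lit 5) (Steps.bwd (nat_lit 3) (Steps.bwd (nat_lit 2) (Steps.bwd (nat_lit 1) (Steps.fwd (nat_lit 2560) (Steps.bwd (nat_lit 3) (Steps.bwd (nat_lit 2) (Steps.fwd (nat_lit 512) (Steps.fwd (nat_lit 2560) (Steps.fwd (nat_lit 1536) (Steps.fwd (nat_lit 1024) (Steps.fwd (nat_lit 512) (Steps.fwd (nat_lit 2560) (Steps.bwd (nat_lit 3) (Steps.fwd (nat_lit 1024) (Steps.fwd (nat_lit 512) (Steps.bwd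 (nat_lit 5) (Steps.bwd (nat_lit 3) Steps.nil))))))))))))))))))) (nat_lit 47) (nat_lit 3),
  Rule.mk (nat_lit 2) (nat_lit 38) (Steps.fwd (nat_lit 2048) (Steps.fwd (nat_lit 1024) (Steps.bwd (nat_lit 4) Steps.nil))) (nat_lit 24) (nat_lit 1),
  Rule.mk (nat_lit 1) (nat_lit 38) (Steps.bwd (nat_lit 4) (Steps.fwd (nat_lit 512) (Steps.bwd (nat_lit 4) Steps.nil))) (nat_lit 16) (nat_lit 1),
  Rule.mk (nat_lit 5) (nat_lit 38) (Steps.bwd (nat_lit 4) (Steps.fwd (nat_lit 2560) (Steps.bwd (nat_lit 4) Steps.nil))) (nat_lit 36) (nat_lit 0),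
  Rule.mk (nat_lit 2) (nat_lit 58) (Steps.bwd (nat_lit 6) (Steps.bwd (nat_lit 2) (Steps.fwd (nat_lit 3072) (Steps.fwd (nat_lit 1024) (Steps.fwd (nat_lit 3072) Steps.nil))))) (nat_lit 28) (nat_lit 1),
  Rule.mk (nat_lit 5) (nat_lit 48) (Steps.bwd (nat_lit 6) (Steps.fwd (nat_lit 2560) (Steps.bwd (nat_lit 1) (Steps.fwd (nat_lit 3072) Steps.nil)))) (nat_lit 44) (nat_lit 3),
  Rule.mk (nat_lit 6) (nat_lit 38) (Steps.bwd (nat_lit 1) (Steps.bwd (nat_lit 6) (Steps.fwd (nat_lit 512) Steps.nil))) (nat_lit 20) (nat_lit 0),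
  Rule.mk (nat_lit 6) (nat_lit 38) (Steps.bwd (nat_lit 4) (Steps.fwd (nat_lit 3072) (Steps.bwd (nat_lit 4) Steps.nil))) (nat_lit 38) (nat_lit 0),
  Rule.mk (nat_lit 4) (nat_lit 38) (Steps.bwd (nat_lit 5) (Steps.bwd (nat_lit 4) (Steps.bwd (nat_lit 5) Steps.nil))) (nat_lit 36) (nat_lit 1),
  Rule.mk (nat_lit 6) (nat_lit 48) (Steps.bwd (nat_lit 5) (Steps.fwd (nat_lit 3072) (Steps.bwd (nat_lit 5) (Steps.bwd (nat_lit 1) Steps.nil)))) (nat_lit 44) (nat_lit 2),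
  Rule.mk (nat_lit 4) (nat_lit 38) (Steps.bwd (nat_lit 1) (Steps.fwd (nat_lit 2048) (Steps.bwd (nat_lit 1) Steps.nil))) (nat_lit 16) (nat_lit 0),
  Rule.mk (nat_lit 6) (nat_lit 38) (Steps.bwd (nat_lit 3) (Steps.fwd (nat_lit 3072) (Steps.bwd (nat_lit 3) Steps.nil))) (nat_lit 34) (nat_lit 0),
  Rule.mk (nat_lit 3) (nat_lit 38) (Steps.bwd (nat_lit 5) (Steps.bwd (nat_lit 3) (Steps.bwd (nat_lit 5) Steps.nil))) (nat_lit 32) (nat_lit 1),
  Rule.mk (nat_lit 6) (nat_lit 48) (Steps.bwd (nat_lit 5) (Steps.fwd (nat_lit 3072) (Steps.bwd (nat_lit 5) (Steps.fwd (nat_lit 512) Steps.nil)))) (nat_lit 44) (nat_lit 2),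
  Rule.mk (nat_lit 3) (nat_lit 38) (Steps.bwd (nat_lit 1) (Steps.fwd (nat_lit 1536) (Steps.bwd (nat_lit 1) Steps.nil))) (nat_lit 14) (nat_lit 0),
  Rule.mk (nat_lit 6) (nat_lit 48) (Steps.bwd (nat_lit 5) (Steps.bwd (nat_lit 1) (Steps.fwd (nat_lit 3072) (Steps.bwd (nat_lit 5) Steps.nil)))) (nat_lit 44) (nat_lit 4),
  Rule.mk (nat_lit 6) (nat_lit 58) (Steps.bwd (nat_lit 2) (Steps.fwd (nat_lit 3072) (Steps.bwd (nat_lit 2) (Steps.fwd (nat_lit 3072) (Steps.fwd (nat_lit 1024) Steps.nil))))) (nat_lit 28) (nat_lit 0)]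
noncomputable def R_1 : List (Rule) := [Rule.mk (nat_lit 1) (nat_lit 38) (Steps.fwd (nat_lit 3072) (Steps.fwd (nat_lit 512) (Steps.bwd (nat_lit 6) Steps.nil))) (nat_lit 20) (nat_lit 1),
  Rule.mk (nat_lit 5) (nat_lit 48) (Steps.fwd (nat_lit 512) (Steps.fwd (nat_lit 3072) (Steps.fwd (nat_lit 2560) (Steps.bwd (nat_lit 6) Steps.nil)))) (nat_lit 44) (nat_lit 0),
  Rule.mk (nat_lit 0) (nat_lit 158) (Steps.fwd (nat_lit 3072) (Steps.bwd (nat_lit 5) (Steps.bwd (nat_lit 2) (Steps.fwd (nat_lit 3072) (Steps.fwd (nat_lit 2560) (Steps.fwd (nat_lit 1024) (Steps.fwd (nat_lit 3072) (Steps.bwd (nat_lit 5) (Steps.fwd (nat_lit 1024) (Steps.bwd (nat_lit 6) (Steps.fwd (nat_lit 2560) (Steps.bwd (nat_lit 2) (Steps.fwd (nat_lit 3072) (Steps.fwd (nat_lit 2560) (Steps.fwd (nat_lit 1024) Steps.nil))))))))))))))) (nat_lit 49) (nat_lit 0),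
  Rule.mk (nat_lit 0) (nat_lit 38) (Steps.bwd (nat_lit 1) (Steps.fwd (nat_lit 0) (Steps.bwd (nat_lit 1) Steps.nil))) (nat_lit 52) (nat_lit 0),
  Rule.mk (nat_lit 0) (nat_lit 38) (Steps.bwd (nat_lit 3) (Steps.fwd (nat_lit 0) (Steps.bwd (nat_lit 3) Steps.nil))) (nat_lit 52) (nat_lit 0),
  Rule.mk (nat_lit 0) (nat_lit 38) (Steps.fwd (nat_lit 2560) (Steps.fwd (nat_lit 0) (Steps.bwd (nat_lit 5) Steps.nil))) (nat_lit 52) (nat_lit 0),
  Rule.mk (nat_lit 0) (nat_lit 38) (Steps.bwd (nat_lit 3) (Steps.fwd (nat_lit 0) (Steps.fwd (nat_lit 1536) Steps.nil))) (nat_lit 52) (nat_lit 0),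
  Rule.mk (nat_lit 0) (nat_lit 38) (Steps.bwd (nat_lit 5) (Steps.fwd (nat_lit 0) (Steps.fwd (nat_lit 2560) Steps.nil))) (nat_lit 52) (nat_lit 0),
  Rule.mk (nat_lit 0) (nat_lit 38) (Steps.fwd (nat_lit 2048) (Steps.fwd (nat_lit 0) (Steps.bwd (nat_lit 4) Steps.nil))) (nat_lit 52) (nat_lit 0),
  Rule.mk (nat_lit 0) (nat_lit 38) (Steps.bwd (nat_lit 5) (Steps.fwd (nat_lit 0) (Steps.bwd (nat_lit 5) Steps.nil))) (nat_lit 52) (nat_lit 0),
  Rule.mk (nat_lit 6) (nat_lit 28) (Steps.bwd (nat_lit 0) (Steps.fwd (nat_lit 3072) Steps.nil)) (nat_lit 52) (nat_lit 0),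
  Rule.mk (nat_lit 0) (nat_lit 38) (Steps.bwd (nat_lit 6) (Steps.bwd (nat_lit 0) (Steps.fwd (nat_lit 3072) Steps.nil))) (nat_lit 52) (nat_lit 0),
  Rule.mk (nat_lit 0) (nat_lit 38) (Steps.fwd (nat_lit 2048) (Steps.fwd (nat_lit 0) (Steps.fwd (nat_lit 2048) Steps.nil))) (nat_lit 52) (nat_lit 0),
  Rule.mk (nat_lit 6) (nat_lit 28) (Steps.bwd (nat_lit 0) (Steps.bwd (nat_lit 6) Steps.nil)) (nat_lit 52) (nat_lit 0),
  Rule.mk (nat_lit 2) (nat_lit 28) (Steps.bwd (nat_lit 0) (Steps.fwd (nat_lit 1024) Steps.nil)) (nat_lit 52) (nat_lit 0),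
  Rule.mk (nat_lit 5) (nat_lit 58) (Steps.bwd (nat_lit 2) (Steps.bwd (nat_lit 5) (Steps.fwd (nat_lit 1024) (Steps.fwd (nat_lit 2560) (Steps.fwd (nat_lit 1024) Steps.nil))))) (nat_lit 26) (nat_lit 0),
  Rule.mk (nat_lit 6) (nat_lit 58) (Steps.bwd (nat_lit 2) (Steps.bwd (nat_lit 6) (Steps.bwd (nat_lit 2) (Steps.fwd (nat_lit 3072) (Steps.fwd (nat_lit 1024) Steps.nil))))) (nat_lit 28) (nat_lit 0),
  Rule.mk (nat_lit 1) (nat_lit 98) (Steps.bwd (nat_lit 2) (Steps.bwd (nat_lit 1) (Steps.bwd (nat_lit 2) (Steps.fwd (nat_lit 512) (Steps.fwd (nat_lit 1024) (Steps.bwd (nat_lit 1) (Steps.fwd (nat_lit 1024) (Steps.fwd (nat_lit 512) (Steps.fwd (nat_lit 1024) Steps.nil))))))))) (nat_lit 12) (nat_lit 1),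
  Rule.mk (nat_lit 2) (nat_lit 248) (Steps.bwd (nat_lit 4) (Steps.bwd (nat_lit 3) (Steps.fwd (nat_lit 2048) (Steps.fwd (nat_lit 1536) (Steps.bwd (nat_lit 2) (Steps.bwd (nat_lit 4) (Steps.fwd (nat_lit 1536) (Steps.fwd (nat_lit 2048) (Steps.bwd (nat_lit 3) (Steps.fwd (nat_lit 1024) (Steps.bwd (nat_lit 4) (Steps.bwd (nat_lit 3) (Steps.fwd (nat_lit 2048) (Steps.fwd (nat_lit 1536) (Steps.fwd (nat_lit 1024) (Steps.fwd (nat_lit 2048) (Steps.fwd (nat_lit 1536) (Steps.bwd (nat_lit 4) (Steps.bwd (nat_lit 3) (Steps.fwd (nat_lit 1024) (Steps.fwd (nat_lit 2048) (Steps.bwd (nat_lit 3) (Steps.bwd (nat_lit 4) (Steps.fwd (nat_lit 1536) Steps.nil)))))))))))))))))))))))) (nat_lit 51) (nat_lit 0),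
  Rule.mk (nat_lit 2) (nat_lit 58) (Steps.bwd (nat_lit 3) (Steps.fwd (nat_lit 1024) (Steps.bwd (nat_lit 3) (Steps.bwd (nat_lit 2) (Steps.fwd (nat_lit 1536) Steps.nil))))) (nat_lit 22) (nat_lit 1),
  Rule.mk (nat_lit 2) (nat_lit 38) (Steps.bwd (nat_lit 4) (Steps.fwd (nat_lit 1024) (Steps.bwd (nat_lit 4) Steps.nil))) (nat_lit 24) (nat_lit 1),
  Rule.mk (nat_lit 3) (nat_lit 88) (Steps.bwd (nat_lit 4) (Steps.bwd (nat_lit 3) (Steps.bwd (nat_lit 4) (Steps.bwd (nat_lit 3) (Steps.fwd (nat_lit 512) (Steps.fwd (nat_lit 2048) (Steps.fwd (nat_lit 1536) (Steps.bwd (nat_lit 4) Steps.nil)))))))) (nat_lit 42) (nat_lit 5),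
  Rule.mk (nat_lit 3) (nat_lit 58) (Steps.bwd (nat_lit 2) (Steps.bwd (nat_lit 3) (Steps.fwd (nat_lit 1024) (Steps.fwd (nat_lit 1536) (Steps.fwd (nat_lit 1024) Steps.nil))))) (nat_lit 22) (nat_lit 0),
  Rule.mk (nat_lit 6) (nat_lit 38) (Steps.fwd (nat_lit 2048) (Steps.bwd (nat_lit 6) (Steps.fwd (nat_lit 2048) Steps.nil))) (nat_lit 38) (nat_lit 0),
  Rule.mk (nat_lit 3) (nat_lit 38) (Steps.bwd (nat_lit 1) (Steps.bwd (nat_lit 3) (Steps.fwd (nat_lit 512) Steps.nil))) (nat_lit 14) (nat_lit 0),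
  Rule.mk (nat_lit 1) (nat_lit 38) (Steps.bwd (nat_lit 6) (Steps.fwd (nat_lit 512) (Steps.bwd (nat_lit 6) Steps.nil))) (nat_lit 20) (nat_lit 1),
  Rule.mk (nat_lit 3) (nat_lit 38) (Steps.fwd (nat_lit 512) (Steps.fwd (nat_lit 1536) (Steps.bwd (nat_lit 1) Steps.nil))) (nat_lit 14) (nat_lit 0),
  Rule.mk (nat_lit 6) (nat_lit 38) (Steps.bwd (nat_lit 3) (Steps.bwd (nat_lit 6) (Steps.bwd (nat_lit 3) Steps.nil))) (nat_lit 34) (nat_lit 0),
  Rule.mk (nat_lit 4) (nat_lit 88) (Steps.bwd (nat_lit 3) (Steps.fwd (nat_lit 512) (Steps.fwd (nat_lit 2048) (Steps.bwd (nat_lit 3) (Steps.bwd (nat_lit 4) (Steps.bwd (nat_lit 3) (Steps.fwd (nat_lit 2048) (Steps.fwd (nat_lit 1536) Steps.nil)))))))) (nat_lit 42) (nat_lit 8),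
  Rule.mk (nat_lit 3) (nat_lit 38) (Steps.bwd (nat_lit 6) (Steps.bwd (nat_lit 3) (Steps.bwd (nat_lit 6) Steps.nil))) (nat_lit 34) (nat_lit 1),
  Rule.mk (nat_lit 5) (nat_lit 48) (Steps.bwd (nat_lit 6) (Steps.fwd (nat_lit 2560) (Steps.fwd (nat_lit 512) (Steps.bwd (nat_lit 6) Steps.nil)))) (nat_lit 44) (nat_lit 3),
  Rule.mk (nat_lit 1) (nat_lit 38) (Steps.bwd (nat_lit 6) (Steps.bwd (nat_lit 1) (Steps.bwd (nat_lit 6) Steps.nil))) (nat_lit 20) (nat_lit 1),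
  Rule.mk (nat_lit 4) (nat_lit 38) (Steps.bwd (nat_lit 6) (Steps.bwd (nat_lit 4) (Steps.bwd (nat_lit 6) Steps.nil))) (nat_lit 38) (nat_lit 1),
  Rule.mk (nat_lit 5) (nat_lit 48) (Steps.bwd (nat_lit 6) (Steps.fwd (nat_lit 2560) (Steps.bwd (nat_lit 1) (Steps.bwd (nat_lit 6) Steps.nil)))) (nat_lit 44) (nat_lit 3),
  Rule.mk (nat_lit 4) (nat_lit 88) (Steps.bwd (nat_lit 3) (Steps.fwd (nat_lit 2048) (Steps.fwd (nat_lit 1536) (Steps.fwd (nat_lit 512) (Steps.fwd (nat_lit 2048) (Steps.fwd (nat_lit 1536) (Steps.bwd (nat_lit 4) (Steps.fwd (nat_lit 1536) Steps.nil)))))))) (nat_lit 42) (nat_lit 6),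
  Rule.mk (nat_lit 1) (nat_lit 88) (Steps.bwd (nat_lit 3) (Steps.fwd (nat_lit 2048) (Steps.fwd (nat_lit 1536) (Steps.bwd (nat_lit 4) (Steps.bwd (nat_lit 3) (Steps.bwd (nat_lit 4) (Steps.bwd (nat_lit 3) (Steps.fwd (nat_lit 2048) Steps.nil)))))))) (nat_lit 43) (nat_lit 0),
  Rule.mk (nat_lit 5) (nat_lit 58) (Steps.bwd (nat_lit 2) (Steps.fwd (nat_lit 2560) (Steps.fwd (nat_lit 1024) (Steps.fwd (nat_lit 2560) (Steps.fwd (nat_lit 1024) Steps.nil))))) (nat_lit 26) (nat_lit 0),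
  Rule.mk (nat_lit 2) (nat_lit 198) (Steps.bwd (nat_lit 1) (Steps.bwd (nat_lit 5) (Steps.fwd (nat_lit 1536) (Steps.bwd (nat_lit 2) (Steps.fwd (nat_lit 512) (Steps.fwd (nat_lit 2560) (Steps.bwd (nat_lit 3) (Steps.bwd (nat_lit 2) (Steps.fwd (nat_lit 512) (Steps.bwd (nat_lit 5) (Steps.bwd (nat_lit 3) (Steps.bwd (nat_lit 2) (Steps.bwd (nat_lit 1) (Steps.bwd (nat_lit 5) (Steps.bwd (nat_lit 3) (Steps.bwd (nat_lit 2) (Steps.bwd (nat_lit 1) (Steps.fwd (nat_lit 2560) (Steps.bwd (nat_lit 3) Steps.nil))))))))))))))))))) (nat_lit 47) (nat_lit 3),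
  Rule.mk (nat_lit 1) (nat_lit 38) (Steps.bwd (nat_lit 5) (Steps.bwd (nat_lit 1) (Steps.bwd (nat_lit 5) Steps.nil))) (nat_lit 18) (nat_lit 1),
  Rule.mk (nat_lit 4) (nat_lit 38) (Steps.bwd (nat_lit 1) (Steps.bwd (nat_lit 4) (Steps.bwd (nat_lit 1) Steps.nil))) (nat_lit 16) (nat_lit 0),
  Rule.mk (nat_lit 2) (nat_lit 98) (Steps.bwd (nat_lit 1) (Steps.fwd (nat_lit 1024) (Steps.fwd (nat_lit 512) (Steps.fwd (nat_lit 1024) (Steps.fwd (nat_lit 512) (Steps.bwd (nat_lit 2) (Steps.bwd (nat_lit 1) (Steps.bwd (nat_lit 2) (Steps.bwd (nat_lit 1) Steps.nil))))))))) (nat_lit 12) (nat_lit 0),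
  Rule.mk (nat_lit 3) (nat_lit 58) (Steps.bwd (nat_lit 2) (Steps.bwd (nat_lit 3) (Steps.bwd (nat_lit 2) (Steps.fwd (nat_lit 1536) (Steps.bwd (nat_lit 2) Steps.nil))))) (nat_lit 22) (nat_lit 0),
  Rule.mk (nat_lit 2) (nat_lit 38) (Steps.bwd (nat_lit 4) (Steps.bwd (nat_lit 2) (Steps.fwd (nat_lit 2048) Steps.nil))) (nat_lit 24) (nat_lit 1),
  Rule.mk (nat_lit 1) (nat_lit 88) (Steps.bwd (nat_lit 3) (Steps.bwd (nat_lit 4) (Steps.fwd (nat_lit 1536) (Steps.fwd (nat_lit 2048) (Steps.fwd (nat_lit 1536) (Steps.bwd (nat_lit 4) (Steps.bwd (nat_lit 3) (Steps.fwd (nat_lit 2048) Steps.nil)))))))) (nat_lit 43) (nat_lit 0),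
  Rule.mk (nat_lit 3) (nat_lit 58) (Steps.bwd (nat_lit 2) (Steps.bwd (nat_lit 3) (Steps.fwd (nat_lit 1024) (Steps.bwd (nat_lit 3) (Steps.bwd (nat_lit 2) Steps.nil))))) (nat_lit 22) (nat_lit 0),
  Rule.mk (nat_lit 1) (nat_lit 98) (Steps.bwd (nat_lit 2) (Steps.fwd (nat_lit 512) (Steps.fwd (nat_lit 1024) (Steps.fwd (nat_lit 512) (Steps.fwd (nat_lit 1024) (Steps.fwd (nat_lit 512) (Steps.bwd (nat_lit 2) (Steps.bwd (nat_lit 1) (Steps.fwd (nat_lit 1024) Steps.nil))))))))) (nat_lit 12) (nat_lit 1),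
  Rule.mk (nat_lit 4) (nat_lit 248) (Steps.bwd (nat_lit 2) (Steps.bwd (nat_lit 3) (Steps.bwd (nat_lit 4) (Steps.fwd (nat_lit 1536) (Steps.fwd (nat_lit 2048) (Steps.bwd (nat_lit 2) (Steps.bwd (nat_lit 3) (Steps.bwd (nat_lit 4) (Steps.bwd (nat_lit 3) (Steps.fwd (nat_lit 2048) (Steps.bwd (nat_lit 2) (Steps.fwd (nat_lit 1536) (Steps.fwd (nat_lit 2048) (Steps.fwd (nat_lit 1536) (Steps.fwd (nat_lit 2048) (Steps.fwd (nat_lit 1024) (Steps.fwd (nat_lit 1536) (Steps.fwd (nat_lit 2048) (Steps.fwd (nat_lit 1536) (Steps.bwd (nat_lit 4) (Steps.bwd (nat_lit 2) (Steps.bwd (nat_lit 3) (Steps.fwd (nat_lit 2048) (Steps.fwd (nat_lit 1536) Steps.nil)))))))))))))))))))))))) (nat_lit 50) (nat_lit 0),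
  Rule.mk (nat_lit 2) (nat_lit 58) (Steps.bwd (nat_lit 5) (Steps.fwd (nat_lit 1024) (Steps.bwd (nat_lit 5) (Steps.bwd (nat_lit 2) (Steps.bwd (nat_lit 5) Steps.nil))))) (nat_lit 26) (nat_lit 1),
  Rule.mk (nat_lit 5) (nat_lit 38) (Steps.bwd (nat_lit 1) (Steps.bwd (nat_lit 5) (Steps.bwd (nat_lit 1) Steps.nil))) (nat_lit 18) (nat_lit 0),
  Rule.mk (nat_lit 1) (nat_lit 88) (Steps.bwd (nat_lit 3) (Steps.bwd (nat_lit 4) (Steps.bwd (nat_lit 3) (Steps.fwd (nat_lit 2048) (Steps.fwd (nat_lit 1536) (Steps.bwd (nat_lit 4) (Steps.fwd (nat_lit 1536) (Steps.fwd (nat_lit 2048) Steps.nil)))))))) (nat_lit 43) (nat_lit 0),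
  Rule.mk (nat_lit 3) (nat_lit 88) (Steps.bwd (nat_lit 4) (Steps.bwd (nat_lit 3) (Steps.bwd (nat_lit 4) (Steps.bwd (nat_lit 3) (Steps.bwd (nat_lit 1) (Steps.fwd (nat_lit 2048) (Steps.fwd (nat_lit 1536) (Steps.bwd (nat_lit 4) Steps.nil)))))))) (nat_lit 42) (nat_lit 5),
  Rule.mk (nat_lit 6) (nat_lit 58) (Steps.bwd (nat_lit 2) (Steps.fwd (nat_lit 3072) (Steps.fwd (nat_lit 1024) (Steps.bwd (nat_lit 6) (Steps.fwd (nat_lit 1024) Steps.nil))))) (nat_lit 28) (nat_lit 0),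
  Rule.mk (nat_lit 1) (nat_lit 98) (Steps.bwd (nat_lit 2) (Steps.fwd (nat_lit 512) (Steps.fwd (nat_lit 1024) (Steps.bwd (nat_lit 1) (Steps.fwd (nat_lit 1024) (Steps.fwd (nat_lit 512) (Steps.bwd (nat_lit 2) (Steps.bwd (nat_lit 1) (Steps.fwd (nat_lit 1024) Steps.nil))))))))) (nat_lit 12) (nat_lit 1),
  Rule.mk (nat_lit 1) (nat_lit 98) (Steps.bwd (nat_lit 2) (Steps.fwd (nat_lit 512) (Steps.fwd (nat_lit 1024) (Steps.fwd (nat_lit 512) (Steps.fwd (nat_lit 1024) (Steps.bwd (nat_lit 1) (Steps.bwd (nat_lit 2) (Steps.bwd (nat_lit 1) (Steps.fwd (nat_lit 1024) Steps.nil))))))))) (nat_lit 12) (nat_lit 1),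
  Rule.mk (nat_lit 5) (nat_lit 58) (Steps.bwd (nat_lit 2) (Steps.fwd (nat_lit 2560) (Steps.bwd (nat_lit 2) (Steps.bwd (nat_lit 5) (Steps.fwd (nat_lit 1024) Steps.nil))))) (nat_lit 26) (nat_lit 0),
  Rule.mk (nat_lit 3) (nat_lit 58) (Steps.bwd (nat_lit 2) (Steps.fwd (nat_lit 1536) (Steps.bwd (nat_lit 2) (Steps.bwd (nat_lit 3) (Steps.fwd (nat_lit 1024) Steps.nil))))) (nat_lit 22) (nat_lit 0),
  Rule.mk (nat_lit 2) (nat_lit 58) (Steps.bwd (nat_lit 5) (Steps.bwd (nat_lit 2) (Steps.fwd (nat_lit 2560) (Steps.fwd (nat_lit 1024) (Steps.bwd (nat_lit 5) Steps.nil))))) (nat_lit 26) (nat_lit 1),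
  Rule.mk (nat_lit 4) (nat_lit 38) (Steps.bwd (nat_lit 2) (Steps.fwd (nat_lit 2048) (Steps.bwd (nat_lit 2) Steps.nil))) (nat_lit 24) (nat_lit 0),
  Rule.mk (nat_lit 2) (nat_lit 198) (Steps.bwd (nat_lit 1) (Steps.fwd (nat_lit 2560) (Steps.fwd (nat_lit 1536) (Steps.bwd (nat_lit 2) (Steps.bwd (nat_lit 1) (Steps.fwd (nat_lit 2560) (Steps.fwd (nat_lit 1536) (Steps.fwd (nat_lit 1024) (Steps.fwd (nat_lit 512) (Steps.fwd (nat_lit 2560) (Steps.fwd (nat_lit 1536) (Steps.bwd (nat_lit 2) (Steps.fwd (nat_lit 512) (Steps.fwd (nat_lit 2560) (Steps.fwd (nat_lit 1536) (Steps.bwd (nat_lit 2) (Steps.bwd (nat_lit 1) (Steps.bwd (nat_lit 5) (Steps.fwd (nat_lit 1536) Steps.nil))))))))))))))))))) (nat_lit 47) (nat_lit 3),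
  Rule.mk (nat_lit 2) (nat_lit 58) (Steps.bwd (nat_lit 5) (Steps.fwd (nat_lit 1024) (Steps.fwd (nat_lit 2560) (Steps.bwd (nat_lit 2) (Steps.bwd (nat_lit 5) Steps.nil))))) (nat_lit 26) (nat_lit 1),
  Rule.mk (nat_lit 4) (nat_lit 38) (Steps.fwd (nat_lit 1024) (Steps.fwd (nat_lit 2048) (Steps.bwd (nat_lit 2) Steps.nil))) (nat_lit 24) (nat_lit 0),
  Rule.mk (nat_lit 1) (nat_lit 38) (Steps.bwd (nat_lit 5) (Steps.fwd (nat_lit 512) (Steps.bwd (nat_lit 5) Steps.nil))) (nat_lit 18) (nat_lit 1),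
  Rule.mk (nat_lit 2) (nat_lit 38) (Steps.bwd (nat_lit 4) (Steps.bwd (nat_lit 2) (Steps.bwd (nat_lit 4) Steps.nil))) (nat_lit 24) (nat_lit 1),
  Rule.mk (nat_lit 3) (nat_lit 88) (Steps.bwd (nat_lit 4) (Steps.fwd (nat_lit 1536) (Steps.bwd (nat_lit 1) (Steps.fwd (nat_lit 2048) (Steps.fwd (nat_lit 1536) (Steps.fwd (nat_lit 2048) (Steps.fwd (nat_lit 1536) (Steps.bwd (nat_lit 4) Steps.nil)))))))) (nat_lit 42) (nat_lit 7)]
noncomputable def R_2 : List (Rule) := [Rule.mk (nat_lit 5) (nat_lit 38) (Steps.fwd (nat_lit 1536) (Steps.fwd (nat_lit 2560) (Steps.bwd (nat_lit 3) Steps.nil))) (nat_lit 32) (nat_lit 0),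
  Rule.mk (nat_lit 5) (nat_lit 38) (Steps.bwd (nat_lit 1) (Steps.fwd (nat_lit 2560) (Steps.bwd (nat_lit 1) Steps.nil))) (nat_lit 18) (nat_lit 0),
  Rule.mk (nat_lit 1) (nat_lit 98) (Steps.bwd (nat_lit 2) (Steps.fwd (nat_lit 512) (Steps.bwd (nat_lit 2) (Steps.fwd (nat_lit 512) (Steps.bwd (nat_lit 2) (Steps.fwd (nat_lit 512) (Steps.fwd (nat_lit 1024) (Steps.fwd (nat_lit 512) (Steps.fwd (nat_lit 1024) Steps.nil))))))))) (nat_lit 12) (nat_lit 1),
  Rule.mk (nat_lit 2) (nat_lit 98) (Steps.bwd (nat_lit 1) (Steps.bwd (nat_lit 2) (Steps.bwd (nat_lit 1) (Steps.bwd (nat_lit 2) (Steps.fwd (nat_lit 512) (Steps.bwd (nat_lit 2) (Steps.bwd (nat_lit 1) (Steps.fwd (nat_lit 1024) (Steps.bwd (nat_lit 1) Steps.nil))))))))) (nat_lit 12) (nat_lit 0),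
  Rule.mk (nat_lit 2) (nat_lit 98) (Steps.bwd (nat_lit 1) (Steps.fwd (nat_lit 1024) (Steps.bwd (nat_lit 1) (Steps.fwd (nat_lit 1024) (Steps.bwd (nat_lit 1) (Steps.bwd (nat_lit 2) (Steps.fwd (nat_lit 512) (Steps.bwd (nat_lit 2) (Steps.fwd (nat_lit 512) Steps.nil))))))))) (nat_lit 12) (nat_lit 0),
  Rule.mk (nat_lit 2) (nat_lit 58) (Steps.bwd (nat_lit 5) (Steps.fwd (nat_lit 1024) (Steps.fwd (nat_lit 2560) (Steps.bwd (nat_lit 2) (Steps.fwd (nat_lit 2560) Steps.nil))))) (nat_lit 26) (nat_lit 1),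
  Rule.mk (nat_lit 3) (nat_lit 198) (Steps.bwd (nat_lit 5) (Steps.bwd (nat_lit 1) (Steps.fwd (nat_lit 1024) (Steps.fwd (nat_lit 1536) (Steps.fwd (nat_lit 2560) (Steps.fwd (nat_lit 512) (Steps.bwd (nat_lit 2) (Steps.bwd (nat_lit 3) (Steps.bwd (nat_lit 5) (Steps.fwd (nat_lit 512) (Steps.fwd (nat_lit 1024) (Steps.bwd (nat_lit 3) (Steps.fwd (nat_lit 2560) (Steps.bwd (nat_lit 1) (Steps.fwd (nat_lit 1024) (Steps.fwd (nat_lit 1536) (Steps.fwd (nat_lit 2560) (Steps.fwd (nat_lit 512) (Steps.bwd (nat_lit 2) Steps.nil))))))))))))))))))) (nat_lit 46) (nat_lit 3),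
  Rule.mk (nat_lit 2) (nat_lit 98) (Steps.bwd (nat_lit 1) (Steps.fwd (nat_lit 1024) (Steps.fwd (nat_lit 512) (Steps.bwd (nat_lit 2) (Steps.fwd (nat_lit 512) (Steps.bwd (nat_lit 2) (Steps.bwd (nat_lit 1) (Steps.bwd (nat_lit 2) (Steps.fwd (nat_lit 512) Steps.nil))))))))) (nat_lit 12) (nat_lit 0),
  Rule.mk (nat_lit 5) (nat_lit 48) (Steps.bwd (nat_lit 6) (Steps.bwd (nat_lit 5) (Steps.bwd (nat_lit 1) (Steps.fwd (nat_lit 3072) Steps.nil)))) (nat_lit 44) (nat_lit 3),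
  Rule.mk (nat_lit 6) (nat_lit 48) (Steps.bwd (nat_lit 5) (Steps.bwd (nat_lit 1) (Steps.bwd (nat_lit 6) (Steps.bwd (nat_lit 5) Steps.nil)))) (nat_lit 44) (nat_lit 4),
  Rule.mk (nat_lit 6) (nat_lit 58) (Steps.bwd (nat_lit 2) (Steps.fwd (nat_lit 3072) (Steps.bwd (nat_lit 2) (Steps.bwd (nat_lit 6) (Steps.fwd (nat_lit 1024) Steps.nil))))) (nat_lit 28) (nat_lit 0),
  Rule.mk (nat_lit 6) (nat_lit 148) (Steps.fwd (nat_lit 2560) (Steps.fwd (nat_lit 1024) (Steps.bwd (nat_lit 6) (Steps.bwd (nat_lit 5) (Steps.bwd (nat_lit 2) (Steps.fwd (nat_lit 3072) (Steps.fwd (nat_lit 2560) (Steps.bwd (nat_lit 2) (Steps.fwd (nat_lit 3072) (Steps.bwd (nat_lit 5) (Steps.bwd (nat_lit 2) (Steps.bwd (nat_lit 6) (Steps.bwd (nat_lit 5) (Steps.bwd (nat_lit 2) Steps.nil)))))))))))))) (nat_lit 49) (nat_lit 1),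
  Rule.mk (nat_lit 6) (nat_lit 38) (Steps.fwd (nat_lit 512) (Steps.bwd (nat_lit 6) (Steps.fwd (nat_lit 512) Steps.nil))) (nat_lit 20) (nat_lit 0),
  Rule.mk (nat_lit 6) (nat_lit 38) (Steps.bwd (nat_lit 3) (Steps.bwd (nat_lit 6) (Steps.fwd (nat_lit 1536) Steps.nil))) (nat_lit 34) (nat_lit 0),
  Rule.mk (nat_lit 6) (nat_lit 38) (Steps.fwd (nat_lit 2048) (Steps.bwd (nat_lit 6) (Steps.bwd (nat_lit 4) Steps.nil))) (nat_lit 38) (nat_lit 0),
  Rule.mk (nat_lit 6) (nat_lit 48) (Steps.fwd (nat_lit 2560) (Steps.fwd (nat_lit 512) (Steps.bwd (nat_lit 6) (Steps.fwd (nat_lit 2560) Steps.nil)))) (nat_lit 44) (nat_lit 4),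
  Rule.mk (nat_lit 6) (nat_lit 48) (Steps.fwd (nat_lit 2560) (Steps.bwd (nat_lit 6) (Steps.bwd (nat_lit 5) (Steps.bwd (nat_lit 1) Steps.nil)))) (nat_lit 44) (nat_lit 2),
  Rule.mk (nat_lit 6) (nat_lit 48) (Steps.bwd (nat_lit 5) (Steps.fwd (nat_lit 3072) (Steps.fwd (nat_lit 2560) (Steps.fwd (nat_lit 512) Steps.nil)))) (nat_lit 44) (nat_lit 2),
  Rule.mk (nat_lit 2) (nat_lit 58) (Steps.bwd (nat_lit 5) (Steps.bwd (nat_lit 2) (Steps.bwd (nat_lit 5) (Steps.bwd (nat_lit 2) (Steps.fwd (nat_lit 2560) Steps.nil))))) (nat_lit 26) (nat_lit 1),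
  Rule.mk (nat_lit 6) (nat_lit 38) (Steps.bwd (nat_lit 1) (Steps.fwd (nat_lit 3072) (Steps.bwd (nat_lit 1) Steps.nil))) (nat_lit 20) (nat_lit 0),
  Rule.mk (nat_lit 2) (nat_lit 148) (Steps.bwd (nat_lit 5) (Steps.fwd (nat_lit 3072) (Steps.fwd (nat_lit 1024) (Steps.bwd (nat_lit 5) (Steps.bwd (nat_lit 6) (Steps.bwd (nat_lit 2) (Steps.bwd (nat_lit 5) (Steps.fwd (nat_lit 3072) (Steps.bwd (nat_lit 2) (Steps.fwd (nat_lit 2560) (Steps.bwd (nat_lit 6) (Steps.fwd (nat_lit 1024) (Steps.bwd (nat_lit 5) (Steps.bwd (nat_lit 6) Steps.nil)))))))))))))) (nat_lit 48) (nat_lit 1),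
  Rule.mk (nat_lit 3) (nat_lit 38) (Steps.fwd (nat_lit 3072) (Steps.bwd (nat_lit 3) (Steps.bwd (nat_lit 6) Steps.nil))) (nat_lit 34) (nat_lit 1),
  Rule.mk (nat_lit 6) (nat_lit 58) (Steps.bwd (nat_lit 2) (Steps.fwd (nat_lit 3072) (Steps.fwd (nat_lit 1024) (Steps.bwd (nat_lit 6) (Steps.bwd (nat_lit 2) Steps.nil))))) (nat_lit 28) (nat_lit 0),
  Rule.mk (nat_lit 3) (nat_lit 38) (Steps.fwd (nat_lit 3072) (Steps.fwd (nat_lit 1536) (Steps.bwd (nat_lit 6) Steps.nil))) (nat_lit 34) (nat_lit 1),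
  Rule.mk (nat_lit 2) (nat_lit 58) (Steps.bwd (nat_lit 3) (Steps.fwd (nat_lit 1024) (Steps.fwd (nat_lit 1536) (Steps.bwd (nat_lit 2) (Steps.fwd (nat_lit 1536) Steps.nil))))) (nat_lit 22) (nat_lit 1),
  Rule.mk (nat_lit 4) (nat_lit 88) (Steps.bwd (nat_lit 3) (Steps.bwd (nat_lit 4) (Steps.fwd (nat_lit 1536) (Steps.bwd (nat_lit 4) (Steps.fwd (nat_lit 1536) (Steps.fwd (nat_lit 2048) (Steps.fwd (nat_lit 1536) (Steps.fwd (nat_lit 512) Steps.nil)))))))) (nat_lit 42) (nat_lit 2),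
  Rule.mk (nat_lit 4) (nat_lit 38) (Steps.bwd (nat_lit 6) (Steps.fwd (nat_lit 2048) (Steps.bwd (nat_lit 6) Steps.nil))) (nat_lit 38) (nat_lit 1),
  Rule.mk (nat_lit 5) (nat_lit 48) (Steps.bwd (nat_lit 6) (Steps.bwd (nat_lit 5) (Steps.bwd (nat_lit 1) (Steps.bwd (nat_lit 6) Steps.nil)))) (nat_lit 44) (nat_lit 3),
  Rule.mk (nat_lit 6) (nat_lit 38) (Steps.bwd (nat_lit 4) (Steps.bwd (nat_lit 6) (Steps.bwd (nat_lit 4) Steps.nil))) (nat_lit 38) (nat_lit 0),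
  Rule.mk (nat_lit 3) (nat_lit 88) (Steps.bwd (nat_lit 4) (Steps.fwd (nat_lit 1536) (Steps.fwd (nat_lit 512) (Steps.bwd (nat_lit 4) (Steps.fwd (nat_lit 1536) (Steps.bwd (nat_lit 4) (Steps.fwd (nat_lit 1536) (Steps.fwd (nat_lit 2048) Steps.nil)))))))) (nat_lit 42) (nat_lit 7),
  Rule.mk (nat_lit 2) (nat_lit 58) (Steps.bwd (nat_lit 6) (Steps.fwd (nat_lit 1024) (Steps.bwd (nat_lit 6) (Steps.bwd (nat_lit 2) (Steps.fwd (nat_lit 3072) Steps.nil))))) (nat_lit 28) (nat_lit 1),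
  Rule.mk (nat_lit 6) (nat_lit 48) (Steps.bwd (nat_lit 5) (Steps.bwd (nat_lit 6) (Steps.fwd (nat_lit 2560) (Steps.fwd (nat_lit 512) Steps.nil)))) (nat_lit 44) (nat_lit 2),
  Rule.mk (nat_lit 3) (nat_lit 58) (Steps.fwd (nat_lit 1024) (Steps.fwd (nat_lit 1536) (Steps.bwd (nat_lit 2) (Steps.fwd (nat_lit 1536) (Steps.bwd (nat_lit 2) Steps.nil))))) (nat_lit 22) (nat_lit 0),
  Rule.mk (nat_lit 6) (nat_lit 38) (Steps.bwd (nat_lit 1) (Steps.bwd (nat_lit 6) (Steps.bwd (nat_lit 1) Steps.nil))) (nat_lit 20) (nat_lit 0),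
  Rule.mk (nat_lit 1) (nat_lit 38) (Steps.bwd (nat_lit 4) (Steps.fwd (nat_lit 512) (Steps.fwd (nat_lit 2048) Steps.nil))) (nat_lit 16) (nat_lit 1),
  Rule.mk (nat_lit 6) (nat_lit 48) (Steps.bwd (nat_lit 5) (Steps.fwd (nat_lit 512) (Steps.fwd (nat_lit 3072) (Steps.fwd (nat_lit 2560) Steps.nil)))) (nat_lit 44) (nat_lit 4),
  Rule.mk (nat_lit 2) (nat_lit 148) (Steps.bwd (nat_lit 5) (Steps.fwd (nat_lit 3072) (Steps.fwd (nat_lit 1024) (Steps.bwd (nat_lit 5) (Steps.bwd (nat_lit 6) (Steps.bwd (nat_lit 2) (Steps.bwd (nat_lit 5) (Steps.fwd (nat_lit 3072) (Steps.bwd (nat_lit 2) (Steps.fwd (nat_lit 2560) (Steps.fwd (nat_lit 3072) (Steps.bwd (nat_lit 2) (Steps.fwd (nat_lit 2560) (Steps.bwd (nat_lit 6) Steps.nil)))))))))))))) (nat_lit 48) (nat_lit 1),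
  Rule.mk (nat_lit 3) (nat_lit 58) (Steps.bwd (nat_lit 2) (Steps.bwd (nat_lit 3) (Steps.bwd (nat_lit 2) (Steps.bwd (nat_lit 3) (Steps.fwd (nat_lit 1024) Steps.nil))))) (nat_lit 22) (nat_lit 0),
  Rule.mk (nat_lit 3) (nat_lit 38) (Steps.bwd (nat_lit 6) (Steps.fwd (nat_lit 1536) (Steps.bwd (nat_lit 6) Steps.nil))) (nat_lit 34) (nat_lit 1),
  Rule.mk (nat_lit 1) (nat_lit 48) (Steps.bwd (nat_lit 5) (Steps.bwd (nat_lit 6) (Steps.bwd (nat_lit 5) (Steps.bwd (nat_lit 6) Steps.nil)))) (nat_lit 45) (nat_lit 0),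
  Rule.mk (nat_lit 2) (nat_lit 58) (Steps.fwd (nat_lit 1536) (Steps.bwd (nat_lit 2) (Steps.fwd (nat_lit 1536) (Steps.fwd (nat_lit 1024) (Steps.bwd (nat_lit 3) Steps.nil))))) (nat_lit 22) (nat_lit 1),
  Rule.mk (nat_lit 1) (nat_lit 38) (Steps.bwd (nat_lit 3) (Steps.bwd (nat_lit 1) (Steps.bwd (nat_lit 3) Steps.nil))) (nat_lit 14) (nat_lit 1),
  Rule.mk (nat_lit 2) (nat_lit 58) (Steps.bwd (nat_lit 6) (Steps.bwd (nat_lit 2) (Steps.bwd (nat_lit 6) (Steps.bwd (nat_lit 2) (Steps.bwd (nat_lit 6) Steps.nil))))) (nat_lit 28) (nat_lit 1),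
  Rule.mk (nat_lit 5) (nat_lit 48) (Steps.bwd (nat_lit 1) (Steps.bwd (nat_lit 6) (Steps.fwd (nat_lit 2560) (Steps.fwd (nat_lit 3072) Steps.nil)))) (nat_lit 44) (nat_lit 0),
  Rule.mk (nat_lit 2) (nat_lit 98) (Steps.bwd (nat_lit 1) (Steps.fwd (nat_lit 1024) (Steps.fwd (nat_lit 512) (Steps.fwd (nat_lit 1024) (Steps.fwd (nat_lit 512) (Steps.bwd (nat_lit 2) (Steps.fwd (nat_lit 512) (Steps.bwd (nat_lit 2) (Steps.bwd (nat_lit 1) Steps.nil))))))))) (nat_lit 12) (nat_lit 0),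
  Rule.mk (nat_lit 4) (nat_lit 38) (Steps.fwd (nat_lit 1024) (Steps.bwd (nat_lit 4) (Steps.bwd (nat_lit 2) Steps.nil))) (nat_lit 24) (nat_lit 0),
  Rule.mk (nat_lit 2) (nat_lit 58) (Steps.bwd (nat_lit 3) (Steps.fwd (nat_lit 1024) (Steps.bwd (nat_lit 3) (Steps.bwd (nat_lit 2) (Steps.bwd (nat_lit 3) Steps.nil))))) (nat_lit 22) (nat_lit 1),
  Rule.mk (nat_lit 5) (nat_lit 198) (Steps.bwd (nat_lit 1) (Steps.fwd (nat_lit 1024) (Steps.fwd (nat_lit 1536) (Steps.bwd (nat_lit 5) (Steps.fwd (nat_lit 512) (Steps.fwd (nat_lit 1024) (Steps.bwd (nat_lit 3) (Steps.fwd (nat_lit 2560) (Steps.fwd (nat_lit 512) (Steps.bwd (nat_lit 2) (Steps.fwd (nat_lit 1536) (Steps.fwd (nat_lit 2560) (Steps.fwd (nat_lit 512) (Steps.bwd (nat_lit 2) (Steps.bwd (nat_lit 3) (Steps.fwd (nat_lit 2560) (Steps.bwd (nat_lit 1) (Steps.bwd (nat_lit 2) (Steps.fwd (nat_lit 1536) Steps.nil))))))))))))))))))) (nat_lit 46) (nat_lit 0),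
  Rule.mk (nat_lit 2) (nat_lit 198) (Steps.bwd (nat_lit 1) (Steps.fwd (nat_lit 2560) (Steps.fwd (nat_lit 1536) (Steps.bwd (nat_lit 2) (Steps.fwd (nat_lit 512) (Steps.fwd (nat_lit 2560) (Steps.fwd (nat_lit 1536) (Steps.bwd (nat_lit 2) (Steps.bwd (nat_lit 1) (Steps.bwd (nat_lit 5) (Steps.bwd (nat_lit 3) (Steps.bwd (nat_lit 2) (Steps.fwd (nat_lit 512) (Steps.fwd (nat_lit 2560) (Steps.bwd (nat_lit 3) (Steps.bwd (nat_lit 2) (Steps.fwd (nat_lit 512) (Steps.fwd (nat_lit 2560) (Steps.bwd (nat_lit 3) Steps.nil))))))))))))))))))) (nat_lit 47) (nat_lit 3),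
  Rule.mk (nat_lit 2) (nat_lit 58) (Steps.bwd (nat_lit 3) (Steps.fwd (nat_lit 1024) (Steps.fwd (nat_lit 1536) (Steps.fwd (nat_lit 1024) (Steps.bwd (nat_lit 3) Steps.nil))))) (nat_lit 22) (nat_lit 1),
  Rule.mk (nat_lit 2) (nat_lit 58) (Steps.bwd (nat_lit 3) (Steps.bwd (nat_lit 2) (Steps.fwd (nat_lit 1536) (Steps.bwd (nat_lit 2) (Steps.fwd (nat_lit 1536) Steps.nil))))) (nat_lit 22) (nat_lit 1),
  Rule.mk (nat_lit 5) (nat_lit 198) (Steps.fwd (nat_lit 512) (Steps.fwd (nat_lit 1024) (Steps.bwd (nat_lit 3) (Steps.bwd (nat_lit 5) (Steps.bwd (nat_lit 1) (Steps.fwd (nat_lit 1024) (Steps.bwd (nat_lit 3) (Steps.fwd (nat_lit 2560) (Steps.bwd (nat_lit 1) (Steps.fwd (nat_lit 1024) (Steps.bwd (nat_lit 3) (Steps.bwd (nat_lit 5) (Steps.fwd (nat_lit 512) (Steps.bwd (nat_lit 2) (Steps.fwd (nat_lit 1536) (Steps.fwd (nat_lit 2560) (Steps.fwd (nat_lit 512) (Steps.bwd (nat_lit 2) (Steps.bwd (nat_lit 3) Steps.nil)))))))))))))))))))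 (nat_lit 46) (nat_lit 0),
  Rule.mk (nat_lit 6) (nat_lit 148) (Steps.bwd (nat_lit 2) (Steps.bwd (nat_lit 5) (Steps.fwd (nat_lit 3072) (Steps.fwd (nat_lit 1024) (Steps.fwd (nat_lit 2560) (Steps.fwd (nat_lit 3072) (Steps.bwd (nat_lit 2) (Steps.fwd (nat_lit 2560) (Steps.bwd (nat_lit 6) (Steps.fwd (nat_lit 1024) (Steps.fwd (nat_lit 2560) (Steps.bwd (nat_lit 6) (Steps.fwd (nat_lit 1024) (Steps.bwd (nat_lit 5) Steps.nil)))))))))))))) (nat_lit 48) (nat_lit 0),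
  Rule.mk (nat_lit 3) (nat_lit 88) (Steps.bwd (nat_lit 4) (Steps.bwd (nat_lit 3) (Steps.fwd (nat_lit 512) (Steps.fwd (nat_lit 2048) (Steps.fwd (nat_lit 1536) (Steps.bwd (nat_lit 4) (Steps.fwd (nat_lit 1536) (Steps.fwd (nat_lit 2048) Steps.nil)))))))) (nat_lit 42) (nat_lit 7),
  Rule.mk (nat_lit 4) (nat_lit 88) (Steps.bwd (nat_lit 3) (Steps.bwd (nat_lit 4) (Steps.fwd (nat_lit 1536) (Steps.bwd (nat_lit 1) (Steps.bwd (nat_lit 4) (Steps.fwd (nat_lit 1536) (Steps.bwd (nat_lit 4) (Steps.fwd (nat_lit 1536) Steps.nil)))))))) (nat_lit 42) (nat_lit 6),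
  Rule.mk (nat_lit 5) (nat_lit 38) (Steps.bwd (nat_lit 4) (Steps.bwd (nat_lit 5) (Steps.bwd (nat_lit 4) Steps.nil))) (nat_lit 36) (nat_lit 0),
  Rule.mk (nat_lit 3) (nat_lit 248) (Steps.fwd (nat_lit 2048) (Steps.fwd (nat_lit 1536) (Steps.bwd (nat_lit 4) (Steps.fwd (nat_lit 1024) (Steps.fwd (nat_lit 1536) (Steps.fwd (nat_lit 2048) (Steps.bwd (nat_lit 3) (Steps.bwd (nat_lit 4) (Steps.bwd (nat_lit 2) (Steps.fwd (nat_lit 1536) (Steps.bwd (nat_lit 4) (Steps.fwd (nat_lit 1536) (Steps.fwd (nat_lit 2048) (Steps.fwd (nat_lit 1024) (Steps.fwd (nat_lit 1536) (Steps.fwd (nat_lit 2048) (Steps.bwd (nat_lit 3) (Steps.bwd (nat_lit 4) (Steps.bwd (nat_lit 2) (Steps.fwd (nat_lit 1536) (Steps.fwd (nat_lit 2048) (Steps.bwd (nat_lit 3) (Steps.bwd (nat_lit 4) (Steps.bwd (nat_lit 2) Steps.nil)))))))))))))))))))))))) (nat_lit 50) (nat_lit 2),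
  Rule.mk (nat_lit 5) (nat_lit 38) (Steps.bwd (nat_lit 1) (Steps.bwd (nat_lit 5) (Steps.fwd (nat_lit 512) Steps.nil))) (nat_lit 18) (nat_lit 0),
  Rule.mk (nat_lit 4) (nat_lit 88) (Steps.bwd (nat_lit 3) (Steps.fwd (nat_lit 2048) (Steps.fwd (nat_lit 1536) (Steps.bwd (nat_lit 1) (Steps.bwd (nat_lit 4) (Steps.bwd (nat_lit 3) (Steps.bwd (nat_lit 4) (Steps.bwd (nat_lit 3) Steps.nil)))))))) (nat_lit 42) (nat_lit 6),
  Rule.mk (nat_lit 1) (nat_lit 48) (Steps.bwd (nat_lit 5) (Steps.fwd (nat_lit 3072) (Steps.bwd (nat_lit 5) (Steps.fwd (nat_lit 3072) Steps.nil)))) (nat_lit 45) (nat_lit 0),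
  Rule.mk (nat_lit 5) (nat_lit 38) (Steps.bwd (nat_lit 3) (Steps.bwd (nat_lit 5) (Steps.bwd (nat_lit 3) Steps.nil))) (nat_lit 32) (nat_lit 0),
  Rule.mk (nat_lit 4) (nat_lit 88) (Steps.bwd (nat_lit 3) (Steps.fwd (nat_lit 512) (Steps.fwd (nat_lit 2048) (Steps.fwd (nat_lit 1536) (Steps.bwd (nat_lit 4) (Steps.bwd (nat_lit 3) (Steps.fwd (nat_lit 2048) (Steps.bwd (nat_lit 3) Steps.nil)))))))) (nat_lit 42) (nat_lit 8),
  Rule.mk (nat_lit 5) (nat_lit 148) (Steps.bwd (nat_lit 6) (Steps.bwd (nat_lit 2) (Steps.fwd (nat_lit 2560) (Steps.fwd (nat_lit 3072) (Steps.fwd (nat_lit 1024) (Steps.bwd (nat_lit 5) (Steps.bwd (nat_lit 6) (Steps.fwd (nat_lit 1024) (Steps.fwd (nat_lit 2560) (Steps.bwd (nat_lit 6) (Steps.bwd (nat_lit 2) (Steps.bwd (nat_lit 5) (Steps.fwd (nat_lit 3072) (Steps.bwd (nat_lit 2) Steps.nil)))))))))))))) (nat_lit 48) (nat_lit 2),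
  Rule.mk (nat_lit 1) (nat_lit 98) (Steps.bwd (nat_lit 2) (Steps.fwd (nat_lit 512) (Steps.bwd (nat_lit 2) (Steps.bwd (nat_lit 1) (Steps.fwd (nat_lit 1024) (Steps.fwd (nat_lit 512) (Steps.fwd (nat_lit 1024) (Steps.bwd (nat_lit 1) (Steps.fwd (nat_lit 1024) Steps.nil))))))))) (nat_lit 12) (nat_lit 1)]
noncomputable def R_3 : List (Rule) := [Rule.mk (nat_lit 1) (nat_lit 98) (Steps.bwd (nat_lit 2) (Steps.bwd (nat_lit 1) (Steps.fwd (nat_lit 1024) (Steps.fwd (nat_lit 512) (Steps.fwd (nat_lit 1024) (Steps.bwd (nat_lit 1) (Steps.bwd (nat_lit 2) (Steps.fwd (nat_lit 512) (Steps.fwd (nat_lit 1024) Steps.nil))))))))) (nat_lit 12) (nat_lit 1),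
  Rule.mk (nat_lit 3) (nat_lit 248) (Steps.fwd (nat_lit 2048) (Steps.bwd (nat_lit 2) (Steps.fwd (nat_lit 1536) (Steps.fwd (nat_lit 2048) (Steps.fwd (nat_lit 1536) (Steps.bwd (nat_lit 4) (Steps.bwd (nat_lit 2) (Steps.bwd (nat_lit 3) (Steps.fwd (nat_lit 2048) (Steps.fwd (nat_lit 1536) (Steps.bwd (nat_lit 4) (Steps.fwd (nat_lit 1024) (Steps.bwd (nat_lit 3) (Steps.fwd (nat_lit 2048) (Steps.bwd (nat_lit 3) (Steps.fwd (nat_lit 2048) (Steps.fwd (nat_lit 1024) (Steps.bwd (nat_lit 3) (Steps.bwd (nat_lit 4) (Steps.bwd (nat_lit 3) (Steps.fwd (nat_lit 2048) (Steps.fwd (nat_lit 1024) (Steps.bwd (nat_lit 3) (Steps.bwd (nat_lit 4) Steps.nil)))))))))))))))))))))))) (nat_lit 50) (nat_lit 4),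
  Rule.mk (nat_lit 3) (nat_lit 88) (Steps.bwd (nat_lit 4) (Steps.bwd (nat_lit 3) (Steps.fwd (nat_lit 512) (Steps.bwd (nat_lit 4) (Steps.fwd (nat_lit 1536) (Steps.fwd (nat_lit 2048) (Steps.fwd (nat_lit 1536) (Steps.fwd (nat_lit 2048) Steps.nil)))))))) (nat_lit 42) (nat_lit 7),
  Rule.mk (nat_lit 4) (nat_lit 88) (Steps.bwd (nat_lit 3) (Steps.bwd (nat_lit 1) (Steps.fwd (nat_lit 2048) (Steps.fwd (nat_lit 1536) (Steps.fwd (nat_lit 2048) (Steps.fwd (nat_lit 1536) (Steps.bwd (nat_lit 4) (Steps.fwd (nat_lit 1536) Steps.nil)))))))) (nat_lit 42) (nat_lit 8),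
  Rule.mk (nat_lit 3) (nat_lit 58) (Steps.bwd (nat_lit 2) (Steps.bwd (nat_lit 3) (Steps.bwd (nat_lit 2) (Steps.bwd (nat_lit 3) (Steps.bwd (nat_lit 2) Steps.nil))))) (nat_lit 22) (nat_lit 0),
  Rule.mk (nat_lit 4) (nat_lit 88) (Steps.bwd (nat_lit 3) (Steps.bwd (nat_lit 1) (Steps.fwd (nat_lit 2048) (Steps.fwd (nat_lit 1536) (Steps.bwd (nat_lit 4) (Steps.bwd (nat_lit 3) (Steps.bwd (nat_lit 4) (Steps.fwd (nat_lit 1536) Steps.nil)))))))) (nat_lit 42) (nat_lit 8),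
  Rule.mk (nat_lit 5) (nat_lit 48) (Steps.bwd (nat_lit 1) (Steps.fwd (nat_lit 3072) (Steps.fwd (nat_lit 2560) (Steps.bwd (nat_lit 6) Steps.nil)))) (nat_lit 44) (nat_lit 0),
  Rule.mk (nat_lit 2) (nat_lit 198) (Steps.bwd (nat_lit 1) (Steps.bwd (nat_lit 5) (Steps.fwd (nat_lit 1536) (Steps.fwd (nat_lit 1024) (Steps.fwd (nat_lit 512) (Steps.bwd (nat_lit 5) (Steps.fwd (nat_lit 1536) (Steps.fwd (nat_lit 1024) (Steps.fwd (nat_lit 512) (Steps.bwd (nat_lit 5) (Steps.bwd (nat_lit 3) (Steps.bwd (nat_lit 2) (Steps.fwd (nat_lit 512) (Steps.fwd (nat_lit 2560) (Steps.fwd (nat_lit 1536) (Steps.bwd (nat_lit 2) (Steps.fwd (nat_lit 512) (Steps.bwd (nat_lit 5) (Steps.bwd (nat_lit 3) Steps.nil))))))))))))))))))) (nat_lit 47) (nat_lit 3),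
  Rule.mk (nat_lit 1) (nat_lit 98) (Steps.bwd (nat_lit 2) (Steps.fwd (nat_lit 512) (Steps.bwd (nat_lit 2) (Steps.fwd (nat_lit 512) (Steps.fwd (nat_lit 1024) (Steps.bwd (nat_lit 1) (Steps.fwd (nat_lit 1024) (Steps.bwd (nat_lit 1) (Steps.fwd (nat_lit 1024) Steps.nil))))))))) (nat_lit 12) (nat_lit 1),
  Rule.mk (nat_lit 1) (nat_lit 38) (Steps.bwd (nat_lit 5) (Steps.fwd (nat_lit 512) (Steps.fwd (nat_lit 2560) Steps.nil))) (nat_lit 18) (nat_lit 1)]
noncomputable def R : List (List (Rule)) := [R_0, R_1, R_2, R_3]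
def LW : List Word := [[], [0], [2], [4], [6], [10], [12], [0], [1], [2], [3], [4], [5], [6], [7], [10], [11]]
def par : Par := ⟨9, 5, 14, 23, 511, 16383, 8388607⟩
theorem hpar : par.ok := by decide
theorem hR0_0 : lall (R) (fun l => lall l (ruleOK rels LW par)) = true := by decide +kernel
theorem hR0 : lall (R) (fun l => lall l (ruleOK rels LW par)) = true := hR0_0
theorem hR : RulesOK rels LW par R := rulesOK_of rfl hR0
def cols : List (ℕ × ℕ) := [(512, 1), (1024, 2), (1536, 3), (2048, 4), (2560, 5), (3072, 6)]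
theorem hcols : lall cols (colOK rels LW par) = true := by decide +kernel
noncomputable def JS0 : List ℕ := [nat_lit 0xc2014c105308cb0300b3046cc2008c330868c6008c119008c13003801008013006003300bf17300032fc58bf038bf152f80c2f850bf024bf2f84c0b024be2f44802000bc022f4bf2f044bc000032f40b3040d30814044c2304bd00040bc028bf2ec3cba020ba0c2e8bd2e438b92f4092f4b90d2e0072e030b800cb8092e0b92dc2cb72e4072e4b70a2d8022d824b6004b6082d4012d41cb52d8082d8b5062d0012d014b401c032d010b300cb3032c8032c808b1010b101,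
  nat_lit 0xcf000d73882c3a8ee3bc3d0ec3e3bced0a82938820354033003001338bc07004cd2e02c013345802334cc2d34c0033094da378db334cc2c0040032c14cc05ccb0c330da380d932caccb058ca2a32cd6368d3034d3368d632ca4cb04cca07328d5070d2038d2070d5328a4cb048c9283280f3241cca008d606c2206cd60089cc9000060009804004c825348c831c90c8340c723320d236025360d2038c7223180b31824c6030c5213140f314240100801203100c0380c31074c432cc31f0000130c0d334d00441433cd10641833410044d233c0f30c78c203418034c21d3040d04c0d30470c400cc105,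
  nat_lit 0xf4010ea4a09803055242000ce0483b0020291cf1008e04609001029141d000dd44084ed010da000023e04313c4e10d013eced01d0c010d00100108000c800413d4fe3e00135d00d600410004d61c3a00235cd63f03400354a8dd004d53e04811004d53d368d5350f01c01cd43b04c03354d40f01c0134c30dd004d30835801348e8db03801348e4d3348d13805800344dc0934cd23446809348d136348de01cd135344e70dce7344d00e00cd13302403340c8d1000d131,
  nat_lit 0x3e0453dc8c023e4051284c135173dd7404040f65c01d153d4b8003e4015b008003d168f83d4f42d43cf83d164f6004f45845449008013dd5c00024f53b10c421010b3d0f33c8f15610c003c1550e450f2000f0543c451148504490e1190f4646747c6c47d191690f1190e15115148513c4f0533c5094445416454445093c5490e1511100cf0513bc330b4333bd40080f0ee05078034b08c054b078074b3dc074e0d00606d242001d2c1c01d2cf9018ee46398064f3c0064e3c40505d3412014ef4c068054b,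
  nat_lit 0x1090882b4e82c09002005066e0142200506415b5060040302c0300506415b01d419056b001384f114415a87142908011160a020005056941d05411a113009041441002410a80241103670705214d2843415060211a07c1e53643815041040080140d9902009022840c6507c0c409950103051031011c4052f1e92f4055c1805405404110600d0003405003fd7900000fe01400064751c46c0900cfe6440c521545312408008fd63038003f08d03038013f188fd3f0fb61410003eccc10408023ecd41a008fa023ecfa3e580ff004f925100013e0f80b010013e17c193e0f75e,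
  nat_lit 0x11845d163c02400455f80600915210011f009f41448815005147c4551444c391d05124079565795f56042128484e8440c83445c02451137b00028451e8351142644d127900400444a9120241209911784483447809445dd121c54651472515461c51276444471c447445d1101b87c1b9101d4413f43c7d0f1c4781cc6f1cc781c50f754384a1b84a439d10d1b87a1b90d1d4313c1b13c4315c09060094410f4390d431cd130090b3343000428c90b43004040044310b429c90f001092f014004245806001092f43d0a425c40c005083a0682f1d807421c00d01d071942109010051d53e5214e5409d2789d2795026d4e5213e4400601109421076f,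
  nat_lit 0x4954d531248948c4648c0923534b553523344884a488084d4dd35084314e01c011228848d22485c40a00d20074840047ca0044f13d0ed4116850144965a49d541410dc314ec044811f874b5280200147a18050051d0c48c0c4a01111c314e401476151e4751c680b800471543a5004c4bc1348d214751c840040046c951c488070111b504714405813048254900946e0d1d0091c824711d46c5d1f0091a3e0011d0060404009193e0112002c0800803005198000d19461fd1c4a00a479185747001460311946117670140145ce8370941a461177903000458311d4851605,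
  nat_lit 0x15c074e5380f4f4044dc3138005363c4dd364d59c005740396144024d02137009333a0144d5887a1d146049394e0081495f00933951385000532394cd324c4e0540013115138044c9310f4c9314c0384800930944d1334c9314c24c50128004be483500d3b0212f8b5094100545910a0000b8d82c000225c080030c144904ec020c63c20004328e4dc000b6342f194711ccb92fd5714c054a5280013307231310540049ce5335695400d278b545294a1278a49802498a802499250e12926494d9240052428,
  nat_lit 0x14d1b54d235306a5308408594480d17618c2d5702b0e18a12c03532944c0d40352e914c52d4a3856c01525f963009493701c025228c000fc02980ed4a521471a52147518395b52146a2000170680b00e854b52808009457c5683651544a05440150c31451b1820cd439f0a03450a6c1304416014045442e50a7868545419d0102b500cc015393f3201d745bd3f9c098664fa6c1416d3d5e08c22014035080801d3d9a4f013084134f2646804d3b090000f4e82c0018c0d981a17b190014e65c0e0053805,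
  nat_lit 0x155e5742c195fc23080265bd700b8365ec4a1305a6058258c0400d5db15795d572895b0055b250056017160006a55a56c01568115d00559a7568030896b090255c9730e9700d02c0a97807d6702001566c15a56558240181807801562bc0059402ae078215b83b5c97406c0155eb5570055755ab0181817755d56ab5585114c5155875595680355a915e005552a56401551f813555545e5580254d695316493165539902059548bc035d151aa005751797400aa55354951542a0560014f2a0f80053c09650054f2a53d500095053cd03c0014ea75bc9e6014f53a994e1b54e09,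
  nat_lit 0x17800d723b5cd725c6f57200170215c80500d70bc014040096f39600005b864290f441624400d0015baec035b96d8e604035b66d6e01000ba0016d5b8b96b0002e2007b1e0cb345e379114794ce720c56c09b274922207f2002e002e42a0016a7a0a96c5a9a0000996bb85e19a1e07a2042e5a969b75a000004005a265695ed686b5a17b270a0270995ed68b659c2b59c55660ad66165942b5968c02615667a0016514ca22385c1f480178936945561565b558c001298012c4e615865f84110c3d0fc4e6058012400006d0485f84358d62b35840058485611405218466184521416176001785a1e8346081d00d60b258c0357ced5e00d5e23,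
  nat_lit 0x590624ec0006000810619263d8761b15850018505614186744510c1004585c46140b01c0401c0802d85c36100c610540502183b807185609fd8102181a30080660c1a62014149b71b06d1f879188641401d62987049970fc3d60802c26000a61816048166180a603017f6080a6097f065fc075f8157e6483a1084d1083a6497ec15f5900d1905f5d17d654380d97c1d5f0400ec365ec717b1002e630316302e1017bc05e993101935e8197c5ec035e9898a00d799b5e9795e180010b001315dc015dc9585009763a0017b0397c5ec0600c0504c15025795dd76bf5e97b02d765d4d025001749b0ac085d1e8000f400310f4511304f0ec0800d73be,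
  nat_lit 0x65596039966543594010036529193015930c64803648a99100191ca6440a6519200d926500a647259001002011900663d910819163d5d8e0158e0500c1b075930440e0400f668280a80f0300e0499300c0063b200601c066371c040158c9462c0862c1c196358a246281b1203e6801e6498ac6624196248c0264188aa]
theorem S0_c : blocks (facts 9 5 14 23 511 16383 8388607 10 1023 8 255 A R 32) 32 JS0 433 = true := by decide +kernel
theorem S0 : On (Step.{u} rels LW par A) 433 849 :=
  steps_of_blocks hpar hR S0_c (by decide +kernel)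
theorem D0_c : allB (defOK 9 14 23 511 8388607 429 A K) 2 2 = true := by decide +kernel
theorem D0 : On (fun r => defOK par.W par.WL par.E par.mW par.mE 429 A K r = true) 256 512 :=
  On.of_allB D0_c
noncomputable def JW0 : List ℕ := [nat_lit 0x13fc6d59eb5569ac94ceb357f4329071c938ac75beb753b475615229864789092353846a602c0a43c7052abe97bafc902be185b0e91eb9e3f48c5e0b9575c7d840bbd8248b60d1ea413084db1b17fb039131d24949561ac6a43315926c5a47318900c518830f9231f18930965125183c9b910ca98f497640c6d8e32263f26593319648c8d973179212759632b6612599949a63b27d9a49866d27250c9e946ce19d33c940cfa51340684d11a3348,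
  nat_lit 0x1302624c894a21a5e4aa8ce1da564b091de6981266618c217b2fa860fea1a83e84cbbc1a8308590a41d26f0310620941505d3c2c28bd186002c44ccaed6c24f5ad1bd39acc59d0c233c64488905214338289193cac68c7181602c84d2b2d6f2578851cd71ae85c31e52dc764fd1ad68ad45a4b153446860110242c6e528a4132a964eea4930af45ec94e3faf25c4b91702e64b31dde621941a87210c1c5d8ba57547b416bb9362c35b2b716d471,
  nat_lit 0x21323085288cfda2785e8f110a3e3a30b128a1f87f0f12e24d796601d5182714f20be3c625e5f9e23c98568ca1423483c8d8bb3c727e5e0ae97a79506cfca1033a8489b129264ebc9a138759034fe1e93f50289e9f783280d074163c4790ef9e6802781352ba8be8edff2bc48a8e61b24e42b0e6172404530c5fe23786a8ad21a4940e928af9eb8248220aa014d6b2a3123557d195282318750f52d24b4e51a56823f8ccaf52a23d87d1052ec38,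
  nat_lit 0xb09f480d024e69ed2aa7ccffc1181c81213a2c45d090c4a252e2fdce79d23a072e11a1e440889fc2247103705c0cd716304ba3c22463ede290b21a679ea390338f5c931287564905d92a75a4b0971302424ac9e12d27c4edd893924e7d8fc40833702ced1dc3bce71ff9d88548e117a3a7b90b4b61d737a74dfe9c58448a91442537689a1a22d86e92107a4c2bcefca1bae2b8564ad9ea8067a1fd1ec2827c609c1040c814ab9f53fc80a07a00,
  nat_lit 0x1c08ca0e63306437e2e4f0c8f8f778043dccb960fe3e87c0e320ce7c840e12084288639e7423946d90e71c3a84fb911d03b0b99a03323d5ecbd61782f85cb7d174301d4ba6244460903a422662dea991334f487f1006ece75cd1022ea67cc68fd7ba68cb6be63706bcd8be92c4fb8dcbf17c8710b1beb3786a4dd3e82c0ef8a6925782ef0ad3ba2a64c4a7bbd2c8758df9d57f670ca03b3284511d81462a27c2014057d87b8ab3bb7704e9bd158,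
  nat_lit 0x8bbd1328640c93ce23af40cc18f32cf4c530a86ee290518aa7303adba0fc7363c4839a132a3cded9a22ccf9cda1ad7b46d8b59a57c46c9f2be02de690d31a832ef7cb3bef36a700c99c2294ec8a6149236ed4a83b72a4520a73b42cafa8df1b37da6dc570b1158de1bd8b62d0fc8e31c1398fd4aa3b6772514599472967ca03c043927bdd418a318638c43cf2e06a9f19ae360f78b73f338efc0e41ca2d4fd8e71d47f2fd1c48d91a83446d386,
  nat_lit 0x44369114d98288866d82484c0966de254628cf0f6e14693826c61d03c0450ecd804089c6eadc8513701bee4c4d8f21de3c0578b015ade4590b4700338358d06b4e0daf0700e4d4037361728e5c488f618639c400820fcd9c3e0841bce34468e01a6389c7b8c116391ae0e61122744f373140251cab921323d0770ed2d26acd39ac7b0f845e8d81aae106b3871883183cb7c184dfc8e3a723c4648d11522ce888491020ae94893a37404446b914,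
  nat_lit 0x1034b0440900f0260800cc243556a4d382c04f0b4151ac8560680c81b038060d3c1534a05c0b1a6828098139ab84a0a0149b10690f4d51b286d082108230446a60fc4789313425db73710bc1802d8626b6171af8680d40e5ac06c06a0f01d3516980f9b6883120da83b88711cda04636b6c8214330616ac18dae864]
theorem W0_c : blocks (rows 9 5 14 23 511 16383 8388607 11 2047 66 A 849 162 cols 21) 21 JW0 0 = true := by decide +kernel
theorem W0 : On (Row.{u} rels LW par A 849 162 cols) 0 168 :=
  rows_of_blocks hpar (by decide) hcols W0_c (by decide +kernel)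
theorem idx : Idx.{u} rels [[0], [2], [4], [6], [10], [12]] [[0], [2], [4], [6], [10]] 162 :=
  idx_of_cert hpar hR (K := K) (by decide +kernel) (T := 429) (T' := 512) (by decide) D0
    (subs := [1,2,3,4,5]) (by decide +kernel) (T1 := 433) (by decide) (N := 849) S0
    (by decide) (n' := 168) (by decide) W0 (by decide +kernel) (by decide +kernel)
end T3
theorem b3 : Bound.{u} rels [[0], [2], [4], [6], [10], [12]] 6531840 := .of_idx T3.idx b2 (by decide)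
end
end CA.SzU
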