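import Cfsg.Agent.Lib.Rec.SzM

/-! Groups of Suzuki type: a Sylow 2-subgroup and its involutions. -/

set_option autoImplicit false
set_option linter.all false
set_option maxRecDepth 100000

namespace CA.SzA

open CA.CNet CA.CWord CA.CPres CA.RegM CA.SzQ CA.SzF Subgroup CA.BG CA.GW CA.H7Lge Cfsg CA.CPoint CA.CLevel Equiv
open CA.CLow
open CA.U43B (Act inn act_inn len_le le_len cj_iff cj_symm)

universe u
variable {G : Type u} [Group G] [Finite G] {B : Type u} [Group B] [Finite B]

def tw : List Word := [[0], [2], [4], [6], [8], [10], [21,16], [20,17], [15,20,19,21,12], [15,13,21,16,14,12], [15,13,20,17,14,12]]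
def Rs : List (Word × Word) := [([], []), ([21,16], [17]), ([20,17], [16]), ([15,20,19,21,12], [18,13,20,16,13]), ([15,13,21,16,14,12], [17,14,12]), ([15,13,20,17,14,12], [16,14,12]), ([20,17,21,16], []), ([15,20,19,21,12,21,16], [15,21,18,13]), ([15,13,21,16,14,12,21,16], [15,13,21]), ([15,13,20,17,14,12,21,16], []), ([15,20,19,21,12,20,17], [18,13,20,13]), ([15,13,21,16,14,12,20,17], []), ([15,13,20,17,14,12,20,17], [15,13,20]), ([15,13,21,16,14,12,15,20,19,21,12], []), ([15,13,20,17,14,12,15,20,19,21,12], []), ([20,17,15,13,21,16,14,12], []), ([15,20,19,21,12,15,13,21,16,14,12], []), ([15,13,20,17,14,12,15,13,21,16,14,12], [14,12]), ([21,16,15,13,20,17,14,12], []), ([15,20,19,21,12,15,13,20,17,14,12], []), ([15,20,19,21,12,20,17,21,16], [19,20,18,13]), ([15,13,21,16,14,12,20,17,21,16], []), ([15,13,20,17,14,12,20,17,21,16], []), ([15,13,20,17,14,12,15,20,19,21,12,21,16], []), ([20,17,15,13,21,16,14,12,21,16], []), ([15,13,20,17,14,12,15,13,21,16,14,12,21,16], []), ([21,16,15,13,20,17,14,12,21,16],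 [15,20,18]), ([15,20,19,21,12,15,13,20,17,14,12,21,16], []), ([15,13,21,16,14,12,15,20,19,21,12,20,17], []), ([20,17,15,13,21,16,14,12,20,17], [14,12,21]), ([15,20,19,21,12,15,13,21,16,14,12,20,17], []), ([15,13,20,17,14,12,15,13,21,16,14,12,20,17], []), ([21,16,15,13,20,17,14,12,20,17], []), ([20,17,15,13,21,16,14,12,15,20,19,21,12], []), ([15,13,20,17,14,12,15,13,21,16,14,12,15,20,19,21,12], []), ([21,16,15,13,20,17,14,12,15,20,19,21,12], []), ([15,20,19,21,12,20,17,15,13,21,16,14,12], []), ([15,13,21,16,14,12,20,17,15,13,21,16,14,12], [14,21,18,12]), ([15,13,20,17,14,12,20,17,15,13,21,16,14,12], []), ([15,13,20,17,14,12,15,20,19,21,12,15,13,21,16,14,12], []), ([21,16,15,13,20,17,14,12,15,13,21,16,14,12], []), ([15,20,19,21,12,15,13,20,17,14,12,15,13,21,16,14,12], []), ([15,20,19,21,12,21,16,15,13,20,17,14,12], []), ([15,13,20,17,14,12,21,16,15,13,20,17,14,12], [18,12,20,12]), ([15,13,21,16,14,12,15,20,19,21,12,15,13,20,17,14,12], []), ([20,17,15,13,21,16,14,12,20,17,21,16],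 [17,15,13]), ([15,13,20,17,14,12,15,13,21,16,14,12,20,17,21,16], [15,13,21,16]), ([21,16,15,13,20,17,14,12,20,17,21,16], [16,15,13]), ([21,16,15,13,20,17,14,12,15,20,19,21,12,21,16], []), ([15,13,21,16,14,12,20,17,15,13,21,16,14,12,21,16], [18,12,20,16,12]), ([15,13,20,17,14,12,20,17,15,13,21,16,14,12,21,16], [15,13]), ([21,16,15,13,20,17,14,12,15,13,21,16,14,12,21,16], [14,12,21,16]), ([15,20,19,21,12,15,13,20,17,14,12,15,13,21,16,14,12,21,16], []), ([15,20,19,21,12,21,16,15,13,20,17,14,12,21,16], []), ([15,13,20,17,14,12,21,16,15,13,20,17,14,12,21,16], []), ([15,13,21,16,14,12,15,20,19,21,12,15,13,20,17,14,12,21,16], []), ([20,17,15,13,21,16,14,12,15,20,19,21,12,20,17], []), ([15,20,19,21,12,20,17,15,13,21,16,14,12,20,17], []), ([15,20,19,21,12,15,13,20,17,14,12,15,13,21,16,14,12,20,17], []), ([15,13,21,16,14,12,20,17,15,13,21,16,14,12,15,20,19,21,12], [12,20,15,12]), ([15,13,20,17,14,12,21,16,15,13,20,17,14,12,15,20,19,21,12], [12,21,15,12]), ([15,13,21,16,14,12,15,20,19,21,12,20,17,15,13,21,16,14,12],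 [17,14,21,18,12]), ([21,16,15,13,20,17,14,12,15,20,19,21,12,15,13,21,16,14,12], []), ([15,13,20,17,14,12,21,16,15,13,20,17,14,12,15,20,19,21,12,21,16], [18,21,12])]
def Hs : List Word := [[], [8], [2], [10], [10,2], [8,2], [10,8], [10,8,2], [14,20,18,21,15,12], [15,12,20,18,21,13], [18,12,21,15,21,12], [15,20,18,21,15,13], [19,15,21,13,21,15], [15,20,12,20,18,13], [12,20,14,20,19,14], [14,12,20,18,21,12], [14,20,12,20,18,12], [18,13,21,15,21,13], [18,12,21,15,21,12,2], [14,20,18,21,15,12,10], [18,12,21,15,21,12,10], [19,15,21,13,21,15,2], [18,13,21,15,21,13,2], [14,20,18,21,15,12,2]]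
def lowT_w2 : List Word := [[3,7,13,20,18,21,14,20,17,21,16,8]]
theorem lowT_2 : Low (SzH.E.grp lowT_w2) 2 [2] :=
  low_orb SzH.hE SzH.hlk 2 (by decide) [(2,0)] (m := 2) (grp_mono _ (by decide +kernel))
    (by decide +kernel) (by decide +kernel) (low_nil SzH.E) (by decide)
def lowT_w1 : List Word := [[3,7,13,20,18,21,14,20,17,21,16,8], [15,13,21,16,14,12], [15,13,20,17,14,12]]
theorem lowT_1 : Low (SzH.E.grp lowT_w1) 128 [179,2] :=
  low_orb SzH.hE SzH.hlk 179 (by decide) [(179,2), (179,4), (1164,0), (1164,4), (1532,0), (1493,2), (1493,4), (1186,0), (1467,2), (1467,4), (1625,0), (1625,4), (1649,0), (1424,2), (1424,4), (1596,0), (1596,4), (414,0), (1760,2), (1760,4), (1053,0), (1732,2), (1732,4), (1707,0), (1707,4), (1244,0), (561,2), (561,4), (1219,0), (613,2), (613,4), (1713,0), (1713,4), (873,0), (680,2), (680,4), (302,0), (302,4), (1178,0), (1735,2), (1735,4), (1330,0), (1528,2), (1528,4), (1720,0), (1720,4), (1239,0), (1681,2), (1681,4), (1570,0), (1570,4), (1574,0), (1513,2),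 (1513,4), (721,0), (405,2), (405,4), (888,4), (825,4), (411,4), (1173,2), (1427,2), (1077,4)] (m := 64) (grp_mono _ (by decide +kernel))
    (by decide +kernel) (by decide +kernel) lowT_2 (by decide)
theorem lowT : Low (SzH.E.grp tw) 8192 [25,179,2] :=
  low_orb SzH.hE SzH.hlk 25 (by decide) [(25,0), (25,1), (25,2), (25,3), (25,6), (25,7), (25,8), (25,9), (25,10), (25,11), (25,14), (25,16), (25,17), (81,0), (81,2), (81,3), (81,6), (81,7), (81,8), (81,9), (81,10), (81,11), (81,14), (81,16), (81,17), (81,18), (81,20), (82,14), (82,18), (82,20), (222,8), (222,9), (222,10), (222,11), (222,16), (222,17), (222,18), (222,20), (148,18), (148,20), (234,10), (234,11), (234,16), (234,17), (234,18), (233,18), (74,10), (74,16), (74,17), (759,16), (759,17), (747,16), (747,17), (149,8), (149,9), (96,8), (96,9), (1441,16), (1441,17), (1098,2), (1098,3), (1098,6), (1098,7)] (m := 64) (le_of_subst _ [[3,7,17,14,12,8], [18], [20]] (by decide +kernel))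
    (by decide +kernel) (by decide +kernel) lowT_1 (by decide)

noncomputable def iq (w : Word) : Bool := lany El (fq w)
noncomputable def pre (w : Word) : Bool :=
  lall [0,2,4,6,8,10] fun k => bor (Nat.beq (im w [k]) (key [k])) (Nat.beq (im w [k]) (key [k + 1]))
theorem k_clo : lall (tw ++ lmap winv tw) (fun g => lall Rs fun r => lany Rs fun r' =>
    band (pre (winv r'.1 ++ g ++ r.1)) (iq (winv r'.1 ++ g ++ r.1))) = true := by decide +kernel
theorem k_inv : lall Rs (fun r => imp (iq (r.1 ++ r.1)) (bor (iq r.1) (bor (iq (winv aw ++ inn r.2 r.1))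
    (iq (winv ew ++ inn r.2 r.1))))) = true := by decide +kernel
theorem k_a : lall El (fun q => imp (eqE (wpow (aw ++ q) 2) []) (lany El fun p => fq (aw ++ q) (inn p aw))) = true := by
  decide +kernel
theorem k_e : lall El (fun q => imp (eqE (wpow (ew ++ q) 2) []) (lany Hs fun p => eqE (ew ++ q) (inn p ew))) = true := by
  decide +kernel

end CA.SzA
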