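import Cfsg.Agent.Lib.Rec.RegM
set_option autoImplicit false
set_option linter.all false
set_option maxRecDepth 100000
universe u
namespace CA.SzQ
open CA.CNet CA.CWord CA.CLevel CA.CSimple CA.CPoint CA.CTodd CA.CLow CA.RegM
noncomputable section
def rels : List Word := [[0,0,0,0], [0,0,3,3], [0,2,1,2], [0,4,1,5], [0,6,1,7], [0,8,1,9], [0,10,1,11], [2,4,3,5], [2,6,3,7], [2,8,3,9], [2,10,3,11], [4,8,5,9], [4,10,5,11], [6,8,7,9], [6,10,7,11], [0,0,5,5], [0,0,7,7], [4,6,5,6], [0,0,9,9], [0,0,11,11], [8,10,9,10]]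
namespace T0
noncomputable def A_0 : List (ℕ) := [nat_lit 0xbb0e44823903589016c24062890702241040181ac060028182040631c0e02cc380860e0236381a598c78c631ea98c0b020043080682201a9080224050030141aa051a40446ae1100a8442103409b0d06b01001284024c35003820536081460204f208135020244080988202640714e01c5160713d01c4d20700401c1ae071dc84c754131ed84c0501300b84c1902929d0a4a52291e88a4784291e08a0a72282950a018e2805c0a02583c3350f02ee3c0b40f0030121ee048774121d4848cd23d0bc0f42ce3d1541484d85213d948cc252339148ce25313594c4f85315394c570531de19c7ce671fc19c14e2604c098742261388e82ae3a0a40e812e271d889c578091558240140906c8242a4091db854cd83b1fb9981582b05d0ac7e22b1f10ac5540b06d82c2e40b0b082c1520d0108340240d1f08a81562a0650a82d23e00e058292010bd0f82983e1fe050142140a88287f61500c8542d43f0608582e20c00d85c44237289194a14242209608b6190c10b4334432109588766c3691d8d84773b2194b063816a040b2639164150822552059acd447535d1f0fa27f3e59a0d2c472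309688f66e3791e0dd4482489749161a0d90b8350040188380961e0f90c83d44b2558703a4300e10c49625f3b9994ac837181850bc83f189854be83e1918581e80119985c1c80217984cba83c171848b883d3c1998b683a3c999cb4c733409c8ae63739a180fc67a392184fe67b3aa188aa6353a218ca86341090d49f2713158d09d4713809ece364d2611809ac271190dc6cc1530c8d4f4c663248e46ea153050d4f6c6732c8e04b8051ce0404960503104470c1731d8d440c0702904022a021a304820a011ab04c10e0d0390482763c14c02c5023d1e519c250021ec99ca502b298998cf83a1308ec7586613b828124141dc050cce3e15d0301760006e0305423f1f6054294020550002b2021fd05c2d8020660002f60201100002200,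
  nat_lit 0x18101e4040708109741f25487c1881f05987c6641f2550781861e05a0786621e1910783b64a1521285664a2f1128be24a25d8741481d0498746241d25e0701281c0518706041c15a12c5464b2f092cee8642b59dcaf8773fb9dcfd0772f29dcbec7739c158e4e5618315862a561b2158bd6302fe0c01f2300750c0b4e302dc0c0aec300a98c06365e19d1786525e3cc178f0e5e1f2178bf6310748c41f4312db8c4b50312ba8c42863119517c6725f3c417cf2e5f1fa17c1f6320760c8b8e322ec0c82e63219d83c5d00f17b83c0480f0758ccbae332e40cc2c63317c0385ce0e00a038bb62f2e60bcb722f2d50bca8a2f2ab0bc2462f175974f345d3c4974eac5d3a29747a85d2e58b8b522e2dd0b8aaa2e2a30b82662e3c5170f325c3a3170eaa5c1e2170b76782d61e0fea783f31e0ce6783cd96ce6c5b39296c7685b2d59e4fca793fb1e4cc6793931687665a1d2168988682699a0e62682ba0d8e6e5739415cfd8733fd9ccab4732a49ccc28733961f8e927e3ad1f8f667e3fe1c8a94722ac9c8c08723ac9fce947f3d19fcab8752a59d4c68753a6154686552a61d0c48741a99509d82127d8849942126c8840d02102b8840ec21042884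6842127b8949f02410593ce124f14313c52a4f31113cc624f3160d4f72623d5188710621cb9887ac621e29889c4622740949ce24106138e144e14293852c4e3191389b6702661c0a4a7029b1c0f42702659c4a4c7129a9c4f44713d89c44144c11b9304ec4c132930c244c11c1344cc4d104934c224d3011346c42303508c0b22305308c12a2330c0d8c0e360a30d8cb8363258d82143608c8d8c387b3d6184692611bc18474c611da984c907a32b9e8cec7a3061e8c747a3239ec6f6641c49907cc641fa990c10370a28dccb6370848dc234373048d0f78601d298076c6032c1ecccc7b31c9ec732651fb1947ca6503609416a25063094722251c10942383931b8e42ca39,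
  nat_lit 0x285888a38220348880b4222638889b02205288812c22211888868221b0888478511251444b251384144e2e5115b14454a51362144da6513211444765012d140e0e5038c14056a50153140d865036a140c8250329140336440c6110db244365110d4e4435c1103ea440f31104a644122110b2244364914db4450c5914d504535b9143ec450f29144a845121914b24452c0914874182148608301820386006c180228600a818031860584180ca0148541920b8648101901a86408c1903206458219169064d964236e108d0e4234c1083aa420e3108466422b89088662336d90cd104334b90c3ac430e290cae4432b090cf906d3eb9b496c6d2529b4ee46d3ec1b0f8e6c2531b096a6c3b11b0ec6642b61d8af6762cd1d8b12763fc1d8fce762f31d8bea7616d960598583bc960e8e583ac16066a58193160726582cd8b4ad42d2bc8b4a902d2ab8b41ec2d0728b42282d165964ef4593ab964e905919296466c591c19641cc2c07a8b0ab02c2bd0b0ad22c0898b02082c35d904d584134c904d14410da90434c41101904428412a0904d124034d100d56400db10034a40102100426402a1100aa2403e51a8fb26a24b1a890a6a2721a89e66a3a11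a8fb46b24a9ac90c6b2719ac9e86b3a09acea46b3459f4d387d37a9f4dcc7d3819f4e287d3f09f4d367c37b1f0dca7c3821f0e267c3f11f0fe27c2331a49866926a1a4e42693991a4dd64637e118372460d51183ae460e4118d0c461399184c8462d89188ec680d491c3744737d91c3b0470e391c4e84713191cb64472d091c9146f24c9bc9706f2539bca686f2919bcf246f24d1b896e6e2541b8a666e2921b8f226e3c11b8356490de1243ce490fc1245064914a124b82490dd9203d0480fb92050848149920b84482e89200901b01b86c1081b03986c5e41b01c0681061a03a0685e21a1710683d6030fe00c392030ed00c1a60300200c1e2030ec810394040fd8101a804]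
noncomputable def A : List (List (ℕ)) := [A_0]
noncomputable def K_0 : List (ℕ) := [nat_lit 0xa050ad569964c28f49abdce7f3da1d066d37b2d92eb74b5db2d1458a43a572f92ce6632da9552994aa451ae172a255a7d3c8ac5afb7c9d4e26935ac56ec762b359ef57bbb5dedd6d82c262f1987c4a5326974ca3f21a7d46a755a6d2ee36f86c2a371a88c4e552899dfa7724aed72b559b0d82f179814120d088e4624520a853a17038641e211e8ec9e475eafc060000]
noncomputable def K : List (List (ℕ)) := [K_0]
noncomputable def R_0 : List (Rule) := [Rule.mk (nat_lit 11) (nat_lit 42) (Steps.bwd (nat_lit 11) (Steps.bwd (nat_lit 2) (Steps.fwd (nat_lit 512) Steps.nil))) (nat_lit 39) (nat_lit 1),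
  Rule.mk (nat_lit 1) (nat_lit 42) (Steps.bwd (nat_lit 12) (Steps.fwd (nat_lit 512) (Steps.bwd (nat_lit 11) Steps.nil))) (nat_lit 13) (nat_lit 2),
  Rule.mk (nat_lit 1) (nat_lit 42) (Steps.bwd (nat_lit 12) (Steps.bwd (nat_lit 2) (Steps.fwd (nat_lit 6144) Steps.nil))) (nat_lit 13) (nat_lit 2),
  Rule.mk (nat_lit 10) (nat_lit 42) (Steps.bwd (nat_lit 10) (Steps.bwd (nat_lit 1) (Steps.bwd (nat_lit 1) Steps.nil))) (nat_lit 36) (nat_lit 3),
  Rule.mk (nat_lit 9) (nat_lit 42) (Steps.bwd (nat_lit 9) (Steps.bwd (nat_lit 2) (Steps.fwd (nat_lit 512) Steps.nil))) (nat_lit 37) (nat_lit 1),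
  Rule.mk (nat_lit 11) (nat_lit 42) (Steps.bwd (nat_lit 9) (Steps.fwd (nat_lit 6144) (Steps.bwd (nat_lit 10) Steps.nil))) (nat_lit 40) (nat_lit 0),
  Rule.mk (nat_lit 1) (nat_lit 42) (Steps.bwd (nat_lit 10) (Steps.fwd (nat_lit 512) (Steps.bwd (nat_lit 9) Steps.nil))) (nat_lit 11) (nat_lit 2),
  Rule.mk (nat_lit 1) (nat_lit 42) (Steps.bwd (nat_lit 10) (Steps.bwd (nat_lit 2) (Steps.fwd (nat_lit 5120) Steps.nil))) (nat_lit 11) (nat_lit 2),
  Rule.mk (nat_lit 12) (nat_lit 42) (Steps.bwd (nat_lit 10) (Steps.fwd (nat_lit 5632) (Steps.fwd (nat_lit 5120) Steps.nil))) (nat_lit 41) (nat_lit 3),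
  Rule.mk (nat_lit 12) (nat_lit 42) (Steps.bwd (nat_lit 12) (Steps.bwd (nat_lit 1) (Steps.bwd (nat_lit 1) Steps.nil))) (nat_lit 38) (nat_lit 3),
  Rule.mk (nat_lit 10) (nat_lit 42) (Steps.bwd (nat_lit 12) (Steps.bwd (nat_lit 9) (Steps.fwd (nat_lit 5632) Steps.nil))) (nat_lit 41) (nat_lit 0),
  Rule.mk (nat_lit 9) (nat_lit 42) (Steps.bwd (nat_lit 11) (Steps.bwd (nat_lit 10) (Steps.fwd (nat_lit 6144) Steps.nil))) (nat_lit 40) (nat_lit 1),
  Rule.mk (nat_lit 12) (nat_lit 42) (Steps.bwd (nat_lit 10) (Steps.bwd (nat_lit 12) (Steps.bwd (nat_lit 9) Steps.nil))) (nat_lit 41) (nat_lit 3),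
  Rule.mk (nat_lit 9) (nat_lit 42) (Steps.bwd (nat_lit 12) (Steps.fwd (nat_lit 4608) (Steps.bwd (nat_lit 12) Steps.nil))) (nat_lit 41) (nat_lit 2),
  Rule.mk (nat_lit 10) (nat_lit 42) (Steps.bwd (nat_lit 1) (Steps.fwd (nat_lit 5120) (Steps.fwd (nat_lit 512) Steps.nil))) (nat_lit 10) (nat_lit 0),
  Rule.mk (nat_lit 11) (nat_lit 42) (Steps.bwd (nat_lit 1) (Steps.bwd (nat_lit 12) (Steps.fwd (nat_lit 512) Steps.nil))) (nat_lit 13) (nat_lit 1),
  Rule.mk (nat_lit 1) (nat_lit 42) (Steps.bwd (nat_lit 1) (Steps.bwd (nat_lit 10) (Steps.bwd (nat_lit 10) Steps.nil))) (nat_lit 36) (nat_lit 1),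
  Rule.mk (nat_lit 2) (nat_lit 42) (Steps.bwd (nat_lit 12) (Steps.bwd (nat_lit 1) (Steps.fwd (nat_lit 6144) Steps.nil))) (nat_lit 12) (nat_lit 3),
  Rule.mk (nat_lit 9) (nat_lit 42) (Steps.bwd (nat_lit 12) (Steps.bwd (nat_lit 10) (Steps.fwd (nat_lit 5632) Steps.nil))) (nat_lit 41) (nat_lit 2),
  Rule.mk (nat_lit 1) (nat_lit 42) (Steps.bwd (nat_lit 11) (Steps.fwd (nat_lit 512) (Steps.bwd (nat_lit 12) Steps.nil))) (nat_lit 12) (nat_lit 1),
  Rule.mk (nat_lit 2) (nat_lit 42) (Steps.bwd (nat_lit 11) (Steps.fwd (nat_lit 1024) (Steps.fwd (nat_lit 5632) Steps.nil))) (nat_lit 13) (nat_lit 0),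
  Rule.mk (nat_lit 11) (nat_lit 42) (Steps.bwd (nat_lit 11) (Steps.fwd (nat_lit 512) (Steps.bwd (nat_lit 2) Steps.nil))) (nat_lit 39) (nat_lit 1),
  Rule.mk (nat_lit 10) (nat_lit 42) (Steps.bwd (nat_lit 11) (Steps.fwd (nat_lit 5120) (Steps.bwd (nat_lit 11) Steps.nil))) (nat_lit 40) (nat_lit 3),
  Rule.mk (nat_lit 2) (nat_lit 42) (Steps.bwd (nat_lit 10) (Steps.bwd (nat_lit 1) (Steps.bwd (nat_lit 9) Steps.nil))) (nat_lit 10) (nat_lit 3),
  Rule.mk (nat_lit 1) (nat_lit 42) (Steps.bwd (nat_lit 10) (Steps.fwd (nat_lit 512) (Steps.fwd (nat_lit 5120) Steps.nil))) (nat_lit 11) (nat_lit 2),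
  Rule.mk (nat_lit 12) (nat_lit 42) (Steps.bwd (nat_lit 10) (Steps.bwd (nat_lit 12) (Steps.fwd (nat_lit 5120) Steps.nil))) (nat_lit 41) (nat_lit 3),
  Rule.mk (nat_lit 7) (nat_lit 42) (Steps.bwd (nat_lit 7) (Steps.bwd (nat_lit 2) (Steps.fwd (nat_lit 512) Steps.nil))) (nat_lit 33) (nat_lit 1),
  Rule.mk (nat_lit 12) (nat_lit 42) (Steps.bwd (nat_lit 8) (Steps.fwd (nat_lit 6144) (Steps.bwd (nat_lit 7) Steps.nil))) (nat_lit 29) (nat_lit 3),
  Rule.mk (nat_lit 7) (nat_lit 42) (Steps.fwd (nat_lit 6144) (Steps.fwd (nat_lit 3584) (Steps.bwd (nat_lit 12) Steps.nil))) (nat_lit 28) (nat_lit 1),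
  Rule.mk (nat_lit 2) (nat_lit 42) (Steps.bwd (nat_lit 2) (Steps.fwd (nat_lit 512) (Steps.fwd (nat_lit 512) Steps.nil))) (nat_lit 1) (nat_lit 0),
  Rule.mk (nat_lit 9) (nat_lit 42) (Steps.bwd (nat_lit 2) (Steps.bwd (nat_lit 10) (Steps.bwd (nat_lit 1) Steps.nil))) (nat_lit 10) (nat_lit 2),
  Rule.mk (nat_lit 10) (nat_lit 42) (Steps.bwd (nat_lit 2) (Steps.bwd (nat_lit 9) (Steps.bwd (nat_lit 1) Steps.nil))) (nat_lit 11) (nat_lit 3),
  Rule.mk (nat_lit 11) (nat_lit 42) (Steps.bwd (nat_lit 2) (Steps.bwd (nat_lit 12) (Steps.bwd (nat_lit 1) Steps.nil))) (nat_lit 12) (nat_lit 2),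
  Rule.mk (nat_lit 12) (nat_lit 42) (Steps.bwd (nat_lit 2) (Steps.fwd (nat_lit 6144) (Steps.bwd (nat_lit 1) Steps.nil))) (nat_lit 13) (nat_lit 3),
  Rule.mk (nat_lit 1) (nat_lit 42) (Steps.bwd (nat_lit 7) (Steps.fwd (nat_lit 512) (Steps.fwd (nat_lit 3584) Steps.nil))) (nat_lit 8) (nat_lit 1),
  Rule.mk (nat_lit 7) (nat_lit 42) (Steps.bwd (nat_lit 7) (Steps.fwd (nat_lit 512) (Steps.bwd (nat_lit 2) Steps.nil))) (nat_lit 33) (nat_lit 1),
  Rule.mk (nat_lit 8) (nat_lit 42) (Steps.bwd (nat_lit 12) (Steps.bwd (nat_lit 7) (Steps.fwd (nat_lit 6144) Steps.nil))) (nat_lit 28) (nat_lit 3),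
  Rule.mk (nat_lit 7) (nat_lit 42) (Steps.bwd (nat_lit 12) (Steps.fwd (nat_lit 3584) (Steps.bwd (nat_lit 11) Steps.nil))) (nat_lit 29) (nat_lit 2),
  Rule.mk (nat_lit 1) (nat_lit 42) (Steps.bwd (nat_lit 12) (Steps.bwd (nat_lit 12) (Steps.bwd (nat_lit 1) Steps.nil))) (nat_lit 38) (nat_lit 2),
  Rule.mk (nat_lit 1) (nat_lit 42) (Steps.bwd (nat_lit 1) (Steps.bwd (nat_lit 1) (Steps.bwd (nat_lit 1) Steps.nil))) (nat_lit 0) (nat_lit 0),
  Rule.mk (nat_lit 8) (nat_lit 42) (Steps.bwd (nat_lit 1) (Steps.bwd (nat_lit 7) (Steps.bwd (nat_lit 2) Steps.nil))) (nat_lit 8) (nat_lit 0),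
  Rule.mk (nat_lit 7) (nat_lit 42) (Steps.bwd (nat_lit 1) (Steps.bwd (nat_lit 8) (Steps.fwd (nat_lit 512) Steps.nil))) (nat_lit 9) (nat_lit 1),
  Rule.mk (nat_lit 8) (nat_lit 42) (Steps.bwd (nat_lit 12) (Steps.fwd (nat_lit 4096) (Steps.fwd (nat_lit 6144) Steps.nil))) (nat_lit 28) (nat_lit 3),
  Rule.mk (nat_lit 7) (nat_lit 42) (Steps.bwd (nat_lit 12) (Steps.fwd (nat_lit 3584) (Steps.fwd (nat_lit 6144) Steps.nil))) (nat_lit 29) (nat_lit 2),
  Rule.mk (nat_lit 7) (nat_lit 42) (Steps.bwd (nat_lit 1) (Steps.fwd (nat_lit 3584) (Steps.fwd (nat_lit 512) Steps.nil))) (nat_lit 9) (nat_lit 1),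
  Rule.mk (nat_lit 12) (nat_lit 42) (Steps.bwd (nat_lit 1) (Steps.fwd (nat_lit 6144) (Steps.fwd (nat_lit 512) Steps.nil))) (nat_lit 12) (nat_lit 0),
  Rule.mk (nat_lit 1) (nat_lit 42) (Steps.bwd (nat_lit 1) (Steps.fwd (nat_lit 3584) (Steps.bwd (nat_lit 8) Steps.nil))) (nat_lit 32) (nat_lit 1),
  Rule.mk (nat_lit 2) (nat_lit 42) (Steps.bwd (nat_lit 8) (Steps.fwd (nat_lit 1024) (Steps.bwd (nat_lit 7) Steps.nil))) (nat_lit 8) (nat_lit 3),
  Rule.mk (nat_lit 1) (nat_lit 42) (Steps.bwd (nat_lit 8) (Steps.fwd (nat_lit 512) (Steps.bwd (nat_lit 7) Steps.nil))) (nat_lit 9) (nat_lit 2),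
  Rule.mk (nat_lit 11) (nat_lit 42) (Steps.bwd (nat_lit 8) (Steps.bwd (nat_lit 12) (Steps.bwd (nat_lit 7) Steps.nil))) (nat_lit 28) (nat_lit 2),
  Rule.mk (nat_lit 8) (nat_lit 42) (Steps.bwd (nat_lit 8) (Steps.fwd (nat_lit 1024) (Steps.bwd (nat_lit 1) Steps.nil))) (nat_lit 32) (nat_lit 3),
  Rule.mk (nat_lit 7) (nat_lit 42) (Steps.bwd (nat_lit 9) (Steps.fwd (nat_lit 3584) (Steps.fwd (nat_lit 4608) Steps.nil))) (nat_lit 26) (nat_lit 1),
  Rule.mk (nat_lit 8) (nat_lit 42) (Steps.bwd (nat_lit 9) (Steps.fwd (nat_lit 4096) (Steps.bwd (nat_lit 10) Steps.nil))) (nat_lit 27) (nat_lit 0),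
  Rule.mk (nat_lit 9) (nat_lit 42) (Steps.bwd (nat_lit 8) (Steps.fwd (nat_lit 4608) (Steps.bwd (nat_lit 7) Steps.nil))) (nat_lit 26) (nat_lit 2),
  Rule.mk (nat_lit 10) (nat_lit 42) (Steps.bwd (nat_lit 8) (Steps.fwd (nat_lit 5120) (Steps.fwd (nat_lit 4096) Steps.nil))) (nat_lit 27) (nat_lit 3),
  Rule.mk (nat_lit 8) (nat_lit 42) (Steps.bwd (nat_lit 8) (Steps.bwd (nat_lit 1) (Steps.fwd (nat_lit 1024) Steps.nil))) (nat_lit 32) (nat_lit 3),
  Rule.mk (nat_lit 8) (nat_lit 42) (Steps.bwd (nat_lit 10) (Steps.fwd (nat_lit 4096) (Steps.fwd (nat_lit 5120) Steps.nil))) (nat_lit 26) (nat_lit 3),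
  Rule.mk (nat_lit 7) (nat_lit 42) (Steps.bwd (nat_lit 10) (Steps.fwd (nat_lit 3584) (Steps.fwd (nat_lit 5120) Steps.nil))) (nat_lit 27) (nat_lit 2),
  Rule.mk (nat_lit 8) (nat_lit 42) (Steps.bwd (nat_lit 1) (Steps.fwd (nat_lit 4096) (Steps.bwd (nat_lit 2) Steps.nil))) (nat_lit 8) (nat_lit 0),
  Rule.mk (nat_lit 10) (nat_lit 42) (Steps.bwd (nat_lit 1) (Steps.bwd (nat_lit 9) (Steps.bwd (nat_lit 2) Steps.nil))) (nat_lit 10) (nat_lit 0),
  Rule.mk (nat_lit 9) (nat_lit 42) (Steps.bwd (nat_lit 1) (Steps.fwd (nat_lit 4608) (Steps.fwd (nat_lit 512) Steps.nil))) (nat_lit 11) (nat_lit 1),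
  Rule.mk (nat_lit 9) (nat_lit 42) (Steps.bwd (nat_lit 8) (Steps.bwd (nat_lit 10) (Steps.fwd (nat_lit 4096) Steps.nil))) (nat_lit 26) (nat_lit 2),
  Rule.mk (nat_lit 10) (nat_lit 42) (Steps.bwd (nat_lit 8) (Steps.fwd (nat_lit 5120) (Steps.bwd (nat_lit 7) Steps.nil))) (nat_lit 27) (nat_lit 3),
  Rule.mk (nat_lit 7) (nat_lit 42) (Steps.bwd (nat_lit 11) (Steps.fwd (nat_lit 3584) (Steps.fwd (nat_lit 5632) Steps.nil))) (nat_lit 28) (nat_lit 1)]
noncomputable def R_1 : List (Rule) := [Rule.mk (nat_lit 8) (nat_lit 42) (Steps.bwd (nat_lit 11) (Steps.fwd (nat_lit 4096) (Steps.bwd (nat_lit 12) Steps.nil))) (nat_lit 29) (nat_lit 0),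
  Rule.mk (nat_lit 10) (nat_lit 42) (Steps.bwd (nat_lit 11) (Steps.fwd (nat_lit 5120) (Steps.fwd (nat_lit 6144) Steps.nil))) (nat_lit 40) (nat_lit 3),
  Rule.mk (nat_lit 7) (nat_lit 42) (Steps.bwd (nat_lit 2) (Steps.bwd (nat_lit 8) (Steps.bwd (nat_lit 1) Steps.nil))) (nat_lit 8) (nat_lit 2),
  Rule.mk (nat_lit 8) (nat_lit 42) (Steps.bwd (nat_lit 2) (Steps.fwd (nat_lit 4096) (Steps.bwd (nat_lit 1) Steps.nil))) (nat_lit 9) (nat_lit 3),
  Rule.mk (nat_lit 9) (nat_lit 42) (Steps.bwd (nat_lit 2) (Steps.fwd (nat_lit 4608) (Steps.bwd (nat_lit 1) Steps.nil))) (nat_lit 10) (nat_lit 2),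
  Rule.mk (nat_lit 10) (nat_lit 42) (Steps.bwd (nat_lit 2) (Steps.fwd (nat_lit 5120) (Steps.bwd (nat_lit 1) Steps.nil))) (nat_lit 11) (nat_lit 3),
  Rule.mk (nat_lit 2) (nat_lit 42) (Steps.bwd (nat_lit 2) (Steps.fwd (nat_lit 4096) (Steps.bwd (nat_lit 7) Steps.nil))) (nat_lit 33) (nat_lit 3),
  Rule.mk (nat_lit 1) (nat_lit 42) (Steps.bwd (nat_lit 7) (Steps.fwd (nat_lit 512) (Steps.bwd (nat_lit 8) Steps.nil))) (nat_lit 8) (nat_lit 1),
  Rule.mk (nat_lit 2) (nat_lit 42) (Steps.bwd (nat_lit 7) (Steps.fwd (nat_lit 1024) (Steps.bwd (nat_lit 8) Steps.nil))) (nat_lit 9) (nat_lit 0),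
  Rule.mk (nat_lit 10) (nat_lit 42) (Steps.bwd (nat_lit 7) (Steps.bwd (nat_lit 9) (Steps.bwd (nat_lit 8) Steps.nil))) (nat_lit 26) (nat_lit 0),
  Rule.mk (nat_lit 9) (nat_lit 42) (Steps.bwd (nat_lit 7) (Steps.fwd (nat_lit 4608) (Steps.fwd (nat_lit 3584) Steps.nil))) (nat_lit 27) (nat_lit 1),
  Rule.mk (nat_lit 12) (nat_lit 42) (Steps.bwd (nat_lit 7) (Steps.bwd (nat_lit 11) (Steps.bwd (nat_lit 8) Steps.nil))) (nat_lit 28) (nat_lit 0),
  Rule.mk (nat_lit 11) (nat_lit 42) (Steps.bwd (nat_lit 7) (Steps.bwd (nat_lit 12) (Steps.bwd (nat_lit 8) Steps.nil))) (nat_lit 29) (nat_lit 1),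
  Rule.mk (nat_lit 6) (nat_lit 42) (Steps.bwd (nat_lit 6) (Steps.bwd (nat_lit 1) (Steps.fwd (nat_lit 1024) Steps.nil))) (nat_lit 30) (nat_lit 3),
  Rule.mk (nat_lit 5) (nat_lit 42) (Steps.bwd (nat_lit 5) (Steps.bwd (nat_lit 2) (Steps.fwd (nat_lit 512) Steps.nil))) (nat_lit 31) (nat_lit 1),
  Rule.mk (nat_lit 8) (nat_lit 42) (Steps.bwd (nat_lit 5) (Steps.bwd (nat_lit 8) (Steps.bwd (nat_lit 6) Steps.nil))) (nat_lit 35) (nat_lit 1),
  Rule.mk (nat_lit 6) (nat_lit 42) (Steps.bwd (nat_lit 6) (Steps.fwd (nat_lit 1024) (Steps.fwd (nat_lit 1024) Steps.nil))) (nat_lit 30) (nat_lit 3),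
  Rule.mk (nat_lit 8) (nat_lit 42) (Steps.bwd (nat_lit 6) (Steps.bwd (nat_lit 8) (Steps.bwd (nat_lit 5) Steps.nil))) (nat_lit 35) (nat_lit 3),
  Rule.mk (nat_lit 7) (nat_lit 42) (Steps.bwd (nat_lit 5) (Steps.fwd (nat_lit 4096) (Steps.bwd (nat_lit 6) Steps.nil))) (nat_lit 34) (nat_lit 0),
  Rule.mk (nat_lit 5) (nat_lit 42) (Steps.bwd (nat_lit 2) (Steps.fwd (nat_lit 2560) (Steps.bwd (nat_lit 1) Steps.nil))) (nat_lit 6) (nat_lit 2),
  Rule.mk (nat_lit 6) (nat_lit 42) (Steps.bwd (nat_lit 2) (Steps.bwd (nat_lit 5) (Steps.bwd (nat_lit 1) Steps.nil))) (nat_lit 7) (nat_lit 3),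
  Rule.mk (nat_lit 2) (nat_lit 42) (Steps.bwd (nat_lit 2) (Steps.bwd (nat_lit 5) (Steps.bwd (nat_lit 5) Steps.nil))) (nat_lit 31) (nat_lit 3),
  Rule.mk (nat_lit 2) (nat_lit 42) (Steps.bwd (nat_lit 6) (Steps.fwd (nat_lit 1024) (Steps.fwd (nat_lit 3072) Steps.nil))) (nat_lit 6) (nat_lit 3),
  Rule.mk (nat_lit 1) (nat_lit 42) (Steps.bwd (nat_lit 6) (Steps.bwd (nat_lit 2) (Steps.fwd (nat_lit 3072) Steps.nil))) (nat_lit 7) (nat_lit 2),
  Rule.mk (nat_lit 6) (nat_lit 42) (Steps.bwd (nat_lit 6) (Steps.fwd (nat_lit 1024) (Steps.bwd (nat_lit 1) Steps.nil))) (nat_lit 30) (nat_lit 3),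
  Rule.mk (nat_lit 8) (nat_lit 42) (Steps.bwd (nat_lit 6) (Steps.fwd (nat_lit 3584) (Steps.bwd (nat_lit 5) Steps.nil))) (nat_lit 35) (nat_lit 3),
  Rule.mk (nat_lit 5) (nat_lit 42) (Steps.bwd (nat_lit 11) (Steps.bwd (nat_lit 6) (Steps.fwd (nat_lit 5632) Steps.nil))) (nat_lit 24) (nat_lit 1),
  Rule.mk (nat_lit 6) (nat_lit 42) (Steps.bwd (nat_lit 11) (Steps.fwd (nat_lit 3072) (Steps.bwd (nat_lit 12) Steps.nil))) (nat_lit 25) (nat_lit 0),
  Rule.mk (nat_lit 11) (nat_lit 42) (Steps.bwd (nat_lit 6) (Steps.fwd (nat_lit 5632) (Steps.bwd (nat_lit 5) Steps.nil))) (nat_lit 24) (nat_lit 2),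
  Rule.mk (nat_lit 12) (nat_lit 42) (Steps.bwd (nat_lit 6) (Steps.bwd (nat_lit 11) (Steps.bwd (nat_lit 5) Steps.nil))) (nat_lit 25) (nat_lit 3),
  Rule.mk (nat_lit 6) (nat_lit 42) (Steps.bwd (nat_lit 6) (Steps.bwd (nat_lit 1) (Steps.bwd (nat_lit 1) Steps.nil))) (nat_lit 30) (nat_lit 3),
  Rule.mk (nat_lit 2) (nat_lit 42) (Steps.bwd (nat_lit 2) (Steps.bwd (nat_lit 2) (Steps.bwd (nat_lit 2) Steps.nil))) (nat_lit 1) (nat_lit 0),
  Rule.mk (nat_lit 1) (nat_lit 42) (Steps.bwd (nat_lit 11) (Steps.bwd (nat_lit 2) (Steps.bwd (nat_lit 12) Steps.nil))) (nat_lit 12) (nat_lit 1),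
  Rule.mk (nat_lit 5) (nat_lit 42) (Steps.bwd (nat_lit 11) (Steps.fwd (nat_lit 2560) (Steps.bwd (nat_lit 12) Steps.nil))) (nat_lit 24) (nat_lit 1),
  Rule.mk (nat_lit 6) (nat_lit 42) (Steps.bwd (nat_lit 11) (Steps.fwd (nat_lit 3072) (Steps.fwd (nat_lit 5632) Steps.nil))) (nat_lit 25) (nat_lit 0),
  Rule.mk (nat_lit 11) (nat_lit 42) (Steps.bwd (nat_lit 11) (Steps.bwd (nat_lit 2) (Steps.bwd (nat_lit 2) Steps.nil))) (nat_lit 39) (nat_lit 1),
  Rule.mk (nat_lit 1) (nat_lit 42) (Steps.bwd (nat_lit 12) (Steps.bwd (nat_lit 2) (Steps.bwd (nat_lit 11) Steps.nil))) (nat_lit 13) (nat_lit 2),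
  Rule.mk (nat_lit 6) (nat_lit 42) (Steps.bwd (nat_lit 12) (Steps.bwd (nat_lit 5) (Steps.bwd (nat_lit 11) Steps.nil))) (nat_lit 24) (nat_lit 3),
  Rule.mk (nat_lit 5) (nat_lit 42) (Steps.bwd (nat_lit 12) (Steps.fwd (nat_lit 2560) (Steps.fwd (nat_lit 6144) Steps.nil))) (nat_lit 25) (nat_lit 2),
  Rule.mk (nat_lit 7) (nat_lit 42) (Steps.bwd (nat_lit 12) (Steps.bwd (nat_lit 8) (Steps.bwd (nat_lit 11) Steps.nil))) (nat_lit 29) (nat_lit 2),
  Rule.mk (nat_lit 12) (nat_lit 42) (Steps.bwd (nat_lit 12) (Steps.fwd (nat_lit 1024) (Steps.fwd (nat_lit 1024) Steps.nil))) (nat_lit 38) (nat_lit 3),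
  Rule.mk (nat_lit 2) (nat_lit 42) (Steps.bwd (nat_lit 12) (Steps.fwd (nat_lit 1024) (Steps.bwd (nat_lit 11) Steps.nil))) (nat_lit 12) (nat_lit 3),
  Rule.mk (nat_lit 6) (nat_lit 42) (Steps.bwd (nat_lit 12) (Steps.fwd (nat_lit 3072) (Steps.fwd (nat_lit 6144) Steps.nil))) (nat_lit 24) (nat_lit 3),
  Rule.mk (nat_lit 5) (nat_lit 42) (Steps.bwd (nat_lit 12) (Steps.fwd (nat_lit 2560) (Steps.bwd (nat_lit 11) Steps.nil))) (nat_lit 25) (nat_lit 2),
  Rule.mk (nat_lit 5) (nat_lit 42) (Steps.bwd (nat_lit 9) (Steps.bwd (nat_lit 6) (Steps.bwd (nat_lit 10) Steps.nil))) (nat_lit 22) (nat_lit 1),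
  Rule.mk (nat_lit 6) (nat_lit 42) (Steps.bwd (nat_lit 9) (Steps.fwd (nat_lit 3072) (Steps.bwd (nat_lit 10) Steps.nil))) (nat_lit 23) (nat_lit 0),
  Rule.mk (nat_lit 9) (nat_lit 42) (Steps.bwd (nat_lit 6) (Steps.fwd (nat_lit 4608) (Steps.bwd (nat_lit 5) Steps.nil))) (nat_lit 22) (nat_lit 2),
  Rule.mk (nat_lit 6) (nat_lit 42) (Steps.bwd (nat_lit 10) (Steps.fwd (nat_lit 3072) (Steps.fwd (nat_lit 5120) Steps.nil))) (nat_lit 22) (nat_lit 3),
  Rule.mk (nat_lit 5) (nat_lit 42) (Steps.bwd (nat_lit 10) (Steps.bwd (nat_lit 6) (Steps.fwd (nat_lit 5120) Steps.nil))) (nat_lit 23) (nat_lit 2),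
  Rule.mk (nat_lit 12) (nat_lit 42) (Steps.bwd (nat_lit 10) (Steps.fwd (nat_lit 5632) (Steps.bwd (nat_lit 9) Steps.nil))) (nat_lit 41) (nat_lit 3),
  Rule.mk (nat_lit 10) (nat_lit 42) (Steps.bwd (nat_lit 5) (Steps.bwd (nat_lit 9) (Steps.fwd (nat_lit 2560) Steps.nil))) (nat_lit 22) (nat_lit 0),
  Rule.mk (nat_lit 9) (nat_lit 42) (Steps.bwd (nat_lit 5) (Steps.fwd (nat_lit 4608) (Steps.fwd (nat_lit 2560) Steps.nil))) (nat_lit 23) (nat_lit 1),
  Rule.mk (nat_lit 11) (nat_lit 42) (Steps.bwd (nat_lit 5) (Steps.fwd (nat_lit 5632) (Steps.bwd (nat_lit 6) Steps.nil))) (nat_lit 25) (nat_lit 1),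
  Rule.mk (nat_lit 5) (nat_lit 42) (Steps.bwd (nat_lit 5) (Steps.bwd (nat_lit 2) (Steps.bwd (nat_lit 2) Steps.nil))) (nat_lit 31) (nat_lit 1),
  Rule.mk (nat_lit 8) (nat_lit 42) (Steps.bwd (nat_lit 5) (Steps.fwd (nat_lit 3584) (Steps.bwd (nat_lit 6) Steps.nil))) (nat_lit 35) (nat_lit 1),
  Rule.mk (nat_lit 5) (nat_lit 42) (Steps.bwd (nat_lit 9) (Steps.fwd (nat_lit 2560) (Steps.bwd (nat_lit 10) Steps.nil))) (nat_lit 22) (nat_lit 1),
  Rule.mk (nat_lit 9) (nat_lit 42) (Steps.bwd (nat_lit 9) (Steps.fwd (nat_lit 512) (Steps.fwd (nat_lit 512) Steps.nil))) (nat_lit 37) (nat_lit 1),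
  Rule.mk (nat_lit 10) (nat_lit 42) (Steps.bwd (nat_lit 6) (Steps.bwd (nat_lit 9) (Steps.bwd (nat_lit 5) Steps.nil))) (nat_lit 23) (nat_lit 3),
  Rule.mk (nat_lit 12) (nat_lit 42) (Steps.bwd (nat_lit 6) (Steps.fwd (nat_lit 6144) (Steps.bwd (nat_lit 5) Steps.nil))) (nat_lit 25) (nat_lit 3),
  Rule.mk (nat_lit 7) (nat_lit 42) (Steps.bwd (nat_lit 6) (Steps.bwd (nat_lit 7) (Steps.bwd (nat_lit 5) Steps.nil))) (nat_lit 34) (nat_lit 2),
  Rule.mk (nat_lit 5) (nat_lit 42) (Steps.bwd (nat_lit 9) (Steps.bwd (nat_lit 6) (Steps.fwd (nat_lit 4608) Steps.nil))) (nat_lit 22) (nat_lit 1),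
  Rule.mk (nat_lit 6) (nat_lit 42) (Steps.bwd (nat_lit 9) (Steps.fwd (nat_lit 3072) (Steps.fwd (nat_lit 4608) Steps.nil))) (nat_lit 23) (nat_lit 0),
  Rule.mk (nat_lit 8) (nat_lit 42) (Steps.bwd (nat_lit 9) (Steps.bwd (nat_lit 7) (Steps.bwd (nat_lit 10) Steps.nil))) (nat_lit 27) (nat_lit 0),
  Rule.mk (nat_lit 12) (nat_lit 42) (Steps.bwd (nat_lit 9) (Steps.fwd (nat_lit 5632) (Steps.bwd (nat_lit 10) Steps.nil))) (nat_lit 41) (nat_lit 1)]
noncomputable def R_2 : List (Rule) := [Rule.mk (nat_lit 12) (nat_lit 42) (Steps.fwd (nat_lit 4608) (Steps.fwd (nat_lit 5632) (Steps.bwd (nat_lit 9) Steps.nil))) (nat_lit 41) (nat_lit 3),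
  Rule.mk (nat_lit 5) (nat_lit 42) (Steps.bwd (nat_lit 2) (Steps.fwd (nat_lit 2560) (Steps.fwd (nat_lit 1024) Steps.nil))) (nat_lit 6) (nat_lit 2),
  Rule.mk (nat_lit 9) (nat_lit 42) (Steps.bwd (nat_lit 2) (Steps.fwd (nat_lit 4608) (Steps.fwd (nat_lit 1024) Steps.nil))) (nat_lit 10) (nat_lit 2),
  Rule.mk (nat_lit 10) (nat_lit 42) (Steps.bwd (nat_lit 2) (Steps.fwd (nat_lit 5120) (Steps.fwd (nat_lit 1024) Steps.nil))) (nat_lit 11) (nat_lit 3),
  Rule.mk (nat_lit 2) (nat_lit 42) (Steps.bwd (nat_lit 2) (Steps.bwd (nat_lit 5) (Steps.fwd (nat_lit 3072) Steps.nil))) (nat_lit 31) (nat_lit 3),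
  Rule.mk (nat_lit 2) (nat_lit 42) (Steps.bwd (nat_lit 6) (Steps.bwd (nat_lit 1) (Steps.bwd (nat_lit 5) Steps.nil))) (nat_lit 6) (nat_lit 3),
  Rule.mk (nat_lit 1) (nat_lit 42) (Steps.bwd (nat_lit 6) (Steps.fwd (nat_lit 512) (Steps.bwd (nat_lit 5) Steps.nil))) (nat_lit 7) (nat_lit 2),
  Rule.mk (nat_lit 9) (nat_lit 42) (Steps.bwd (nat_lit 6) (Steps.bwd (nat_lit 10) (Steps.fwd (nat_lit 3072) Steps.nil))) (nat_lit 22) (nat_lit 2),
  Rule.mk (nat_lit 2) (nat_lit 42) (Steps.bwd (nat_lit 2) (Steps.bwd (nat_lit 2) (Steps.fwd (nat_lit 512) Steps.nil))) (nat_lit 1) (nat_lit 0),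
  Rule.mk (nat_lit 6) (nat_lit 42) (Steps.bwd (nat_lit 2) (Steps.fwd (nat_lit 3072) (Steps.bwd (nat_lit 1) Steps.nil))) (nat_lit 7) (nat_lit 3),
  Rule.mk (nat_lit 7) (nat_lit 42) (Steps.bwd (nat_lit 2) (Steps.bwd (nat_lit 8) (Steps.fwd (nat_lit 1024) Steps.nil))) (nat_lit 8) (nat_lit 2),
  Rule.mk (nat_lit 2) (nat_lit 42) (Steps.bwd (nat_lit 11) (Steps.fwd (nat_lit 1024) (Steps.bwd (nat_lit 12) Steps.nil))) (nat_lit 13) (nat_lit 0),
  Rule.mk (nat_lit 5) (nat_lit 42) (Steps.bwd (nat_lit 11) (Steps.bwd (nat_lit 6) (Steps.bwd (nat_lit 12) Steps.nil))) (nat_lit 24) (nat_lit 1),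
  Rule.mk (nat_lit 1) (nat_lit 42) (Steps.bwd (nat_lit 1) (Steps.bwd (nat_lit 1) (Steps.fwd (nat_lit 1024) Steps.nil))) (nat_lit 0) (nat_lit 0),
  Rule.mk (nat_lit 6) (nat_lit 42) (Steps.bwd (nat_lit 1) (Steps.fwd (nat_lit 3072) (Steps.fwd (nat_lit 512) Steps.nil))) (nat_lit 6) (nat_lit 0),
  Rule.mk (nat_lit 5) (nat_lit 42) (Steps.bwd (nat_lit 1) (Steps.bwd (nat_lit 6) (Steps.bwd (nat_lit 2) Steps.nil))) (nat_lit 7) (nat_lit 1),
  Rule.mk (nat_lit 12) (nat_lit 42) (Steps.bwd (nat_lit 1) (Steps.fwd (nat_lit 6144) (Steps.bwd (nat_lit 2) Steps.nil))) (nat_lit 12) (nat_lit 0),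
  Rule.mk (nat_lit 11) (nat_lit 42) (Steps.bwd (nat_lit 1) (Steps.bwd (nat_lit 12) (Steps.bwd (nat_lit 2) Steps.nil))) (nat_lit 13) (nat_lit 1),
  Rule.mk (nat_lit 2) (nat_lit 42) (Steps.bwd (nat_lit 10) (Steps.fwd (nat_lit 1024) (Steps.fwd (nat_lit 5120) Steps.nil))) (nat_lit 10) (nat_lit 3),
  Rule.mk (nat_lit 6) (nat_lit 42) (Steps.bwd (nat_lit 10) (Steps.fwd (nat_lit 3072) (Steps.bwd (nat_lit 9) Steps.nil))) (nat_lit 22) (nat_lit 3),
  Rule.mk (nat_lit 5) (nat_lit 42) (Steps.bwd (nat_lit 10) (Steps.fwd (nat_lit 2560) (Steps.bwd (nat_lit 9) Steps.nil))) (nat_lit 23) (nat_lit 2),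
  Rule.mk (nat_lit 10) (nat_lit 42) (Steps.bwd (nat_lit 10) (Steps.fwd (nat_lit 1024) (Steps.bwd (nat_lit 1) Steps.nil))) (nat_lit 36) (nat_lit 3),
  Rule.mk (nat_lit 7) (nat_lit 42) (Steps.bwd (nat_lit 11) (Steps.bwd (nat_lit 8) (Steps.bwd (nat_lit 12) Steps.nil))) (nat_lit 28) (nat_lit 1),
  Rule.mk (nat_lit 8) (nat_lit 42) (Steps.fwd (nat_lit 6144) (Steps.fwd (nat_lit 4096) (Steps.bwd (nat_lit 12) Steps.nil))) (nat_lit 29) (nat_lit 0),
  Rule.mk (nat_lit 2) (nat_lit 42) (Steps.bwd (nat_lit 11) (Steps.bwd (nat_lit 1) (Steps.bwd (nat_lit 12) Steps.nil))) (nat_lit 13) (nat_lit 0),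
  Rule.mk (nat_lit 10) (nat_lit 42) (Steps.bwd (nat_lit 11) (Steps.bwd (nat_lit 9) (Steps.fwd (nat_lit 6144) Steps.nil))) (nat_lit 40) (nat_lit 3),
  Rule.mk (nat_lit 9) (nat_lit 42) (Steps.bwd (nat_lit 11) (Steps.fwd (nat_lit 4608) (Steps.fwd (nat_lit 6144) Steps.nil))) (nat_lit 40) (nat_lit 1),
  Rule.mk (nat_lit 12) (nat_lit 42) (Steps.fwd (nat_lit 4608) (Steps.bwd (nat_lit 12) (Steps.bwd (nat_lit 9) Steps.nil))) (nat_lit 41) (nat_lit 3),
  Rule.mk (nat_lit 1) (nat_lit 42) (Steps.bwd (nat_lit 9) (Steps.fwd (nat_lit 512) (Steps.fwd (nat_lit 4608) Steps.nil))) (nat_lit 10) (nat_lit 1),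
  Rule.mk (nat_lit 2) (nat_lit 42) (Steps.bwd (nat_lit 9) (Steps.fwd (nat_lit 1024) (Steps.bwd (nat_lit 10) Steps.nil))) (nat_lit 11) (nat_lit 0),
  Rule.mk (nat_lit 11) (nat_lit 42) (Steps.bwd (nat_lit 9) (Steps.bwd (nat_lit 11) (Steps.fwd (nat_lit 4608) Steps.nil))) (nat_lit 40) (nat_lit 0),
  Rule.mk (nat_lit 8) (nat_lit 42) (Steps.fwd (nat_lit 5632) (Steps.fwd (nat_lit 4096) (Steps.bwd (nat_lit 11) Steps.nil))) (nat_lit 28) (nat_lit 3),
  Rule.mk (nat_lit 5) (nat_lit 42) (Steps.bwd (nat_lit 2) (Steps.bwd (nat_lit 6) (Steps.bwd (nat_lit 1) Steps.nil))) (nat_lit 6) (nat_lit 2),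
  Rule.mk (nat_lit 6) (nat_lit 42) (Steps.bwd (nat_lit 2) (Steps.fwd (nat_lit 3072) (Steps.fwd (nat_lit 1024) Steps.nil))) (nat_lit 7) (nat_lit 3),
  Rule.mk (nat_lit 8) (nat_lit 42) (Steps.bwd (nat_lit 2) (Steps.bwd (nat_lit 7) (Steps.fwd (nat_lit 1024) Steps.nil))) (nat_lit 9) (nat_lit 3),
  Rule.mk (nat_lit 11) (nat_lit 42) (Steps.bwd (nat_lit 2) (Steps.fwd (nat_lit 5632) (Steps.bwd (nat_lit 1) Steps.nil))) (nat_lit 12) (nat_lit 2),
  Rule.mk (nat_lit 12) (nat_lit 42) (Steps.bwd (nat_lit 2) (Steps.fwd (nat_lit 6144) (Steps.fwd (nat_lit 1024) Steps.nil))) (nat_lit 13) (nat_lit 3),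
  Rule.mk (nat_lit 3) (nat_lit 42) (Steps.bwd (nat_lit 3) (Steps.bwd (nat_lit 2) (Steps.bwd (nat_lit 2) Steps.nil))) (nat_lit 3) (nat_lit 1),
  Rule.mk (nat_lit 4) (nat_lit 42) (Steps.bwd (nat_lit 4) (Steps.bwd (nat_lit 1) (Steps.fwd (nat_lit 1024) Steps.nil))) (nat_lit 2) (nat_lit 3),
  Rule.mk (nat_lit 12) (nat_lit 42) (Steps.bwd (nat_lit 4) (Steps.bwd (nat_lit 11) (Steps.bwd (nat_lit 3) Steps.nil))) (nat_lit 21) (nat_lit 3),
  Rule.mk (nat_lit 3) (nat_lit 42) (Steps.bwd (nat_lit 3) (Steps.bwd (nat_lit 2) (Steps.fwd (nat_lit 512) Steps.nil))) (nat_lit 3) (nat_lit 1),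
  Rule.mk (nat_lit 12) (nat_lit 42) (Steps.bwd (nat_lit 3) (Steps.fwd (nat_lit 6144) (Steps.bwd (nat_lit 4) Steps.nil))) (nat_lit 20) (nat_lit 0),
  Rule.mk (nat_lit 4) (nat_lit 42) (Steps.bwd (nat_lit 4) (Steps.fwd (nat_lit 1024) (Steps.fwd (nat_lit 1024) Steps.nil))) (nat_lit 2) (nat_lit 3),
  Rule.mk (nat_lit 11) (nat_lit 42) (Steps.bwd (nat_lit 4) (Steps.bwd (nat_lit 12) (Steps.bwd (nat_lit 3) Steps.nil))) (nat_lit 20) (nat_lit 2),
  Rule.mk (nat_lit 3) (nat_lit 42) (Steps.bwd (nat_lit 3) (Steps.fwd (nat_lit 512) (Steps.fwd (nat_lit 512) Steps.nil))) (nat_lit 3) (nat_lit 1),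
  Rule.mk (nat_lit 10) (nat_lit 42) (Steps.bwd (nat_lit 3) (Steps.bwd (nat_lit 9) (Steps.bwd (nat_lit 4) Steps.nil))) (nat_lit 18) (nat_lit 0),
  Rule.mk (nat_lit 9) (nat_lit 42) (Steps.bwd (nat_lit 3) (Steps.fwd (nat_lit 4608) (Steps.bwd (nat_lit 4) Steps.nil))) (nat_lit 19) (nat_lit 1),
  Rule.mk (nat_lit 9) (nat_lit 42) (Steps.bwd (nat_lit 4) (Steps.fwd (nat_lit 4608) (Steps.bwd (nat_lit 3) Steps.nil))) (nat_lit 18) (nat_lit 2),
  Rule.mk (nat_lit 10) (nat_lit 42) (Steps.bwd (nat_lit 4) (Steps.bwd (nat_lit 9) (Steps.bwd (nat_lit 3) Steps.nil))) (nat_lit 19) (nat_lit 3),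
  Rule.mk (nat_lit 12) (nat_lit 42) (Steps.bwd (nat_lit 4) (Steps.fwd (nat_lit 6144) (Steps.bwd (nat_lit 3) Steps.nil))) (nat_lit 21) (nat_lit 3),
  Rule.mk (nat_lit 10) (nat_lit 42) (Steps.bwd (nat_lit 3) (Steps.fwd (nat_lit 5120) (Steps.bwd (nat_lit 4) Steps.nil))) (nat_lit 18) (nat_lit 0),
  Rule.mk (nat_lit 9) (nat_lit 42) (Steps.bwd (nat_lit 3) (Steps.bwd (nat_lit 10) (Steps.bwd (nat_lit 4) Steps.nil))) (nat_lit 19) (nat_lit 1),
  Rule.mk (nat_lit 9) (nat_lit 42) (Steps.bwd (nat_lit 4) (Steps.bwd (nat_lit 10) (Steps.bwd (nat_lit 3) Steps.nil))) (nat_lit 18) (nat_lit 2),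
  Rule.mk (nat_lit 8) (nat_lit 42) (Steps.bwd (nat_lit 3) (Steps.fwd (nat_lit 4096) (Steps.bwd (nat_lit 4) Steps.nil))) (nat_lit 16) (nat_lit 0),
  Rule.mk (nat_lit 7) (nat_lit 42) (Steps.bwd (nat_lit 3) (Steps.bwd (nat_lit 8) (Steps.bwd (nat_lit 4) Steps.nil))) (nat_lit 17) (nat_lit 1),
  Rule.mk (nat_lit 4) (nat_lit 42) (Steps.fwd (nat_lit 3584) (Steps.fwd (nat_lit 2048) (Steps.bwd (nat_lit 7) Steps.nil))) (nat_lit 16) (nat_lit 3),
  Rule.mk (nat_lit 1) (nat_lit 42) (Steps.bwd (nat_lit 1) (Steps.bwd (nat_lit 4) (Steps.bwd (nat_lit 4) Steps.nil))) (nat_lit 2) (nat_lit 1),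
  Rule.mk (nat_lit 3) (nat_lit 42) (Steps.bwd (nat_lit 1) (Steps.fwd (nat_lit 2048) (Steps.bwd (nat_lit 2) Steps.nil))) (nat_lit 4) (nat_lit 0),
  Rule.mk (nat_lit 4) (nat_lit 42) (Steps.bwd (nat_lit 1) (Steps.bwd (nat_lit 4) (Steps.bwd (nat_lit 2) Steps.nil))) (nat_lit 5) (nat_lit 1),
  Rule.mk (nat_lit 4) (nat_lit 42) (Steps.bwd (nat_lit 6) (Steps.fwd (nat_lit 2048) (Steps.fwd (nat_lit 3072) Steps.nil))) (nat_lit 14) (nat_lit 3),
  Rule.mk (nat_lit 3) (nat_lit 42) (Steps.bwd (nat_lit 6) (Steps.bwd (nat_lit 4) (Steps.fwd (nat_lit 3072) Steps.nil))) (nat_lit 15) (nat_lit 2),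
  Rule.mk (nat_lit 6) (nat_lit 42) (Steps.bwd (nat_lit 3) (Steps.fwd (nat_lit 3072) (Steps.fwd (nat_lit 1536) Steps.nil))) (nat_lit 14) (nat_lit 0),
  Rule.mk (nat_lit 5) (nat_lit 42) (Steps.bwd (nat_lit 3) (Steps.bwd (nat_lit 6) (Steps.fwd (nat_lit 1536) Steps.nil))) (nat_lit 15) (nat_lit 1),
  Rule.mk (nat_lit 11) (nat_lit 42) (Steps.bwd (nat_lit 3) (Steps.bwd (nat_lit 12) (Steps.bwd (nat_lit 4) Steps.nil))) (nat_lit 21) (nat_lit 1)]
noncomputable def R_3 : List (Rule) := [Rule.mk (nat_lit 4) (nat_lit 42) (Steps.bwd (nat_lit 4) (Steps.bwd (nat_lit 1) (Steps.bwd (nat_lit 1) Steps.nil))) (nat_lit 2) (nat_lit 3),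
  Rule.mk (nat_lit 5) (nat_lit 42) (Steps.bwd (nat_lit 4) (Steps.bwd (nat_lit 6) (Steps.fwd (nat_lit 2048) Steps.nil))) (nat_lit 14) (nat_lit 2),
  Rule.mk (nat_lit 6) (nat_lit 42) (Steps.bwd (nat_lit 4) (Steps.bwd (nat_lit 5) (Steps.fwd (nat_lit 2048) Steps.nil))) (nat_lit 15) (nat_lit 3),
  Rule.mk (nat_lit 10) (nat_lit 42) (Steps.bwd (nat_lit 4) (Steps.fwd (nat_lit 5120) (Steps.bwd (nat_lit 3) Steps.nil))) (nat_lit 19) (nat_lit 3),
  Rule.mk (nat_lit 11) (nat_lit 42) (Steps.bwd (nat_lit 4) (Steps.fwd (nat_lit 5632) (Steps.bwd (nat_lit 3) Steps.nil))) (nat_lit 20) (nat_lit 2),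
  Rule.mk (nat_lit 12) (nat_lit 42) (Steps.bwd (nat_lit 3) (Steps.bwd (nat_lit 11) (Steps.bwd (nat_lit 4) Steps.nil))) (nat_lit 20) (nat_lit 0),
  Rule.mk (nat_lit 11) (nat_lit 42) (Steps.bwd (nat_lit 3) (Steps.fwd (nat_lit 5632) (Steps.bwd (nat_lit 4) Steps.nil))) (nat_lit 21) (nat_lit 1),
  Rule.mk (nat_lit 7) (nat_lit 42) (Steps.bwd (nat_lit 4) (Steps.bwd (nat_lit 8) (Steps.bwd (nat_lit 3) Steps.nil))) (nat_lit 16) (nat_lit 2),
  Rule.mk (nat_lit 8) (nat_lit 42) (Steps.bwd (nat_lit 4) (Steps.fwd (nat_lit 4096) (Steps.bwd (nat_lit 3) Steps.nil))) (nat_lit 17) (nat_lit 3),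
  Rule.mk (nat_lit 8) (nat_lit 42) (Steps.bwd (nat_lit 3) (Steps.bwd (nat_lit 7) (Steps.bwd (nat_lit 4) Steps.nil))) (nat_lit 16) (nat_lit 0),
  Rule.mk (nat_lit 8) (nat_lit 42) (Steps.bwd (nat_lit 4) (Steps.bwd (nat_lit 7) (Steps.bwd (nat_lit 3) Steps.nil))) (nat_lit 17) (nat_lit 3),
  Rule.mk (nat_lit 7) (nat_lit 42) (Steps.bwd (nat_lit 4) (Steps.fwd (nat_lit 3584) (Steps.bwd (nat_lit 3) Steps.nil))) (nat_lit 16) (nat_lit 2),
  Rule.mk (nat_lit 5) (nat_lit 42) (Steps.bwd (nat_lit 3) (Steps.fwd (nat_lit 2560) (Steps.fwd (nat_lit 1536) Steps.nil))) (nat_lit 15) (nat_lit 1),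
  Rule.mk (nat_lit 7) (nat_lit 42) (Steps.bwd (nat_lit 3) (Steps.fwd (nat_lit 3584) (Steps.bwd (nat_lit 4) Steps.nil))) (nat_lit 17) (nat_lit 1),
  Rule.mk (nat_lit 6) (nat_lit 42) (Steps.bwd (nat_lit 3) (Steps.bwd (nat_lit 5) (Steps.fwd (nat_lit 1536) Steps.nil))) (nat_lit 14) (nat_lit 0),
  Rule.mk (nat_lit 5) (nat_lit 42) (Steps.bwd (nat_lit 4) (Steps.fwd (nat_lit 2560) (Steps.bwd (nat_lit 3) Steps.nil))) (nat_lit 14) (nat_lit 2),
  Rule.mk (nat_lit 6) (nat_lit 42) (Steps.bwd (nat_lit 4) (Steps.bwd (nat_lit 5) (Steps.bwd (nat_lit 3) Steps.nil))) (nat_lit 15) (nat_lit 3),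
  Rule.mk (nat_lit 7) (nat_lit 42) (Steps.bwd (nat_lit 4) (Steps.bwd (nat_lit 8) (Steps.fwd (nat_lit 2048) Steps.nil))) (nat_lit 16) (nat_lit 2),
  Rule.mk (nat_lit 8) (nat_lit 42) (Steps.bwd (nat_lit 4) (Steps.fwd (nat_lit 4096) (Steps.fwd (nat_lit 2048) Steps.nil))) (nat_lit 17) (nat_lit 3),
  Rule.mk (nat_lit 6) (nat_lit 42) (Steps.bwd (nat_lit 3) (Steps.fwd (nat_lit 3072) (Steps.bwd (nat_lit 4) Steps.nil))) (nat_lit 14) (nat_lit 0),
  Rule.mk (nat_lit 5) (nat_lit 42) (Steps.bwd (nat_lit 3) (Steps.fwd (nat_lit 2560) (Steps.bwd (nat_lit 4) Steps.nil))) (nat_lit 15) (nat_lit 1),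
  Rule.mk (nat_lit 8) (nat_lit 42) (Steps.bwd (nat_lit 3) (Steps.bwd (nat_lit 7) (Steps.fwd (nat_lit 1536) Steps.nil))) (nat_lit 16) (nat_lit 0),
  Rule.mk (nat_lit 7) (nat_lit 42) (Steps.bwd (nat_lit 3) (Steps.bwd (nat_lit 8) (Steps.fwd (nat_lit 1536) Steps.nil))) (nat_lit 17) (nat_lit 1),
  Rule.mk (nat_lit 12) (nat_lit 42) (Steps.bwd (nat_lit 3) (Steps.bwd (nat_lit 11) (Steps.fwd (nat_lit 1536) Steps.nil))) (nat_lit 20) (nat_lit 0),
  Rule.mk (nat_lit 4) (nat_lit 42) (Steps.fwd (nat_lit 5632) (Steps.fwd (nat_lit 2048) (Steps.bwd (nat_lit 11) Steps.nil))) (nat_lit 20) (nat_lit 3),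
  Rule.mk (nat_lit 3) (nat_lit 42) (Steps.bwd (nat_lit 1) (Steps.fwd (nat_lit 2048) (Steps.fwd (nat_lit 512) Steps.nil))) (nat_lit 4) (nat_lit 0),
  Rule.mk (nat_lit 2) (nat_lit 42) (Steps.bwd (nat_lit 2) (Steps.bwd (nat_lit 3) (Steps.bwd (nat_lit 3) Steps.nil))) (nat_lit 3) (nat_lit 3),
  Rule.mk (nat_lit 3) (nat_lit 42) (Steps.bwd (nat_lit 2) (Steps.bwd (nat_lit 3) (Steps.bwd (nat_lit 1) Steps.nil))) (nat_lit 4) (nat_lit 2),
  Rule.mk (nat_lit 4) (nat_lit 42) (Steps.bwd (nat_lit 2) (Steps.fwd (nat_lit 1536) (Steps.fwd (nat_lit 1024) Steps.nil))) (nat_lit 5) (nat_lit 3),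
  Rule.mk (nat_lit 12) (nat_lit 42) (Steps.bwd (nat_lit 2) (Steps.bwd (nat_lit 11) (Steps.bwd (nat_lit 1) Steps.nil))) (nat_lit 13) (nat_lit 3),
  Rule.mk (nat_lit 3) (nat_lit 42) (Steps.bwd (nat_lit 2) (Steps.bwd (nat_lit 2) (Steps.fwd (nat_lit 2048) Steps.nil))) (nat_lit 3) (nat_lit 2),
  Rule.mk (nat_lit 4) (nat_lit 42) (Steps.bwd (nat_lit 2) (Steps.fwd (nat_lit 1536) (Steps.bwd (nat_lit 1) Steps.nil))) (nat_lit 5) (nat_lit 3),
  Rule.mk (nat_lit 1) (nat_lit 42) (Steps.bwd (nat_lit 11) (Steps.bwd (nat_lit 2) (Steps.fwd (nat_lit 5632) Steps.nil))) (nat_lit 12) (nat_lit 1),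
  Rule.mk (nat_lit 3) (nat_lit 42) (Steps.bwd (nat_lit 11) (Steps.fwd (nat_lit 1536) (Steps.bwd (nat_lit 12) Steps.nil))) (nat_lit 20) (nat_lit 1),
  Rule.mk (nat_lit 4) (nat_lit 42) (Steps.bwd (nat_lit 11) (Steps.fwd (nat_lit 2048) (Steps.fwd (nat_lit 5632) Steps.nil))) (nat_lit 21) (nat_lit 0),
  Rule.mk (nat_lit 2) (nat_lit 42) (Steps.bwd (nat_lit 10) (Steps.bwd (nat_lit 1) (Steps.fwd (nat_lit 5120) Steps.nil))) (nat_lit 10) (nat_lit 3),
  Rule.mk (nat_lit 4) (nat_lit 42) (Steps.bwd (nat_lit 10) (Steps.fwd (nat_lit 2048) (Steps.fwd (nat_lit 5120) Steps.nil))) (nat_lit 18) (nat_lit 3),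
  Rule.mk (nat_lit 3) (nat_lit 42) (Steps.bwd (nat_lit 10) (Steps.fwd (nat_lit 1536) (Steps.fwd (nat_lit 5120) Steps.nil))) (nat_lit 19) (nat_lit 2),
  Rule.mk (nat_lit 1) (nat_lit 42) (Steps.bwd (nat_lit 11) (Steps.fwd (nat_lit 512) (Steps.fwd (nat_lit 5632) Steps.nil))) (nat_lit 12) (nat_lit 1),
  Rule.mk (nat_lit 9) (nat_lit 42) (Steps.bwd (nat_lit 11) (Steps.bwd (nat_lit 10) (Steps.bwd (nat_lit 11) Steps.nil))) (nat_lit 40) (nat_lit 1),
  Rule.mk (nat_lit 4) (nat_lit 42) (Steps.bwd (nat_lit 1) (Steps.bwd (nat_lit 1) (Steps.fwd (nat_lit 1536) Steps.nil))) (nat_lit 2) (nat_lit 0),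
  Rule.mk (nat_lit 9) (nat_lit 42) (Steps.bwd (nat_lit 1) (Steps.bwd (nat_lit 10) (Steps.bwd (nat_lit 2) Steps.nil))) (nat_lit 11) (nat_lit 1),
  Rule.mk (nat_lit 12) (nat_lit 42) (Steps.bwd (nat_lit 1) (Steps.bwd (nat_lit 11) (Steps.bwd (nat_lit 2) Steps.nil))) (nat_lit 12) (nat_lit 0),
  Rule.mk (nat_lit 2) (nat_lit 42) (Steps.bwd (nat_lit 8) (Steps.fwd (nat_lit 1024) (Steps.fwd (nat_lit 4096) Steps.nil))) (nat_lit 8) (nat_lit 3),
  Rule.mk (nat_lit 1) (nat_lit 42) (Steps.bwd (nat_lit 8) (Steps.fwd (nat_lit 512) (Steps.fwd (nat_lit 4096) Steps.nil))) (nat_lit 9) (nat_lit 2),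
  Rule.mk (nat_lit 4) (nat_lit 42) (Steps.bwd (nat_lit 8) (Steps.fwd (nat_lit 2048) (Steps.bwd (nat_lit 7) Steps.nil))) (nat_lit 16) (nat_lit 3),
  Rule.mk (nat_lit 3) (nat_lit 42) (Steps.bwd (nat_lit 8) (Steps.fwd (nat_lit 1536) (Steps.bwd (nat_lit 7) Steps.nil))) (nat_lit 17) (nat_lit 2),
  Rule.mk (nat_lit 8) (nat_lit 42) (Steps.bwd (nat_lit 2) (Steps.bwd (nat_lit 7) (Steps.bwd (nat_lit 1) Steps.nil))) (nat_lit 9) (nat_lit 3),
  Rule.mk (nat_lit 3) (nat_lit 42) (Steps.bwd (nat_lit 11) (Steps.fwd (nat_lit 1536) (Steps.fwd (nat_lit 5632) Steps.nil))) (nat_lit 20) (nat_lit 1),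
  Rule.mk (nat_lit 7) (nat_lit 42) (Steps.bwd (nat_lit 11) (Steps.bwd (nat_lit 8) (Steps.fwd (nat_lit 5632) Steps.nil))) (nat_lit 28) (nat_lit 1),
  Rule.mk (nat_lit 8) (nat_lit 42) (Steps.bwd (nat_lit 11) (Steps.fwd (nat_lit 4096) (Steps.fwd (nat_lit 5632) Steps.nil))) (nat_lit 29) (nat_lit 0),
  Rule.mk (nat_lit 7) (nat_lit 42) (Steps.bwd (nat_lit 1) (Steps.bwd (nat_lit 8) (Steps.bwd (nat_lit 2) Steps.nil))) (nat_lit 9) (nat_lit 1),
  Rule.mk (nat_lit 11) (nat_lit 42) (Steps.bwd (nat_lit 1) (Steps.fwd (nat_lit 5632) (Steps.bwd (nat_lit 2) Steps.nil))) (nat_lit 13) (nat_lit 1),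
  Rule.mk (nat_lit 7) (nat_lit 42) (Steps.bwd (nat_lit 11) (Steps.fwd (nat_lit 3584) (Steps.bwd (nat_lit 12) Steps.nil))) (nat_lit 28) (nat_lit 1),
  Rule.mk (nat_lit 6) (nat_lit 42) (Steps.fwd (nat_lit 2048) (Steps.fwd (nat_lit 3072) (Steps.bwd (nat_lit 4) Steps.nil))) (nat_lit 14) (nat_lit 0),
  Rule.mk (nat_lit 1) (nat_lit 42) (Steps.bwd (nat_lit 6) (Steps.fwd (nat_lit 512) (Steps.fwd (nat_lit 3072) Steps.nil))) (nat_lit 7) (nat_lit 2),
  Rule.mk (nat_lit 3) (nat_lit 42) (Steps.bwd (nat_lit 6) (Steps.fwd (nat_lit 1536) (Steps.bwd (nat_lit 5) Steps.nil))) (nat_lit 15) (nat_lit 2),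
  Rule.mk (nat_lit 4) (nat_lit 42) (Steps.bwd (nat_lit 11) (Steps.fwd (nat_lit 2048) (Steps.bwd (nat_lit 12) Steps.nil))) (nat_lit 21) (nat_lit 0),
  Rule.mk (nat_lit 3) (nat_lit 42) (Steps.bwd (nat_lit 1) (Steps.bwd (nat_lit 3) (Steps.fwd (nat_lit 512) Steps.nil))) (nat_lit 4) (nat_lit 0),
  Rule.mk (nat_lit 6) (nat_lit 42) (Steps.bwd (nat_lit 1) (Steps.bwd (nat_lit 5) (Steps.bwd (nat_lit 2) Steps.nil))) (nat_lit 6) (nat_lit 0),
  Rule.mk (nat_lit 4) (nat_lit 42) (Steps.bwd (nat_lit 10) (Steps.fwd (nat_lit 2048) (Steps.bwd (nat_lit 9) Steps.nil))) (nat_lit 18) (nat_lit 3),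
  Rule.mk (nat_lit 5) (nat_lit 42) (Steps.bwd (nat_lit 10) (Steps.fwd (nat_lit 2560) (Steps.fwd (nat_lit 5120) Steps.nil))) (nat_lit 23) (nat_lit 2),
  Rule.mk (nat_lit 4) (nat_lit 42) (Steps.bwd (nat_lit 2) (Steps.bwd (nat_lit 4) (Steps.fwd (nat_lit 1024) Steps.nil))) (nat_lit 5) (nat_lit 3),
  Rule.mk (nat_lit 5) (nat_lit 42) (Steps.bwd (nat_lit 11) (Steps.fwd (nat_lit 2560) (Steps.fwd (nat_lit 5632) Steps.nil))) (nat_lit 24) (nat_lit 1)]
noncomputable def R_4 : List (Rule) := [Rule.mk (nat_lit 3) (nat_lit 42) (Steps.bwd (nat_lit 1) (Steps.bwd (nat_lit 3) (Steps.bwd (nat_lit 2) Steps.nil))) (nat_lit 4) (nat_lit 0),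
  Rule.mk (nat_lit 10) (nat_lit 42) (Steps.bwd (nat_lit 1) (Steps.bwd (nat_lit 9) (Steps.fwd (nat_lit 512) Steps.nil))) (nat_lit 10) (nat_lit 0),
  Rule.mk (nat_lit 4) (nat_lit 42) (Steps.bwd (nat_lit 8) (Steps.bwd (nat_lit 3) (Steps.fwd (nat_lit 4096) Steps.nil))) (nat_lit 16) (nat_lit 3),
  Rule.mk (nat_lit 9) (nat_lit 42) (Steps.bwd (nat_lit 8) (Steps.bwd (nat_lit 10) (Steps.bwd (nat_lit 7) Steps.nil))) (nat_lit 26) (nat_lit 2),
  Rule.mk (nat_lit 10) (nat_lit 42) (Steps.bwd (nat_lit 8) (Steps.bwd (nat_lit 9) (Steps.bwd (nat_lit 7) Steps.nil))) (nat_lit 27) (nat_lit 3),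
  Rule.mk (nat_lit 8) (nat_lit 42) (Steps.bwd (nat_lit 8) (Steps.bwd (nat_lit 1) (Steps.bwd (nat_lit 1) Steps.nil))) (nat_lit 32) (nat_lit 3),
  Rule.mk (nat_lit 5) (nat_lit 42) (Steps.bwd (nat_lit 8) (Steps.bwd (nat_lit 6) (Steps.bwd (nat_lit 8) Steps.nil))) (nat_lit 35) (nat_lit 2),
  Rule.mk (nat_lit 6) (nat_lit 42) (Steps.bwd (nat_lit 8) (Steps.bwd (nat_lit 5) (Steps.bwd (nat_lit 8) Steps.nil))) (nat_lit 35) (nat_lit 0),
  Rule.mk (nat_lit 10) (nat_lit 42) (Steps.bwd (nat_lit 3) (Steps.bwd (nat_lit 9) (Steps.fwd (nat_lit 1536) Steps.nil))) (nat_lit 18) (nat_lit 0),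
  Rule.mk (nat_lit 5) (nat_lit 42) (Steps.bwd (nat_lit 4) (Steps.fwd (nat_lit 2560) (Steps.fwd (nat_lit 2048) Steps.nil))) (nat_lit 14) (nat_lit 2),
  Rule.mk (nat_lit 9) (nat_lit 42) (Steps.bwd (nat_lit 4) (Steps.bwd (nat_lit 10) (Steps.fwd (nat_lit 2048) Steps.nil))) (nat_lit 18) (nat_lit 2),
  Rule.mk (nat_lit 10) (nat_lit 42) (Steps.bwd (nat_lit 4) (Steps.bwd (nat_lit 9) (Steps.fwd (nat_lit 2048) Steps.nil))) (nat_lit 19) (nat_lit 3),
  Rule.mk (nat_lit 9) (nat_lit 42) (Steps.bwd (nat_lit 3) (Steps.fwd (nat_lit 4608) (Steps.fwd (nat_lit 1536) Steps.nil))) (nat_lit 19) (nat_lit 1),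
  Rule.mk (nat_lit 6) (nat_lit 42) (Steps.bwd (nat_lit 4) (Steps.fwd (nat_lit 3072) (Steps.fwd (nat_lit 2048) Steps.nil))) (nat_lit 15) (nat_lit 3),
  Rule.mk (nat_lit 11) (nat_lit 42) (Steps.bwd (nat_lit 4) (Steps.bwd (nat_lit 12) (Steps.fwd (nat_lit 2048) Steps.nil))) (nat_lit 20) (nat_lit 2),
  Rule.mk (nat_lit 12) (nat_lit 42) (Steps.bwd (nat_lit 4) (Steps.bwd (nat_lit 11) (Steps.fwd (nat_lit 2048) Steps.nil))) (nat_lit 21) (nat_lit 3),
  Rule.mk (nat_lit 3) (nat_lit 42) (Steps.bwd (nat_lit 11) (Steps.bwd (nat_lit 4) (Steps.bwd (nat_lit 12) Steps.nil))) (nat_lit 20) (nat_lit 1),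
  Rule.mk (nat_lit 2) (nat_lit 42) (Steps.bwd (nat_lit 2) (Steps.bwd (nat_lit 3) (Steps.fwd (nat_lit 2048) Steps.nil))) (nat_lit 3) (nat_lit 3),
  Rule.mk (nat_lit 7) (nat_lit 42) (Steps.bwd (nat_lit 2) (Steps.fwd (nat_lit 3584) (Steps.bwd (nat_lit 1) Steps.nil))) (nat_lit 8) (nat_lit 2),
  Rule.mk (nat_lit 3) (nat_lit 42) (Steps.bwd (nat_lit 7) (Steps.bwd (nat_lit 4) (Steps.bwd (nat_lit 8) Steps.nil))) (nat_lit 16) (nat_lit 1),
  Rule.mk (nat_lit 6) (nat_lit 42) (Steps.bwd (nat_lit 1) (Steps.fwd (nat_lit 3072) (Steps.bwd (nat_lit 2) Steps.nil))) (nat_lit 6) (nat_lit 0),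
  Rule.mk (nat_lit 5) (nat_lit 42) (Steps.bwd (nat_lit 1) (Steps.fwd (nat_lit 2560) (Steps.bwd (nat_lit 2) Steps.nil))) (nat_lit 7) (nat_lit 1),
  Rule.mk (nat_lit 2) (nat_lit 42) (Steps.bwd (nat_lit 10) (Steps.fwd (nat_lit 1024) (Steps.bwd (nat_lit 9) Steps.nil))) (nat_lit 10) (nat_lit 3),
  Rule.mk (nat_lit 4) (nat_lit 42) (Steps.bwd (nat_lit 10) (Steps.bwd (nat_lit 3) (Steps.fwd (nat_lit 5120) Steps.nil))) (nat_lit 18) (nat_lit 3),
  Rule.mk (nat_lit 8) (nat_lit 42) (Steps.bwd (nat_lit 10) (Steps.fwd (nat_lit 4096) (Steps.bwd (nat_lit 9) Steps.nil))) (nat_lit 26) (nat_lit 3),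
  Rule.mk (nat_lit 7) (nat_lit 42) (Steps.bwd (nat_lit 10) (Steps.fwd (nat_lit 3584) (Steps.bwd (nat_lit 9) Steps.nil))) (nat_lit 27) (nat_lit 2),
  Rule.mk (nat_lit 4) (nat_lit 42) (Steps.bwd (nat_lit 9) (Steps.bwd (nat_lit 3) (Steps.bwd (nat_lit 10) Steps.nil))) (nat_lit 19) (nat_lit 0),
  Rule.mk (nat_lit 3) (nat_lit 42) (Steps.bwd (nat_lit 11) (Steps.bwd (nat_lit 4) (Steps.fwd (nat_lit 5632) Steps.nil))) (nat_lit 20) (nat_lit 1),
  Rule.mk (nat_lit 7) (nat_lit 42) (Steps.bwd (nat_lit 1) (Steps.fwd (nat_lit 3584) (Steps.bwd (nat_lit 2) Steps.nil))) (nat_lit 9) (nat_lit 1),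
  Rule.mk (nat_lit 9) (nat_lit 42) (Steps.bwd (nat_lit 1) (Steps.fwd (nat_lit 4608) (Steps.bwd (nat_lit 2) Steps.nil))) (nat_lit 11) (nat_lit 1),
  Rule.mk (nat_lit 3) (nat_lit 42) (Steps.bwd (nat_lit 10) (Steps.bwd (nat_lit 4) (Steps.fwd (nat_lit 5120) Steps.nil))) (nat_lit 19) (nat_lit 2),
  Rule.mk (nat_lit 11) (nat_lit 42) (Steps.bwd (nat_lit 10) (Steps.bwd (nat_lit 11) (Steps.bwd (nat_lit 9) Steps.nil))) (nat_lit 40) (nat_lit 2),
  Rule.mk (nat_lit 12) (nat_lit 42) (Steps.bwd (nat_lit 2) (Steps.bwd (nat_lit 11) (Steps.fwd (nat_lit 1024) Steps.nil))) (nat_lit 13) (nat_lit 3),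
  Rule.mk (nat_lit 1) (nat_lit 42) (Steps.bwd (nat_lit 1) (Steps.fwd (nat_lit 1024) (Steps.fwd (nat_lit 1024) Steps.nil))) (nat_lit 0) (nat_lit 0),
  Rule.mk (nat_lit 4) (nat_lit 42) (Steps.bwd (nat_lit 1) (Steps.fwd (nat_lit 1024) (Steps.fwd (nat_lit 1536) Steps.nil))) (nat_lit 2) (nat_lit 0),
  Rule.mk (nat_lit 5) (nat_lit 42) (Steps.bwd (nat_lit 1) (Steps.fwd (nat_lit 2560) (Steps.fwd (nat_lit 512) Steps.nil))) (nat_lit 7) (nat_lit 1),
  Rule.mk (nat_lit 10) (nat_lit 42) (Steps.bwd (nat_lit 1) (Steps.fwd (nat_lit 5120) (Steps.bwd (nat_lit 2) Steps.nil))) (nat_lit 10) (nat_lit 0)]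
noncomputable def R : List (List (Rule)) := [R_0, R_1, R_2, R_3, R_4]
def LW : List Word := [[], [0], [1], [2], [3], [4], [5], [6], [7], [8], [9], [10], [11]]
def par : Par := ⟨9, 4, 13, 22, 511, 8191, 4194303⟩
theorem hpar : par.ok := by decide
theorem hR0_0 : lall (R) (fun l => lall l (ruleOK rels LW par)) = true := by decide +kernel
theorem hR0 : lall (R) (fun l => lall l (ruleOK rels LW par)) = true := hR0_0
theorem hR : RulesOK rels LW par R := rulesOK_of rfl hR0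
def cols : List (ℕ × ℕ) := [(512, 2), (1536, 4), (2560, 6), (3584, 8), (4608, 10), (5632, 12)]
theorem hcols : lall cols (colOK rels LW par) = true := by decide +kernel
noncomputable def JS0 : List ℕ := [nat_lit 0x3005c468780008e1261d00005046070010031181b12425846068028171160412405c45064050151121800e2384485c0209411016122248438540389210c140060104304c4701010a0200803842048028891081100e018418400580a1040f00002041038000030100d00200005030430820fe0b0020083f028408840fc090fc2103e820008840fa070021fc3e818410810f8050000043e0103e87f0f8030001fc3e0083f07d0f801,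
  nat_lit 0x5a0b0528e0020b81481c1582cc518dc0a0b41443600a018510145980d1423505602c500d01381f1403301606c4f8700801213c3203006c4e8c40301b1383000c0584e0bc4e814136100102744d0b8520131322d02c27c4c0a44c8041300a1440144b8b01180512c2b0462684b0a80500b12a290000104a0a00180a12827042028498980e0961242500a078490900281d1222301206848888088181202113e054478800689611c1f,
  nat_lit 0x223485f9340c84717c4c1941245e92c1883b1784a0361245d92405047174480140645d11c068191722201c04c5c0841881816e460560605b1146901416a440802e45a10c118b71680c17a038599080280616401192038589042680c160400960dc580cc0d83415e3f1660c0570f80803515a3100e0cc560c00380e1582f16002c558f4088ad1543c08402c548b4170091503b00c2b4540345580e14e0406c04c530e81e01314a39,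
  nat_lit 0x1c6a194030d91a8641de0486998c778121a46200c35868984060111a2440cc354681547b01119e541a402c671800283b19c520e41cc6697c088f01985e0181c865974020051960105a03c651700f8cf1925b00a06c649680981419059194338639606581218c5700832463158740c818a550ac01862150018181885000a3346194c720e31844f00432c61148050c51825100208c60940278501804f00a018601386e84d18024,
  nat_lit 0xd41a4769380690a1d87b058184759e8000040146800e05c750180f01a1d27911c060741b84a0161ce7800e1e0739dc820761cc7601423c729d47908f1c8741de42c719cc008551de6f0083a8711c81f0ef1c2710a20b4701c0020601c05a1ec1646f97c0d8f31bc6f00a0186f014430141ba6e0fc3846e1b46f81c1b8690e00746d9b08081b1b46b1b43806c80c080181b06a02e3786c1a40781c1ae681f60786b19c3f8de1aa66,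
  nat_lit 0x4002883a300b00820c1409e0a8830808382420a8b12c0ac82228480292065400601081224040922045a11a2388097c8805f200880242407fa1c1188b1fc861fe40c7f2148481e1fa842180707e20c549001f65523a0607d2080588f1f45a0382147c9f0520a51f05f0424807b9ec088a41ec5d08c4847a9e8208a31e86f0020d00d204040ff1e68006e0e0790140803c1e27f0cc104781f8279011de7d010210779680b1101dc7c,
  nat_lit 0xe21c8912240086e264680001882f280129242409f2440708f9e44981823c6e1180608e9e0018182389e0940608da740002e2469c0861088d26c1682e2329a0bc1b48c1042706922e971001b08b18c4612d22a8d0041848a2640085308a9800017491a5c070092240900e02c88a5841009220950fa01c87a501500821c930240d4872480601e21a9112045c86240968362168f006010852380400c21416112024849704710a2108d,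
  nat_lit 0xe1b49d2c80685f272ac0221a89c2c40994d26eb50825109b2ac0305b26caa01e0909aad00505a268b30700dc99aa40284f266b2018508992c40404e262b007c0f49829c02065260af00e06c97ab81613725cad0064d0972a00281725aac048074962ac01015258aa0fa1f895aa400943256a80200449529c95808254a602e040952940713f252a425c4d8942101713124e452741ec9328c9e87e24a8b2841fc922884293f246a1,
  nat_lit 0x30388a92bc080e02a2b32ba2eca82fcaf17929ebe1802fca72a40418129cb101e374a6ac0ac8a7298c32ac114a5b08660cb294a700e3dca530006980292aa2a2214a42fca716028ebe1ba5e8a32b40317c28cac2941f8a2b0ca586a288c22f038ca1b0402976286c028e1aca12fca415c282be1a6350a02a4a08042805f0ee5089faf43100a27cbc0965089f2ec2781027aba00e5009e2e40013d0a8b800a1709dadc06068274b6,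
  nat_lit 0x6a6bcb5b30d912d2d4c100e6dcb53000692f2d2aa0483e8b42dc0c1002ceca26e4d8b32b40312b2ccac0363a0b2b2c070f62c8c83646ccb1a9c029332c6c70223e0b12dc0d8f02c2ca23846cb02a4041962c0c902637cafb208e11b2bca7016370af31c0a98e2bac603a360ae2bc118d82b6b32d6310ad2fcb41872b2be310334ac298051882b0c5036388abb10091892acb52c4148aab0cb18b02a8c230a360a9b04048dc2a6c0,
  nat_lit 0x3362f8c3358098d430ad503c348c2350cb8c4308d33302d8c1b48049aa304d102a308c0b40521a3300ab018534c03000b94d2feaa03e72cbf2d0129482faae0984b0be2dc221c12f6b63162e8bd33ca49482f2ad016518bcab00e14a2f0c4026718bbad42112f2eccb072478bab20989302e8a701450cba31c0c9432e6af0226fcb92b81c1272e2ce07c474b8328bf1942decd36248cb7298041372dcc401e4ccb6ac0171122d8cb,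
  nat_lit 0x82028cf8542480833ce70300bccf0800603933a1f2f2104ce38001805336df006010cd2240419e334042d0044ccb98ad80f330e504c040cb8641899a32ce400e660cb190a780832ae32aa020ca3880c0083261504a650c938404816324a42cc070c8b8001004320df32000cc79800281a31ede3ae094c7374b099331adc02c648c636ca6992318bb3b2098c5b680c990314b900062c63b64048b6312c033632cc4360cf0d130ed7,
  nat_lit 0x4061f4dd36802807372e900a018dc2380500e3701601e028dbbcc0b9b836cf2282028dab8c9c008368f10ec028d985434008364e702c194d93c00705c362432701dcd83800180535edf006010d72240501035c3325c038d6bbc9d00c358ee0b8038d5bb42a00c354ec02c138d524808055352eb0420d0d43a80e03f34e3c2ea160d32e80280734ae900a018d22380a9a6348e834c028d185c0400c344162d4028d0b8cfd808340e2,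
  nat_lit 0x3f02d8eb23cca8b73aada010028ea3a4040093a68e00a3fc5abdceb1d43a4e802c038e8908060123a016086038e7bcc2580c39cf62fc038e6b8cc080c398f113a038e58545280c394e7034230e5080090953921f09418ce43c01f06d38e432f226ce33800280738adf00a018e22240601238896056038e18e81780c384392b4038e0b98af80c380e50fe038df8644480c37c9302c1f0df3d40807437aeb058198de3d01306c37629,
  nat_lit 0x18048f92581980e3e2fe056030f81c11100e3dee61fe030f73f47400e3da191c0030f624d088e13d810020360f5bac150cb3d490060304f4bf10da123d0fb00a01cf3ba4028063cc8e014334f30580b8143ca6301203cf216c838c83c6fa42a320f13c468a053c29919831cf039c068163c05921c050efbe5090123bcbc17c050eebe05b0123b8570402c0ee2480c0b73b6eb062260ed3a81a8a23b23c0aa1ecec3d02c06c3ae29,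
  nat_lit 0x19c35507420630e141b0741a031064187d0ff4170513e41505410c9111412ef3268ed0440c0f1084109202c42903a44178f840cea45c40102c08310cb408900cc35501bf0c2a324050100e02500ba4038084008e408809003a00b00e3fe42018048ff0582780e3fa6308e030fe4008680e3f6e3202030fd3887c80e3f2151f4030fc0500d0f33f0200243b0fb87c230cc3ec550982fcfaa84892213e8ff00a01cf9b7c028063e489,
  nat_lit 0x318ba44523188453102345c51443c0da6f44eb101663d132c09497944acb242629123212118d4470e48663511428071a2444c703668110aa91da674410d2524fd0fadc9219b43cb64809a50eafd1e99a438be3126290daa406999436ac46a5e10d430849624330b24469d0c3248f1a442ec846e99d0b30d1c1a542b0a3369890a2ac0625b428c04585e509c248b181424ce2324c108b2917980420cd46060107af8c218041cad,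
  nat_lit 0x9e03d22c645a0114889517003d21a50c480a4851807e0412081c1680e4811703006920248090d547eeb4e036d1f0b4378d947a3b19236d1e458660d9477152fe3691d2e8030074728e0024acba4500523a470640ac0291bbcc2e00a46c401720291a98c6080a4686201a0291985463a34464e10ba039191102a80e46313184039182285b00e45e5445e01117180288c445c440ae30916c4c590c44588a1783091595115a4745512,
  nat_lit 0x72129314781e8424c23c0f812530474410494be3b1c21252f458728494bb153a89952e4040480b4b6e90120292d2392f25c4b4e803804d2c908080184b0160ca04d2bbcc2c8114ac4019c04d2a98c620114a90038c04929be95200b4a51c07c049288541b0104a0140400f5281180b83d49e450b00f5271103003d49b131820f5262286383d49654540949253fc03809492df00e021242240000e3211b01c05523a582481148d1a,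
  nat_lit 0x2478d3fbad031e94fd1e4227a53ec94e11d74f8f438c78d3d8ed391e34f5244b2b253cbf13faa04f0da08ab093bc8ce12c14ed2258077d3b484fc2c74ea203da79d3a114d71d14e6f03647893910d2b1e54e28a4bc795381513c2954dedd0100293737c040094da89372b0536c80f21ea4d80433a66d358e95618a4d5195b07a934bf9271e84d07000c03133c7c070154cd1839079d3281ceb1e24c81804c129323d40e04a4c691,
  nat_lit 0xe9ea500f5]
theorem S0_c : blocks (facts 9 4 13 22 511 8191 4194303 11 2047 9 511 A R 32) 32 JS0 382 = true := by decide +kernel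
theorem S0 : On (Step.{u} rels LW par A) 382 1054 :=
  steps_of_blocks hpar hR S0_c (by decide +kernel)
theorem D0_c : allB (defOK 9 13 22 511 4194303 383 A K) 1 2 = true := by decide +kernel
theorem D0 : On (fun r => defOK par.W par.WL par.E par.mW par.mE 383 A K r = true) 256 384 :=
  On.of_allB D0_c
noncomputable def JW0 : List ℕ := [nat_lit 0x52d62d4f33e759253049e49a4a24775a248d4b94c660d47d5a64894394194704721314694573ed47547a14d4512ce2b12d212d59d2412c72972e01415a157e62751860044d23d51a6375234a543324953c51250b4b744525351650962f61a3df2655324fa4fe4eb04d26d61d48048447e46321948a49049449837d22360342f3db37944e0c75ef5ec04546146c0b55f723a2362150c523e24222822c21f0b12302346386304a15f82d563b5275284c15fc2e351d6244fd49746b23363c,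
  nat_lit 0x48f4a86073ad2034aa4834b04b438b20d4ae4dd4934f43c91d54f64d14874e83d11c54ec5e906b3824300a14344420573a444608f4480553dc3cf3e00dc5d703e04204604a04e05237237637a37e15d5c73a73c544b5f516b46422b2461ff09d24a58358058520908b25025426222f1d10e52665895862391bf0d726e58b1fb1cd21616721a57b5781bb57d15922022454854d0be0c20bb0c807f0aa0ae0b20b654b53e52b4cb43f59e5156355394bf45559a53a5345365025e0596501,
  nat_lit 0x62b52462040d2ab50f4c34c84cc39d2fd60860460b4bc45d3134ad4e34c561f42132561661949d4f03f93334ee5eb5de43a43c55c4404585e63995f15584374144163f74125b45403ea3ee3e45d928f3d95f25da4795ff5c04675ca41a46f5fb5c43812d62a32d813d2dc24d2c42bb2c811f2cc2572ac2ae2b22b62b826929029429828b29e2712e42e82df2ec2f021d2fe3002d130430822712212612a12e55b0cb11514855f14214a0b94f96234e105f27350c5205114cf07325b51e,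
  nat_lit 0x4da4a74de3b71e54d84d24b36113bd1f34d404105805c06006454306854506c07007407838638838538c1893903715cd3a33aa17b3a15d03d20495d51af3d43b33753c63ca3355d326b2451e10f127427625824f1ef0fb25c2601f81eb1fc1772002042061dd20a18520e2121ce1ca1d21c91d61da1b41b81bc1ab1c21c609609209a09e0a20a607c08008408808c0900de0a90e20e60510ea0cc0bd0d00d40d80da14e1520ad15615a15e1641600c116816c17052f6334e742b2c3628,
  nat_lit 0x56a1550e11c133633861560e4e44015ae4d75054bb5064255aa6123e942842342c58e07b40840a3fd40e10006745a40545345e3653af39339439a39e36d38f3f13f43e33fa3493cd4035e341141e3593d72932bc2c028559958c2a02a42a810f59525f2f22f62cb2fa5a55762e730c2db3105a921131e30329b3225ad1d93172eb2b55b133056e13210713613a13e0a511211611811c12054627d14733c29d33b0e910312528828c59154e3613451452ef36856036b35512930736e16f,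
  nat_lit 0x18e1810f719219619a19c1730ed1a01a41a841d4264065e55bc5ce3f33973fe5dd5b83c13262f52a732832c1e931430b2bf31831c1f727a13527e2822790f510410810c1105570ff36234f11b2f95bf18d36735d13930f5c317f3423462873215b71b334b35633f32f5bb5b23ba5c806f3be1993c23b03a905b3b41a33b81b71de1e219f1e65735705751ec1951f01f40cf0950ee0f20775535500830f80fc06355556256708718218618a15117409917817c5651911630d356d1ac1b0,
  nat_lit 0x35335a10b32b35e56834134c28131b3501a7]
theorem W0_c : blocks (rows 9 4 13 22 511 8191 4194303 12 4095 72 A 1054 128 cols 21) 21 JW0 0 = true := by decide +kernel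
theorem W0 : On (Row.{u} rels LW par A 1054 128 cols) 0 147 :=
  rows_of_blocks hpar (by decide) hcols W0_c (by decide +kernel)
theorem idx : Idx.{u} rels [[0], [2], [4], [6], [8], [10]] [] 128 :=
  idx_of_cert hpar hR (K := K) (by decide +kernel) (T := 383) (T' := 384) (by decide) D0
    (subs := []) (by decide +kernel) (T1 := 382) (by decide) (N := 1054) S0
    (by decide) (n' := 147) (by decide) W0 (by decide +kernel) (by decide +kernel)
end T0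
theorem b0 : Bound.{u} rels [[0], [2], [4], [6], [8], [10]] 128 := .of_idx T0.idx (.nil _) (by decide)
def t0 : Net := [(nat_lit 0x41550000555550000005555500004001, nat_lit 1),
  (nat_lit 0x33333300000000000000000000000002, nat_lit 2),
  (nat_lit 0xc0c030f0f0f0f0f0f0f0f0f0f070606, nat_lit 4),
  (nat_lit 0xcf00f000f0000f0070000f008f00f6, nat_lit 8),
  (nat_lit 0xfff0000ffff00008f7f00008f70, nat_lit 16),
  (nat_lit 0xff00000000000708f0000, nat_lit 32),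
  (nat_lit 0xf000000000000708000000000, nat_lit 16),
  (nat_lit 0xc00f00000000000000080008f0000, nat_lit 8),
  (nat_lit 0xc000000000000000000000000080000, nat_lit 4),
  (nat_lit 0x113220, nat_lit 2),
  (nat_lit 0x5554, nat_lit 1)]
def t1 : Net := [(nat_lit 0x4010055000550005550055500554005, nat_lit 1),
  (nat_lit 0x3330033000000000000000022002001, nat_lit 2),
  (nat_lit 0xf0c000300000000000f0f000d0f0e0e, nat_lit 4),
  (nat_lit 0xef002f0000002000d0000f00d000de, nat_lit 8),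
  (nat_lit 0xffff0000d0200000000f00002fd0, nat_lit 16),
  (nat_lit 0xffffffff00000000d02f0000, nat_lit 32),
  (nat_lit 0x2fd0ffff00000000, nat_lit 64),
  (nat_lit 0x2fd0ffff0000000000000000, nat_lit 32),
  (nat_lit 0xd02f0000000f0000d02000000000, nat_lit 16),
  (nat_lit 0x2c002f00d0000f0000002000d00000, nat_lit 8),
  (nat_lit 0xf00000f0f000000000000000000, nat_lit 4),
  (nat_lit 0x30000000000000000000000011000000, nat_lit 2),
  (nat_lit 0x5550, nat_lit 1)]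
def t2 : Net := [(nat_lit 0x54150505401054014015040151514015, nat_lit 1),
  (nat_lit 0x22012211022112221112211122112000, nat_lit 2),
  (nat_lit 0xf06010900060f0606070e0c01090603, nat_lit 4),
  (nat_lit 0x9f00a6004900f9006000a7005900c6, nat_lit 8),
  (nat_lit 0xc0df0000ffb6000000000000261e, nat_lit 16),
  (nat_lit 0x6afd9ff0000000079e7bf40, nat_lit 32),
  (nat_lit 0x865966bff9000000, nat_lit 64),
  (nat_lit 0x195966bf0000000000000000, nat_lit 32),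
  (nat_lit 0xbfb6000080c70000260600000000, nat_lit 16),
  (nat_lit 0xbf00ff000000be005000bf00000000, nat_lit 8),
  (nat_lit 0x900060e08080000060e00010800, nat_lit 4),
  (nat_lit 0x11021122011221112221122211221020, nat_lit 2),
  (nat_lit 0x101011540, nat_lit 1)]
def t3 : Net := [(nat_lit 0x401010414104144145141555554055, nat_lit 1),
  (nat_lit 0x22111221222202221112111121122110, nat_lit 2),
  (nat_lit 0xa03070e08050c030c030a0701080401, nat_lit 4),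
  (nat_lit 0x87005e005a00bd0081007800a6, nat_lit 8),
  (nat_lit 0x87e10000fb87000040000000241e, nat_lit 16),
  (nat_lit 0x209fffff0000000058e7bd60, nat_lit 32),
  (nat_lit 0xa778469fdb000000, nat_lit 64),
  (nat_lit 0x2460069f0000000000000000, nat_lit 32),
  (nat_lit 0xbb9f000083e10000200600000000, nat_lit 16),
  (nat_lit 0xdf00e7004200ff000000a500000000, nat_lit 8),
  (nat_lit 0x7030a0c050a0e010e01050f03050800, nat_lit 4),
  (nat_lit 0x11222112111121112221223312211000, nat_lit 2),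
  (nat_lit 0x104041500, nat_lit 1)]
def t4 : Net := [(nat_lit 0x55415050401504014010544515154155, nat_lit 1),
  (nat_lit 0x2211221103033032122121221122220, nat_lit 2),
  (nat_lit 0xf0607060f030b04000f09070e0f0e0f, nat_lit 4),
  (nat_lit 0xff008f0038007f00910009007800b7, nat_lit 8),
  (nat_lit 0x86470000efb7000090080000917e, nat_lit 16),
  (nat_lit 0x780fffcf0000000069b797e0, nat_lit 32),
  (nat_lit 0x9648e97f07b00000, nat_lit 64),
  (nat_lit 0x91d8e9770000000000000000, nat_lit 32),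
  (nat_lit 0xefb4000066070000113000000000, nat_lit 16),
  (nat_lit 0x700f900910011003700f80000, nat_lit 8),
  (nat_lit 0xc0406000908070f00030408000200, nat_lit 4),
  (nat_lit 0x11300312212122121211030330211200, nat_lit 2),
  (nat_lit 0x44410101400, nat_lit 1)]
def t5 : Net := [(nat_lit 0x40101045010450451555555554555, nat_lit 1),
  (nat_lit 0x13011122120112123030021211222131, nat_lit 2),
  (nat_lit 0x80800070e0701000404080108060606, nat_lit 4),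
  (nat_lit 0x990018003800c9005f009800f90029, nat_lit 8),
  (nat_lit 0xaa310000f6b80000480800000fde, nat_lit 16),
  (nat_lit 0xa9d6ff3900000000f61f4fe0, nat_lit 32),
  (nat_lit 0x9e1b6df56280000, nat_lit 64),
  (nat_lit 0x1d01b6d70000000000000000, nat_lit 32),
  (nat_lit 0xd4f00000a837000009de00000000, nat_lit 16),
  (nat_lit 0x200016009800e70006003800a80000, nat_lit 8),
  (nat_lit 0x70706080b080e060001070e07080800, nat_lit 4),
  (nat_lit 0x11011100300112121212201211000000, nat_lit 2),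
  (nat_lit 0x51040401000, nat_lit 1)]
def C : Ctx := ⟨128, 7, [t0, t1, t2, t3, t4, t5]⟩
theorem hC : C.ok = true := by decide +kernel
def lk : ℕ → ℕ → ℕ := look C 64
theorem hlk : Good C lk := good_look hC (by decide +kernel)
def ws : List Word := [[0], [2], [4], [6], [8], [10]]
theorem bound : Bound.{u} rels ws 128 := b0
def Ek : List (Word × List Word) := [([], []), ([1], [[2]]), ([0], [[2]]), ([3], [[0]]), ([2], [[0]]), ([5], [[6]]),
  ([4], [[6]]), ([7], [[4]]), ([6], [[4]]), ([9], [[10]]), ([8], [[10]]), ([11], [[8]]),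
  ([10], [[8]]), ([1,1], []), ([2,1], [[0]]), ([3,1], [[0]]), ([5,1], [[2]]), ([4,1], [[2]]),
  ([7,1], [[2]]), ([6,1], [[2]]), ([9,1], [[2]]), ([8,1], [[2]]), ([11,1], [[2]]), ([10,1], [[2]]),
  ([5,3], [[0]]), ([4,3], [[0]]), ([7,3], [[0]]), ([6,3], [[0]]), ([9,3], [[0]]), ([8,3], [[0]]),
  ([11,3], [[0]]), ([10,3], [[0]]), ([6,5], [[4]]), ([7,5], [[4]]), ([9,5], [[6]]), ([8,5], [[6]]),
  ([11,5], [[6]]), ([10,5], [[6]]), ([9,7], [[4]]), ([8,7], [[4]]), ([11,7], [[4]]), ([10,7], [[4]]),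
  ([10,9], [[8]]), ([11,9], [[8]]), ([4,3,1], [[0]]), ([5,3,1], [[0]]), ([6,3,1], [[0]]), ([7,3,1], [[0]]),
  ([8,3,1], [[0]]), ([9,3,1], [[0]]), ([10,3,1], [[0]]), ([11,3,1], [[0]]), ([6,5,1], [[2]]), ([7,5,1], [[2]]),
  ([9,5,1], [[2]]), ([8,5,1], [[2]]), ([11,5,1], [[2]]), ([10,5,1], [[2]]), ([9,7,1], [[2]]), ([8,7,1], [[2]]),
  ([11,7,1], [[2]]), ([10,7,1], [[2]]), ([10,9,1], [[2]]), ([11,9,1], [[2]]), ([6,5,3], [[0]]), ([7,5,3], [[0]]),
  ([9,5,3], [[0]]), ([8,5,3], [[0]]), ([11,5,3], [[0]]), ([10,5,3], [[0]]), ([9,7,3], [[0]]), ([8,7,3], [[0]]),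
  ([11,7,3], [[0]]), ([10,7,3], [[0]]), ([10,9,3], [[0]]), ([11,9,3], [[0]]), ([8,7,5], [[4]]), ([9,7,5], [[4]]),
  ([10,7,5], [[4]]), ([11,7,5], [[4]]), ([10,9,5], [[6]]), ([11,9,5], [[6]]), ([10,9,7], [[4]]), ([11,9,7], [[4]]),
  ([7,5,3,1], [[0]]), ([6,5,3,1], [[0]]), ([8,5,3,1], [[0]]), ([9,5,3,1], [[0]]), ([10,5,3,1], [[0]]), ([11,5,3,1], [[0]]),
  ([8,7,3,1], [[0]]), ([9,7,3,1], [[0]]), ([10,7,3,1], [[0]]), ([11,7,3,1], [[0]]), ([11,9,3,1], [[0]]), ([10,9,3,1], [[0]]),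
  ([8,7,5,1], [[2]]), ([9,7,5,1], [[2]]), ([10,7,5,1], [[2]]), ([11,7,5,1], [[2]]), ([10,9,5,1], [[2]]), ([11,9,5,1], [[2]]),
  ([10,9,7,1], [[2]]), ([11,9,7,1], [[2]]), ([8,7,5,3], [[0]]), ([9,7,5,3], [[0]]), ([10,7,5,3], [[0]]), ([11,7,5,3], [[0]]),
  ([10,9,5,3], [[0]]), ([11,9,5,3], [[0]]), ([10,9,7,3], [[0]]), ([11,9,7,3], [[0]]), ([11,9,7,5], [[4]]), ([10,9,7,5], [[4]]),
  ([9,7,5,3,1], [[0]]), ([8,7,5,3,1], [[0]]), ([11,7,5,3,1], [[0]]), ([10,7,5,3,1], [[0]]), ([11,9,5,3,1], [[0]]), ([10,9,5,3,1], [[0]]),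
  ([11,9,7,3,1], [[0]]), ([10,9,7,3,1], [[0]]), ([11,9,7,5,1], [[2]]), ([10,9,7,5,1], [[2]]), ([11,9,7,5,3], [[0]]), ([10,9,7,5,3], [[0]]),
  ([10,9,7,5,3,1], [[0]]), ([11,9,7,5,3,1], [[0]])]
def key (w : Word) : ℕ := ipt lk w 0
def El : List Word := lmap Prod.fst Ek
theorem low : Low (C.grp ws) 128 [0] :=
  low_clo hC hlk 0 (by decide) [0,2,4,6,8,10,0,0] (m := 128) (us := []) (grp_mono _ (by simp)) (by decide +kernel) (by decide +kernel) (low_nil C) (by decide)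
theorem reg : Reg C lk 6 ws rels Ek [0,0] :=
  ⟨hlk, rfl, sing_of _ _ (by decide), by decide, rels_of_eqW hC (by decide +kernel), low, bound,
    by decide +kernel, by decide +kernel⟩
theorem md {G : Type u} [Group G] {l : List G} (hl : l.length = 6) (hr : ∀ r ∈ rels, ev (gl l) r = 1)
    (hz : ev (gl l) [0,0] ≠ 1) : Md (gl l) key El (grp (gl l) ws) ∧ Nat.card (grp (gl l) ws) = 128 :=
  reg.md bound (gl_one hl) hr hz
end
end CA.SzQ
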