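import Cfsg.Agent.Lib.Rec.RegM
set_option autoImplicit false
set_option linter.all false
set_option maxRecDepth 100000
universe u
namespace CA.SzR
open CA.CNet CA.CWord CA.CLevel CA.CSimple CA.CPoint CA.CTodd CA.CLow CA.RegM CA.CTrans
noncomputable section
def r7 : List Word := [[0,0,0,0,0,0,0], [2,2], [4,4,4], [2,4,2,4,2,4], [0,2,1,3], [0,4,1,5]]
namespace Tr70
noncomputable def A_0 : List (ℕ) := [nat_lit 0x22060320502a030240201a010140000a00]
noncomputable def A : List (List (ℕ)) := [A_0]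
noncomputable def K_0 : List (ℕ) := [nat_lit 0x4160903814060000]
noncomputable def K : List (List (ℕ)) := [K_0]
noncomputable def R_0 : List (Rule) := [Rule.mk (nat_lit 1) (nat_lit 55) (Steps.bwd (nat_lit 1) (Steps.bwd (nat_lit 1) (Steps.bwd (nat_lit 1) (Steps.bwd (nat_lit 1) (Steps.fwd (nat_lit 1024) (Steps.fwd (nat_lit 1024) Steps.nil)))))) (nat_lit 0) (nat_lit 0)]
noncomputable def R : List (List (Rule)) := [R_0]
def LW : List Word := [[], [0], [1]]
def par : Par := ⟨9, 2, 11, 20, 511, 2047, 1048575⟩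
theorem hpar : par.ok := by decide
theorem hR0_0 : lall (R) (fun l => lall l (ruleOK r7 LW par)) = true := by decide +kernel
theorem hR0 : lall (R) (fun l => lall l (ruleOK r7 LW par)) = true := hR0_0
theorem hR : RulesOK r7 LW par R := rulesOK_of rfl hR0
def cols : List (ℕ × ℕ) := [(512, 2)]
theorem hcols : lall cols (colOK r7 LW par) = true := by decide +kernel
noncomputable def JS0 : List ℕ := [nat_lit 0x808050180401]
theorem S0_c : blocks (facts 9 2 11 20 511 2047 1048575 9 511 1 1 A R 32) 32 JS0 261 = true := by decide +kernel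
theorem S0 : On (Step.{u} r7 LW par A) 261 293 :=
  steps_of_blocks hpar hR S0_c (by decide +kernel)
theorem D0_c : allB (defOK 9 11 20 511 1048575 262 A K) 1 2 = true := by decide +kernel
theorem D0 : On (fun r => defOK par.W par.WL par.E par.mW par.mE 262 A K r = true) 256 384 :=
  On.of_allB D0_c
noncomputable def JW0 : List ℕ := [nat_lit 0x3e10045108491184a]
theorem W0_c : blocks (rows 9 2 11 20 511 2047 1048575 10 1023 10 A 293 7 cols 128) 128 JW0 0 = true := by decide +kernel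
theorem W0 : On (Row.{u} r7 LW par A 293 7 cols) 0 128 :=
  rows_of_blocks hpar (by decide) hcols W0_c (by decide +kernel)
theorem idx : Idx.{u} r7 [[0]] [] 7 :=
  idx_of_cert hpar hR (K := K) (by decide +kernel) (T := 262) (T' := 384) (by decide) D0
    (subs := []) (by decide +kernel) (T1 := 261) (by decide) (N := 293) S0
    (by decide) (n' := 128) (by decide) W0 (by decide +kernel) (by decide +kernel)
end Tr70
theorem r7_0 : Bound.{u} r7 [[0]] 7 := .of_idx Tr70.idx (.nil _) (by decide)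
namespace Tr71
noncomputable def A_0 : List (ℕ) := [nat_lit 0x8c100840805d0401e82c1681607407052050268280d41209409032030148140300a042040190180200c04404014010010002281c16c1407603055030258140cc04058040240080e0080500001600]
noncomputable def A : List (List (ℕ)) := [A_0]
noncomputable def K_0 : List (ℕ) := [nat_lit 0x84c1e0d0a844160903814060000]
noncomputable def K : List (List (ℕ)) := [K_0]
noncomputable def R_0 : List (Rule) := [Rule.mk (nat_lit 2) (nat_lit 31) (Steps.bwd (nat_lit 3) (Steps.bwd (nat_lit 1) (Steps.fwd (nat_lit 1536) Steps.nil))) (nat_lit 8) (nat_lit 3),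
  Rule.mk (nat_lit 1) (nat_lit 31) (Steps.bwd (nat_lit 4) (Steps.fwd (nat_lit 512) (Steps.fwd (nat_lit 2048) Steps.nil))) (nat_lit 10) (nat_lit 1),
  Rule.mk (nat_lit 4) (nat_lit 22) (Steps.bwd (nat_lit 4) (Steps.bwd (nat_lit 4) Steps.nil)) (nat_lit 4) (nat_lit 0),
  Rule.mk (nat_lit 1) (nat_lit 31) (Steps.bwd (nat_lit 4) (Steps.bwd (nat_lit 2) (Steps.fwd (nat_lit 2048) Steps.nil))) (nat_lit 10) (nat_lit 1),
  Rule.mk (nat_lit 5) (nat_lit 49) (Steps.bwd (nat_lit 3) (Steps.fwd (nat_lit 2048) (Steps.bwd (nat_lit 3) (Steps.fwd (nat_lit 2048) (Steps.fwd (nat_lit 1536) Steps.nil))))) (nat_lit 7) (nat_lit 1),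
  Rule.mk (nat_lit 5) (nat_lit 22) (Steps.bwd (nat_lit 5) (Steps.bwd (nat_lit 5) Steps.nil)) (nat_lit 5) (nat_lit 0),
  Rule.mk (nat_lit 2) (nat_lit 31) (Steps.bwd (nat_lit 5) (Steps.fwd (nat_lit 1024) (Steps.fwd (nat_lit 2560) Steps.nil))) (nat_lit 10) (nat_lit 3),
  Rule.mk (nat_lit 2) (nat_lit 31) (Steps.bwd (nat_lit 3) (Steps.fwd (nat_lit 1024) (Steps.fwd (nat_lit 1536) Steps.nil))) (nat_lit 8) (nat_lit 3),
  Rule.mk (nat_lit 5) (nat_lit 49) (Steps.bwd (nat_lit 3) (Steps.bwd (nat_lit 5) (Steps.bwd (nat_lit 3) (Steps.fwd (nat_lit 2048) (Steps.fwd (nat_lit 1536) Steps.nil))))) (nat_lit 7) (nat_lit 1),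
  Rule.mk (nat_lit 3) (nat_lit 49) (Steps.bwd (nat_lit 5) (Steps.bwd (nat_lit 3) (Steps.fwd (nat_lit 2048) (Steps.fwd (nat_lit 1536) (Steps.fwd (nat_lit 2048) Steps.nil))))) (nat_lit 7) (nat_lit 0)]
noncomputable def R : List (List (Rule)) := [R_0]
def LW : List Word := [[], [0], [1], [2], [4], [5], [0], [1]]
def par : Par := ⟨9, 3, 12, 21, 511, 4095, 2097151⟩
theorem hpar : par.ok := by decide
theorem hR0_0 : lall (R) (fun l => lall l (ruleOK r7 LW par)) = true := by decide +kernel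
theorem hR0 : lall (R) (fun l => lall l (ruleOK r7 LW par)) = true := hR0_0
theorem hR : RulesOK r7 LW par R := rulesOK_of rfl hR0
def cols : List (ℕ × ℕ) := [(512, 2), (1536, 3), (2048, 5)]
theorem hcols : lall cols (colOK r7 LW par) = true := by decide +kernel
noncomputable def JS0 : List ℕ := [nat_lit 0xc8701c140950440611700041822170a0482120f0083e01e0807883c060f70003981e130a00c1ca0d0083441a05068834020d206830c1803062030020c20602cc160105902c000b1]
theorem S0_c : blocks (facts 9 3 12 21 511 4095 2097151 9 511 4 15 A R 32) 32 JS0 267 = true := by decide +kernel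
theorem S0 : On (Step.{u} r7 LW par A) 267 299 :=
  steps_of_blocks hpar hR S0_c (by decide +kernel)
theorem D0_c : allB (defOK 9 12 21 511 2097151 267 A K) 1 2 = true := by decide +kernel
theorem D0 : On (fun r => defOK par.W par.WL par.E par.mW par.mE 267 A K r = true) 256 384 :=
  On.of_allB D0_c
noncomputable def JW0 : List ℕ := [nat_lit 0x844509449110290ac4b0bc430701f08c4709c2d134310d04a0c84e074360e8460e0521303c140570fc5415840]
theorem W0_c : blocks (rows 9 3 12 21 511 4095 2097151 10 1023 30 A 299 12 cols 42) 42 JW0 0 = true := by decide +kernel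
theorem W0 : On (Row.{u} r7 LW par A 299 12 cols) 0 42 :=
  rows_of_blocks hpar (by decide) hcols W0_c (by decide +kernel)
theorem idx : Idx.{u} r7 [[0], [2], [4]] [[0]] 12 :=
  idx_of_cert hpar hR (K := K) (by decide +kernel) (T := 267) (T' := 384) (by decide) D0
    (subs := [1]) (by decide +kernel) (T1 := 267) (by decide) (N := 299) S0
    (by decide) (n' := 42) (by decide) W0 (by decide +kernel) (by decide +kernel)
end Tr71
theorem r7_1 : Bound.{u} r7 [[0], [2], [4]] 84 := .of_idx Tr71.idx r7_0 (by decide)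
def r5 : List Word := [[0,0,0,0,0], [2,2,2,2,2], [0,2,1,3], [4,4,4,4], [6,6,6], [8,8], [8,6,8,6], [4,6,5,7], [4,8,5,9], [4,0,5,1,1,1], [4,2,5,3,3,3], [6,0,7,3,3,1,1], [6,2,7,3,3,0], [8,0,8,0], [8,2,8,3]]
namespace Tr50
noncomputable def A_0 : List (ℕ) := [nat_lit 0x1e82a0d8150b30a84183c1681e1621003b080608582f030126180990b82604c28c260c214023060488380e81c086120320684483411022022080130500581c0300c028090aa0b83d818204181680e0c20a05d844268161480a0630582d80c1d00a1240a06b028450241040a052010520201c810090000620304a0180d8000480001200]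
noncomputable def A : List (List (ℕ)) := [A_0]
noncomputable def K_0 : List (ℕ) := [nat_lit 0x113894522f1088c3215158b436170f8741e0709834121105814060000]
noncomputable def K : List (List (ℕ)) := [K_0]
noncomputable def R_0 : List (Rule) := [Rule.mk (nat_lit 4) (nat_lit 32) (Steps.bwd (nat_lit 2) (Steps.bwd (nat_lit 3) (Steps.fwd (nat_lit 1024) Steps.nil))) (nat_lit 5) (nat_lit 3),
  Rule.mk (nat_lit 4) (nat_lit 32) (Steps.bwd (nat_lit 1) (Steps.bwd (nat_lit 3) (Steps.fwd (nat_lit 512) Steps.nil))) (nat_lit 4) (nat_lit 0),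
  Rule.mk (nat_lit 3) (nat_lit 32) (Steps.bwd (nat_lit 1) (Steps.bwd (nat_lit 4) (Steps.fwd (nat_lit 512) Steps.nil))) (nat_lit 5) (nat_lit 1),
  Rule.mk (nat_lit 3) (nat_lit 32) (Steps.bwd (nat_lit 2) (Steps.bwd (nat_lit 4) (Steps.fwd (nat_lit 1024) Steps.nil))) (nat_lit 4) (nat_lit 2),
  Rule.mk (nat_lit 1) (nat_lit 41) (Steps.bwd (nat_lit 1) (Steps.bwd (nat_lit 1) (Steps.bwd (nat_lit 1) (Steps.fwd (nat_lit 1024) Steps.nil)))) (nat_lit 0) (nat_lit 0),
  Rule.mk (nat_lit 4) (nat_lit 32) (Steps.bwd (nat_lit 2) (Steps.fwd (nat_lit 2048) (Steps.bwd (nat_lit 1) Steps.nil))) (nat_lit 5) (nat_lit 3),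
  Rule.mk (nat_lit 1) (nat_lit 32) (Steps.bwd (nat_lit 3) (Steps.fwd (nat_lit 512) (Steps.bwd (nat_lit 4) Steps.nil))) (nat_lit 4) (nat_lit 1),
  Rule.mk (nat_lit 2) (nat_lit 32) (Steps.bwd (nat_lit 3) (Steps.bwd (nat_lit 1) (Steps.bwd (nat_lit 4) Steps.nil))) (nat_lit 5) (nat_lit 0),
  Rule.mk (nat_lit 3) (nat_lit 32) (Steps.bwd (nat_lit 2) (Steps.fwd (nat_lit 1536) (Steps.bwd (nat_lit 1) Steps.nil))) (nat_lit 4) (nat_lit 2),
  Rule.mk (nat_lit 2) (nat_lit 32) (Steps.bwd (nat_lit 4) (Steps.bwd (nat_lit 1) (Steps.bwd (nat_lit 3) Steps.nil))) (nat_lit 4) (nat_lit 3),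
  Rule.mk (nat_lit 1) (nat_lit 32) (Steps.bwd (nat_lit 4) (Steps.fwd (nat_lit 512) (Steps.bwd (nat_lit 3) Steps.nil))) (nat_lit 5) (nat_lit 2),
  Rule.mk (nat_lit 3) (nat_lit 41) (Steps.bwd (nat_lit 3) (Steps.bwd (nat_lit 3) (Steps.bwd (nat_lit 3) (Steps.fwd (nat_lit 2048) Steps.nil)))) (nat_lit 2) (nat_lit 0),
  Rule.mk (nat_lit 1) (nat_lit 32) (Steps.bwd (nat_lit 4) (Steps.bwd (nat_lit 2) (Steps.bwd (nat_lit 3) Steps.nil))) (nat_lit 5) (nat_lit 2),
  Rule.mk (nat_lit 1) (nat_lit 32) (Steps.bwd (nat_lit 3) (Steps.bwd (nat_lit 2) (Steps.bwd (nat_lit 4) Steps.nil))) (nat_lit 4) (nat_lit 1),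
  Rule.mk (nat_lit 4) (nat_lit 32) (Steps.bwd (nat_lit 2) (Steps.bwd (nat_lit 3) (Steps.bwd (nat_lit 1) Steps.nil))) (nat_lit 5) (nat_lit 3),
  Rule.mk (nat_lit 3) (nat_lit 32) (Steps.bwd (nat_lit 1) (Steps.fwd (nat_lit 1536) (Steps.fwd (nat_lit 512) Steps.nil))) (nat_lit 5) (nat_lit 1),
  Rule.mk (nat_lit 1) (nat_lit 41) (Steps.bwd (nat_lit 1) (Steps.bwd (nat_lit 1) (Steps.fwd (nat_lit 1024) (Steps.bwd (nat_lit 1) Steps.nil)))) (nat_lit 0) (nat_lit 0),
  Rule.mk (nat_lit 2) (nat_lit 32) (Steps.bwd (nat_lit 3) (Steps.bwd (nat_lit 1) (Steps.fwd (nat_lit 1536) Steps.nil))) (nat_lit 5) (nat_lit 0),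
  Rule.mk (nat_lit 3) (nat_lit 41) (Steps.bwd (nat_lit 3) (Steps.fwd (nat_lit 2048) (Steps.bwd (nat_lit 3) (Steps.bwd (nat_lit 3) Steps.nil)))) (nat_lit 2) (nat_lit 0),
  Rule.mk (nat_lit 3) (nat_lit 32) (Steps.bwd (nat_lit 2) (Steps.bwd (nat_lit 4) (Steps.bwd (nat_lit 1) Steps.nil))) (nat_lit 4) (nat_lit 2),
  Rule.mk (nat_lit 2) (nat_lit 41) (Steps.bwd (nat_lit 2) (Steps.fwd (nat_lit 512) (Steps.bwd (nat_lit 2) (Steps.bwd (nat_lit 2) Steps.nil)))) (nat_lit 1) (nat_lit 0)]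
noncomputable def R : List (List (Rule)) := [R_0]
def LW : List Word := [[], [0], [1], [2], [3]]
def par : Par := ⟨9, 3, 12, 21, 511, 4095, 2097151⟩
theorem hpar : par.ok := by decide
theorem hR0_0 : lall (R) (fun l => lall l (ruleOK r5 LW par)) = true := by decide +kernel
theorem hR0 : lall (R) (fun l => lall l (ruleOK r5 LW par)) = true := hR0_0
theorem hR : RulesOK r5 LW par R := rulesOK_of rfl hR0
def cols : List (ℕ × ℕ) := [(512, 2), (1536, 4)]
theorem hcols : lall cols (colOK r5 LW par) = true := by decide +kernel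
noncomputable def JS0 : List ℕ := [nat_lit 0x30f8243350887430f020142f40104c281798785016900430070b4448070ac002070aac02030abc36170a10001c0a3844170a04001509a4001c09b43a200a04d8010c0516060c04d4030204d2050b04d0000a048e0002048c1a0d84c2450c8542640c8502630c0582820b054281]
theorem S0_c : blocks (facts 9 3 12 21 511 4095 2097151 9 511 5 31 A R 32) 32 JS0 279 = true := by decide +kernel
theorem S0 : On (Step.{u} r5 LW par A) 279 311 :=
  steps_of_blocks hpar hR S0_c (by decide +kernel)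
theorem D0_c : allB (defOK 9 12 21 511 2097151 280 A K) 1 2 = true := by decide +kernel
theorem D0 : On (fun r => defOK par.W par.WL par.E par.mW par.mE 280 A K r = true) 256 384 :=
  On.of_allB D0_c
noncomputable def JW0 : List ℕ := [nat_lit 0x78490742011c1a0404113c260904d0b8571285b060160480d1542a03c320a044140150e06108c690d4360e82d108311605c19462148660fc6d0f45e1a86e]
theorem W0_c : blocks (rows 9 3 12 21 511 4095 2097151 10 1023 20 A 311 25 cols 64) 64 JW0 0 = true := by decide +kernel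
theorem W0 : On (Row.{u} r5 LW par A 311 25 cols) 0 64 :=
  rows_of_blocks hpar (by decide) hcols W0_c (by decide +kernel)
theorem idx : Idx.{u} r5 [[0], [2]] [] 25 :=
  idx_of_cert hpar hR (K := K) (by decide +kernel) (T := 280) (T' := 384) (by decide) D0
    (subs := []) (by decide +kernel) (T1 := 279) (by decide) (N := 311) S0
    (by decide) (n' := 64) (by decide) W0 (by decide +kernel) (by decide +kernel)
end Tr50
theorem r5_0 : Bound.{u} r5 [[0], [2]] 25 := .of_idx Tr50.idx (.nil _) (by decide)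
namespace Tr51
noncomputable def A_0 : List (ℕ) := [nat_lit 0xa88542a6150728542ec1505c854190150718381c20e09a8380920e06b8382621309984c2ea1304484c130130ba05c2e21708485c2ce170b20582c21607c85822e160a2858242120918481ac1203c8481a80d0688340720d02b834282140a1850152140618301820c01483022c0c0898442221104b044126090488240ac090298140a2050218100820405b01010a040038101620b05982c20c0b05402c2021008184010c100338401e80f0518280680307883c1440a01880c0e40703981c102080418200f00800c01c1ea0705283c0500a009004028010318180c20600b01804602010808006000008002b014073814270120bb8442ca120940241aa140a403018c0508c8181320102c80008e0305c00820e0f0440040ea0307b81814c0301b8000cc0201300002a00]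
noncomputable def A : List (List (ℕ)) := [A_0]
noncomputable def K_0 : List (ℕ) := [nat_lit 0x89c4a2d0f8a4461b0882c56210e84c1219078340a170a81c060000]
noncomputable def K : List (List (ℕ)) := [K_0]
noncomputable def R_0 : List (Rule) := [Rule.mk (nat_lit 1) (nat_lit 51) (Steps.bwd (nat_lit 6) (Steps.fwd (nat_lit 512) (Steps.fwd (nat_lit 512) (Steps.fwd (nat_lit 512) (Steps.fwd (nat_lit 3072) Steps.nil))))) (nat_lit 18) (nat_lit 2),
  Rule.mk (nat_lit 3) (nat_lit 51) (Steps.bwd (nat_lit 6) (Steps.fwd (nat_lit 1536) (Steps.fwd (nat_lit 1536) (Steps.fwd (nat_lit 1536) (Steps.fwd (nat_lit 3072) Steps.nil))))) (nat_lit 20) (nat_lit 2),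
  Rule.mk (nat_lit 6) (nat_lit 33) (Steps.bwd (nat_lit 6) (Steps.bwd (nat_lit 6) (Steps.fwd (nat_lit 2560) Steps.nil))) (nat_lit 7) (nat_lit 0),
  Rule.mk (nat_lit 4) (nat_lit 51) (Steps.bwd (nat_lit 6) (Steps.bwd (nat_lit 3) (Steps.bwd (nat_lit 3) (Steps.bwd (nat_lit 3) (Steps.fwd (nat_lit 3072) Steps.nil))))) (nat_lit 21) (nat_lit 5),
  Rule.mk (nat_lit 2) (nat_lit 51) (Steps.bwd (nat_lit 6) (Steps.bwd (nat_lit 1) (Steps.bwd (nat_lit 1) (Steps.bwd (nat_lit 1) (Steps.fwd (nat_lit 3072) Steps.nil))))) (nat_lit 19) (nat_lit 5),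
  Rule.mk (nat_lit 8) (nat_lit 33) (Steps.bwd (nat_lit 6) (Steps.bwd (nat_lit 7) (Steps.fwd (nat_lit 3072) Steps.nil))) (nat_lit 15) (nat_lit 3),
  Rule.mk (nat_lit 5) (nat_lit 33) (Steps.bwd (nat_lit 7) (Steps.bwd (nat_lit 6) (Steps.bwd (nat_lit 8) Steps.nil))) (nat_lit 14) (nat_lit 1),
  Rule.mk (nat_lit 5) (nat_lit 33) (Steps.bwd (nat_lit 5) (Steps.fwd (nat_lit 3072) (Steps.bwd (nat_lit 5) Steps.nil))) (nat_lit 6) (nat_lit 0),
  Rule.mk (nat_lit 8) (nat_lit 33) (Steps.bwd (nat_lit 5) (Steps.bwd (nat_lit 7) (Steps.fwd (nat_lit 2560) Steps.nil))) (nat_lit 14) (nat_lit 0),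
  Rule.mk (nat_lit 8) (nat_lit 24) (Steps.bwd (nat_lit 8) (Steps.bwd (nat_lit 8) Steps.nil)) (nat_lit 9) (nat_lit 0),
  Rule.mk (nat_lit 3) (nat_lit 51) (Steps.bwd (nat_lit 8) (Steps.bwd (nat_lit 4) (Steps.bwd (nat_lit 4) (Steps.fwd (nat_lit 1024) (Steps.fwd (nat_lit 4096) Steps.nil))))) (nat_lit 24) (nat_lit 2),
  Rule.mk (nat_lit 1) (nat_lit 60) (Steps.bwd (nat_lit 8) (Steps.bwd (nat_lit 4) (Steps.bwd (nat_lit 4) (Steps.bwd (nat_lit 2) (Steps.bwd (nat_lit 2) (Steps.fwd (nat_lit 4096) Steps.nil)))))) (nat_lit 22) (nat_lit 2),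
  Rule.mk (nat_lit 3) (nat_lit 51) (Steps.bwd (nat_lit 8) (Steps.fwd (nat_lit 1536) (Steps.fwd (nat_lit 1536) (Steps.bwd (nat_lit 1) (Steps.fwd (nat_lit 4096) Steps.nil))))) (nat_lit 24) (nat_lit 2),
  Rule.mk (nat_lit 2) (nat_lit 60) (Steps.bwd (nat_lit 8) (Steps.bwd (nat_lit 1) (Steps.bwd (nat_lit 1) (Steps.bwd (nat_lit 3) (Steps.bwd (nat_lit 3) (Steps.fwd (nat_lit 4096) Steps.nil)))))) (nat_lit 23) (nat_lit 6),
  Rule.mk (nat_lit 1) (nat_lit 51) (Steps.fwd (nat_lit 2560) (Steps.bwd (nat_lit 2) (Steps.bwd (nat_lit 2) (Steps.bwd (nat_lit 2) (Steps.bwd (nat_lit 5) Steps.nil))))) (nat_lit 18) (nat_lit 2),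
  Rule.mk (nat_lit 4) (nat_lit 51) (Steps.fwd (nat_lit 2560) (Steps.bwd (nat_lit 3) (Steps.bwd (nat_lit 3) (Steps.bwd (nat_lit 3) (Steps.bwd (nat_lit 5) Steps.nil))))) (nat_lit 21) (nat_lit 5),
  Rule.mk (nat_lit 3) (nat_lit 51) (Steps.bwd (nat_lit 6) (Steps.bwd (nat_lit 4) (Steps.bwd (nat_lit 4) (Steps.bwd (nat_lit 4) (Steps.fwd (nat_lit 3072) Steps.nil))))) (nat_lit 20) (nat_lit 2),
  Rule.mk (nat_lit 7) (nat_lit 24) (Steps.bwd (nat_lit 7) (Steps.bwd (nat_lit 7) Steps.nil)) (nat_lit 8) (nat_lit 0),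
  Rule.mk (nat_lit 6) (nat_lit 33) (Steps.bwd (nat_lit 7) (Steps.bwd (nat_lit 5) (Steps.bwd (nat_lit 8) Steps.nil))) (nat_lit 15) (nat_lit 0),
  Rule.mk (nat_lit 3) (nat_lit 51) (Steps.fwd (nat_lit 3584) (Steps.fwd (nat_lit 1536) (Steps.fwd (nat_lit 1536) (Steps.bwd (nat_lit 1) (Steps.bwd (nat_lit 7) Steps.nil))))) (nat_lit 24) (nat_lit 2),
  Rule.mk (nat_lit 1) (nat_lit 60) (Steps.fwd (nat_lit 3584) (Steps.fwd (nat_lit 1536) (Steps.fwd (nat_lit 1536) (Steps.fwd (nat_lit 512) (Steps.fwd (nat_lit 512) (Steps.bwd (nat_lit 7) Steps.nil)))))) (nat_lit 22) (nat_lit 2),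
  Rule.mk (nat_lit 6) (nat_lit 33) (Steps.bwd (nat_lit 8) (Steps.fwd (nat_lit 3072) (Steps.bwd (nat_lit 7) Steps.nil))) (nat_lit 14) (nat_lit 3),
  Rule.mk (nat_lit 1) (nat_lit 60) (Steps.bwd (nat_lit 8) (Steps.fwd (nat_lit 1536) (Steps.fwd (nat_lit 1536) (Steps.fwd (nat_lit 512) (Steps.fwd (nat_lit 512) (Steps.fwd (nat_lit 4096) Steps.nil)))))) (nat_lit 22) (nat_lit 2),
  Rule.mk (nat_lit 5) (nat_lit 33) (Steps.bwd (nat_lit 7) (Steps.fwd (nat_lit 2560) (Steps.bwd (nat_lit 8) Steps.nil))) (nat_lit 14) (nat_lit 1),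
  Rule.mk (nat_lit 6) (nat_lit 33) (Steps.bwd (nat_lit 7) (Steps.fwd (nat_lit 3072) (Steps.bwd (nat_lit 8) Steps.nil))) (nat_lit 15) (nat_lit 0),
  Rule.mk (nat_lit 1) (nat_lit 51) (Steps.fwd (nat_lit 2560) (Steps.fwd (nat_lit 512) (Steps.fwd (nat_lit 512) (Steps.fwd (nat_lit 512) (Steps.bwd (nat_lit 5) Steps.nil))))) (nat_lit 18) (nat_lit 2),
  Rule.mk (nat_lit 3) (nat_lit 51) (Steps.fwd (nat_lit 2560) (Steps.fwd (nat_lit 1536) (Steps.fwd (nat_lit 1536) (Steps.fwd (nat_lit 1536) (Steps.bwd (nat_lit 5) Steps.nil))))) (nat_lit 20) (nat_lit 2),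
  Rule.mk (nat_lit 1) (nat_lit 33) (Steps.bwd (nat_lit 9) (Steps.bwd (nat_lit 1) (Steps.fwd (nat_lit 4608) Steps.nil))) (nat_lit 26) (nat_lit 0),
  Rule.mk (nat_lit 3) (nat_lit 33) (Steps.bwd (nat_lit 9) (Steps.fwd (nat_lit 1536) (Steps.fwd (nat_lit 4608) Steps.nil))) (nat_lit 28) (nat_lit 2),
  Rule.mk (nat_lit 6) (nat_lit 33) (Steps.bwd (nat_lit 9) (Steps.bwd (nat_lit 5) (Steps.fwd (nat_lit 4608) Steps.nil))) (nat_lit 16) (nat_lit 3),
  Rule.mk (nat_lit 1) (nat_lit 33) (Steps.bwd (nat_lit 9) (Steps.fwd (nat_lit 1024) (Steps.fwd (nat_lit 4608) Steps.nil))) (nat_lit 26) (nat_lit 0),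
  Rule.mk (nat_lit 3) (nat_lit 33) (Steps.bwd (nat_lit 9) (Steps.bwd (nat_lit 4) (Steps.fwd (nat_lit 4608) Steps.nil))) (nat_lit 28) (nat_lit 2),
  Rule.mk (nat_lit 6) (nat_lit 33) (Steps.bwd (nat_lit 9) (Steps.fwd (nat_lit 3072) (Steps.fwd (nat_lit 4608) Steps.nil))) (nat_lit 16) (nat_lit 3),
  Rule.mk (nat_lit 6) (nat_lit 33) (Steps.bwd (nat_lit 6) (Steps.bwd (nat_lit 6) (Steps.bwd (nat_lit 6) Steps.nil))) (nat_lit 7) (nat_lit 0),
  Rule.mk (nat_lit 9) (nat_lit 33) (Steps.bwd (nat_lit 6) (Steps.bwd (nat_lit 9) (Steps.fwd (nat_lit 3072) Steps.nil))) (nat_lit 16) (nat_lit 2),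
  Rule.mk (nat_lit 9) (nat_lit 33) (Steps.bwd (nat_lit 8) (Steps.fwd (nat_lit 4608) (Steps.bwd (nat_lit 8) Steps.nil))) (nat_lit 13) (nat_lit 0),
  Rule.mk (nat_lit 7) (nat_lit 33) (Steps.bwd (nat_lit 5) (Steps.bwd (nat_lit 8) (Steps.bwd (nat_lit 6) Steps.nil))) (nat_lit 15) (nat_lit 1),
  Rule.mk (nat_lit 9) (nat_lit 33) (Steps.bwd (nat_lit 5) (Steps.fwd (nat_lit 4608) (Steps.bwd (nat_lit 6) Steps.nil))) (nat_lit 16) (nat_lit 0),
  Rule.mk (nat_lit 1) (nat_lit 33) (Steps.fwd (nat_lit 4608) (Steps.bwd (nat_lit 1) (Steps.bwd (nat_lit 9) Steps.nil))) (nat_lit 26) (nat_lit 0),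
  Rule.mk (nat_lit 4) (nat_lit 33) (Steps.fwd (nat_lit 4608) (Steps.fwd (nat_lit 2048) (Steps.bwd (nat_lit 9) Steps.nil))) (nat_lit 28) (nat_lit 0),
  Rule.mk (nat_lit 9) (nat_lit 33) (Steps.bwd (nat_lit 8) (Steps.bwd (nat_lit 9) (Steps.bwd (nat_lit 8) Steps.nil))) (nat_lit 13) (nat_lit 0),
  Rule.mk (nat_lit 9) (nat_lit 33) (Steps.bwd (nat_lit 5) (Steps.fwd (nat_lit 4608) (Steps.fwd (nat_lit 2560) Steps.nil))) (nat_lit 16) (nat_lit 0),
  Rule.mk (nat_lit 9) (nat_lit 33) (Steps.bwd (nat_lit 7) (Steps.bwd (nat_lit 9) (Steps.bwd (nat_lit 7) Steps.nil))) (nat_lit 12) (nat_lit 1),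
  Rule.mk (nat_lit 4) (nat_lit 33) (Steps.fwd (nat_lit 4608) (Steps.bwd (nat_lit 3) (Steps.bwd (nat_lit 9) Steps.nil))) (nat_lit 28) (nat_lit 0),
  Rule.mk (nat_lit 5) (nat_lit 33) (Steps.bwd (nat_lit 8) (Steps.fwd (nat_lit 2560) (Steps.bwd (nat_lit 7) Steps.nil))) (nat_lit 15) (nat_lit 2),
  Rule.mk (nat_lit 6) (nat_lit 33) (Steps.bwd (nat_lit 8) (Steps.bwd (nat_lit 5) (Steps.bwd (nat_lit 7) Steps.nil))) (nat_lit 14) (nat_lit 3)]
noncomputable def R : List (List (Rule)) := [R_0]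
def LW : List Word := [[], [0], [1], [2], [3], [4], [5], [6], [7], [8], [0], [1], [2], [3]]
def par : Par := ⟨9, 4, 13, 22, 511, 8191, 4194303⟩
theorem hpar : par.ok := by decide
theorem hR0_0 : lall (R) (fun l => lall l (ruleOK r5 LW par)) = true := by decide +kernel
theorem hR0 : lall (R) (fun l => lall l (ruleOK r5 LW par)) = true := hR0_0
theorem hR : RulesOK r5 LW par R := rulesOK_of rfl hR0
def cols : List (ℕ × ℕ) := [(512, 2), (1536, 4), (2560, 6), (3584, 8), (4608, 9)]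
theorem hcols : lall cols (colOK r5 LW par) = true := by decide +kernel
noncomputable def JS0 : List ℕ := [nat_lit 0x98c45ac0cc5890b0381c0d86c58b8ac361a0d0acd020c454b0485250082a150a05004a8042813098054058344e98a44c90300000000310140000000142225020100825401200000001278940000000945110000000111e03010080201019c02000040202343c060301c0e1e303a05030183a58003850883e1c24001d0d90000f06c70f07036300c04020100c501000000001081a01008041a0832020100832086832180c30010080430105c02010085c1,
  nat_lit 0x3222401140068000a80138c80a42a8244220ca420110082004824110890171f84420101f9a04088f96159087b48044201a00023004e47018ee61e0ec7528e806030100874b8e40401008e4d138087120e01209048e021b82412091b82431c8da3010146b10d44a357468251a3834128ce1198846700c83e327c643d18bc31120c5d1809060e0082a150a809b0084c261300b4051a0b99,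
  nat_lit 0xa8201008442545ca61f10080a6681cb052b41e1428dc330f14242b13ca008140a0500b6000180c0600680c24268e2a2b132b0a92d2258341a0e0712d7250301a0d251a0525926d1c0349121288e50045201b00027004e2925916b]
theorem S0_c : blocks (facts 9 4 13 22 511 8191 4194303 9 511 6 63 A R 32) 32 JS0 280 = true := by decide +kernel
theorem S0 : On (Step.{u} r5 LW par A) 280 376 :=
  steps_of_blocks hpar hR S0_c (by decide +kernel)
theorem D0_c : allB (defOK 9 13 22 511 4194303 279 A K) 1 2 = true := by decide +kernel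
theorem D0 : On (fun r => defOK par.W par.WL par.E par.mW par.mE 279 A K r = true) 256 384 :=
  On.of_allB D0_c
noncomputable def JW0 : List ℕ := [nat_lit 0xf8400843b0f0461204a10c44088c50781c0686034cd01785c0d8c90d0320c05233ccc1384c35cca1a46a1b03f248892388c11ce02b8952682c0b82a098281605a1445515866094d51886408cdf1fc862106122ce92589d364391bc701c83738c91298a414ca92b0a2284d6398ed2d8b836cc61d4761e02d208801e87c164dc39099278672c4ef2f0be360ab2ecb52ccda3a8f0300c2]
theorem W0_c : blocks (rows 9 4 13 22 511 8191 4194303 10 1023 50 A 376 24 cols 25) 25 JW0 0 = true := by decide +kernel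
theorem W0 : On (Row.{u} r5 LW par A 376 24 cols) 0 25 :=
  rows_of_blocks hpar (by decide) hcols W0_c (by decide +kernel)
theorem idx : Idx.{u} r5 [[0], [2], [4], [6], [8]] [[0], [2]] 24 :=
  idx_of_cert hpar hR (K := K) (by decide +kernel) (T := 279) (T' := 384) (by decide) D0
    (subs := [1,3]) (by decide +kernel) (T1 := 280) (by decide) (N := 376) S0
    (by decide) (n' := 25) (by decide) W0 (by decide +kernel) (by decide +kernel)
end Tr51
theorem r5_1 : Bound.{u} r5 [[0], [2], [4], [6], [8]] 600 := .of_idx Tr51.idx r5_0 (by decide)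
def r3 : List Word := [[0,0,0], [2,2,2], [4,4,4], [6,6,6], [8,8,8], [0,2,1,3], [0,4,1,5], [0,6,1,7], [0,8,1,9], [2,4,3,5], [2,6,3,7], [2,8,3,9], [4,6,5,7], [4,8,5,9], [6,8,7,9]]
namespace Tr30
noncomputable def A_0 : List (ℕ) := [nat_lit 0xc8100420801304018810070080160601a0281c8140500e00202043038120000cc0a0560103a0180d8000440201200]
noncomputable def A : List (List (ℕ)) := [A_0]
noncomputable def K_0 : List (ℕ) := [nat_lit 0x10781c160906814060000]
noncomputable def K : List (List (ℕ)) := [K_0]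
noncomputable def R_0 : List (Rule) := [Rule.mk (nat_lit 1) (nat_lit 22) (Steps.bwd (nat_lit 1) (Steps.bwd (nat_lit 1) Steps.nil)) (nat_lit 0) (nat_lit 0),
  Rule.mk (nat_lit 4) (nat_lit 31) (Steps.bwd (nat_lit 2) (Steps.bwd (nat_lit 3) (Steps.bwd (nat_lit 1) Steps.nil))) (nat_lit 11) (nat_lit 3),
  Rule.mk (nat_lit 1) (nat_lit 31) (Steps.bwd (nat_lit 3) (Steps.fwd (nat_lit 512) (Steps.bwd (nat_lit 4) Steps.nil))) (nat_lit 10) (nat_lit 1),
  Rule.mk (nat_lit 2) (nat_lit 31) (Steps.bwd (nat_lit 3) (Steps.bwd (nat_lit 1) (Steps.fwd (nat_lit 1536) Steps.nil))) (nat_lit 11) (nat_lit 0),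
  Rule.mk (nat_lit 3) (nat_lit 22) (Steps.bwd (nat_lit 3) (Steps.bwd (nat_lit 3) Steps.nil)) (nat_lit 2) (nat_lit 0),
  Rule.mk (nat_lit 4) (nat_lit 22) (Steps.bwd (nat_lit 4) (Steps.fwd (nat_lit 1536) Steps.nil)) (nat_lit 3) (nat_lit 0),
  Rule.mk (nat_lit 1) (nat_lit 31) (Steps.bwd (nat_lit 4) (Steps.fwd (nat_lit 512) (Steps.bwd (nat_lit 3) Steps.nil))) (nat_lit 11) (nat_lit 2),
  Rule.mk (nat_lit 3) (nat_lit 22) (Steps.bwd (nat_lit 3) (Steps.fwd (nat_lit 2048) Steps.nil)) (nat_lit 2) (nat_lit 0),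
  Rule.mk (nat_lit 1) (nat_lit 31) (Steps.bwd (nat_lit 3) (Steps.bwd (nat_lit 2) (Steps.bwd (nat_lit 4) Steps.nil))) (nat_lit 10) (nat_lit 1)]
noncomputable def R : List (List (Rule)) := [R_0]
def LW : List Word := [[], [0], [1], [2], [3]]
def par : Par := ⟨9, 3, 12, 21, 511, 4095, 2097151⟩
theorem hpar : par.ok := by decide
theorem hR0_0 : lall (R) (fun l => lall l (ruleOK r3 LW par)) = true := by decide +kernel
theorem hR0 : lall (R) (fun l => lall l (ruleOK r3 LW par)) = true := hR0_0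
theorem hR : RulesOK r3 LW par R := rulesOK_of rfl hR0
def cols : List (ℕ × ℕ) := [(512, 2), (1536, 4)]
theorem hcols : lall cols (colOK r3 LW par) = true := by decide +kernel
noncomputable def JS0 : List ℕ := [nat_lit 0x160604a008180890281e0020d03b8280cc0703282014064000200a6000301480e061]
theorem S0_c : blocks (facts 9 3 12 21 511 4095 2097151 9 511 4 15 A R 32) 32 JS0 263 = true := by decide +kernel
theorem S0 : On (Step.{u} r3 LW par A) 263 295 :=
  steps_of_blocks hpar hR S0_c (by decide +kernel)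
theorem D0_c : allB (defOK 9 12 21 511 2097151 264 A K) 1 2 = true := by decide +kernel
theorem D0 : On (fun r => defOK par.W par.WL par.E par.mW par.mE 264 A K r = true) 256 384 :=
  On.of_allB D0_c
noncomputable def JW0 : List ℕ := [nat_lit 0xc02e100490d82d1103a10c320d4390f43e1184c1284e]
theorem W0_c : blocks (rows 9 3 12 21 511 4095 2097151 10 1023 20 A 295 9 cols 64) 64 JW0 0 = true := by decide +kernel
theorem W0 : On (Row.{u} r3 LW par A 295 9 cols) 0 64 :=
  rows_of_blocks hpar (by decide) hcols W0_c (by decide +kernel)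
theorem idx : Idx.{u} r3 [[0], [2]] [] 9 :=
  idx_of_cert hpar hR (K := K) (by decide +kernel) (T := 264) (T' := 384) (by decide) D0
    (subs := []) (by decide +kernel) (T1 := 263) (by decide) (N := 295) S0
    (by decide) (n' := 64) (by decide) W0 (by decide +kernel) (by decide +kernel)
end Tr30
theorem r3_0 : Bound.{u} r3 [[0], [2]] 9 := .of_idx Tr30.idx (.nil _) (by decide)
namespace Tr31
noncomputable def A_0 : List (ℕ) := [nat_lit 0x3302008a08041820102080138200ca040220100840401c0100c60603081802e0601b0140ea050298140a20501401c0e80703901c0660301880c0460201080800a02009804022010018000020004381c090000338140ae0103b00c06e0001280402a00]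
noncomputable def A : List (List (ℕ)) := [A_0]
noncomputable def K_0 : List (ℕ) := [nat_lit 0x10781c160906814060000]
noncomputable def K : List (List (ℕ)) := [K_0]
noncomputable def R_0 : List (Rule) := [Rule.mk (nat_lit 1) (nat_lit 32) (Steps.bwd (nat_lit 5) (Steps.fwd (nat_lit 512) (Steps.fwd (nat_lit 2560) Steps.nil))) (nat_lit 12) (nat_lit 1),
  Rule.mk (nat_lit 3) (nat_lit 32) (Steps.bwd (nat_lit 5) (Steps.fwd (nat_lit 1536) (Steps.fwd (nat_lit 2560) Steps.nil))) (nat_lit 18) (nat_lit 1),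
  Rule.mk (nat_lit 5) (nat_lit 23) (Steps.bwd (nat_lit 5) (Steps.bwd (nat_lit 5) Steps.nil)) (nat_lit 4) (nat_lit 0),
  Rule.mk (nat_lit 1) (nat_lit 32) (Steps.bwd (nat_lit 7) (Steps.fwd (nat_lit 512) (Steps.fwd (nat_lit 3584) Steps.nil))) (nat_lit 14) (nat_lit 1),
  Rule.mk (nat_lit 3) (nat_lit 32) (Steps.bwd (nat_lit 7) (Steps.fwd (nat_lit 1536) (Steps.fwd (nat_lit 3584) Steps.nil))) (nat_lit 20) (nat_lit 1),
  Rule.mk (nat_lit 2) (nat_lit 32) (Steps.bwd (nat_lit 6) (Steps.bwd (nat_lit 1) (Steps.fwd (nat_lit 3072) Steps.nil))) (nat_lit 12) (nat_lit 3),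
  Rule.mk (nat_lit 4) (nat_lit 32) (Steps.bwd (nat_lit 6) (Steps.bwd (nat_lit 3) (Steps.fwd (nat_lit 3072) Steps.nil))) (nat_lit 18) (nat_lit 3),
  Rule.mk (nat_lit 8) (nat_lit 32) (Steps.bwd (nat_lit 6) (Steps.bwd (nat_lit 7) (Steps.bwd (nat_lit 5) Steps.nil))) (nat_lit 25) (nat_lit 3),
  Rule.mk (nat_lit 5) (nat_lit 32) (Steps.bwd (nat_lit 7) (Steps.fwd (nat_lit 2560) (Steps.bwd (nat_lit 8) Steps.nil))) (nat_lit 24) (nat_lit 1),
  Rule.mk (nat_lit 6) (nat_lit 32) (Steps.bwd (nat_lit 7) (Steps.bwd (nat_lit 5) (Steps.fwd (nat_lit 3584) Steps.nil))) (nat_lit 25) (nat_lit 0),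
  Rule.mk (nat_lit 7) (nat_lit 23) (Steps.bwd (nat_lit 7) (Steps.bwd (nat_lit 7) Steps.nil)) (nat_lit 6) (nat_lit 0),
  Rule.mk (nat_lit 8) (nat_lit 23) (Steps.bwd (nat_lit 8) (Steps.fwd (nat_lit 3584) Steps.nil)) (nat_lit 7) (nat_lit 0),
  Rule.mk (nat_lit 2) (nat_lit 32) (Steps.bwd (nat_lit 8) (Steps.bwd (nat_lit 1) (Steps.fwd (nat_lit 4096) Steps.nil))) (nat_lit 14) (nat_lit 3),
  Rule.mk (nat_lit 4) (nat_lit 32) (Steps.bwd (nat_lit 8) (Steps.bwd (nat_lit 3) (Steps.fwd (nat_lit 4096) Steps.nil))) (nat_lit 20) (nat_lit 3),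
  Rule.mk (nat_lit 5) (nat_lit 32) (Steps.bwd (nat_lit 8) (Steps.fwd (nat_lit 2560) (Steps.bwd (nat_lit 7) Steps.nil))) (nat_lit 25) (nat_lit 2),
  Rule.mk (nat_lit 7) (nat_lit 23) (Steps.bwd (nat_lit 7) (Steps.fwd (nat_lit 4096) Steps.nil)) (nat_lit 6) (nat_lit 0),
  Rule.mk (nat_lit 1) (nat_lit 32) (Steps.bwd (nat_lit 7) (Steps.bwd (nat_lit 2) (Steps.fwd (nat_lit 3584) Steps.nil))) (nat_lit 14) (nat_lit 1),
  Rule.mk (nat_lit 3) (nat_lit 32) (Steps.bwd (nat_lit 7) (Steps.bwd (nat_lit 4) (Steps.fwd (nat_lit 3584) Steps.nil))) (nat_lit 20) (nat_lit 1),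
  Rule.mk (nat_lit 5) (nat_lit 32) (Steps.bwd (nat_lit 7) (Steps.bwd (nat_lit 6) (Steps.bwd (nat_lit 8) Steps.nil))) (nat_lit 24) (nat_lit 1)]
noncomputable def R : List (List (Rule)) := [R_0]
def LW : List Word := [[], [0], [1], [2], [3], [4], [5], [6], [7], [0], [1], [2], [3]]
def par : Par := ⟨9, 4, 13, 22, 511, 8191, 4194303⟩
theorem hpar : par.ok := by decide
theorem hR0_0 : lall (R) (fun l => lall l (ruleOK r3 LW par)) = true := by decide +kernel
theorem hR0 : lall (R) (fun l => lall l (ruleOK r3 LW par)) = true := hR0_0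
theorem hR : RulesOK r3 LW par R := rulesOK_of rfl hR0
def cols : List (ℕ × ℕ) := [(512, 2), (1536, 4), (2560, 6), (3584, 8)]
theorem hcols : lall cols (colOK r3 LW par) = true := by decide +kernel
noncomputable def JS0 : List ℕ := [nat_lit 0xe83036a030783530c8383320c0383110585e0050e85de1609859c1509855a180a3028040a1426040990261258502c125008281148401210283c120f2018200f4038020e3834020d30340c0d28300c0c2030040c102c040b082c1430500414204804121]
theorem S0_c : blocks (facts 9 4 13 22 511 8191 4194303 9 511 5 31 A R 32) 32 JS0 265 = true := by decide +kernel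
theorem S0 : On (Step.{u} r3 LW par A) 265 297 :=
  steps_of_blocks hpar hR S0_c (by decide +kernel)
theorem D0_c : allB (defOK 9 13 22 511 4194303 264 A K) 1 2 = true := by decide +kernel
theorem D0 : On (fun r => defOK par.W par.WL par.E par.mW par.mE 264 A K r = true) 256 384 :=
  On.of_allB D0_c
noncomputable def JW0 : List ℕ := [nat_lit 0x500e040121104d0bc310880d07820120260a02a11c160641b074250c8340b43a0d838128500f03e1385210042]
theorem W0_c : blocks (rows 9 4 13 22 511 8191 4194303 10 1023 40 A 297 9 cols 32) 32 JW0 0 = true := by decide +kernel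
theorem W0 : On (Row.{u} r3 LW par A 297 9 cols) 0 32 :=
  rows_of_blocks hpar (by decide) hcols W0_c (by decide +kernel)
theorem idx : Idx.{u} r3 [[0], [2], [4], [6]] [[0], [2]] 9 :=
  idx_of_cert hpar hR (K := K) (by decide +kernel) (T := 264) (T' := 384) (by decide) D0
    (subs := [1,3]) (by decide +kernel) (T1 := 265) (by decide) (N := 297) S0
    (by decide) (n' := 32) (by decide) W0 (by decide +kernel) (by decide +kernel)
end Tr31
theorem r3_1 : Bound.{u} r3 [[0], [2], [4], [6]] 81 := .of_idx Tr31.idx r3_0 (by decide)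
namespace Tr32
noncomputable def A_0 : List (ℕ) := [nat_lit 0x238080450100860201040400480802700804a01008c0201080400700000a00000c0000080004900805200]
noncomputable def A : List (List (ℕ)) := [A_0]
noncomputable def K_0 : List (ℕ) := [nat_lit 0x4060000]
noncomputable def K : List (List (ℕ)) := [K_0]
noncomputable def R_0 : List (Rule) := [Rule.mk (nat_lit 1) (nat_lit 30) (Steps.bwd (nat_lit 9) (Steps.fwd (nat_lit 512) (Steps.fwd (nat_lit 4608) Steps.nil))) (nat_lit 16) (nat_lit 1),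
  Rule.mk (nat_lit 3) (nat_lit 30) (Steps.bwd (nat_lit 9) (Steps.fwd (nat_lit 1536) (Steps.fwd (nat_lit 4608) Steps.nil))) (nat_lit 22) (nat_lit 1),
  Rule.mk (nat_lit 5) (nat_lit 30) (Steps.bwd (nat_lit 9) (Steps.fwd (nat_lit 2560) (Steps.fwd (nat_lit 4608) Steps.nil))) (nat_lit 26) (nat_lit 1),
  Rule.mk (nat_lit 7) (nat_lit 30) (Steps.bwd (nat_lit 9) (Steps.fwd (nat_lit 3584) (Steps.fwd (nat_lit 4608) Steps.nil))) (nat_lit 28) (nat_lit 1),
  Rule.mk (nat_lit 9) (nat_lit 21) (Steps.bwd (nat_lit 9) (Steps.bwd (nat_lit 9) Steps.nil)) (nat_lit 8) (nat_lit 0)]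
noncomputable def R : List (List (Rule)) := [R_0]
def LW : List Word := [[], [0], [1], [2], [3], [4], [5], [6], [7], [8], [9], [0], [1], [2], [3], [4], [5], [6], [7]]
def par : Par := ⟨9, 5, 14, 23, 511, 16383, 8388607⟩
theorem hpar : par.ok := by decide
theorem hR0_0 : lall (R) (fun l => lall l (ruleOK r3 LW par)) = true := by decide +kernel
theorem hR0 : lall (R) (fun l => lall l (ruleOK r3 LW par)) = true := hR0_0
theorem hR : RulesOK r3 LW par R := rulesOK_of rfl hR0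
def cols : List (ℕ × ℕ) := [(512, 2), (1536, 4), (2560, 6), (3584, 8), (4608, 10)]
theorem hcols : lall cols (colOK r3 LW par) = true := by decide +kernel
noncomputable def JS0 : List ℕ := [nat_lit 0xc0203202c080b60a0202902408092090450400c1100e0303b0300c0c80a03029]
theorem S0_c : blocks (facts 9 5 14 23 511 16383 8388607 9 511 3 7 A R 32) 32 JS0 261 = true := by decide +kernel
theorem S0 : On (Step.{u} r3 LW par A) 261 293 :=
  steps_of_blocks hpar hR S0_c (by decide +kernel)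
theorem D0_c : allB (defOK 9 14 23 511 8388607 258 A K) 1 2 = true := by decide +kernel
theorem D0 : On (fun r => defOK par.W par.WL par.E par.mW par.mE 258 A K r = true) 256 384 :=
  On.of_allB D0_c
noncomputable def JW0 : List ℕ := [nat_lit 0x360b8300c834120380e83c0f84a1004211046]
theorem W0_c : blocks (rows 9 5 14 23 511 16383 8388607 10 1023 50 A 293 3 cols 25) 25 JW0 0 = true := by decide +kernel
theorem W0 : On (Row.{u} r3 LW par A 293 3 cols) 0 25 :=
  rows_of_blocks hpar (by decide) hcols W0_c (by decide +kernel)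
theorem idx : Idx.{u} r3 [[0], [2], [4], [6], [8]] [[0], [2], [4], [6]] 3 :=
  idx_of_cert hpar hR (K := K) (by decide +kernel) (T := 258) (T' := 384) (by decide) D0
    (subs := [1,3,5,7]) (by decide +kernel) (T1 := 261) (by decide) (N := 293) S0
    (by decide) (n' := 25) (by decide) W0 (by decide +kernel) (by decide +kernel)
end Tr32
theorem r3_2 : Bound.{u} r3 [[0], [2], [4], [6], [8]] 243 := .of_idx Tr32.idx r3_1 (by decide)
end
end CA.SzR
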