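import Cfsg.Agent.Lib.Rec.SzP
import Cfsg.Agent.Lib.Rec.SzR

/-! Groups of Suzuki type: Sylow `5`-subgroups. -/

set_option autoImplicit false
set_option linter.all false
set_option maxRecDepth 100000

namespace CA.SzP

open CA.CNet CA.CWord CA.CPres Subgroup CA.BG CA.GW Cfsg CA.CPoint CA.CLevel Equiv CA.CLow CA.CTrans CA.SuzPerm
open CA.U43B (len_le)
open CA.SzA (incr mem_of_len)
open CA.CBack (mkS mem_mkS)

universe u
variable {G : Type u} [Group G] [Finite G]

def n5 : List Word := [[20,20,20], [38,33,25], [14,35,24,26,39], [26,31,22,21,36], [34,30,30]]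
def low5_w1 : List Word := [[38,27,25,34,15,38,27,25,34,15], [26,31,22,21,36,34,30,30], [24,32,39,20,20,20,20,20,20]]
theorem low5_1 : Low (C.grp low5_w1) 20 [1] :=
  low_orb hC hlk 1 (by decide) [(1,0), (1,2), (1,4), (1,5), (8,2), (8,4), (8,5), (133,4), (133,5), (1039,4), (249,5), (86,4), (86,5), (65,4), (1453,5), (1199,4), (337,5), (250,4), (1177,5)] (m := 20) (grp_mono _ (by decide +kernel))
    (by decide +kernel) (by decide +kernel) (low_nil C) (by decide)
theorem low5 : Low (C.grp n5) 600 [103,1] :=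
  low_orb hC hlk 103 (by decide) [(103,0), (103,1), (103,2), (103,3), (103,4), (103,6), (103,7), (1472,4), (1472,5), (1472,6), (1472,7), (1472,8), (1209,7), (1647,4), (1647,5), (1647,6), (1647,7), (1647,8), (918,7), (926,6), (926,7), (1314,6), (1314,7), (1314,8), (1319,7), (981,6), (981,7), (981,8), (1460,7)] (m := 30) (le_of_subst _ [[5,5], [6,8], [3,0,0]] (by decide +kernel))
    (by decide +kernel) (by decide +kernel) low5_1 (by decide)
def vs5 : List Word := [[27,5], [34,27,32], [35,32,25], [34,1,33], [35,17,29], [26,28,5], [11,29,20], [34,11,29], [35,25], [36,35,14], [34,26,1], [17,32], [32,28,36], [36,17,11], [26,14,33], [34,17,14], [32,1,36], [29,21,24], [28,28], [34,28,20,27], [34,24,27], [36,16,26], [34,20,25,34], [34,28,33,11], [26,29,17], [21,34], [34,25,17], [35,24,17], [35,11,29], [28,10,26], [25,26], [28,20,10], [17,35,17], [25,17], [35,16,11], [34,28,21], [17,33,35], [17,35,1], [34,29], [34,15], [34,36,33], [27,32,10], [33,29,33], [26,34,34], [32,1,27], [32,28,1], [27,24,35],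 [16,29,21], [34,36,20,29], [5,32,15], [11,15], [32,36,17], [20,36,26], [29,15,32], [35,17,24], [35,8,28], [28,24,24], [34,15,32], [26,17,26], [25,32,15], [16,26,35], [15,32,17], [21,35,35], [32,34,36], [15,26,28], [27,35,24], [28,36,20], [34,27,15], [26,14,28], [20,35,16], [34,26,21], [35,14,28], [35,32,28], [27,36,20], [27,11,34], [35,32,5], [34,29,1], [1,33,5], [34,27,28,16], [36,25,28], [34,11], [33,25,10], [33,26], [34,32,34,32], [34,11,8], [28,27,10], [35,27,29], [33,35,27], [29,25,35], [8,33,21], [34,16,28,36], [32,20], [34,1,27], [26,28,27], [29,16,34], [29,20,10], [33,28,21], [36,14,33], [28,35], [20,35,1], [36,35,24], [36,15,35], [34,32,8], [36,35,29], [35,16,15], [20,36,17], [34,36,5], [34,27,14], [35,27,24], [29,26,29], [34,8,33], [27,14], [34,20,25,26], [36,20,14], [34,27,34,20], [33,17,11], [26,24,24], [32,16,29], [36,29,1], [8,36], [29,11,20], [34,17,24], [36,1,28], [35,26,1], [26,10], [25,35], [34,29,21,14], [32,17,32], [28,15,27], [36,28,20], [34,11,28], [34,21,17,26],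 [15,35], [32,15,29], [34,28,11], [17,35,25], [20,10], [36,28,28], [25,29,32], [5,36,35], [34,17,36], [35,17,14], [17,35,28], [29,26,28], [17,28,35], [29,10,32], [35,32,24], [25,33,28], [34,28,21,24], [34,36,20], [29,14,34], [27,32,36], [14,33,10], [5,32], [33,26,28], [34,36,28,28], [26,20,33], [16,33,35], [34,25,28], [35,28,15], [17,5,27], [34,25,35], [34,32,16], [34,26,33,21], [35,16,32], [28,34,29], [36,27,17], [33,33,1], [34,10,28], [32,29,32], [26,20,20], [17,34,16], [33,33,35], [36,33,35], [16,26], [25,15], [27,32,16], [36,1,26], [34,27,35], [36,25,27], [36,25,29], [8,34,32], [34,36,35], [28,20,16], [32,25,35], [10,27,32], [11,33,24], [36,11,21], [35,27,5], [15,26], [32,26,15], [27,29,20], [26,14,35], [25,33,35], [36,26,20], [29,21,1], [33,24,11], [32,16,33], [17,15], [35,32,21], [34,20,14], [28,20,33], [32,29,16], [35,27,1], [33,14,26], [10,36,8], [32,15,35], [34,15,28], [15,28], [36,21,10], [35,17], [34,29,11], [33,24,27], [33,24,36], [26,32,10], [34,24,21], [33,5,20], [24,32,1],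 [34,36,27], [35,15,28], [26,33,11], [21,33,17], [32,32,17], [29,20,33], [27,35,1], [10], [35,10], [34,27,35,20], [36,17,33], [16,32,8], [26,17,14], [34,28,34,5], [20,32,34], [26,24,27], [11,34], [35,26,34], [28,36,24], [20,32,26], [26,34], [27,16,32], [8,34], [24,33,35], [28,33,24], [20,35,8], [27,28], [26,16], [34,16], [28,33,33], [32,32,5], [34,25,14], [34,24,27,21], [29,27,25], [20,29,33], [29,27], [17,34,20], [35,28,5], [29,32,5], [29,34,10], [34,32,21], [32,32,25], [34,29,17], [34,36,29,20], [28,21,15], [36,20,24], [10,33], [15,20,34], [34,17,28,24], [5,28,14], [20,26,28], [34,20,33], [28,27,28], [36,29,17], [28,15,29], [34,21,33,5], [34,29,10], [28,25,27], [16,32], [34,20,1], [28,5,26], [36,33,10], [28,5], [28,34,28], [28,33,5], [33,33,15], [32,21], [28,35,25], [34,36,15,36], [34,5,36,28], [33,16,28], [34,32,34,25], [35,17,8], [34,28,35], [34,29,24], [17,8], [35,8], [34,26,14,26], [28,20,8], [26,15,26], [32,1,20], [11,36,29], [29,10,24], [34,8], [35,5,29], [25,26,32], [32,5,34],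 [26,25,26], [34,28,35,24], [16,15], [36,21,27], [32,20,33], [34,24,27,24], [34,29,34], [32,26,28], [28,24,33], [34,29,15], [28,32,14], [34,27,16,32], [25,34,27], [27,17,35], [35,28,28], [33,21,10], [34,32,32], [15,36,28], [20,29,16], [35,28,27], [29,27,33], [36,28,32], [32,20,36], [15,28,20], [35,1,26], [29,29,33], [33,10,24], [28,20,14], [34,28,32,26], [34,25,1], [14,35,27], [34,10,29], [34,28,35,8], [28,17,11], [11,33,17], [36,28,5], [32,17], [35,24,8], [34,25,21], [33,16,36], [25,21,32], [34,32,14,21], [36,20,15], [28,17,26], [33,33,8], [29,33,25], [25,29,26], [15,32,5], [34,11,34], [34,26,8], [26,5,32], [35,32,20], [28,11,21], [35,26,11], [21,28,8], [21,35,33], [35,24,21], [29,33,24], [36,29,20], [35,27,35], [33,11,26], [36,11,26], [34,8,27], [35,29,17], [35,11,15], [28,34,32], [29,33], [32,8], [34,20,8], [35,17,36], [32,16,32], [32,27,24], [33,24,8], [15,33,16], [27,29,21], [33,27,8], [20,33,11], [36,26,29], [35,21], [29,29,25], [35,14,26], [1,32], [27,35,16], [32,29,35], [25,34,5],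 [28,27,35], [27,32,24], [28,26,28], [21,10,34], [5,36,1], [26,17], [26,36,29], [34,25,32,26], [15,20,36], [21,36,10], [17,35], [36,16], [34,36,16], [11,35,17], [36,20,27], [34,15,35], [1], [33,15,33], [33,29,29], [26,28,26], [33,35,15], [20,32,36], [34,36,26], [34,24,29], [32,28,24], [28,20,29], [33,14], [27,35,33], [26,14,26], [34,26,25,15], [34,24,17], [35,27,34], [5,29], [34,1], [34,32,32,15], [16,11,34], [36,29,27], [35,10,35], [36,15,26], [35,11,8], [34,15,20], [8,36,20], [28,26,11], [20,8,36], [35,20,33], [29,29,20], [27,32,26], [34,26,29,35], [29,21,28], [29,10,28], [24,10,33], [28,27,5], [29,15,36], [33,16], [21,29,36], [36,17,14], [26,34,15], [34,17,29], [15], [36,25,32], [34,28,34,11], [34,11,20], [29,35,35], [21,27,28], [14], [33,26,29], [34,27,11,36], [28,21,5], [1,29,29], [11,17,34], [27,11,36], [14,28], [34,20,27,17], [24,32,21], [35,29,33], [35,5,34], [35,27,34,24], [14,28,21], [34,27,24,14], [32,34,10], [24], [26,15,34], [34,25,5], [36,35,10], [25,21], [36,24,11], [29,24,10],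 [20,33], [29,32,14], [34,32,32,1], [26,33,5], [21,28,21], [28,28,20], [28,20,1], [11,20], [34,21,34,24], [27,10], [16,32,11], [8,32], [29,11,21], [21,36,16], [33,10,20], [34,16,35], [33,5,26], [26,15], [34,28,5,33], [21,28,15], [26,33,24], [35,24,1], [34,26,15], [20,27,8], [34,10,36], [24,1], [29,33,29], [34,24,1], [20,8], [36,15,29], [28,35,1], [28,34], [34,27,21,15], [25,34,8], [21,14,27], [32,5], [33,5,24], [33,27,33], [36,29,16], [5,33,11], [27,32,8], [28,24,15], [35,26,25], [29,35,32], [11], [34,24,27,5], [25,20], [34,29,34,34], [33,10,34], [28,36,1], [34,32,32,26], [20,29], [35,26,17], [34,24,14], [21,32], [25,32,5], [28,33,10], [8,28], [36,35,32], [28,33,11], [26,29,24], [11,8,32], [28,21,32], [35,11,35], [35,15], [34,5,27], [36,25,1], [34,5,26], [34,26,33], [35,32,32], [36,10,24], [34,14,34], [35,26,29], [26,24,34], [26,14,24], [29,21,26], [36,27], [29,21], [20,28,32], [32,32,20], [33,14,36], [21,35,10], [34,28,35,16], [35,5], [5], [28,28,8], [33,25,27], [35,1,35], [25,21,35],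 [32,32,1], [36,26,15], [34,28,27], [25,5], [27,28,8], [36,29,26], [28,17], [35,14,27], [33,5,28], [34,25], [28,27,21], [34,36,25,10], [34,27,25], [24,26], [36,10,32], [26,34,20], [1,33], [28,17,34], [32,34,14], [34,29,17,36], [36,16,27], [35,20,35], [28,32,15], [32,21,33], [35,20,8], [29,34,32], [33,14,35], [29,26,35], [33,21,17], [29,24,20], [11,36], [29,34,21], [34,32,21,33], [34,20,36,21], [36,21,8], [27,5,29], [1,32,24], [35,15,20], [34,17,15], [26,24,36], [5,28], [36,27,33], [36,33], [28,21,36], [29,35,25], [21,24], [35,32,16], [5,33], [34,27,16,25], [35,32,17], [34,14], [36,35,1], [34,14,36], [35,20,33,21], [34,14,33,14], [32,27,15], [27,35,5], [34,21,32], [34,20,29], [36,33,1], [35,25,20], [34,16,25], [20,28], [20,24,34], [32,36,16], [32,26,24], [36,20,20], [34,29,29], [34,36,25,8], [34,8,33,29], [32,20,11,29], [33,16,25], [26,8], [27,24], [11,33,26], [15,32,34], [29,26,33], [35,27,16], [34,27,16], [32,36,35], [27,16], [35,28,25], [33,20,15], [32,28,8], [25,29], [34,26,28,15], [34,24,33,15],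 [34,21,25], [25,27,29], [34,28,25], [25,36,1], [34,29,14,35], [5,26], [15,33], [36,11,27], [25,34], [32,29,15], [20,26], [36,17,15], [32,27,14], [36,29,21], [27,32,5], [34,27,28,21], [35,27,15], [16,33,8], [25,32,29], [32,29,36], [29,29,17], [28,24,17], [21,35,15], [27,35,28], [34,21,10], [25,32], [34,14,29], [15,36], [35,11,27], [35,21,29], [35,27], [20,35,29], [33,21,21], [34,32,24], [26,15,32], [36,35,15], [27,36,33], [29,25,33], [8,29], [34,8,34], [33,25,36], [36,10,33], [29,36,24], [28,25,16], [32,32,27], [24,24], [32,29,16,25], [36,33,5], [20,33,17], [20,33,10], [36,25,26], [36,14,29], [35,29,15], [34,5,36], [21,8,21], [28,11], [33,20,8], [36,20], [32,26,20], [29,24], [34,16,29], [1,34,10], [36,21,36], [17,29,15], [11,34,8], [34], [36,33,15], [34,29,21], [17,28,8], [36,14], [27,10,28], [32,27,5], [17,11,33], [35,24,29], [36,27,29], [32,28,34], [32,21,27], [36,16,35], [28,28,10], [29,21,17], [34,26,5], [26,5], [34,16,35,27], [36,28,16], [34,29,33], [11,35,14], [36,24,34], [29,10,33],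 [20,29,14], [33,24,20], [34,28,21,26], [29,32,16], [34,14,28], [14,26], [34,29,15,27], [26,32,29], [34,21,8,27], [16,11,35], [29,36,17], [29,27,32], [21], [28,26,20], [33,10,29], [33,16,34], [16,36,24], [35,11,20], [29,16,28], [35,26,15], [27,17], [32,34,29], [36,21,29], [36,35,17], [34,16,33,17], [36,29,24], [32,29,8], [36,15,25], [34,24,16], [32,11,32], [33,27,29], [1,20,33], [32,21,5], [21,28], [32,11,35], [35,24,11], [34,28,33], [34,25,36], [35,24,10], [34,32,1], [16,29], [28,33], [34,5,29], [8,36,1], [26,33], [21,27,25], [34,25,32], [24,27,29], [1,20], [32,17,36], [34,1,20], [10,32,1], [24,33], [35,29,25], [17,34,36], [33,17,33], [5,35,28], [34,24,36], [26], [36,1,33], [10,26], [32,28,11], [34,29,25], [35,1,20], [28,27,32], [24,10], [35,26], [26,16,35], [33,25,34], [35,32,1], [29,35,28], [33,29,36], [16,28,14], [34,5,33], [34,21,17], [34,28,33,24], [28,24,11], [29,24,26], [27,35,27], [34,28,36,33], [29,33,20], [36,24,36], [34,29,1,20], [5,32,14], [34,10,35], [25,1], [28,24,35], [34,17,35],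 [26,24,14], [20,29,35], [17,34,15], [34,25,16], [35,29,14], [29,14], [34,29,14], [36,20,29], [29,29], [34,32,36], [15,35,32], [15,27], [32,36], [14,33,11], [33,25], [36,14,36], [15,32,11], [35,29,11], [17,14], [33,28,25], [21,27,10], [29,34,14], [33,21,25], [21,27,5], [10,36,17], [33,26,33], [36,26,33], [26,11], [34,25,35,5], [20,14], [27,35,17], [33,21,35], [32,32,16], [34,28,5], [34,16,15], [35,24,5], [27,34,16], [32,28,16], [32,34,27], [36,25,21], [24,33,20], [21,33,33], [36,28,10], [35,17,33], [36,33,14], [34,29,36], [26,29,35], [34,26,34,21], [34,26,29], [11,20,35], [34,36,35,10], [15,20], [33,28,1], [21,29,26], [36,28,1], [34,1,35], [16,11,36], [34,29,16,35], [36,35,11], [14,33,21], [29,20,14], [34,32,34], [35,8,33], [27,32,34], [34,11,15], [27,20], [16,29,10], [35,1,34], [20,10,35], [35,27,14], [34,16,27], [25,27], [34,20,36,8], [26,28,14], [25,20,28], [25,5,32], [14,36], [29,20,28], [34,28,21,11], [16,27], [32,34], [36,16,25], [32,32,36], [33,27], [29,24,15], [35,26,20], [36,21],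 [35,27,20], [15,32], [36,11,24], [26,35], [17,11,34], [26,29,20], [34,27,24], [16,32,20], [26,28], [1,26], [35,5,35], [25,34,1], [36,24], [34,32,14], [34,11,33,24], [20], [32,27,1], [34,20], [35,20], [35,32,27], [34,20,28,28], [34,27,11], [28,36,27], [17,5], [5,35], [11,35,11], [33,11,24], [8,26], [34,36,24], [27,16,35], [35,25,35], [34,15,34], [35,25,5], [32,16,28], [34,15,36], [15,34], [20,34], [17,15,35], [17,14,28], [34,32,29], [33,28,20], [27,20,16], [25,36,10], [34,32,5], [28,10,32], [29,29,21], [34,16,11], [29,34,11], [28,21,25], [21,34,34], [33,25,11], [17,33], [8], [35,15,34], [33,20], [36,24,16], [32,32,15], [34,27,28], [36,11,32], [34,21,36], [29,20,35], [35,21,36], [21,36], [32,29], [36,25,8], [36,25,11], [36,17,28], [35,15,35], [28,32,16], [34,20,16], [21,29], [28,27,8], [26,8,35], [32,5,33], [28,5,28], [34,28,34], [14,34,34], [20,16], [34,28,33,17], [35,32,36], [27,28,1], [28,32,20], [34,20,24], [32,1,33], [36,29,35], [34,24,27,15], [32,32,8], [34,32,27], [33,21,16], [29,11,35],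 [33,15,32], [24,35], [32,28,33], [34,25,15], [32,34,24], [10,32], [36,26,1], [29,20,15], [11,20,33], [34,24,35], [35,27,28], [28,36,17], [17,29], [25,32,14], [24,33,8], [25,10], [29,35,11], [36,24,15], [29,26,25], [32,34,11], [35,10,32], [21,28,5], [27,35,20], [35,1,32], [25,15,34], [33,33,29], [34,29,16], [34,36,25], [26,28,28], [28,21,34], [36,28,36], [5,32,24], [20,35], [34,20,32,25], [35,24,35], [34,27,5], [35,20,14], [25,33,10], [36,33,16], [5,29,35], [36,29,14], [36,26,32], [35,16,34], [34,25,35,11], [24,36], [33,24,15], [34,24,35,27], [8,35,27], [36,10,28], [25,10,33], [17,10], [33,15,29], [34,20,28], [16,32,16], [17,29,26], [34,27,17,10], [28,27,15], [14,36,16], [35,21,17], [29,26,34], [25,10,29], [27,17,32], [36,26,24], [36,16,20], [34,17,32], [34,8,26], [34,25,26], [36,28,8], [32,16,35], [1,35,15], [1,34], [5,28,24], [27,17,33], [35,11,28], [33,14,34], [32,25,17], [34,10,34,16], [35,28,26], [32,27], [27,35,35], [16,28,32], [33,17,14], [35,27,21], [36,27,28], [28,33,35], [28,15],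 [32,21,29], [35,21,25], [28,25,10], [33,20,1], [34,28,20,5], [27,29], [32,36,21], [24,28], [34,5], [36,29,10], [34,21,26], [28,26], [1,29], [34,29,24,35], [27,29,35], [29,33,27], [28,17,33], [35,10,36], [35,11], [34,27,21], [36,14,34], [28,17,36], [28,11,15], [34,26,32,11], [28,24], [16,11], [32,28,21], [16,25,35], [5,36], [24,34], [27,10,35], [32,27,25], [35,32,11], [36,17,10], [34,10], [32,36,1], [28], [25,33,8], [21,35,32], [29,32,15], [34,1,28], [1,28], [32,11], [27,16,29], [34,8,35], [11,35], [33,33,17], [21,32,34], [10,36], [16,28], [34,21,8,25], [35,28], [25,34,16], [36,33,17], [20,28,8], [34,32,11], [34,17,28], [34,15,33], [34,14,27], [34,21,26,36], [34,8,32], [33,24,26], [26,16,26], [33,21,24], [29,26,21], [10,33,10], [34,16,28], [25,5,36], [26,11,34], [35,1,28], [32,26,29], [28,35,35], [29,16], [35,17,28], [34,20,36,15], [35,8,35], [27,32,11], [26,20,10], [32,29,5], [34,17], [29,36,27], [36,17,21], [32,32,10], [28,27,36], [21,8,27], [16,32,28], [29,11], [29,27,11], [33,11,27],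 [33,21], [29,11,29], [27,35], [34,10,33], [24,34,29], [36,16,32], [35,17,34], [32,29,27], [29,36,35], [34,28,17,26], [21,35,5], [34,28,20,24], [16,15,36], [25,32,34], [34,16,33,1], [20,17,32], [28,36], [27,16,27], [35,24,28], [25,32,36], [35,32], [34,10,26], [29,21,35], [20,34,34], [32,34,20], [11,8], [36,20,10], [1,28,5], [33,15,25], [24,27,32], [28,26,5], [25,28], [5,33,16], [29,10], [28,26,36], [10,33,17], [28,17,5], [36,10,36], [34,25,27], [34,26,20], [32], [36,29,15], [29,15,34], [34,32], [33,10,28], [34,27,17], [17,5,33], [34,24,15], [28,20,5], [35,16,28], [35,20,17], [10,35], [35,28,24], [29,34,20], [32,20,34], [26,32], [29,27,29], [32,8,35], [32,29,33], [21,10], [36,28,25], [35,25,14], [27], [29,26,10], [34,27,17,28], [26,35,35], [34,21,8], [36,11,33], [26,15,29], [35,32,8], [11,17], [20,29,1], [35,8,34], [35,20,36], [36,28,34], [26,35,29], [34,5,32], [26,25,27], [28,35,24], [26,24], [27,24,32], [34,24,32], [35,14,29], [34,29,5], [27,28,32], [34,32,32,11], [32,28,15], [27,35,26],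 [25,34,25], [21,17,35], [35,27,8], [33,28,28], [1,33,14], [36,1,32], [27,11], [35,16,27], [27,17,28], [17,33,17], [24,32], [28,32], [11,33,1], [27,28,11], [34,24,11], [15,20,33], [33,27,28], [21,8], [17,33,11], [35,26,21], [24,27], [34,26,34,16], [29,26,8], [29], [36,26,36], [21,34,28], [32,25,27], [36,20,35], [21,10,32], [34,17,27], [20,35,15], [35,29,34], [32,25,36], [], [17,27], [36,25,16], [36,20,32], [28,34,26], [33,5,27], [14,33,24], [29,20,16], [33,24,5], [34,21,34], [29,20,34], [27,20,28], [25,36,5], [24,28,32], [27,32], [34,21,14,34], [21,14,32], [25,8], [33,17,35], [17,34], [35,25,8], [34,24,36,10], [35,14,34], [34,25,8], [36,27,36], [26,10,20], [34,26], [32,1], [35,17,15], [34,29,8], [34,26,21,26], [5,26,28], [26,33,8], [28,35,26], [32,36,29], [36,29,25], [28,11,32], [32,20,29], [32,27,29], [36,25,14], [34,24,33], [33,33,16], [27,36,16], [34,28,20,20], [35,29,16], [29,35,16], [33,21,36], [35,17,27], [36,28,33], [28,11,35], [29,27,8], [35,29,27], [34,28,27,1], [15,29], [35,16],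 [34,21,16], [32,15,36], [20,33,20], [29,24,35], [25,5,29], [26,20,27], [33,25,20], [32,28], [36,29,11], [36,25,17], [34,28,28], [34,36,8], [35,26,8], [21,14], [33,28,26], [11,15,35], [32,27,20], [34,27,1,32], [34,29,21,10], [34,24], [34,32,34,20], [33,21,27], [21,10,33], [34,26,14], [32,15], [36,35,21], [34,27,17,14], [28,36,15], [34,29,20,33], [26,5,29], [17,36], [32,26], [35,1], [5,34], [21,35,11], [29,15], [35,11,33], [16], [11,33], [34,26,11], [34,28,20,26], [34,25,10], [34,20,36,16], [28,10,33], [33,28,35], [17,24], [34,25,10,35], [25,10,35], [16,36,8], [25,36,26], [1,34,34], [28,11,27], [34,20,17], [28,25], [28,26,33], [32,15,33], [28,25,11], [34,32,34,21], [28,17,27], [32,29,10], [25,35,5], [32,5,29], [36,21,35], [29,10,35], [17,28,34], [33,33,11], [15,32,16], [27,36,28], [27,21], [26,25,16], [34,25,35,20], [35,26,14], [10,33,8], [27,5,33], [11,35,1], [20,10,33], [36,1,35], [32,11,36], [8,33,29], [33,11], [28,26,24], [34,28,24,28], [28,21,28], [35,17,26], [27,34], [34,32,5,20],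 [34,20,10], [36,35,28], [21,28,20], [33,28,11], [35,27,10], [34,36,11], [35,29,32], [34,36,35,5], [36,21,25], [34,27], [33,14,33], [34,29,32], [33,27,25], [21,34,24], [32,25], [26,29,25], [29,34,16], [32,28,14], [28,32,34], [34,17,5], [27,20,33], [35,20,25], [32,36,14], [34,20,26], [36,27,35], [32,21,34], [36,26,28], [36,26,16], [29,11,24], [10,33,15], [21,17], [26,20,11], [34,29,29,21], [32,34,25], [34,20,25], [20,17,33], [34,27,20], [33,27,35], [33,20,34], [33,24], [20,36,28], [36,11,28], [33,28,36], [35,17,10], [11,32], [35,1,27], [35,11,32], [35,20,14,36], [16,33,1], [20,25], [32,1,34], [36,10,35], [34,11,32], [29,24,34], [36,29,33], [5,32,17], [33,21,32], [36,20,17], [34,26,32,5], [29,32], [28,24,27], [36,25,20], [34,11,33], [28,32,25], [29,27,35], [35,24,16], [14,32], [29,32,10], [36,1,20], [36,21,1], [34,36,10], [20,5], [34,32,27,28], [28,10,35], [34,11,35], [33,28,33], [28,17,15], [16,35], [29,34,24], [34,17,34], [28,32,27], [33,26,35], [14,28,24], [33,28], [36,28], [34,16,26],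 [36,24,29], [34,32,14,29], [33,10], [32,21,36], [34,36,5,34], [35,24,26], [33,27,21], [34,24,24], [29,36,11], [8,29,25], [34,28,20], [28,15,35], [36,16,34], [21,21,32], [27,34,10], [25,36,16], [24,21], [21,14,28], [33,17,26], [28,35,20], [25,16], [11,33,35], [20,36,11], [35,27,11], [34,28,17], [25,10,34], [36,26,34], [26,20], [29,32,32], [34,29,5,29], [35,27,36], [35,5,28], [29,32,36], [34,32,1,32], [25,33,29], [34,27,10], [35,14,32], [34,5,20], [34,24,34], [29,25,16], [34,27,36], [27,14,32], [35,26,28], [34,36,28], [34,14,32], [26,36], [36,14,26], [36], [34,32,24,15], [25,29,17], [34,36], [33], [24,32,20], [17], [20,33,27], [29,17], [34,11,27], [32,28,17], [28,34,27], [25,28,36], [35,29], [25,8,35], [34,20,36,20], [20,35,10], [35,32,15], [33,33], [34,21], [34,16,33], [34,21,16,35], [28,15,36], [35,10,29], [29,26,32], [34,29,10,33], [35,29,27,17], [35,29,16,35], [20,24,33], [25,11], [32,28,35], [27,29,25], [32,21,32], [29,27,20], [29,26,20], [29,20], [34,26,35], [33,20,5], [35,25,11],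 [35,25,28], [35], [34,21,29], [33,20,10], [35,21,24], [34,26,34], [28,36,10], [34,36,16,34], [32,25,34], [34,27,34], [36,27,16], [28,24,8], [34,17,26], [5,34,10], [29,36], [26,29], [15,34,29], [32,16], [29,17,28], [36,20,5], [34,21,14], [35,14], [32,32,24], [21,14,36], [35,25,33], [33,14,32], [34,25,11], [27,29,29], [34,26,17], [36,27,25], [32,21,26], [36,25], [36,26,25], [35,15,29], [25,33], [26,14], [17,27,35], [29,21,10], [34,32,5,21], [36,35,25], [34,21,27,11], [32,34,1], [25,34,20], [32,27,8], [36,10], [27,36], [25,11,27], [35,20,32], [34,20,27], [36,28,24], [36,24,24], [20,32], [35,32,26], [16,25], [28,27], [35,16,29], [32,26,36], [35,25,21], [35,27,17], [28,27,29], [27,32,15], [34,1,36], [17,8,35], [1,20,35], [28,25,15], [34,28,10], [36,33,11], [17,29,11], [20,27], [34,14,26], [34,26,29,25], [21,25], [34,20,36], [36,35,26], [26,36,10], [34,27,33], [34,32,17], [34,28,34,29], [33,33,27], [34,21,27], [21,27], [36,21,33], [33,33,5], [11,33,10], [34,36,10,25], [34,29,27,10], [32,34,32],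 [29,27,16], [17,36,33], [25,35,24], [32,11,34], [36,24,32], [36,20,34], [36,20,28], [1,27], [29,34], [29,29,24], [33,25,5], [25,34,26], [32,28,28], [36,25,5], [35,1,36], [15,33,20], [35,29,21], [36,21,32], [29,16,33], [28,24,10], [32,32], [14,33,28], [15,36,25], [34,14,26,29], [10,27], [34,10,27], [34,24,5], [35,10,27], [26,28,20], [35,28,20], [29,10,36], [21,33,16], [28,5,36], [17,14,33], [20,26,20], [34,25,20], [33,24,24], [27,20,32], [34,28,32,14], [34,27,1], [15,36,33], [35,17,32], [36,33,24], [17,29,24], [34,26,32], [29,14,28], [36,27,20], [27,11,26], [35,14,36], [36,33,28], [35,11,17], [21,10,35], [26,25], [33,33,10], [34,29,35], [21,21], [34,21,27,24], [28,17,10], [34,24,8], [35,21,21], [29,26], [28,25,32], [34,29,8,21], [35,25,10], [33,35], [34,10,34], [32,34,8], [34,29,20], [35,20,29], [34,21,29,5], [27,35,10], [28,34,36], [36,35,27], [34,36,10,33], [33,33,26], [34,29,27,29], [17,5,35], [29,35,21], [33,25,33], [20,24], [32,15,32], [35,26,24], [34,36,33,26], [26,34,24], [33,15],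 [33,20,16], [35,21,34], [20,29,25], [32,5,36], [35,29,26], [34,26,28], [35,29,35], [33,25,21], [28,5,27], [36,35,8], [34,32,24,11], [33,5], [33,15,28], [36,1], [34,36,1], [25,29,16], [33,24,34], [28,20,15], [34,11,26], [35,11,26], [11,26], [34,21,21], [28,25,36], [34,36,15], [29,17,27], [14,36,26], [34,26,36], [29,35], [28,10,27], [27,24,28], [16,33], [36,11,35], [29,29,11], [34,20,32], [36,33,26], [36,17,35], [32,36,25], [25], [28,10], [29,32,25], [32,1,32], [35,14,33], [25,34,28], [21,28,16], [21,35], [36,16,29], [20,33,5], [34,26,5,27], [32,17,33], [34,21,33], [21,11], [34,14,35], [35,28,21], [34,28,32,27], [36,17,34], [20,28,21], [24,28,20], [34,5,26,20], [17,26], [8,33], [35,21,32], [5,32,11], [28,28,5], [21,24,33], [35,21,35], [34,21,35], [21,11,36], [35,25,1], [35,26,5], [34,24,10], [25,36], [29,25], [28,35,27], [28,25,34], [34,28,32,17], [34,36,28,17], [34,14,33], [34,26,25], [36,24,1], [32,20,32], [25,34,21], [34,15,26], [36,21,16], [28,28,26], [33,27,16], [32,34,16], [10,33,20],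 [29,16,26], [32,17,24], [28,28,14], [34,36,17], [35,28,33], [33,17], [32,28,27], [17,28], [34,28], [8,35], [20,5,34], [34,28,36], [35,21,33], [14,35], [34,27,15,26], [11,29], [28,10,36], [35,24], [34,21,24], [33,17,36], [28,27,11], [32,32,21], [36,17,36], [14,33], [25,29,24], [27,32,25], [36,29,8], [36,17], [34,11,17,28], [5,33,5], [5,33,35], [26,25,1], [33,21,14], [29,36,10], [28,25,8], [20,5,35], [33,20,11], [11,27], [10,28,15], [29,25,36], [21,24,35], [36,28,15], [10,28], [21,33], [36,15], [35,20,28], [36,33,8], [34,16,32], [34,36,29,35], [34,25,35,15], [24,33,25], [14,34,32], [29,20,27], [34,8,32,32], [26,5,21], [33,28,14], [26,28,34], [34,29,27], [20,17], [29,29,26], [32,20,28], [10,28,26], [36,33,25], [34,28,10,26], [26,34,11], [29,36,20], [34,36,29], [33,29], [11,35,5], [34,1,34], [17,35,16], [34,27,29], [5,33,15], [27,24,11], [34,11,17], [34,29,29,25], [26,34,28], [36,29], [36,28,14], [29,33,33], [34,28,28,15], [20,36], [25,36,8], [29,25,5], [32,20,11], [35,5,27], [1,35,20], [35,17,5],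 [34,25,10,33], [28,21], [36,35], [32,11,28], [34,29,21,25], [11,36,17], [25,35,11], [33,11,29], [1,35], [34,17,11], [17,11], [27,28,35], [16,36], [28,33,17], [36,26], [32,29,11], [29,25,20], [36,33,27], [33,16,35], [36,15,27], [35,24,32], [33,24,14], [34,20,35], [28,21,21], [34,28,24], [36,1,36], [26,35,5], [25,1,27], [36,26,11], [36,28,11], [36,24,35], [36,16,33], [10,28,1], [36,11], [21,28,1], [21,36,24], [35,17,11], [28,20], [34,28,32], [34,28,34,24], [32,17,28], [24,21,33], [34,25,33], [35,32,21,16], [32,25,29], [14,34], [33,24,29], [29,21,25], [28,15,26], [33,28,5], [10,33,11], [35,5,20], [36,14,32], [34,17,8]]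
def p5 : List Word := [[20,20,20], [38,33,25]]
def e5 : List Word := [[2], [2,2], [3,3], [3], [0], [0,2], [0,2,2], [0,3,3], [0,3], [0,0], [0,0,2], [0,0,2,2], [0,0,3,3], [0,0,3], [1,1], [1,1,2], [1,1,2,2], [1,1,3,3], [1,1,3], [1], [1,2], [1,2,2], [1,3,3], [1,3]]
def T5 : ℕ := nat_lit 0x200000000000000000000000000008008000000000080000000000000000000000001000100100000000002000000000000000000000000840000000000000000000000000200000000000000000000000000000002000000000000022000000000200000000000004040000200000010000000000000000000002800000000000000000000000000000000000000000000000000000000000000000000000000000020200000002000000000000000000000000000020008000000000000080004000000000000000000000000100080000000000000800000000001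
theorem k5a : uni (e5.map (subst p5)) = T5 := by decide +kernel
theorem k5b : incr (lmap (key H2 T5) vs5) 0 = true := by decide +kernel

def q5 (i : ℕ) : Multiplicative (ZMod 4) × Perm (Fin 3) :=
  if i = 2 then (.ofAdd 1, 1) else if i = 3 then (1, swap 0 1 * swap 0 2) else if i = 4 then (1, swap 0 1) else 1

theorem q5_rel : ∀ r ∈ SzR.r5, ev q5 r = 1 := by decide +kernel

theorem q5_top : grp q5 [[0], [2], [4], [6], [8]] = ⊤ := eq_top_iff.2 fun ⟨a, b⟩ _ => by
  obtain ⟨v, -, w, -, e⟩ := (by decide +kernel : ∀ a b, ∃ v ∈ [[], [4], [4,4], [5]], ∃ w ∈ [[], [6], [7], [8], [6,8], [7,8]],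
    ev q5 (subst [[0], [2], [4], [6], [8]] (v ++ w)) = (a, b)) a b
  exact e ▸ subst_mem_grp _ _ _

section
variable {ρ : G →* Perm (Fin C.n)} {g : ℕ → G} (m : Md ρ g)
include m

theorem el5 : ♯(grp g p5) = 25 ∧ ∀ a, (a ∈ grp g p5 ∧ a ≠ 1) ↔ ∃ w ∈ e5.map (subst p5), a = ev g w := by
  have h1 := (SzR.r5_0 G _ (m.rels (ws := n5) (by decide +kernel))).2
  rw [grp_sub g (vs := p5) (by decide)] at h1
  have h2 : (([] :: e5).map fun w => ev g (subst p5 w)).Nodup := List.pairwise_map.2 ((by decide +kernel :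
    ([] :: e5).Pairwise fun v w => eqS (subst p5 v) (subst p5 w) = false).imp m.ne)
  have h3 : ∀ y ∈ ([] :: e5).map fun w => ev g (subst p5 w), y ∈ grp g p5 :=
    List.forall_mem_map.2 fun w _ => subst_mem_grp g p5 w
  refine ⟨le_antisymm h1 (len_le h2 h3), fun a => ⟨fun ⟨h, h'⟩ => ?_, fun ⟨w, h, e⟩ => ?_⟩⟩
  · obtain ⟨w, h4, rfl⟩ := List.mem_map.1 ((List.mem_cons.1 (mem_of_len h2 h3 h1 h)).resolve_left h')
    exact ⟨_, List.mem_map_of_mem h4, rfl⟩
  · obtain ⟨w, h4, rfl⟩ := List.mem_map.1 h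
    exact ⟨e ▸ subst_mem_grp g p5 w, fun e' => (List.nodup_cons.1 h2).1 (List.mem_map.2 ⟨w, h4, e.symm.trans e'⟩)⟩

theorem cls5 : ∃ A B : Subgroup G, ♯A = 5 ∧ ♯B = 5 ∧ (∀ k, cj k A ≠ B) ∧
    ∀ W : Subgroup G, ♯W = 5 → ∃ k, cj k W = A ∨ cj k W = B := by
  haveI : Fact (Nat.Prime 5) := ⟨by decide⟩
  have o : ∀ w ∈ p5, ♯(zpowers (ev g w)) = 5 := fun w hw => by
    rw [Nat.card_zpowers, m.ord (p := 5) Fact.out ((by decide +kernel : ∀ w ∈ p5, eqS (wpow w 5) [] = true ∧ eqS w [] = false) w hw)]
  refine ⟨_, _, o [20,20,20] (by decide), o [38,33,25] (by decide), fun k e => ?_, fun W hW => ?_⟩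
  · have h := m.le_st (ws := [[38,33,25]]) (l := [0,47,218]) (by decide +kernel)
      (grp_one g _ ▸ e.le (mem_map_of_mem _ (mem_zpowers _)))
    have f : ∀ i : Fin C.n, (i : ℕ) ∈ [0,47,218] → ((ρ k)⁻¹ i : ℕ) ∈ [0,47] := fun i hi =>
      mem_mkS (sub_spec (by decide +kernel) ((m.fix_iff (w := [20,20,20])).2 (by
        have := h i hi
        rwa [show (MulAut.conj k).toMonoidHom (ev g _) = k * ev g _ * k⁻¹ from rfl, map_mul, map_mul, map_inv, Perm.mul_apply,
          Perm.mul_apply, ← Perm.eq_inv_iff_eq] at this)))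
    have f1 := f ⟨0, by decide⟩ (by decide)
    have f2 := f ⟨47, by decide⟩ (by decide)
    have f3 := f ⟨218, by decide⟩ (by decide)
    have j : ∀ {a b : Fin C.n} {c : ℕ}, ((ρ k)⁻¹ a : ℕ) = c → ((ρ k)⁻¹ b : ℕ) = c → (a : ℕ) = b := fun e e' =>
      congrArg _ ((ρ k)⁻¹.injective (Fin.ext (e.trans e'.symm)))
    simp only [List.mem_cons, List.not_mem_nil, or_false] at f1 f2 f3
    rcases f1 with f1 | f1 <;> rcases f2 with f2 | f2 <;> rcases f3 with f3 | f3 <;>
      first | exact absurd (j f1 f2) (by decide) | exact absurd (j f1 f3) (by decide) | exact absurd (j f2 f3) (by decide)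
  have pW : (♯W).Prime := hW ▸ Fact.out
  obtain ⟨w, hw, w1⟩ := exists_ne_one (ne_bot_of_prime pW)
  obtain ⟨S, hS⟩ := (IsPGroup.of_card (p := 5) (n := 1) hW).exists_le_sylow
  obtain ⟨k, hk⟩ := syl_cj (a := 2) (n := 17933819904) (el5 m).1 m.cardG (by decide) S
  obtain ⟨a, ha, e⟩ := ((el5 m).2 _).1 ⟨mem_cj.1 (hk.ge (hS hw)), fun e => w1 (by simpa [mul_assoc] using congrArg (k * · * k⁻¹) e)⟩
  obtain ⟨n, -, b, hb, i, -, e'⟩ := (by decide +kernel : ∀ a ∈ e5.map (subst p5), ∃ n ∈ [[], [26,31,22,21,36], winv [26,31,22,21,36]],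
    ∃ b ∈ p5, ∃ i ∈ [1,2,3,4], eqS (n ++ a ++ winv n) (wpow b i) = true) a ha
  have e2 := m.eq e'
  rw [ev_append, ev_append, ev_winv, ev_wpow, ← e] at e2
  have : cj (ev g n * k⁻¹) W = zpowers (ev g b) := by
    rw [eq_zpowers_of_prime pW hw w1, cj_zpowers, eq_zpowers_of_prime (X := zpowers (ev g b)) (o b hb ▸ Fact.out) (pow_mem (mem_zpowers _) i)
      (e2 ▸ fun e => w1 (by simpa [mul_assoc] using congrArg (fun x => k * ((ev g n)⁻¹ * x * ev g n) * k⁻¹) e)), ← e2]
    group
  exact ⟨_, (by decide : ∀ b ∈ p5, b = [20,20,20] ∨ b = [38,33,25]) b hb |>.imp (· ▸ this) (· ▸ this)⟩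

theorem nrm5 : ♯𝓝(grp g p5) = 600 ∧ Nonempty (𝓝(grp g p5) ⧸ (grp g p5).subgroupOf 𝓝(grp g p5) ≃*
    Multiplicative (ZMod 4) × Perm (Fin 3)) := by
  have h1 := le_fact ρ (l := [0,47]) (by decide) (by decide)
    (m.nfix (m.le_st (ws := p5) (by decide +kernel)) (mem_grp _ (w := [20,20,20]) (by decide)) (by decide +kernel))
  have h2 := m.mask_le (k5a ▸ m.uni_inv (el5 m).2) le_rfl k5b
  have h3 := card_le_of_le (inf_le_inf_left 𝓝(grp g p5) m.st2)
  rw [m.card H2, H2_card, show vs5.length = 2016 by decide +kernel] at h2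
  have h4 := m.norm (ls := n5) (ws := p5) e5 (by decide +kernel)
  have h5 := (m.card n5 ▸ low5.1 : 600 ≤ ♯(grp g n5))
  have h6 := card_le_of_le h4
  simp only [List.length_cons, List.length_nil, Nat.factorial] at h1
  have h7 := eq_of_le_of_card_ge h4 (by omega)
  have h8 : ♯𝓝(grp g p5) = 600 := by omega
  rw [← grp_sub g (ws := n5) (us := [[0], [2], [4], [6], [8]]) (vs := n5) (by decide)] at h5 h7
  obtain ⟨φ, e, hφ⟩ := J1.hom_of_bound SzR.r5_1 q5_rel (m.rels (ws := n5) (by decide +kernel)) h5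
  have s := (MonoidHom.range_eq_top.1 (hφ.trans q5_top)).comp (MulEquiv.subgroupCongr h7).symm.surjective
  have k : grp g p5 ≤ φ.ker.map (Subgroup.subtype _) := (grp_le_iff g).2 fun w hw => by
    rcases (by decide : ∀ b ∈ p5, b = [20,20,20] ∨ b = [38,33,25]) w hw with rfl | rfl
    exacts [⟨_, (e [0]).trans (by decide +kernel), mul_one _⟩, ⟨_, (e [2]).trans (by decide +kernel), mul_one _⟩]
  obtain ⟨h9, -⟩ := CBlk.ker_eq (φ.comp (MulEquiv.subgroupCongr h7).symm.toMonoidHom) (B := (grp g p5).subgroupOf _)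
    (fun x hx => (mem_map_iff_mem (K := φ.ker) (x := ⟨x.1, h7.ge x.2⟩) (subtype_injective _)).1 (k hx)) (m := 24) (N := 25) (by decide)
    (by rw [MonoidHom.range_eq_top.2 s, card_top]; simp [Fintype.card_perm, Nat.factorial]) h8.le
    (by rw [Nat.card_congr (subgroupOfEquivOfLe le_normalizer).toEquiv, (el5 m).1])
  exact ⟨h8, ⟨(QuotientGroup.quotientMulEquivOfEq h9.symm).trans (QuotientGroup.quotientKerEquivOfSurjective _ s)⟩⟩

end

end CA.SzP
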