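import Cfsg.Agent.Lib.Comp.CPoint

set_option autoImplicit false
set_option maxRecDepth 100000
namespace CA.SzV
open CA.CNet CA.CWord CA.CLevel CA.CSimple CA.CPoint

def t0 : Net := [(nat_lit 289, nat_lit 2),
  (nat_lit 9, nat_lit 4),
  (nat_lit 7, nat_lit 8),
  (nat_lit 3, nat_lit 4),
  (nat_lit 16, nat_lit 2),
  (nat_lit 336, nat_lit 1)]
def t1 : Net := [(nat_lit 34, nat_lit 2),
  (nat_lit 3, nat_lit 4),
  (nat_lit 3, nat_lit 8),
  (nat_lit 1, nat_lit 4),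
  (nat_lit 290, nat_lit 2),
  (nat_lit 80, nat_lit 1)]
def t2 : Net := [(nat_lit 16, nat_lit 2),
  (nat_lit 7, nat_lit 4),
  (nat_lit 1, nat_lit 8),
  (nat_lit 1, nat_lit 4),
  (nat_lit 272, nat_lit 2),
  (nat_lit 272, nat_lit 1)]
def t3 : Net := [(nat_lit 258, nat_lit 2),
  (nat_lit 2, nat_lit 4),
  (nat_lit 6, nat_lit 8),
  (nat_lit 2, nat_lit 4),
  (nat_lit 288, nat_lit 2),
  (nat_lit 20, nat_lit 1)]
def t4 : Net := [(nat_lit 32, nat_lit 2),
  (nat_lit 10, nat_lit 4),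
  (nat_lit 6, nat_lit 8),
  (nat_lit 6, nat_lit 4),
  (nat_lit 16, nat_lit 2)]
def t5 : Net := [(nat_lit 272, nat_lit 1),
  (nat_lit 306, nat_lit 2),
  (nat_lit 5, nat_lit 4),
  (nat_lit 3, nat_lit 8),
  (nat_lit 3, nat_lit 4),
  (nat_lit 34, nat_lit 2),
  (nat_lit 20, nat_lit 1)]
def t6 : Net := [(nat_lit 34, nat_lit 2),
  (nat_lit 3, nat_lit 4),
  (nat_lit 3, nat_lit 8),
  (nat_lit 1, nat_lit 4),
  (nat_lit 290, nat_lit 2),
  (nat_lit 80, nat_lit 1)]
def t7 : Net := [(nat_lit 272, nat_lit 1),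
  (nat_lit 18, nat_lit 2),
  (nat_lit 1, nat_lit 4),
  (nat_lit 3, nat_lit 8),
  (nat_lit 3, nat_lit 4),
  (nat_lit 290, nat_lit 2),
  (nat_lit 272, nat_lit 1)]
def C : Ctx := ⟨11, 4, [t0, t1, t2, t3, t4, t5, t6, t7]⟩
theorem hC : C.ok = true := by decide +kernel
noncomputable def lk : ℕ → ℕ → ℕ := look C 64
theorem hlk : Good C lk := good_look hC (by decide +kernel)
noncomputable def L3 : Level where
  ω := 3
  hs := []
  cardH := 1
  reps := [⟨[0], 6, [], [], []⟩,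
    ⟨[1], 9, [], [], []⟩,
    ⟨[2], 8, [], [], []⟩,
    ⟨[3], 4, [], [], []⟩,
    ⟨[0,0], 7, [], [], []⟩,
    ⟨[0,2], 5, [], [], []⟩,
    ⟨[0,3], 10, [], [], []⟩]
  covs := [⟨[13], [], [⟨0, [], [], 1, []⟩,
      ⟨1, [], [], 5, []⟩,
      ⟨2, [], [], 0, []⟩,
      ⟨3, [], [], 6, []⟩,
      ⟨4, [], [], 7, []⟩,
      ⟨5, [], [], 2, []⟩,
      ⟨6, [], [], 4, []⟩,
      ⟨7, [], [], 3, []⟩], []⟩,
    ⟨[15], [], [⟨0, [], [], 3, []⟩,
      ⟨1, [], [], 7, []⟩,
      ⟨2, [], [], 6, []⟩,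
      ⟨3, [], [], 5, []⟩,
      ⟨4, [], [], 0, []⟩,
      ⟨5, [], [], 4, []⟩,
      ⟨6, [], [], 1, []⟩,
      ⟨7, [], [], 2, []⟩], []⟩]
theorem L3_light : L3.lightOK C = true := by decide +kernel
theorem L3_eqns_0 : lall (L3.eqns) (eqP C) = true := by decide +kernel
theorem L3_eqns : lall (L3.eqns) (eqP C) = true := L3_eqns_0
theorem L3_H : Nat.card (C.grp L3.hs) = L3.cardH := card_grp_nil C
theorem L3_card : Nat.card (C.grp L3.gs) = 8 :=
  L3.card hC L3_light L3_eqns L3_H (by decide +kernel)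
def H3 : List Word := [[13], [15], [12], [14]]
theorem H3_eq : C.grp H3 = C.grp L3.gs :=
  grp_lapp_eq hC L3.gs [([12], [1]), ([14], [3])] (by decide +kernel)
theorem H3_card : Nat.card (C.grp H3) = 8 := H3_eq ▸ L3_card
theorem L3_base : IsBase (C.grp L3.gs) [3] :=
  isBase_level L3 hC L3_light L3_eqns L3_H (isBase_nil C)
theorem H3_base : IsBase (C.grp H3) [3] := H3_eq ▸ L3_base
noncomputable def L2 : Level where
  ω := 2
  hs := H3
  cardH := 8
  reps := [⟨[8], 10, [0,2,0,0], [], []⟩]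
  covs := [⟨[9], [], [⟨0, [], [], 1, []⟩,
      ⟨1, [], [1], 1, [0,2]⟩,
      ⟨1, [3], [], 0, [2]⟩,
      ⟨1, [0], [0], 1, [2]⟩,
      ⟨1, [0,3], [2], 1, [0,3]⟩,
      ⟨1, [1], [3], 1, [0]⟩,
      ⟨1, [0,2], [0,3], 1, [3]⟩,
      ⟨1, [2], [0,0], 1, [0,0]⟩,
      ⟨1, [0,0], [0,2], 1, [1]⟩], []⟩]
theorem L2_light : L2.lightOK C = true := by decide +kernel
theorem L2_eqns_0 : lall (L2.eqns) (eqP C) = true := by decide +kernel
theorem L2_eqns : lall (L2.eqns) (eqP C) = true := L2_eqns_0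
theorem L2_H : Nat.card (C.grp L2.hs) = L2.cardH := H3_card
theorem L2_card : Nat.card (C.grp L2.gs) = 72 :=
  L2.card hC L2_light L2_eqns L2_H (by decide +kernel)
def H2 : List Word := [[13], [15], [12], [14], [9], [8], [10]]
theorem H2_eq : C.grp H2 = C.grp L2.gs :=
  grp_lapp_eq hC L2.gs [([8], [9]), ([10], [0,9,2])] (by decide +kernel)
theorem H2_card : Nat.card (C.grp H2) = 72 := H2_eq ▸ L2_card
theorem L2_base : IsBase (C.grp L2.gs) [2,3] :=
  isBase_level L2 hC L2_light L2_eqns L2_H H3_base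
theorem H2_base : IsBase (C.grp H2) [2,3] := H2_eq ▸ L2_base
noncomputable def L1 : Level where
  ω := 1
  hs := H2
  cardH := 72
  reps := [⟨[14], 4, [0,2,12,0], [([12], [9,0,3]), ([8,0], [0,8,1])], [(2, [0,2,0,0], [])]⟩]
  covs := [⟨[5], [([12,0,3], [1,9]), ([9,0,3], [12])], [⟨0, [], [], 1, []⟩,
      ⟨1, [3], [3], 1, [12,3]⟩,
      ⟨1, [1], [], 0, [9,2]⟩], [0,2,0,0]⟩]
theorem L1_light : L1.lightOK C = true := by decide +kernel
theorem L1_eqns_0 : lall (L1.eqns) (eqP C) = true := by decide +kernel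
theorem L1_eqns : lall (L1.eqns) (eqP C) = true := L1_eqns_0
theorem L1_H : Nat.card (C.grp L1.hs) = L1.cardH := H2_card
theorem L1_card : Nat.card (C.grp L1.gs) = 720 :=
  L1.card hC L1_light L1_eqns L1_H (by decide +kernel)
def H1 : List Word := [[13], [15], [12], [14], [9], [8], [10], [5], [4], [6]]
theorem H1_eq : C.grp H1 = C.grp L1.gs :=
  grp_lapp_eq hC L1.gs [([4], [15]), ([6], [2,14,3,9,2])] (by decide +kernel)
theorem H1_card : Nat.card (C.grp H1) = 720 := H1_eq ▸ L1_card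
theorem L1_base : IsBase (C.grp L1.gs) [1,2,3] :=
  isBase_level L1 hC L1_light L1_eqns L1_H H2_base
theorem H1_base : IsBase (C.grp H1) [1,2,3] := H1_eq ▸ L1_base
noncomputable def L0 : Level where
  ω := 0
  hs := H1
  cardH := 720
  reps := [⟨[20], 10, [0,2,12,2,14], [([9,1], [1,15,3,9,0]), ([1,8,0], [14,1,8]), ([19], [15,3,9,2])], [(1, [4,0,2,0,0], [[0], [2]]), (2, [0,2,0,0], [])]⟩]
  covs := [⟨[1], [([0,0], [0,18,1,8]), ([3,14,1,8], [19,0,12,1])], [⟨0, [], [], 1, []⟩,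
      ⟨1, [], [0,3], 1, [1,15,0]⟩,
      ⟨1, [9], [], 0, [19,8,1]⟩], [0,2,0,2,2]⟩]
theorem L0_light : L0.lightOK C = true := by decide +kernel
theorem L0_eqns_0 : lall (L0.eqns) (eqP C) = true := by decide +kernel
theorem L0_eqns : lall (L0.eqns) (eqP C) = true := L0_eqns_0
theorem L0_H : Nat.card (C.grp L0.hs) = L0.cardH := H1_card
theorem L0_card : Nat.card (C.grp L0.gs) = 7920 :=
  L0.card hC L0_light L0_eqns L0_H (by decide +kernel)
def H0 : List Word := [[13], [15], [12], [14], [9], [8], [10], [5], [4], [6], [1], [0], [2]]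
theorem H0_eq : C.grp H0 = C.grp L0.gs :=
  grp_lapp_eq hC L0.gs [([0], [21]), ([2], [1])] (by decide +kernel)
theorem H0_card : Nat.card (C.grp H0) = 7920 := H0_eq ▸ L0_card
theorem L0_base : IsBase (C.grp L0.gs) [0,1,2,3] :=
  isBase_level L0 hC L0_light L0_eqns L0_H H1_base
theorem H0_base : IsBase (C.grp H0) [0,1,2,3] := H0_eq ▸ L0_base
/-- the given generators -/
def gens : List Word := [[0], [2]]
theorem slp : slpOK C [[3,0,0,3,1,2,2,1,1], [0,2,0,0,0,3,0,0,2,1], [5,6,5,6,4,7,4,7,5,6,5,6,5,7,4,7,4], [7,5,6,4,4,7], [11,9,10,9,10], [11,8,10,10,9,9,10]] 2 = true := by decide +kernel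
theorem gens_eq : C.grp gens = C.grp H0 :=
  grp_eq_of_slp hC slp (by decide) (by decide) (by decide)
theorem card : Nat.card (C.grp gens) = 7920 := gens_eq ▸ H0_card
/-- every word in the table lies in the group -/
theorem all_mem {w : Word} (hw : ∀ a ∈ w, a < 16) : C.ev w ∈ C.grp gens :=
  ev_mem_of_lt (slp_mem hC _ 2 slp fun i hi => by
    rw [← ev_gen C.g i]; exact mem_grp _ ((by decide : ∀ i < 2, [2 * i] ∈ gens) i hi)) hw
theorem L0_prim : primOK L0 C [[20,8,14,0,2,14]] = true := by decide +kernel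
theorem L0_pel_0 : lall (pelEqns 11 [[24,1,20], [21,0,25,22], [10,9,23], [22,8,11,24]] [([22], [0,2]), ([24], [4,6])]) (eqR lk H0 [0,1,2,3]) = true := by decide +kernel
theorem L0_pel : lall (pelEqns 11 [[24,1,20], [21,0,25,22], [10,9,23], [22,8,11,24]] [([22], [0,2]), ([24], [4,6])]) (eqR lk H0 [0,1,2,3]) = true := L0_pel_0
theorem L0_simple : IsSimpleGroup (C.grp L0.gs) :=
  simpleL L0 hC L0_light L0_eqns L0_H L0_prim H0_eq L0_base (by decide +kernel)
    (by rw [L0_card]; decide) (q := 11) (by decide +kernel) [[24,1,20], [21,0,25,22], [10,9,23], [22,8,11,24]] [([22], [0,2]), ([24], [4,6])]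
    ((H0_eq.symm.trans gens_eq.symm).le.trans (grp_mono _ (by decide +kernel))) hlk L0_pel
theorem H0_simple : IsSimpleGroup (C.grp H0) := H0_eq ▸ L0_simple
end CA.SzV
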