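import Cfsg.Agent.Lib.Rec.SzP
import Cfsg.Agent.Lib.Rec.SzR
import Cfsg.Agent.Lib.Rec.SzV
import Cfsg.Agent.Lib.Block.H28M11b
import Cfsg.Agent.Lib.Spor.M24Sub

/-! Groups of Suzuki type: the subgroup `3^5 : M11`. -/

set_option autoImplicit false
set_option linter.all false
set_option maxRecDepth 100000

namespace CA.SzP

open CA.CNet CA.CWord CA.CPres Subgroup CA.BG CA.GW Cfsg CA.CPoint CA.CLevel Equiv CA.CLow CA.CTrans CA.SuzPerm
open CA.SzA (incr card_hom)

universe u
variable {G : Type u} [Group G] [Finite G]

def a3 : List Word := [[4,25,33,21,34], [2,8,40,10,14,26,40], [26,12,20,34,20,34,12,27], [10,14,18,22,16,27,4,17], [24,16,21,12,28,12,20,17,25]]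
def n3 : List Word := [[4,25,33,21,34], [2,8,40,10,14,26,40], [26,12,20,34,20,34,12,27], [10,14,18,22,16,27,4,17], [24,16,21,12,28,12,20,17,25], [18,14,26,28,20,32,16,42], [38,25,18,30,32,25,33,44]]
def Os : List ℕ := [nat_lit 0x80000000000000000000000200000000000000000000000000000000000000000000000000007000000000010000000c00000000002000000000000000000000007c0000000e000018000001800000000080000007c00007800f00e1780420718c8c407c01c1822e08e36a4860431ac5d928719b9b9b4d7bbeaffbfff,
  nat_lit 0x82000020002008084202800000082440019000000000ac80001a010400500002010014884100420008802001000800222020000000022440208004008022010002000002000048204200020080880200010000210010011002002400202402002000000400600000c400c0000a0000000110006828001000800000010010024040100100000000800000a80008000000c132006000100200000108040940000001480000a080800000000000800050000000002000200000100404000202040001000200004010400000010000001020000a0004000000000004000,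
  nat_lit 0x85088002080420000040100000000040400000000802020000208400000000200180002040000800080000210140010001010000020000208180000080820044420084021000040100088000000280406000840000040000104018030000800000041821a0020010000222008100010802040880200800410000102800000020020000000801c00000068022c02c22000000a00010400000001400012c0800681000180040005000200010005000101108110000000000048000000000000a804003102010002100c0000000002000004000000000000200000001000000,
  nat_lit 0x23000cc4000008000400000002002028000a00006000844000000440002400085410801010008400008204402002080000401000ac000410001004400401009c020008002201180010001000000010000010011088220022080000840000000001410810880000460400040000004049001200804020002000001000840100088220084422000000800000000000604820000000084008100000000004100200100000000000010020400200000022020800088c0100280000400200000400002002000002006004000000100041080000000800040000200004000000,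
  nat_lit 0x2108440000220001104030104000008001080406002002108000100000800000a0421000020020100a0800000808080a002000000001052000800001010208088000108540211102000000100000060000000000000300c484000c20000012000801080040801080001008001420430000000e40009000000008204800221208000010030018c01202000021000010000010100004000000042800400030008000020002004000010000000198081400080000000200002000080000080000001000001008004008000180040004000000000001044000400000010000000,
  nat_lit 0x9080008010204206882010000200840000c0210100104000800080000001048200404800010050101004000480002028008000000041000108042000000000004002001820080000100004001428c041000000008400c0010814400880040001202048884801201008800080020004000044020020210400080c1810000800004010100400100004004104100840200000200004000240000000000400000000800004100000000200220000c01012011080500000820001000108008000000008020300004000010810000200200000400000000400000000,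
  nat_lit 0x840102000000010204808009010000602000000001004001200102010100300004000480004000201024201000c0140140800900110000c00000800430211001000080100040800400040228188c00000160040048a0000240000010400004081050000000200028100010000001004011060004200200810400100008000000024400000020000000000040020000000000002808b008000000a71104000a0002004000110020000800800a00002840020000000008801000800000000280000000020080010c00000000100000120060000000000020003004000000000,
  nat_lit 0x10100014000200008010050910500100000608100402004000004408800b00000080800002010001400000c0001004808000540005040008420040060000000000000000004010100442408010100880000000000000100001030200000100000100040012000200008200102000498000002010104004082405400004080184004200000480820400410000011000001080000008408000002800100010002000202208100010207040c24004000206500122000802600000030002010000400000001000000001080000008401080000000000000080000000000,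
  nat_lit 0x122400240304001000200400881000000010921008000000000004200000000000002804000051000000840000000080020100584c0010002000028800000000001a06280080040028200100a430104000043030024408080000204000800011000000000441000000010500200c008120000000810100008001440000000400640000042100020004001010001001400a004004000000050810000800000060000c14008281020020200000021400004400002440004000111020408000010040800000108000000100200010000800000000c0000000008000000000000,
  nat_lit 0x3408000080010006001000020000204080002094000410000094020882002c03100208060200800002400408002000004200040000000021090411000020000200000400010180808000004000000000a200000002000041100c2000080096000c024000420000000020800010000200002001012040001000920800012150800000009180000006008350208000000002060000000421110200000824001200008208a00001080000409008400000018010060080000000000001200400800000000004002000000000000000420000800020402002000040000000000000,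
  nat_lit 0x1410000808c401200000400500080400000201081c000000012803001040000000010020200001102002000220005020004800020080002200000800100100401000e00408006004000010041200090000280001000280002000400008202002208000049400100000800000400400000000048000200c00000208020200010002008000088010000849004288080012100400900c2020418008006001004900000000450400044420000000000800008021404000004004180100004000900000024000000008012008080002000000014000000000000000000000]
def qs : List ℕ := [0,14,24,26,28,34,38,43,51,54,86]
def ss : List (List ℕ) := [[0,1,2,3,4,5,6,7,8,9,10], [0,1,2,3,4,5,6,7,8,9,10], [0,1,2,3,4,5,6,7,8,9,10], [0,1,2,3,4,5,6,7,8,9,10], [0,1,2,3,4,5,6,7,8,9,10], [2,7,8,5,9,6,3,10,1,4,0], [0,1,2,9,5,8,3,6,10,7,4]]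
def v3 : List Word := [[0], [2], [4], [6], [8], [0,2,7,9], [2,5,6,8], [0,5,6,9], [0,2,4,8], [3,4,7,9], [1,3,5,9], [7], [1,4,7,8]]
def s81 : List ℕ := [2,4,6,8,2,4,6,8]
def s162 : List ℕ := [10,2,0,4,8,6,2,4,2,8,0,2,10,4,2,4,6,4,2,8]
def low3_w1 : List Word := [[4,25,33,21,34]]
theorem low3_1 : Low (C.grp low3_w1) 3 [14] :=
  low_orb hC hlk 14 (by decide) [(14,0), (14,1)] (m := 3) (grp_mono _ (by decide +kernel))
    (by decide +kernel) (by decide +kernel) (low_nil C) (by decide)
theorem low3 : Low (C.grp a3) 243 [0,14] :=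
  low_orb hC hlk 0 (by decide) [(0,2), (0,3), (0,4), (0,5), (0,6), (0,7), (0,8), (0,9), (47,4), (47,5), (47,6), (47,7), (47,8), (47,9), (117,4), (117,5), (117,6), (117,7), (117,8), (117,9), (314,6), (314,7), (314,8), (314,9), (81,6), (81,7), (81,8), (81,9), (99,8), (99,9), (82,8), (82,9), (12,6), (12,7), (12,8), (12,9), (173,6), (173,7), (173,8), (173,9), (41,8), (41,9), (293,8), (293,9), (265,6), (265,7), (265,8), (265,9), (61,6), (61,7), (61,8), (61,9), (569,8), (569,9), (19,8), (19,9), (75,8), (75,9), (31,8), (31,9), (246,8), (246,9), (44,8), (44,9), (232,8), (232,9), (7,8), (7,9), (33,8), (33,9), (188,8), (188,9), (76,8), (76,9), (141,8), (141,9), (6,8), (6,9), (89,8), (89,9)] (m := 81) (le_of_subst _ [[0]] (by decide +kernel))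
    (by decide +kernel) (by decide +kernel) low3_1 (by decide)
def vs3 : List Word := [[4], [0,2,4,6,4], [0,2,0,4,6], [], [0], [0,2,4,6,8], [0,2,4,6], [0,4], [0,2,0,8,2,0], [0,2,0,8,2], [0,2,0,4], [0,4,6], [4,6], [0,2,4], [4,2,0], [0,2,0,4,2,0,6], [0,2,0,4,2,6], [4,2], [4,2,6], [2], [4,2,0,6], [2,4], [2,4,6], [6,4,2], [6,4,6], [0,2,8,2], [2,6,4,2], [0,2,6,4], [0,2,0,6], [0,2,0], [0,4,6,4], [2,6,4,2,0,2,0], [2,4,2,0], [2,6,4,2,0,2,0,6], [6], [0,2,4,8], [4,2,0,2], [0,6], [0,2,0,6,4,2,0], [0,2,0,6,4,2], [0,2,0,4,2], [0,2,0,4,2,0], [2,6], [0,2,8], [6,4], [2,6,4,2,6], [6,4,2,6], [2,4,2,0,6], [0,2,6], [0,2,0,6,4], [0,4,2], [0,2,4,2], [6,4,2,0], [2,6,4,2,0], [4,6,4], [0,2], [2,4,2], [2,6,4,2,0,2], [2,6,4,2,0,2,6], [2,4,2,0,2], [2,4,2,0,2,0], [2,4,6,4], [0,6,4], [0,2,0,8], [0,2,4,8,2], [2,6,4,2,0,6], [2,4,2,6], [2,4,2,0,2,6], [2,4,2,0,2,0,6], [2,6,4], [2,6,4,6], [2,4,6,4,6], [2,8,2], [2,6,4,8,2,4], [2,6,4,8,2,0,4], [2,8,2,0], [2,8,2,0,2], [2,8,2,0,2,0], [2,6,8], [2,6,4,8,2,0,2,0], [2,6,4,8,2,0,2], [2,4,2,8], [2,6,4,8,2], [2,4,2,6,8], [2,4,6,8,2,4,6],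 [2,4,2,8,2], [2,6,8,2,0], [2,8], [2,6,8,2], [2,4,8], [2,4,6,8], [2,4,6,4,6,8,2,0,4], [2,4,6,4,6,8,2,4], [2,6,4,6,8,2], [2,4,2,6,8,2], [2,4,6,8,2,4], [2,6,4,8,2,0], [2,4,2,0,8], [2,4,2,0,6,8], [2,4,8,2], [2,4,2,6,8,2,4,6], [2,6,4,8], [2,6,4,6,8], [2,4,6,4,6,8], [2,4,6,4,8,2,0], [2,4,6,4,8,2], [2,6,4,6,8,2,0], [2,4,6,8,2], [2,4,2,6,8,2,4], [2,4,6,4,8], [2,4,6,4,6,8,2,0], [2,4,6,4,6,8,2]]
def g3 : List Word := [[], [], [], [], [], [0], [2]]
theorem k3a : CBlk.blkOK C SzV.C Os n3 g3 ss = true ∧ CBlk.sepB C.n SzV.C.n Os qs = true := by decide +kernel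
theorem k3b : incr (lmap (key [[0], [2], [4], [6], [10]] (C.clo a3 s81 (bit 0))) vs3) 0 = true := by decide +kernel
theorem g3_eq : SzV.C.grp g3 = SzV.C.grp SzV.gens := le_antisymm ((grp_le_iff _).2 fun w hw =>
  ((by decide : ∀ w ∈ g3, w = [] ∨ w ∈ SzV.gens) w hw).elim (· ▸ one_mem _) (mem_grp _)) (grp_mono _ (by decide))

section
variable {ρ : G →* Perm (Fin C.n)} {g : ℕ → G} (m : Md ρ g)
include m

theorem Md.stab_le {H : Subgroup G} {ls : List Word} (hl : grp g ls ≤ H) (sched : List ℕ) {k M : ℕ} (h0 : 0 < k)
    (hm : Nat.ble k (cnt C.n (C.clo ls sched (bit 0))) = true) (hA : ♯H ≤ k * M) : ♯(H ⊓ st ρ [0]) ≤ M := by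
  rw [← card_map_of_injective m.inj] at hA ⊢
  refine le_trans (card_le_of_le ?_) (SzA.stab_le hC (p := ⟨0, by decide⟩) (m.map ls ▸ map_mono hl) sched h0 hm hA)
  rintro _ ⟨x, hx, rfl⟩
  exact ⟨mem_map_of_mem _ hx.1, hx.2 _ (by decide)⟩

theorem a3_card : ♯(grp g a3) = 3 ^ 5 := by
  have h1 := (SzR.r3_2 G _ (m.rels (ws := a3) (by decide +kernel))).2
  rw [grp_sub g (vs := a3) (by decide)] at h1
  exact le_antisymm h1 (m.card a3 ▸ low3.1)

theorem a3_cent : grp g a3 ≤ 𝓒(grp g a3) := m.cent (by decide +kernel)

theorem a3_el : IsElementaryAbelian 3 (grp g a3) := ⟨comm_iff_le_cent.2 (a3_cent m), fun a ha => by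
  induction ha using closure_induction with
  | mem x hx =>
    obtain ⟨w, hw, rfl⟩ := hx
    exact (ev_wpow ..).symm.trans (m.eq (w := []) ((by decide +kernel : ∀ w ∈ a3, eqS (wpow w 3) [] = true) w hw))
  | one => exact one_pow 3
  | mul x y hx hy a b => rw [(show Commute x y from mem_cent.1 (a3_cent m hy) x hx).mul_pow, a, b, mul_one]
  | inv x _ a => rw [inv_pow, a, inv_one]⟩

theorem a3_le (hN : ♯𝓝(grp g [xw]) = 19595520) : ♯𝓝(grp g a3) ≤ 7920 * 243 := by
  have h1 := le_orb ρ 𝓝(grp g a3) ⟨0, by decide⟩ (k := 1782) ((Finite.card_subtype_le _).trans (Nat.card_fin _).le)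
  have h2 : grp g [xw] = grp g a3 ⊓ st ρ [0] := eq_of_le_of_card_ge
    (le_inf (grp_mono _ (by decide)) (m.le_st (by decide +kernel))) (by
      rw [grp_one, Nat.card_zpowers, m.ord Nat.prime_three (by decide +kernel)]
      exact m.stab_le le_rfl s81 (k := 81) (by decide) (by decide +kernel) (a3_card m).le)
  have h3 : 𝓝(grp g a3) ⊓ st ρ [0] ≤ 𝓝(grp g [xw]) ⊓ st ρ [0] := fun x hx => ⟨mem_norm_of_cj_le (by
    rintro _ ⟨y, hy, rfl⟩
    rw [h2] at hy ⊢
    exact ⟨conj_mem_of_mem_norm hx.1 hy.1, (st ρ [0]).mul_mem ((st ρ [0]).mul_mem hx.2 hy.2) ((st ρ [0]).inv_mem hx.2)⟩), hx.2⟩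
  have n := m.norm (ls := [[0], [2], [4], [6], [10], [12]]) (ws := [xw]) [[0], [1]] (by decide +kernel)
  have h4 := m.stab_le n s162 (k := 162) (M := 120960) (by decide) (by decide +kernel) hN.le
  have o := orbit_iff hC (ws := a3) (sched := s81) ⟨0, by decide⟩ (by decide +kernel)
  have f : ∀ k ∈ 𝓝(grp g a3) ⊓ st ρ [0], ∀ i : Fin C.n, (C.clo a3 s81 (bit 0)).testBit i = true →
      (C.clo a3 s81 (bit 0)).testBit (ρ k i) = true := fun k hk i hi => by
    obtain ⟨x, hx, rfl⟩ := (o i).1 hi
    obtain ⟨a, ha, rfl⟩ := (m.map a3).ge hx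
    refine (o _).2 ⟨_, m.memS.1 (conj_mem_of_mem_norm hk.1 ha), ?_⟩
    rw [map_mul, map_mul, Perm.mul_apply, Perm.mul_apply, (st ρ [0]).inv_mem hk.2 _ (by decide)]
  have h5 := m.mask_le (fun k hk i => Bool.eq_iff_iff.2 ⟨fun e => by simpa using f _ (inv_mem hk) _ e, f k hk i⟩)
    (le_inf ((grp_mono _ (by decide)).trans n) (m.le_st (l := [0]) (by decide +kernel))) k3b
  rw [inf_eq_left.2 h3, show vs3.length = 112 by decide +kernel] at h5
  exact h1.trans (by show 1782 * ♯(𝓝(grp g a3) ⊓ st ρ [0]) ≤ _; omega)

theorem main3 (hN : ♯𝓝(grp g [xw]) = 19595520) : 𝓒(grp g a3) = grp g a3 ∧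
    ∃ _ : ((grp g a3).subgroupOf 𝓝(grp g a3)).Normal, Spor.IsoM11 (𝓝(grp g a3) ⧸ (grp g a3).subgroupOf 𝓝(grp g a3)) := by
  obtain ⟨φ, h1, -, h2⟩ := CBlk.block_hom hC SzV.hC k3a.1 k3a.2
  rw [g3_eq] at h1
  have n := m.norm (ls := n3) (ws := a3) v3 (by decide +kernel)
  have k : C.grp a3 ≤ φ.ker.map (Subgroup.subtype _) := (grp_le_iff _).2 fun w hw => by
    obtain ⟨v, -, e, e'⟩ := (by decide : ∀ w ∈ a3, ∃ v ∈ [[0], [2], [4], [6], [8]], subst n3 v = w ∧ subst g3 v = []) w hw
    exact ⟨_, (h2 v).trans (by rw [e']; rfl), (ev_sg ..).trans (by rw [e])⟩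
  have h3 := card_le_of_le k
  have h4 := card_hom φ
  rw [card_map_of_injective (subtype_injective _), ← m.card, a3_card m] at h3
  rw [h1, SzV.card, ← m.card] at h4
  have h5 := eq_of_le_of_card_ge n ((a3_le m hN).trans (by omega))
  let f : 𝓝(grp g a3) →* C.grp n3 := (ρ.comp (Subgroup.subtype _)).codRestrict _ fun x => m.memS.1 (h5.ge x.2)
  have h6 : (φ.comp f).range = SzV.C.grp SzV.gens := by
    rw [MonoidHom.range_comp, MonoidHom.range_eq_top.2 fun y => ?_, ← MonoidHom.range_eq_map, h1]
    obtain ⟨x, hx, e⟩ := (m.map n3).ge y.2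
    exact ⟨⟨x, n hx⟩, Subtype.ext e⟩
  obtain ⟨h7, -⟩ := CBlk.ker_eq (φ.comp f) (B := (grp g a3).subgroupOf _)
    (fun x hx => (mem_map_iff_mem (K := φ.ker) (x := f x) (subtype_injective _)).1 (k (m.memS.1 hx))) (m := 7920) (N := 243)
    (by decide) (by rw [h6, SzV.card]) (a3_le m hN)
    (by rw [Nat.card_congr (subgroupOfEquivOfLe le_normalizer).toEquiv, a3_card m]; decide)
  have e := ((QuotientGroup.quotientMulEquivOfEq h7.symm).trans (QuotientGroup.quotientKerEquivRange _)).trans
    (MulEquiv.subgroupCongr h6)
  haveI : IsSimpleGroup (SzV.C.grp SzV.gens) := SzV.gens_eq ▸ SzV.H0_simple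
  haveI := M24Sub.simple_M11
  obtain ⟨e'⟩ := H28M11.uniq SzV.card M24Sub.card_M11
  refine ⟨le_antisymm (fun c hc => ?_) (a3_cent m), inferInstance, ⟨e.trans e'⟩⟩
  haveI := e.isSimpleGroup
  haveI : (𝓒(grp g a3).subgroupOf 𝓝(grp g a3)).Normal := normal_subgroupOf_of_le_normalizer (norm_cent le_rfl)
  have := comap_map_eq_self (f := QuotientGroup.mk' ((grp g a3).subgroupOf 𝓝(grp g a3)))
    (H := 𝓒(grp g a3).subgroupOf 𝓝(grp g a3)) (by rw [QuotientGroup.ker_mk']; exact comap_mono (a3_cent m))
  rcases (Normal.map ‹_› _ (QuotientGroup.mk'_surjective ((grp g a3).subgroupOf 𝓝(grp g a3)))).eq_bot_or_eq_top with h | h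
  · rw [h, MonoidHom.comap_bot, QuotientGroup.ker_mk'] at this
    exact this.ge (show (⟨c, cent_le_norm _ hc⟩ : 𝓝(grp g a3)) ∈ _ from hc)
  · rw [h, comap_top] at this
    exact absurd ((ev_append ..).trans ((mem_cent.1 (this.le (mem_top ⟨_, n (nth_mem_grp g n3 5)⟩)) _ (nth_mem_grp g a3 0)).trans
      (ev_append ..).symm)) (m.ne (by decide +kernel))

end

end CA.SzP
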