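import Cfsg.Agent.Lib.Rec.RegM
import Cfsg.Agent.S2090
set_option autoImplicit false
set_option linter.all false
set_option maxRecDepth 100000
universe u
namespace CA.U43T
open CA.CNet CA.CWord CA.CLevel CA.CSimple CA.CPoint CA.CTodd CA.CLow CA.RegM CA.CTrans
noncomputable section
def rH : List Word := [[0,0], [2,2], [4,4], [6,6,6], [8,8,8], [0,4,0,4,0,4,0,4], [2,4,2,4,2,4,2,4], [0,2,4,0,2,4,0,2,4,2,0,4], [2,6,2,7], [0,2,4,6,4,0,4,6,2], [0,2,4,0,2,4,6,2,4,7,2,4], [0,8,0,9], [2,8,2,8], [4,8,4,8,4,8], [0,2,4,0,2,4,9,0,4,8,0,4], [8,6,9,7], [2,4,8,2,4,8]]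
def relsA : List Word := [[0,0], [2,2], [4,4], [6,6,6], [8,8,8], [0,4,0,4,0,4,0,4], [2,4,2,4,2,4,2,4], [0,2,4,0,2,4,0,2,4,2,0,4], [2,6,2,7], [0,2,4,6,4,0,4,6,2], [0,2,4,0,2,4,6,2,4,7,2,4], [0,8,0,9], [2,8,2,8], [4,8,4,8,4,8], [0,2,4,0,2,4,9,0,4,8,0,4], [8,6,9,7], [2,4,8,2,4,8], [10,10], [4,10,4,10,4,10], [10,0,10,0], [10,2,10,0,4,2,4,2,0], [10,4,0,4,10,4,0,4,0], [10,4,2,4,10,0,4,2,4,0], [2,10,8,2,10,8,2,10,8,2,10,8,2,10,8], [10,8,10,8,10,8,10,8,10,8,10,8,10,8,10,8], [10,6,10,6,10,6,10,6,10,6], [4,6,10,4,6,10,4,6,10,4,6,10,4,6,10,4,6,10,4,6,10,4,6,10]]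
def rels : List Word := [[0,0], [2,2], [4,4], [6,6,6], [8,8,8], [0,4,0,4,0,4,0,4], [2,4,2,4,2,4,2,4], [0,2,4,0,2,4,0,2,4,2,0,4], [2,6,2,7], [0,2,4,6,4,0,4,6,2], [0,2,4,0,2,4,6,2,4,7,2,4], [0,8,0,9], [2,8,2,8], [4,8,4,8,4,8], [0,2,4,0,2,4,9,0,4,8,0,4], [8,6,9,7], [2,4,8,2,4,8], [10,10], [4,10,4,10,4,10], [10,0,10,0], [10,2,10,0,4,2,4,2,0], [10,4,0,4,10,4,0,4,0], [10,4,2,4,10,0,4,2,4,0], [2,10,8,2,10,8,2,10,8,2,10,8,2,10,8], [10,8,10,8,10,8,10,8,10,8,10,8,10,8,10,8], [10,6,10,6,10,6,10,6,10,6], [4,6,10,4,6,10,4,6,10,4,6,10,4,6,10,4,6,10,4,6,10,4,6,10], [8,10,6,4,6,4,10,8,10,4,7,4,7,10,9,10,6,4,6,4,10,9,10,4,7,4,7,10]]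
namespace T0
noncomputable def A_0 : List (ℕ) := [nat_lit 0x3b26f2be37362573e27e364593e6712c880388813a47c16c1724c3e232493546128e6a274391964e3ec7539e7d35e7a3fa7a1da4b1143b22c292624527e6826c660561731a7023c631040f172200220a15a2812c2b0922506a1c29e351b4550f2350d2322e63f1841f1c458086220c62f32c602422f1ec5a36c5e2da6d1a25113a410a4282244a04a1403a1019a4f0ea370ce312125f34e502926b0aa2a2065d1323f00c0400402002012bc6f37e7b3e68140a804046c3665424e2d16a2135279272663ea743a65f3d47e3f6771de592ca7138c7822e6130a67336783c268344763b6640ba2c31e753aa7b3dc7f3fe793cc6e106391ca560541615e160b20e12e3e1f25a1ac1c0e6361b2542a43a1941e0f60e07406112381c61f0fa0f07e060320217c4b25e6532a773bc722d6723925c2e470386582c264324482462c1642336e552aa3c28c431464321a5329c4120e5e2f27339c620a62914a44226603024723e2a0842110e3a1d25027c3c1e62311a111bc562b66e3725d2fc6733e4d26a3118c1d0ee0d06c052843319e1a0d40c35c5b2de3d1ea2415446236623126934c52296341a41b2ec422162713c131fc4c26630182190cc0b0260b05a180c42e1764a252402042613612094080160703c1108e24124150ae0904c0300e0502a0c0661b0da1309e080420301e00]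
noncomputable def A : List (List (ℕ)) := [A_0]
noncomputable def K_0 : List (ℕ) := [nat_lit 0x2fb7cb2dceed7eb35d2c96ca6daacf759e52ee149bfcba897b925e23d6b965b69d47b447edd3896cf6374a91d32e348c04be87599fc76852799dde5717a7c42f5469bc82df39a046a7d0f8c5764532b94d2c5549856ab91c935625516a8446f345b048675418cc3abd0998d566b63a9d5e535b81c962b12b4d7e113b814361536a955a510489d860f0185d460b14804320c00]
noncomputable def K : List (List (ℕ)) := [K_0]
noncomputable def R_0 : List (Rule) := [Rule.mk (nat_lit 1) (nat_lit 69) (Steps.bwd (nat_lit 3) (Steps.bwd (nat_lit 1) (Steps.bwd (nat_lit 3) (Steps.bwd (nat_lit 1) (Steps.bwd (nat_lit 3) (Steps.bwd (nat_lit 1) (Steps.bwd (nat_lit 3) Steps.nil))))))) (nat_lit 10) (nat_lit 1),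
  Rule.mk (nat_lit 2) (nat_lit 69) (Steps.bwd (nat_lit 3) (Steps.bwd (nat_lit 2) (Steps.bwd (nat_lit 3) (Steps.bwd (nat_lit 2) (Steps.bwd (nat_lit 3) (Steps.bwd (nat_lit 2) (Steps.bwd (nat_lit 3) Steps.nil))))))) (nat_lit 12) (nat_lit 1),
  Rule.mk (nat_lit 2) (nat_lit 105) (Steps.bwd (nat_lit 3) (Steps.bwd (nat_lit 1) (Steps.bwd (nat_lit 2) (Steps.bwd (nat_lit 3) (Steps.bwd (nat_lit 1) (Steps.bwd (nat_lit 2) (Steps.bwd (nat_lit 3) (Steps.bwd (nat_lit 2) (Steps.bwd (nat_lit 1) (Steps.bwd (nat_lit 3) (Steps.bwd (nat_lit 1) Steps.nil))))))))))) (nat_lit 14) (nat_lit 2),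
  Rule.mk (nat_lit 1) (nat_lit 105) (Steps.bwd (nat_lit 2) (Steps.bwd (nat_lit 3) (Steps.bwd (nat_lit 1) (Steps.bwd (nat_lit 2) (Steps.fwd (nat_lit 1536) (Steps.fwd (nat_lit 1024) (Steps.fwd (nat_lit 512) (Steps.fwd (nat_lit 1536) (Steps.fwd (nat_lit 512) (Steps.fwd (nat_lit 1024) (Steps.fwd (nat_lit 1536) Steps.nil))))))))))) (nat_lit 14) (nat_lit 4),
  Rule.mk (nat_lit 3) (nat_lit 69) (Steps.bwd (nat_lit 2) (Steps.bwd (nat_lit 3) (Steps.bwd (nat_lit 2) (Steps.bwd (nat_lit 3) (Steps.fwd (nat_lit 1024) (Steps.fwd (nat_lit 1536) (Steps.fwd (nat_lit 1024) Steps.nil))))))) (nat_lit 12) (nat_lit 0),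
  Rule.mk (nat_lit 1) (nat_lit 105) (Steps.bwd (nat_lit 2) (Steps.bwd (nat_lit 3) (Steps.bwd (nat_lit 1) (Steps.bwd (nat_lit 2) (Steps.bwd (nat_lit 3) (Steps.bwd (nat_lit 2) (Steps.bwd (nat_lit 1) (Steps.bwd (nat_lit 3) (Steps.bwd (nat_lit 1) (Steps.fwd (nat_lit 1024) (Steps.fwd (nat_lit 1536) Steps.nil))))))))))) (nat_lit 14) (nat_lit 4),
  Rule.mk (nat_lit 1) (nat_lit 105) (Steps.bwd (nat_lit 2) (Steps.bwd (nat_lit 3) (Steps.bwd (nat_lit 1) (Steps.bwd (nat_lit 2) (Steps.bwd (nat_lit 3) (Steps.bwd (nat_lit 2) (Steps.fwd (nat_lit 512) (Steps.fwd (nat_lit 1536) (Steps.fwd (nat_lit 512) (Steps.fwd (nat_lit 1024) (Steps.fwd (nat_lit 1536) Steps.nil))))))))))) (nat_lit 14) (nat_lit 4),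
  Rule.mk (nat_lit 3) (nat_lit 69) (Steps.bwd (nat_lit 2) (Steps.bwd (nat_lit 3) (Steps.bwd (nat_lit 2) (Steps.fwd (nat_lit 1536) (Steps.bwd (nat_lit 2) (Steps.bwd (nat_lit 3) (Steps.fwd (nat_lit 1024) Steps.nil))))))) (nat_lit 12) (nat_lit 0),
  Rule.mk (nat_lit 1) (nat_lit 105) (Steps.bwd (nat_lit 2) (Steps.bwd (nat_lit 3) (Steps.bwd (nat_lit 1) (Steps.fwd (nat_lit 1024) (Steps.fwd (nat_lit 1536) (Steps.fwd (nat_lit 1024) (Steps.bwd (nat_lit 1) (Steps.bwd (nat_lit 3) (Steps.bwd (nat_lit 1) (Steps.fwd (nat_lit 1024) (Steps.fwd (nat_lit 1536) Steps.nil))))))))))) (nat_lit 14) (nat_lit 4),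
  Rule.mk (nat_lit 1) (nat_lit 105) (Steps.bwd (nat_lit 2) (Steps.bwd (nat_lit 3) (Steps.bwd (nat_lit 1) (Steps.bwd (nat_lit 2) (Steps.bwd (nat_lit 3) (Steps.bwd (nat_lit 2) (Steps.fwd (nat_lit 512) (Steps.fwd (nat_lit 1536) (Steps.fwd (nat_lit 512) (Steps.bwd (nat_lit 2) (Steps.bwd (nat_lit 3) Steps.nil))))))))))) (nat_lit 14) (nat_lit 4),
  Rule.mk (nat_lit 1) (nat_lit 69) (Steps.bwd (nat_lit 3) (Steps.bwd (nat_lit 1) (Steps.bwd (nat_lit 3) (Steps.bwd (nat_lit 1) (Steps.bwd (nat_lit 3) (Steps.fwd (nat_lit 512) (Steps.bwd (nat_lit 3) Steps.nil))))))) (nat_lit 10) (nat_lit 1),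
  Rule.mk (nat_lit 2) (nat_lit 105) (Steps.fwd (nat_lit 1536) (Steps.fwd (nat_lit 1024) (Steps.fwd (nat_lit 512) (Steps.fwd (nat_lit 1536) (Steps.fwd (nat_lit 1024) (Steps.fwd (nat_lit 512) (Steps.fwd (nat_lit 1536) (Steps.fwd (nat_lit 1024) (Steps.bwd (nat_lit 1) (Steps.bwd (nat_lit 3) (Steps.bwd (nat_lit 1) Steps.nil))))))))))) (nat_lit 15) (nat_lit 3),
  Rule.mk (nat_lit 2) (nat_lit 105) (Steps.bwd (nat_lit 3) (Steps.bwd (nat_lit 1) (Steps.bwd (nat_lit 2) (Steps.bwd (nat_lit 3) (Steps.bwd (nat_lit 1) (Steps.bwd (nat_lit 2) (Steps.fwd (nat_lit 1536) (Steps.fwd (nat_lit 1024) (Steps.fwd (nat_lit 512) (Steps.bwd (nat_lit 3) (Steps.bwd (nat_lit 1) Steps.nil))))))))))) (nat_lit 14) (nat_lit 2),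
  Rule.mk (nat_lit 1) (nat_lit 105) (Steps.bwd (nat_lit 3) (Steps.bwd (nat_lit 1) (Steps.bwd (nat_lit 2) (Steps.fwd (nat_lit 1536) (Steps.fwd (nat_lit 1024) (Steps.fwd (nat_lit 512) (Steps.bwd (nat_lit 3) (Steps.bwd (nat_lit 2) (Steps.fwd (nat_lit 512) (Steps.fwd (nat_lit 1536) (Steps.fwd (nat_lit 1024) Steps.nil))))))))))) (nat_lit 15) (nat_lit 0),
  Rule.mk (nat_lit 1) (nat_lit 105) (Steps.bwd (nat_lit 2) (Steps.fwd (nat_lit 1536) (Steps.fwd (nat_lit 1024) (Steps.fwd (nat_lit 512) (Steps.fwd (nat_lit 1536) (Steps.bwd (nat_lit 1) (Steps.bwd (nat_lit 2) (Steps.bwd (nat_lit 3) (Steps.bwd (nat_lit 1) (Steps.bwd (nat_lit 2) (Steps.bwd (nat_lit 3) Steps.nil))))))))))) (nat_lit 14) (nat_lit 7),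
  Rule.mk (nat_lit 1) (nat_lit 69) (Steps.bwd (nat_lit 3) (Steps.bwd (nat_lit 1) (Steps.bwd (nat_lit 3) (Steps.bwd (nat_lit 1) (Steps.bwd (nat_lit 3) (Steps.fwd (nat_lit 512) (Steps.fwd (nat_lit 1536) Steps.nil))))))) (nat_lit 10) (nat_lit 1),
  Rule.mk (nat_lit 2) (nat_lit 105) (Steps.fwd (nat_lit 1536) (Steps.fwd (nat_lit 512) (Steps.bwd (nat_lit 2) (Steps.bwd (nat_lit 3) (Steps.bwd (nat_lit 1) (Steps.fwd (nat_lit 1024) (Steps.fwd (nat_lit 1536) (Steps.fwd (nat_lit 1024) (Steps.fwd (nat_lit 512) (Steps.fwd (nat_lit 1536) (Steps.bwd (nat_lit 1) Steps.nil))))))))))) (nat_lit 14) (nat_lit 2),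
  Rule.mk (nat_lit 2) (nat_lit 105) (Steps.bwd (nat_lit 3) (Steps.bwd (nat_lit 1) (Steps.bwd (nat_lit 2) (Steps.bwd (nat_lit 3) (Steps.bwd (nat_lit 1) (Steps.bwd (nat_lit 2) (Steps.bwd (nat_lit 3) (Steps.bwd (nat_lit 2) (Steps.bwd (nat_lit 1) (Steps.bwd (nat_lit 3) (Steps.fwd (nat_lit 512) Steps.nil))))))))))) (nat_lit 14) (nat_lit 2),
  Rule.mk (nat_lit 1) (nat_lit 105) (Steps.bwd (nat_lit 2) (Steps.bwd (nat_lit 3) (Steps.bwd (nat_lit 1) (Steps.bwd (nat_lit 2) (Steps.fwd (nat_lit 1536) (Steps.fwd (nat_lit 1024) (Steps.bwd (nat_lit 1) (Steps.fwd (nat_lit 1536) (Steps.fwd (nat_lit 512) (Steps.fwd (nat_lit 1024) (Steps.fwd (nat_lit 1536) Steps.nil))))))))))) (nat_lit 14) (nat_lit 4),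
  Rule.mk (nat_lit 2) (nat_lit 105) (Steps.bwd (nat_lit 1) (Steps.bwd (nat_lit 3) (Steps.fwd (nat_lit 512) (Steps.fwd (nat_lit 1024) (Steps.fwd (nat_lit 1536) (Steps.fwd (nat_lit 512) (Steps.fwd (nat_lit 1024) (Steps.fwd (nat_lit 1536) (Steps.bwd (nat_lit 1) (Steps.bwd (nat_lit 2) (Steps.bwd (nat_lit 3) Steps.nil))))))))))) (nat_lit 14) (nat_lit 10),
  Rule.mk (nat_lit 3) (nat_lit 69) (Steps.bwd (nat_lit 2) (Steps.bwd (nat_lit 3) (Steps.bwd (nat_lit 2) (Steps.fwd (nat_lit 1536) (Steps.bwd (nat_lit 2) (Steps.fwd (nat_lit 1536) (Steps.fwd (nat_lit 1024) Steps.nil))))))) (nat_lit 12) (nat_lit 0),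
  Rule.mk (nat_lit 3) (nat_lit 69) (Steps.bwd (nat_lit 1) (Steps.bwd (nat_lit 3) (Steps.bwd (nat_lit 1) (Steps.bwd (nat_lit 3) (Steps.bwd (nat_lit 1) (Steps.bwd (nat_lit 3) (Steps.bwd (nat_lit 1) Steps.nil))))))) (nat_lit 10) (nat_lit 0),
  Rule.mk (nat_lit 2) (nat_lit 105) (Steps.fwd (nat_lit 1536) (Steps.fwd (nat_lit 1024) (Steps.fwd (nat_lit 512) (Steps.fwd (nat_lit 1536) (Steps.fwd (nat_lit 1024) (Steps.bwd (nat_lit 1) (Steps.fwd (nat_lit 1536) (Steps.fwd (nat_lit 1024) (Steps.bwd (nat_lit 1) (Steps.bwd (nat_lit 3) (Steps.bwd (nat_lit 1) Steps.nil))))))))))) (nat_lit 15) (nat_lit 3),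
  Rule.mk (nat_lit 2) (nat_lit 105) (Steps.bwd (nat_lit 1) (Steps.bwd (nat_lit 3) (Steps.bwd (nat_lit 1) (Steps.fwd (nat_lit 1024) (Steps.fwd (nat_lit 1536) (Steps.fwd (nat_lit 512) (Steps.fwd (nat_lit 1024) (Steps.fwd (nat_lit 1536) (Steps.bwd (nat_lit 1) (Steps.bwd (nat_lit 2) (Steps.bwd (nat_lit 3) Steps.nil))))))))))) (nat_lit 14) (nat_lit 10),
  Rule.mk (nat_lit 1) (nat_lit 105) (Steps.bwd (nat_lit 2) (Steps.bwd (nat_lit 3) (Steps.bwd (nat_lit 2) (Steps.bwd (nat_lit 1) (Steps.bwd (nat_lit 3) (Steps.bwd (nat_lit 1) (Steps.bwd (nat_lit 2) (Steps.bwd (nat_lit 3) (Steps.bwd (nat_lit 1) (Steps.bwd (nat_lit 2) (Steps.bwd (nat_lit 3) Steps.nil))))))))))) (nat_lit 14) (nat_lit 7),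
  Rule.mk (nat_lit 1) (nat_lit 105) (Steps.bwd (nat_lit 3) (Steps.bwd (nat_lit 2) (Steps.bwd (nat_lit 1) (Steps.bwd (nat_lit 3) (Steps.bwd (nat_lit 1) (Steps.fwd (nat_lit 1024) (Steps.fwd (nat_lit 1536) (Steps.fwd (nat_lit 1024) (Steps.bwd (nat_lit 1) (Steps.bwd (nat_lit 3) (Steps.fwd (nat_lit 1024) Steps.nil))))))))))) (nat_lit 15) (nat_lit 9),
  Rule.mk (nat_lit 2) (nat_lit 105) (Steps.bwd (nat_lit 3) (Steps.bwd (nat_lit 1) (Steps.bwd (nat_lit 2) (Steps.fwd (nat_lit 1536) (Steps.fwd (nat_lit 512) (Steps.fwd (nat_lit 1024) (Steps.fwd (nat_lit 1536) (Steps.fwd (nat_lit 1024) (Steps.fwd (nat_lit 512) (Steps.bwd (nat_lit 3) (Steps.bwd (nat_lit 1) Steps.nil))))))))))) (nat_lit 14) (nat_lit 2),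
  Rule.mk (nat_lit 1) (nat_lit 105) (Steps.bwd (nat_lit 3) (Steps.bwd (nat_lit 1) (Steps.bwd (nat_lit 2) (Steps.bwd (nat_lit 3) (Steps.fwd (nat_lit 1024) (Steps.fwd (nat_lit 512) (Steps.bwd (nat_lit 3) (Steps.bwd (nat_lit 2) (Steps.fwd (nat_lit 512) (Steps.fwd (nat_lit 1536) (Steps.bwd (nat_lit 2) Steps.nil))))))))))) (nat_lit 15) (nat_lit 0),
  Rule.mk (nat_lit 1) (nat_lit 105) (Steps.bwd (nat_lit 2) (Steps.fwd (nat_lit 1536) (Steps.fwd (nat_lit 1024) (Steps.fwd (nat_lit 512) (Steps.fwd (nat_lit 1536) (Steps.bwd (nat_lit 1) (Steps.bwd (nat_lit 2) (Steps.bwd (nat_lit 3) (Steps.bwd (nat_lit 1) (Steps.bwd (nat_lit 2) (Steps.fwd (nat_lit 1536) Steps.nil))))))))))) (nat_lit 14) (nat_lit 7),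
  Rule.mk (nat_lit 1) (nat_lit 69) (Steps.bwd (nat_lit 3) (Steps.bwd (nat_lit 1) (Steps.bwd (nat_lit 3) (Steps.bwd (nat_lit 1) (Steps.fwd (nat_lit 1536) (Steps.fwd (nat_lit 512) (Steps.fwd (nat_lit 1536) Steps.nil))))))) (nat_lit 10) (nat_lit 1),
  Rule.mk (nat_lit 2) (nat_lit 105) (Steps.bwd (nat_lit 3) (Steps.fwd (nat_lit 1024) (Steps.fwd (nat_lit 512) (Steps.fwd (nat_lit 1536) (Steps.bwd (nat_lit 1) (Steps.fwd (nat_lit 1024) (Steps.bwd (nat_lit 3) (Steps.bwd (nat_lit 1) (Steps.bwd (nat_lit 2) (Steps.fwd (nat_lit 1536) (Steps.bwd (nat_lit 1) Steps.nil))))))))))) (nat_lit 14) (nat_lit 8),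
  Rule.mk (nat_lit 2) (nat_lit 105) (Steps.bwd (nat_lit 3) (Steps.bwd (nat_lit 1) (Steps.bwd (nat_lit 2) (Steps.bwd (nat_lit 3) (Steps.bwd (nat_lit 2) (Steps.bwd (nat_lit 1) (Steps.fwd (nat_lit 1536) (Steps.fwd (nat_lit 512) (Steps.fwd (nat_lit 1024) (Steps.bwd (nat_lit 3) (Steps.bwd (nat_lit 1) Steps.nil))))))))))) (nat_lit 14) (nat_lit 5),
  Rule.mk (nat_lit 1) (nat_lit 105) (Steps.bwd (nat_lit 3) (Steps.bwd (nat_lit 1) (Steps.bwd (nat_lit 2) (Steps.bwd (nat_lit 3) (Steps.bwd (nat_lit 2) (Steps.bwd (nat_lit 1) (Steps.bwd (nat_lit 3) (Steps.bwd (nat_lit 2) (Steps.bwd (nat_lit 1) (Steps.fwd (nat_lit 1536) (Steps.bwd (nat_lit 2) Steps.nil))))))))))) (nat_lit 15) (nat_lit 0),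
  Rule.mk (nat_lit 3) (nat_lit 69) (Steps.bwd (nat_lit 1) (Steps.fwd (nat_lit 1536) (Steps.bwd (nat_lit 1) (Steps.fwd (nat_lit 1536) (Steps.fwd (nat_lit 512) (Steps.fwd (nat_lit 1536) (Steps.bwd (nat_lit 1) Steps.nil))))))) (nat_lit 10) (nat_lit 0),
  Rule.mk (nat_lit 2) (nat_lit 105) (Steps.bwd (nat_lit 3) (Steps.bwd (nat_lit 1) (Steps.bwd (nat_lit 2) (Steps.bwd (nat_lit 3) (Steps.bwd (nat_lit 2) (Steps.bwd (nat_lit 1) (Steps.fwd (nat_lit 1536) (Steps.fwd (nat_lit 512) (Steps.fwd (nat_lit 1024) (Steps.bwd (nat_lit 3) (Steps.fwd (nat_lit 512) Steps.nil))))))))))) (nat_lit 14) (nat_lit 5),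
  Rule.mk (nat_lit 3) (nat_lit 69) (Steps.bwd (nat_lit 2) (Steps.bwd (nat_lit 3) (Steps.bwd (nat_lit 2) (Steps.bwd (nat_lit 3) (Steps.bwd (nat_lit 2) (Steps.fwd (nat_lit 1536) (Steps.fwd (nat_lit 1024) Steps.nil))))))) (nat_lit 12) (nat_lit 0),
  Rule.mk (nat_lit 2) (nat_lit 105) (Steps.fwd (nat_lit 1536) (Steps.bwd (nat_lit 2) (Steps.fwd (nat_lit 512) (Steps.bwd (nat_lit 3) (Steps.bwd (nat_lit 1) (Steps.bwd (nat_lit 2) (Steps.fwd (nat_lit 1536) (Steps.fwd (nat_lit 512) (Steps.fwd (nat_lit 1024) (Steps.fwd (nat_lit 1536) (Steps.bwd (nat_lit 1) Steps.nil))))))))))) (nat_lit 14) (nat_lit 8),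
  Rule.mk (nat_lit 2) (nat_lit 105) (Steps.bwd (nat_lit 3) (Steps.bwd (nat_lit 1) (Steps.bwd (nat_lit 2) (Steps.fwd (nat_lit 1536) (Steps.fwd (nat_lit 1024) (Steps.bwd (nat_lit 1) (Steps.fwd (nat_lit 1536) (Steps.fwd (nat_lit 512) (Steps.bwd (nat_lit 2) (Steps.fwd (nat_lit 1536) (Steps.fwd (nat_lit 512) Steps.nil))))))))))) (nat_lit 14) (nat_lit 5),
  Rule.mk (nat_lit 1) (nat_lit 105) (Steps.bwd (nat_lit 3) (Steps.bwd (nat_lit 1) (Steps.bwd (nat_lit 2) (Steps.fwd (nat_lit 1536) (Steps.fwd (nat_lit 1024) (Steps.bwd (nat_lit 1) (Steps.fwd (nat_lit 1536) (Steps.fwd (nat_lit 1024) (Steps.bwd (nat_lit 1) (Steps.bwd (nat_lit 3) (Steps.bwd (nat_lit 2) Steps.nil))))))))))) (nat_lit 15) (nat_lit 0),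
  Rule.mk (nat_lit 1) (nat_lit 105) (Steps.bwd (nat_lit 2) (Steps.bwd (nat_lit 3) (Steps.bwd (nat_lit 2) (Steps.bwd (nat_lit 1) (Steps.bwd (nat_lit 3) (Steps.fwd (nat_lit 512) (Steps.fwd (nat_lit 1024) (Steps.bwd (nat_lit 3) (Steps.fwd (nat_lit 512) (Steps.fwd (nat_lit 1024) (Steps.fwd (nat_lit 1536) Steps.nil))))))))))) (nat_lit 14) (nat_lit 7),
  Rule.mk (nat_lit 3) (nat_lit 69) (Steps.bwd (nat_lit 2) (Steps.bwd (nat_lit 3) (Steps.bwd (nat_lit 2) (Steps.fwd (nat_lit 1536) (Steps.fwd (nat_lit 1024) (Steps.fwd (nat_lit 1536) (Steps.fwd (nat_lit 1024) Steps.nil))))))) (nat_lit 12) (nat_lit 0),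
  Rule.mk (nat_lit 3) (nat_lit 69) (Steps.bwd (nat_lit 1) (Steps.bwd (nat_lit 3) (Steps.fwd (nat_lit 512) (Steps.bwd (nat_lit 3) (Steps.bwd (nat_lit 1) (Steps.bwd (nat_lit 3) (Steps.bwd (nat_lit 1) Steps.nil))))))) (nat_lit 10) (nat_lit 0),
  Rule.mk (nat_lit 2) (nat_lit 69) (Steps.fwd (nat_lit 1536) (Steps.fwd (nat_lit 1024) (Steps.bwd (nat_lit 3) (Steps.bwd (nat_lit 2) (Steps.bwd (nat_lit 3) (Steps.fwd (nat_lit 1024) (Steps.bwd (nat_lit 3) Steps.nil))))))) (nat_lit 12) (nat_lit 1),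
  Rule.mk (nat_lit 3) (nat_lit 105) (Steps.bwd (nat_lit 1) (Steps.fwd (nat_lit 1024) (Steps.fwd (nat_lit 1536) (Steps.fwd (nat_lit 1024) (Steps.fwd (nat_lit 512) (Steps.bwd (nat_lit 3) (Steps.bwd (nat_lit 1) (Steps.fwd (nat_lit 1024) (Steps.bwd (nat_lit 3) (Steps.fwd (nat_lit 512) (Steps.fwd (nat_lit 1024) Steps.nil))))))))))) (nat_lit 14) (nat_lit 6),
  Rule.mk (nat_lit 2) (nat_lit 69) (Steps.fwd (nat_lit 1536) (Steps.bwd (nat_lit 2) (Steps.bwd (nat_lit 3) (Steps.fwd (nat_lit 1024) (Steps.fwd (nat_lit 1536) (Steps.fwd (nat_lit 1024) (Steps.bwd (nat_lit 3) Steps.nil))))))) (nat_lit 12) (nat_lit 1),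
  Rule.mk (nat_lit 3) (nat_lit 69) (Steps.bwd (nat_lit 1) (Steps.fwd (nat_lit 1536) (Steps.bwd (nat_lit 1) (Steps.fwd (nat_lit 1536) (Steps.fwd (nat_lit 512) (Steps.bwd (nat_lit 3) (Steps.bwd (nat_lit 1) Steps.nil))))))) (nat_lit 10) (nat_lit 0),
  Rule.mk (nat_lit 2) (nat_lit 69) (Steps.fwd (nat_lit 1536) (Steps.bwd (nat_lit 2) (Steps.fwd (nat_lit 1536) (Steps.bwd (nat_lit 2) (Steps.bwd (nat_lit 3) (Steps.fwd (nat_lit 1024) (Steps.bwd (nat_lit 3) Steps.nil))))))) (nat_lit 12) (nat_lit 1),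
  Rule.mk (nat_lit 2) (nat_lit 105) (Steps.fwd (nat_lit 1536) (Steps.bwd (nat_lit 2) (Steps.bwd (nat_lit 1) (Steps.bwd (nat_lit 3) (Steps.bwd (nat_lit 1) (Steps.bwd (nat_lit 2) (Steps.bwd (nat_lit 3) (Steps.bwd (nat_lit 1) (Steps.bwd (nat_lit 2) (Steps.fwd (nat_lit 1536) (Steps.bwd (nat_lit 1) Steps.nil))))))))))) (nat_lit 14) (nat_lit 8),
  Rule.mk (nat_lit 2) (nat_lit 105) (Steps.bwd (nat_lit 1) (Steps.fwd (nat_lit 1536) (Steps.bwd (nat_lit 1) (Steps.bwd (nat_lit 2) (Steps.bwd (nat_lit 3) (Steps.bwd (nat_lit 2) (Steps.bwd (nat_lit 1) (Steps.bwd (nat_lit 3) (Steps.bwd (nat_lit 2) (Steps.bwd (nat_lit 1) (Steps.bwd (nat_lit 3) Steps.nil))))))))))) (nat_lit 15) (nat_lit 11),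
  Rule.mk (nat_lit 0) (nat_lit 78) (Steps.fwd (nat_lit 1536) (Steps.fwd (nat_lit 1024) (Steps.bwd (nat_lit 3) (Steps.bwd (nat_lit 2) (Steps.bwd (nat_lit 3) (Steps.bwd (nat_lit 2) (Steps.bwd (nat_lit 3) (Steps.fwd (nat_lit 1024) Steps.nil)))))))) (nat_lit 12) (nat_lit 1),
  Rule.mk (nat_lit 0) (nat_lit 33) (Steps.fwd (nat_lit 512) (Steps.fwd (nat_lit 0) (Steps.fwd (nat_lit 512) Steps.nil))) (nat_lit 54) (nat_lit 0),
  Rule.mk (nat_lit 3) (nat_lit 24) (Steps.bwd (nat_lit 0) (Steps.fwd (nat_lit 1536) Steps.nil)) (nat_lit 54) (nat_lit 0),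
  Rule.mk (nat_lit 2) (nat_lit 24) (Steps.bwd (nat_lit 0) (Steps.bwd (nat_lit 2) Steps.nil)) (nat_lit 54) (nat_lit 0),
  Rule.mk (nat_lit 1) (nat_lit 105) (Steps.bwd (nat_lit 3) (Steps.fwd (nat_lit 512) (Steps.bwd (nat_lit 2) (Steps.fwd (nat_lit 1536) (Steps.fwd (nat_lit 512) (Steps.fwd (nat_lit 1024) (Steps.bwd (nat_lit 3) (Steps.bwd (nat_lit 1) (Steps.fwd (nat_lit 1024) (Steps.fwd (nat_lit 1536) (Steps.bwd (nat_lit 2) Steps.nil))))))))))) (nat_lit 14) (nat_lit 11),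
  Rule.mk (nat_lit 1) (nat_lit 105) (Steps.bwd (nat_lit 2) (Steps.bwd (nat_lit 3) (Steps.bwd (nat_lit 2) (Steps.bwd (nat_lit 1) (Steps.fwd (nat_lit 1536) (Steps.fwd (nat_lit 512) (Steps.fwd (nat_lit 1024) (Steps.bwd (nat_lit 3) (Steps.fwd (nat_lit 512) (Steps.fwd (nat_lit 1024) (Steps.fwd (nat_lit 1536) Steps.nil))))))))))) (nat_lit 14) (nat_lit 7),
  Rule.mk (nat_lit 3) (nat_lit 69) (Steps.fwd (nat_lit 512) (Steps.bwd (nat_lit 3) (Steps.bwd (nat_lit 1) (Steps.bwd (nat_lit 3) (Steps.bwd (nat_lit 1) (Steps.fwd (nat_lit 1536) (Steps.bwd (nat_lit 1) Steps.nil))))))) (nat_lit 10) (nat_lit 0),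
  Rule.mk (nat_lit 1) (nat_lit 105) (Steps.fwd (nat_lit 1024) (Steps.bwd (nat_lit 3) (Steps.bwd (nat_lit 2) (Steps.fwd (nat_lit 512) (Steps.fwd (nat_lit 1536) (Steps.fwd (nat_lit 512) (Steps.fwd (nat_lit 1024) (Steps.bwd (nat_lit 3) (Steps.fwd (nat_lit 512) (Steps.fwd (nat_lit 1024) (Steps.fwd (nat_lit 1536) Steps.nil))))))))))) (nat_lit 14) (nat_lit 7)]
noncomputable def R : List (List (Rule)) := [R_0]
def LW : List Word := [[], [0], [2], [4]]
def par : Par := ⟨9, 2, 11, 20, 511, 2047, 1048575⟩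
theorem hpar : par.ok := by decide
theorem hR0_0 : lall (R) (fun l => lall l (ruleOK relsA LW par)) = true := by decide +kernel
theorem hR0 : lall (R) (fun l => lall l (ruleOK relsA LW par)) = true := hR0_0
theorem hR : RulesOK relsA LW par R := rulesOK_of rfl hR0
def cols : List (ℕ × ℕ) := [(512, 1), (1024, 2), (1536, 3)]
theorem hcols : lall cols (colOK relsA LW par) = true := by decide +kernel
noncomputable def JS0 : List ℕ := [nat_lit 0x30184165b0011086a90c8400239209a92499b4d85b608c472624420673411086422088763a9a0ce6607a4096462291192894802470021106aa0d041646235329a0c1249047608800062391e77021349c4f282e0b4611c8c452210d642a18105e001208ea91c8c0028144ca8c46840be5e509e503222ce600249208e4622a6724518c9e4e26930964a249212001c0e28a45a3124913d008aa89bce088309809e4e40e873391c4e00b4480c0250279e774723d1288051bce05429948e00a1c126e3794ca4512813c9c6950a60043a381a0b3d1ecf87d310a072b154a8532916800502d0c8733998ca582b958a329990c8505024fe802d164b04984c4854321ce27037970b65a1ce8750320cc2602f906e37a1508833017cbc5d2e16c6349a8d68331184c029a4d48342214fe7e3e990c6621cfa7e4220d04693419ccc65320c753b1dd046b351a453a9d9048301000de6e369b0d6200504813a9d0e672389c0de6e0d027a3c9e0ee763a84803f9f8fa7c3d9e81,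
  nat_lit 0x10c03a90003a1300040cc984f08a411e47000fb222820fe9c19a1cc4401f8f87b0100029941a08466b35090e851c400993e9f0f67a3c9e02a162de0984c8c108831f8f9e001d4ec273e024917891322f02014a23eb8005d2f17cc60e295a5c0b050ea234d0ad0e88048f6c001dd26923e02c9759d4e8214c0a47a3ca91a8e0e194c83e1ed24b2620856a116050ca631e8f280005844a452a34346331184c13964b4134c0910603208f87a3c98009609168b65727134121d394a954b08902801f0f5e3c1e4cc65321048121fc40954b8482863200fc7c3d8c08954b0442663204400388893e9e3b98cc4613017e1379b83097111e48642209007f00012a17361ac2c022311ca0547d2895101dcec43213c9047a391a8c1025804012210dd001148c0e400401e653218cc4e001281e4522c0e4f2813086426d261d02958aa442196784d07c3c944a9bcdc5d00915a,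
  nat_lit 0x2c9f05a2b58874c0614980087c8008e68338853237e08c68468e5463a07840b64220ee0425a4ca451092190e29391376]
theorem S0_c : blocks (facts 9 2 11 20 511 2047 1048575 9 511 6 63 A R 32) 32 JS0 384 = true := by decide +kernel
theorem S0 : On (Step.{u} relsA LW par A) 384 480 :=
  steps_of_blocks hpar hR S0_c (by decide +kernel)
theorem D0_c : allB (defOK 9 11 20 511 1048575 385 A K) 2 2 = true := by decide +kernel
theorem D0 : On (fun r => defOK par.W par.WL par.E par.mW par.mE 385 A K r = true) 256 512 :=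
  On.of_allB D0_c
noncomputable def JW0 : List ℕ := [nat_lit 0x528645353f280786318f27da5688b94147b1f1ac6bd7c5713657c8e18d1755d54338fb1cc744608a46d13440855bd6c2ad0b4207e6e1886ed745dc872b597650916759a1b04a3bd003f9036c5ae2d54b284a46f58e6e9a469c7d6b5aa5788f554a64747246912455025b9711fdb95d9b66619666c6d3fc766c1b3295bc699bf6a1ab29d1c4511f6d1706dd992e877705b26f9a92f11e6d4bb2f9c02f4bf,
  nat_lit 0x2054350187610b314d3d270b05cd581a55b2a056154d35a06b5ad936406748d201819e289a13344d139354c89554c71541815f84f38c651994f28d4c4f93c5058d628af51542278b768da0221912e104131075e8975f55d5693a3746218556439593e8543f519235160e9612a90a20d0d20109211866249d5d5722a457444862b16d5a99222d95241212519f670753304b33d344dcee4047a1e5525fcb4,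
  nat_lit 0x16859354431203f308f53c85c3645e3d8f9340e6380e936927490ed3a8393c0583ccd7124d416d49519284992b108e13792f4b06e30cc00e1623e1654e499268cb1043d175792c852144d12c585608683ace85a566390e71a8d248893494ec4cd303c4701bd8052183388503954e24951359672b944261472d98b590894b52a5ed7826d29259063704037d2e231310ecc10f163580fc4e0824ecca43d0c,
  nat_lit 0x3dcf417cdb3603e]
theorem W0_c : blocks (rows 9 2 11 20 511 2047 1048575 10 1023 30 A 480 128 cols 42) 42 JW0 0 = true := by decide +kernel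
theorem W0 : On (Row.{u} relsA LW par A 480 128 cols) 0 168 :=
  rows_of_blocks hpar (by decide) hcols W0_c (by decide +kernel)
theorem idx : Idx.{u} relsA [[0], [2], [4]] [] 128 :=
  idx_of_cert hpar hR (K := K) (by decide +kernel) (T := 385) (T' := 512) (by decide) D0
    (subs := []) (by decide +kernel) (T1 := 384) (by decide) (N := 480) S0
    (by decide) (n' := 168) (by decide) W0 (by decide +kernel) (by decide +kernel)
end T0
theorem b0 : Bound.{u} relsA [[0], [2], [4]] 128 := .of_idx T0.idx (.nil _) (by decide)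
namespace T1
noncomputable def A_0 : List (ℕ) := [nat_lit 0x108080440201200802401008804006000010000020001180402800]
noncomputable def A : List (List (ℕ)) := [A_0]
noncomputable def K_0 : List (ℕ) := [nat_lit 0x4060000]
noncomputable def K : List (List (ℕ)) := [K_0]
noncomputable def R_0 : List (Rule) := [Rule.mk (nat_lit 1) (nat_lit 30) (Steps.bwd (nat_lit 4) (Steps.fwd (nat_lit 512) (Steps.fwd (nat_lit 2048) Steps.nil))) (nat_lit 38) (nat_lit 0),
  Rule.mk (nat_lit 2) (nat_lit 75) (Steps.bwd (nat_lit 4) (Steps.fwd (nat_lit 512) (Steps.fwd (nat_lit 1536) (Steps.fwd (nat_lit 1024) (Steps.fwd (nat_lit 1536) (Steps.fwd (nat_lit 1024) (Steps.fwd (nat_lit 512) (Steps.fwd (nat_lit 2048) Steps.nil)))))))) (nat_lit 40) (nat_lit 2),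
  Rule.mk (nat_lit 4) (nat_lit 48) (Steps.bwd (nat_lit 3) (Steps.bwd (nat_lit 4) (Steps.fwd (nat_lit 1536) (Steps.fwd (nat_lit 2048) (Steps.fwd (nat_lit 1536) Steps.nil))))) (nat_lit 36) (nat_lit 0),
  Rule.mk (nat_lit 2) (nat_lit 75) (Steps.bwd (nat_lit 3) (Steps.fwd (nat_lit 1024) (Steps.fwd (nat_lit 512) (Steps.bwd (nat_lit 4) (Steps.fwd (nat_lit 1024) (Steps.fwd (nat_lit 2048) (Steps.fwd (nat_lit 512) (Steps.fwd (nat_lit 1536) Steps.nil)))))))) (nat_lit 40) (nat_lit 6),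
  Rule.mk (nat_lit 1) (nat_lit 75) (Steps.bwd (nat_lit 3) (Steps.fwd (nat_lit 512) (Steps.bwd (nat_lit 4) (Steps.fwd (nat_lit 1536) (Steps.fwd (nat_lit 512) (Steps.fwd (nat_lit 1536) (Steps.fwd (nat_lit 2048) (Steps.fwd (nat_lit 1536) Steps.nil)))))))) (nat_lit 42) (nat_lit 7)]
noncomputable def R : List (List (Rule)) := [R_0]
def LW : List Word := [[], [0], [2], [4], [10], [0], [1], [2], [3], [4], [5]]
def par : Par := ⟨9, 4, 13, 22, 511, 8191, 4194303⟩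
theorem hpar : par.ok := by decide
theorem hR0_0 : lall (R) (fun l => lall l (ruleOK relsA LW par)) = true := by decide +kernel
theorem hR0 : lall (R) (fun l => lall l (ruleOK relsA LW par)) = true := hR0_0
theorem hR : RulesOK relsA LW par R := rulesOK_of rfl hR0
def cols : List (ℕ × ℕ) := [(512, 1), (1024, 2), (1536, 3), (2048, 4)]
theorem hcols : lall cols (colOK relsA LW par) = true := by decide +kernel
noncomputable def JS0 : List ℕ := [nat_lit 0x1c100403010100303d030080e04038080206805030080c056050180802020080c0a80802021]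
theorem S0_c : blocks (facts 9 4 13 22 511 8191 4194303 9 511 3 7 A R 32) 32 JS0 260 = true := by decide +kernel
theorem S0 : On (Step.{u} relsA LW par A) 260 292 :=
  steps_of_blocks hpar hR S0_c (by decide +kernel)
theorem D0_c : allB (defOK 9 13 22 511 4194303 258 A K) 1 2 = true := by decide +kernel
theorem D0 : On (fun r => defOK par.W par.WL par.E par.mW par.mE 258 A K r = true) 256 384 :=
  On.of_allB D0_c
noncomputable def JW0 : List ℕ := [nat_lit 0xe8470e036124460f03e1204010844]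
theorem W0_c : blocks (rows 9 4 13 22 511 8191 4194303 10 1023 40 A 292 3 cols 32) 32 JW0 0 = true := by decide +kernel
theorem W0 : On (Row.{u} relsA LW par A 292 3 cols) 0 32 :=
  rows_of_blocks hpar (by decide) hcols W0_c (by decide +kernel)
theorem idx : Idx.{u} relsA [[0], [2], [4], [10]] [[0], [2], [4]] 3 :=
  idx_of_cert hpar hR (K := K) (by decide +kernel) (T := 258) (T' := 384) (by decide) D0
    (subs := [1,2,3]) (by decide +kernel) (T1 := 260) (by decide) (N := 292) S0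
    (by decide) (n' := 32) (by decide) W0 (by decide +kernel) (by decide +kernel)
end T1
theorem b1 : Bound.{u} relsA [[0], [2], [4], [10]] 384 := .of_idx T1.idx b0 (by decide)
namespace T2
noncomputable def A_0 : List (ℕ) := [nat_lit 0xc80b03a0381280d0520301601007004c1a0140600441401d0500600c01704806c120150380580e01c0c00742a01b0a006826019110098460250bb07028c2512a09430a1b0c30983802f1280a03602d1300b02e02e0980a4300271080a84002b18a0c456c3110a8c4582301810c02ec2f1208a45e42f1688bc5cc1c10b0ac5c42e1698b85a42d1630b45842c0c30b04a2281590ac4e62b1498a85442a1490a428a2912a0a05042813909c36c271298984c42612909426a25121090446230d308c4421f1110882aa22109084266210f2084404200c18802461f0f907c3cc160cb0683c41e0ea8542a61e0e90743841c0a18703281c0d906c3481b0c88683441a0c9064304180b88602e4170b10582a2160a9054284140988502641309104822c12083044224110808442041004a81014a090508181860a0510281820b0610300aa0c07182c1640b0708341c40e06a838124090388241a40d042834104080408201080803901c06a070310180a2050290140a8050210100620401900c026010108040200f01083c0460201100800a0200900400800001800004000008006263018305c5e62417089c5ac181618a05622a15308052a281428504ec2613306c4aa2412284c46c19112874422201020743ec1e0f08743a6110e086c366170d1858326100c20302e80b0b20382a80d0a2024268070930402280a08201814c0406282c16a050728201260606981c1060403a8180ca0302980c0880201a0041e60101280402a00]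
noncomputable def A : List (List (ℕ)) := [A_0]
noncomputable def K_0 : List (ℕ) := [nat_lit 0x2612f974b6592b954a6512793496492391486411f8f476391b8d46631178b456291389446210f8142e130d8643a150883c1a0b0481c060000]
noncomputable def K : List (List (ℕ)) := [K_0]
noncomputable def R_0 : List (Rule) := [Rule.mk (nat_lit 2) (nat_lit 34) (Steps.bwd (nat_lit 5) (Steps.fwd (nat_lit 1024) (Steps.fwd (nat_lit 2560) Steps.nil))) (nat_lit 16) (nat_lit 1),
  Rule.mk (nat_lit 5) (nat_lit 25) (Steps.bwd (nat_lit 5) (Steps.bwd (nat_lit 5) Steps.nil)) (nat_lit 6) (nat_lit 0),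
  Rule.mk (nat_lit 3) (nat_lit 106) (Steps.fwd (nat_lit 2560) (Steps.fwd (nat_lit 1024) (Steps.fwd (nat_lit 1536) (Steps.fwd (nat_lit 512) (Steps.fwd (nat_lit 1024) (Steps.fwd (nat_lit 1536) (Steps.fwd (nat_lit 512) (Steps.fwd (nat_lit 1024) (Steps.fwd (nat_lit 1536) (Steps.bwd (nat_lit 5) (Steps.fwd (nat_lit 1024) Steps.nil))))))))))) (nat_lit 20) (nat_lit 9),
  Rule.mk (nat_lit 1) (nat_lit 79) (Steps.bwd (nat_lit 3) (Steps.bwd (nat_lit 5) (Steps.fwd (nat_lit 1024) (Steps.fwd (nat_lit 512) (Steps.fwd (nat_lit 1024) (Steps.fwd (nat_lit 1536) (Steps.bwd (nat_lit 5) (Steps.fwd (nat_lit 1536) Steps.nil)))))))) (nat_lit 18) (nat_lit 6),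
  Rule.mk (nat_lit 0) (nat_lit 88) (Steps.fwd (nat_lit 512) (Steps.fwd (nat_lit 1024) (Steps.fwd (nat_lit 1536) (Steps.bwd (nat_lit 5) (Steps.fwd (nat_lit 1536) (Steps.fwd (nat_lit 512) (Steps.fwd (nat_lit 1536) (Steps.bwd (nat_lit 5) (Steps.fwd (nat_lit 1024) Steps.nil))))))))) (nat_lit 18) (nat_lit 0),
  Rule.mk (nat_lit 1) (nat_lit 25) (Steps.bwd (nat_lit 0) (Steps.fwd (nat_lit 512) Steps.nil)) (nat_lit 54) (nat_lit 0),
  Rule.mk (nat_lit 3) (nat_lit 25) (Steps.bwd (nat_lit 0) (Steps.bwd (nat_lit 3) Steps.nil)) (nat_lit 54) (nat_lit 0),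
  Rule.mk (nat_lit 2) (nat_lit 79) (Steps.bwd (nat_lit 4) (Steps.fwd (nat_lit 512) (Steps.fwd (nat_lit 1536) (Steps.fwd (nat_lit 1024) (Steps.fwd (nat_lit 1536) (Steps.fwd (nat_lit 1024) (Steps.bwd (nat_lit 1) (Steps.fwd (nat_lit 2048) Steps.nil)))))))) (nat_lit 40) (nat_lit 2),
  Rule.mk (nat_lit 1) (nat_lit 34) (Steps.bwd (nat_lit 4) (Steps.bwd (nat_lit 1) (Steps.fwd (nat_lit 2048) Steps.nil))) (nat_lit 38) (nat_lit 0),
  Rule.mk (nat_lit 2) (nat_lit 79) (Steps.bwd (nat_lit 4) (Steps.bwd (nat_lit 1) (Steps.fwd (nat_lit 1536) (Steps.fwd (nat_lit 1024) (Steps.fwd (nat_lit 1536) (Steps.fwd (nat_lit 1024) (Steps.fwd (nat_lit 512) (Steps.fwd (nat_lit 2048) Steps.nil)))))))) (nat_lit 40) (nat_lit 2),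
  Rule.mk (nat_lit 4) (nat_lit 52) (Steps.bwd (nat_lit 3) (Steps.bwd (nat_lit 4) (Steps.fwd (nat_lit 1536) (Steps.fwd (nat_lit 2048) (Steps.fwd (nat_lit 1536) Steps.nil))))) (nat_lit 36) (nat_lit 0),
  Rule.mk (nat_lit 2) (nat_lit 79) (Steps.bwd (nat_lit 3) (Steps.fwd (nat_lit 1024) (Steps.bwd (nat_lit 1) (Steps.bwd (nat_lit 4) (Steps.fwd (nat_lit 1024) (Steps.fwd (nat_lit 2048) (Steps.fwd (nat_lit 512) (Steps.fwd (nat_lit 1536) Steps.nil)))))))) (nat_lit 40) (nat_lit 6),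
  Rule.mk (nat_lit 1) (nat_lit 79) (Steps.bwd (nat_lit 3) (Steps.bwd (nat_lit 1) (Steps.bwd (nat_lit 4) (Steps.fwd (nat_lit 1536) (Steps.bwd (nat_lit 1) (Steps.fwd (nat_lit 1536) (Steps.fwd (nat_lit 2048) (Steps.fwd (nat_lit 1536) Steps.nil)))))))) (nat_lit 42) (nat_lit 7),
  Rule.mk (nat_lit 1) (nat_lit 70) (Steps.bwd (nat_lit 3) (Steps.fwd (nat_lit 512) (Steps.fwd (nat_lit 1536) (Steps.fwd (nat_lit 512) (Steps.bwd (nat_lit 3) (Steps.bwd (nat_lit 1) (Steps.fwd (nat_lit 1536) Steps.nil))))))) (nat_lit 10) (nat_lit 1),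
  Rule.mk (nat_lit 2) (nat_lit 79) (Steps.bwd (nat_lit 3) (Steps.fwd (nat_lit 1024) (Steps.fwd (nat_lit 512) (Steps.bwd (nat_lit 4) (Steps.fwd (nat_lit 1024) (Steps.fwd (nat_lit 2048) (Steps.bwd (nat_lit 1) (Steps.fwd (nat_lit 1536) Steps.nil)))))))) (nat_lit 40) (nat_lit 6),
  Rule.mk (nat_lit 5) (nat_lit 106) (Steps.bwd (nat_lit 3) (Steps.fwd (nat_lit 1024) (Steps.fwd (nat_lit 2560) (Steps.fwd (nat_lit 1536) (Steps.fwd (nat_lit 1024) (Steps.fwd (nat_lit 512) (Steps.bwd (nat_lit 3) (Steps.fwd (nat_lit 1024) (Steps.bwd (nat_lit 1) (Steps.fwd (nat_lit 1536) (Steps.fwd (nat_lit 1024) Steps.nil))))))))))) (nat_lit 21) (nat_lit 3),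
  Rule.mk (nat_lit 2) (nat_lit 106) (Steps.fwd (nat_lit 2560) (Steps.bwd (nat_lit 3) (Steps.fwd (nat_lit 1024) (Steps.fwd (nat_lit 512) (Steps.fwd (nat_lit 1536) (Steps.fwd (nat_lit 1024) (Steps.fwd (nat_lit 512) (Steps.bwd (nat_lit 3) (Steps.fwd (nat_lit 1024) (Steps.bwd (nat_lit 5) (Steps.fwd (nat_lit 1536) Steps.nil))))))))))) (nat_lit 21) (nat_lit 5),
  Rule.mk (nat_lit 1) (nat_lit 79) (Steps.bwd (nat_lit 3) (Steps.bwd (nat_lit 5) (Steps.fwd (nat_lit 1024) (Steps.bwd (nat_lit 1) (Steps.fwd (nat_lit 1024) (Steps.fwd (nat_lit 1536) (Steps.bwd (nat_lit 5) (Steps.bwd (nat_lit 3) Steps.nil)))))))) (nat_lit 18) (nat_lit 6),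
  Rule.mk (nat_lit 2) (nat_lit 79) (Steps.bwd (nat_lit 3) (Steps.bwd (nat_lit 5) (Steps.fwd (nat_lit 1536) (Steps.fwd (nat_lit 512) (Steps.bwd (nat_lit 3) (Steps.bwd (nat_lit 5) (Steps.fwd (nat_lit 1024) (Steps.bwd (nat_lit 1) Steps.nil)))))))) (nat_lit 18) (nat_lit 2),
  Rule.mk (nat_lit 1) (nat_lit 79) (Steps.fwd (nat_lit 1024) (Steps.bwd (nat_lit 3) (Steps.bwd (nat_lit 5) (Steps.fwd (nat_lit 1536) (Steps.fwd (nat_lit 512) (Steps.fwd (nat_lit 1536) (Steps.bwd (nat_lit 5) (Steps.fwd (nat_lit 1024) Steps.nil)))))))) (nat_lit 18) (nat_lit 1),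
  Rule.mk (nat_lit 3) (nat_lit 79) (Steps.bwd (nat_lit 5) (Steps.fwd (nat_lit 1024) (Steps.fwd (nat_lit 512) (Steps.fwd (nat_lit 1024) (Steps.bwd (nat_lit 3) (Steps.bwd (nat_lit 5) (Steps.fwd (nat_lit 1536) (Steps.fwd (nat_lit 512) Steps.nil)))))))) (nat_lit 18) (nat_lit 7),
  Rule.mk (nat_lit 1) (nat_lit 79) (Steps.fwd (nat_lit 1024) (Steps.fwd (nat_lit 1536) (Steps.bwd (nat_lit 5) (Steps.bwd (nat_lit 3) (Steps.fwd (nat_lit 512) (Steps.fwd (nat_lit 1536) (Steps.bwd (nat_lit 5) (Steps.fwd (nat_lit 1024) Steps.nil)))))))) (nat_lit 18) (nat_lit 1),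
  Rule.mk (nat_lit 2) (nat_lit 34) (Steps.bwd (nat_lit 6) (Steps.fwd (nat_lit 1024) (Steps.fwd (nat_lit 3072) Steps.nil))) (nat_lit 16) (nat_lit 3),
  Rule.mk (nat_lit 3) (nat_lit 79) (Steps.bwd (nat_lit 6) (Steps.fwd (nat_lit 1536) (Steps.fwd (nat_lit 1024) (Steps.fwd (nat_lit 512) (Steps.fwd (nat_lit 1024) (Steps.fwd (nat_lit 2560) (Steps.bwd (nat_lit 3) (Steps.fwd (nat_lit 512) Steps.nil)))))))) (nat_lit 19) (nat_lit 5),
  Rule.mk (nat_lit 1) (nat_lit 70) (Steps.fwd (nat_lit 1536) (Steps.fwd (nat_lit 512) (Steps.fwd (nat_lit 1536) (Steps.fwd (nat_lit 512) (Steps.bwd (nat_lit 3) (Steps.fwd (nat_lit 512) (Steps.bwd (nat_lit 3) Steps.nil))))))) (nat_lit 10) (nat_lit 1),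
  Rule.mk (nat_lit 5) (nat_lit 79) (Steps.fwd (nat_lit 1024) (Steps.fwd (nat_lit 512) (Steps.fwd (nat_lit 1024) (Steps.fwd (nat_lit 1536) (Steps.bwd (nat_lit 5) (Steps.bwd (nat_lit 3) (Steps.fwd (nat_lit 512) (Steps.bwd (nat_lit 3) Steps.nil)))))))) (nat_lit 18) (nat_lit 8),
  Rule.mk (nat_lit 5) (nat_lit 79) (Steps.fwd (nat_lit 1024) (Steps.fwd (nat_lit 512) (Steps.fwd (nat_lit 1024) (Steps.fwd (nat_lit 1536) (Steps.bwd (nat_lit 5) (Steps.bwd (nat_lit 3) (Steps.bwd (nat_lit 1) (Steps.fwd (nat_lit 1536) Steps.nil)))))))) (nat_lit 18) (nat_lit 8),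
  Rule.mk (nat_lit 2) (nat_lit 79) (Steps.bwd (nat_lit 4) (Steps.fwd (nat_lit 512) (Steps.fwd (nat_lit 1536) (Steps.fwd (nat_lit 1024) (Steps.bwd (nat_lit 3) (Steps.fwd (nat_lit 1024) (Steps.bwd (nat_lit 1) (Steps.fwd (nat_lit 2048) Steps.nil)))))))) (nat_lit 40) (nat_lit 2),
  Rule.mk (nat_lit 2) (nat_lit 79) (Steps.bwd (nat_lit 4) (Steps.bwd (nat_lit 1) (Steps.fwd (nat_lit 1536) (Steps.fwd (nat_lit 1024) (Steps.bwd (nat_lit 3) (Steps.fwd (nat_lit 1024) (Steps.fwd (nat_lit 512) (Steps.fwd (nat_lit 2048) Steps.nil)))))))) (nat_lit 40) (nat_lit 2),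
  Rule.mk (nat_lit 6) (nat_lit 88) (Steps.bwd (nat_lit 4) (Steps.bwd (nat_lit 6) (Steps.bwd (nat_lit 4) (Steps.fwd (nat_lit 2560) (Steps.fwd (nat_lit 2048) (Steps.fwd (nat_lit 2560) (Steps.fwd (nat_lit 2048) (Steps.fwd (nat_lit 2560) (Steps.fwd (nat_lit 2048) Steps.nil))))))))) (nat_lit 51) (nat_lit 1),
  Rule.mk (nat_lit 6) (nat_lit 25) (Steps.bwd (nat_lit 6) (Steps.bwd (nat_lit 6) Steps.nil)) (nat_lit 7) (nat_lit 0),
  Rule.mk (nat_lit 2) (nat_lit 79) (Steps.bwd (nat_lit 4) (Steps.bwd (nat_lit 1) (Steps.bwd (nat_lit 3) (Steps.fwd (nat_lit 1024) (Steps.fwd (nat_lit 1536) (Steps.fwd (nat_lit 1024) (Steps.fwd (nat_lit 512) (Steps.fwd (nat_lit 2048) Steps.nil)))))))) (nat_lit 40) (nat_lit 2),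
  Rule.mk (nat_lit 1) (nat_lit 34) (Steps.bwd (nat_lit 4) (Steps.fwd (nat_lit 512) (Steps.fwd (nat_lit 2048) Steps.nil))) (nat_lit 38) (nat_lit 0),
  Rule.mk (nat_lit 2) (nat_lit 79) (Steps.bwd (nat_lit 4) (Steps.fwd (nat_lit 512) (Steps.bwd (nat_lit 3) (Steps.fwd (nat_lit 1024) (Steps.fwd (nat_lit 1536) (Steps.fwd (nat_lit 1024) (Steps.bwd (nat_lit 1) (Steps.fwd (nat_lit 2048) Steps.nil)))))))) (nat_lit 40) (nat_lit 2),
  Rule.mk (nat_lit 1) (nat_lit 79) (Steps.bwd (nat_lit 3) (Steps.fwd (nat_lit 512) (Steps.bwd (nat_lit 4) (Steps.bwd (nat_lit 3) (Steps.bwd (nat_lit 1) (Steps.bwd (nat_lit 3) (Steps.fwd (nat_lit 2048) (Steps.fwd (nat_lit 1536) Steps.nil)))))))) (nat_lit 42) (nat_lit 7),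
  Rule.mk (nat_lit 4) (nat_lit 34) (Steps.bwd (nat_lit 1) (Steps.fwd (nat_lit 2048) (Steps.fwd (nat_lit 512) Steps.nil))) (nat_lit 38) (nat_lit 1),
  Rule.mk (nat_lit 3) (nat_lit 79) (Steps.bwd (nat_lit 1) (Steps.bwd (nat_lit 3) (Steps.bwd (nat_lit 1) (Steps.bwd (nat_lit 4) (Steps.bwd (nat_lit 3) (Steps.bwd (nat_lit 1) (Steps.fwd (nat_lit 1536) (Steps.fwd (nat_lit 2048) Steps.nil)))))))) (nat_lit 42) (nat_lit 6),
  Rule.mk (nat_lit 2) (nat_lit 79) (Steps.bwd (nat_lit 1) (Steps.fwd (nat_lit 2048) (Steps.fwd (nat_lit 1024) (Steps.bwd (nat_lit 4) (Steps.fwd (nat_lit 512) (Steps.fwd (nat_lit 1536) (Steps.fwd (nat_lit 1024) (Steps.bwd (nat_lit 3) Steps.nil)))))))) (nat_lit 40) (nat_lit 8),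
  Rule.mk (nat_lit 3) (nat_lit 70) (Steps.bwd (nat_lit 1) (Steps.bwd (nat_lit 3) (Steps.fwd (nat_lit 512) (Steps.fwd (nat_lit 1536) (Steps.bwd (nat_lit 1) (Steps.bwd (nat_lit 3) (Steps.fwd (nat_lit 512) Steps.nil))))))) (nat_lit 10) (nat_lit 0),
  Rule.mk (nat_lit 5) (nat_lit 79) (Steps.bwd (nat_lit 3) (Steps.bwd (nat_lit 1) (Steps.bwd (nat_lit 3) (Steps.fwd (nat_lit 3072) (Steps.fwd (nat_lit 1024) (Steps.bwd (nat_lit 1) (Steps.fwd (nat_lit 1024) (Steps.fwd (nat_lit 1536) Steps.nil)))))))) (nat_lit 18) (nat_lit 4),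
  Rule.mk (nat_lit 2) (nat_lit 106) (Steps.bwd (nat_lit 1) (Steps.bwd (nat_lit 3) (Steps.fwd (nat_lit 512) (Steps.fwd (nat_lit 1024) (Steps.fwd (nat_lit 1536) (Steps.bwd (nat_lit 1) (Steps.fwd (nat_lit 1024) (Steps.bwd (nat_lit 3) (Steps.fwd (nat_lit 512) (Steps.fwd (nat_lit 1024) (Steps.bwd (nat_lit 3) Steps.nil))))))))))) (nat_lit 14) (nat_lit 10),
  Rule.mk (nat_lit 6) (nat_lit 106) (Steps.fwd (nat_lit 1024) (Steps.bwd (nat_lit 3) (Steps.fwd (nat_lit 512) (Steps.fwd (nat_lit 1024) (Steps.bwd (nat_lit 3) (Steps.bwd (nat_lit 1) (Steps.fwd (nat_lit 1024) (Steps.bwd (nat_lit 3) (Steps.fwd (nat_lit 3072) (Steps.fwd (nat_lit 1024) (Steps.fwd (nat_lit 1536) Steps.nil))))))))))) (nat_lit 20) (nat_lit 10),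
  Rule.mk (nat_lit 6) (nat_lit 79) (Steps.fwd (nat_lit 1536) (Steps.fwd (nat_lit 512) (Steps.bwd (nat_lit 3) (Steps.bwd (nat_lit 6) (Steps.fwd (nat_lit 1536) (Steps.fwd (nat_lit 1024) (Steps.fwd (nat_lit 512) (Steps.fwd (nat_lit 1024) Steps.nil)))))))) (nat_lit 19) (nat_lit 2),
  Rule.mk (nat_lit 3) (nat_lit 106) (Steps.bwd (nat_lit 6) (Steps.fwd (nat_lit 1024) (Steps.fwd (nat_lit 1536) (Steps.bwd (nat_lit 1) (Steps.fwd (nat_lit 1024) (Steps.fwd (nat_lit 1536) (Steps.fwd (nat_lit 512) (Steps.fwd (nat_lit 1024) (Steps.bwd (nat_lit 3) (Steps.fwd (nat_lit 3072) (Steps.fwd (nat_lit 1024) Steps.nil))))))))))) (nat_lit 20) (nat_lit 9),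
  Rule.mk (nat_lit 3) (nat_lit 52) (Steps.bwd (nat_lit 4) (Steps.bwd (nat_lit 3) (Steps.bwd (nat_lit 4) (Steps.fwd (nat_lit 1536) (Steps.fwd (nat_lit 2048) Steps.nil))))) (nat_lit 36) (nat_lit 1),
  Rule.mk (nat_lit 4) (nat_lit 34) (Steps.bwd (nat_lit 1) (Steps.bwd (nat_lit 4) (Steps.fwd (nat_lit 512) Steps.nil))) (nat_lit 38) (nat_lit 1),
  Rule.mk (nat_lit 3) (nat_lit 70) (Steps.bwd (nat_lit 1) (Steps.fwd (nat_lit 1536) (Steps.fwd (nat_lit 512) (Steps.fwd (nat_lit 1536) (Steps.fwd (nat_lit 512) (Steps.fwd (nat_lit 1536) (Steps.fwd (nat_lit 512) Steps.nil))))))) (nat_lit 10) (nat_lit 0),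
  Rule.mk (nat_lit 2) (nat_lit 79) (Steps.bwd (nat_lit 1) (Steps.bwd (nat_lit 4) (Steps.fwd (nat_lit 1024) (Steps.fwd (nat_lit 2048) (Steps.fwd (nat_lit 512) (Steps.fwd (nat_lit 1536) (Steps.fwd (nat_lit 1024) (Steps.bwd (nat_lit 3) Steps.nil)))))))) (nat_lit 40) (nat_lit 8),
  Rule.mk (nat_lit 1) (nat_lit 79) (Steps.fwd (nat_lit 1024) (Steps.fwd (nat_lit 1536) (Steps.fwd (nat_lit 3072) (Steps.fwd (nat_lit 1536) (Steps.fwd (nat_lit 512) (Steps.fwd (nat_lit 1536) (Steps.bwd (nat_lit 5) (Steps.fwd (nat_lit 1024) Steps.nil)))))))) (nat_lit 18) (nat_lit 1),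
  Rule.mk (nat_lit 3) (nat_lit 79) (Steps.bwd (nat_lit 6) (Steps.bwd (nat_lit 3) (Steps.fwd (nat_lit 1024) (Steps.bwd (nat_lit 1) (Steps.fwd (nat_lit 1024) (Steps.bwd (nat_lit 6) (Steps.bwd (nat_lit 3) (Steps.fwd (nat_lit 512) Steps.nil)))))))) (nat_lit 19) (nat_lit 5),
  Rule.mk (nat_lit 3) (nat_lit 106) (Steps.bwd (nat_lit 6) (Steps.fwd (nat_lit 1024) (Steps.bwd (nat_lit 3) (Steps.bwd (nat_lit 1) (Steps.fwd (nat_lit 1024) (Steps.bwd (nat_lit 3) (Steps.fwd (nat_lit 512) (Steps.fwd (nat_lit 1024) (Steps.fwd (nat_lit 1536) (Steps.bwd (nat_lit 5) (Steps.fwd (nat_lit 1024) Steps.nil))))))))))) (nat_lit 20) (nat_lit 9),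
  Rule.mk (nat_lit 4) (nat_lit 88) (Steps.bwd (nat_lit 5) (Steps.bwd (nat_lit 4) (Steps.bwd (nat_lit 5) (Steps.bwd (nat_lit 4) (Steps.bwd (nat_lit 5) (Steps.fwd (nat_lit 2048) (Steps.bwd (nat_lit 5) (Steps.fwd (nat_lit 2048) (Steps.bwd (nat_lit 5) Steps.nil))))))))) (nat_lit 50) (nat_lit 1),
  Rule.mk (nat_lit 3) (nat_lit 106) (Steps.bwd (nat_lit 6) (Steps.fwd (nat_lit 1024) (Steps.fwd (nat_lit 1536) (Steps.fwd (nat_lit 512) (Steps.fwd (nat_lit 1024) (Steps.fwd (nat_lit 1536) (Steps.fwd (nat_lit 512) (Steps.fwd (nat_lit 1024) (Steps.fwd (nat_lit 1536) (Steps.bwd (nat_lit 5) (Steps.fwd (nat_lit 1024) Steps.nil))))))))))) (nat_lit 20) (nat_lit 9),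
  Rule.mk (nat_lit 3) (nat_lit 79) (Steps.bwd (nat_lit 1) (Steps.fwd (nat_lit 1536) (Steps.fwd (nat_lit 2560) (Steps.bwd (nat_lit 3) (Steps.fwd (nat_lit 1024) (Steps.bwd (nat_lit 1) (Steps.fwd (nat_lit 1024) (Steps.bwd (nat_lit 6) Steps.nil)))))))) (nat_lit 19) (nat_lit 3),
  Rule.mk (nat_lit 2) (nat_lit 79) (Steps.fwd (nat_lit 1536) (Steps.fwd (nat_lit 3072) (Steps.bwd (nat_lit 3) (Steps.bwd (nat_lit 1) (Steps.bwd (nat_lit 3) (Steps.fwd (nat_lit 3072) (Steps.fwd (nat_lit 1024) (Steps.fwd (nat_lit 512) Steps.nil)))))))) (nat_lit 18) (nat_lit 2),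
  Rule.mk (nat_lit 1) (nat_lit 79) (Steps.fwd (nat_lit 1024) (Steps.fwd (nat_lit 2560) (Steps.bwd (nat_lit 3) (Steps.fwd (nat_lit 512) (Steps.fwd (nat_lit 1536) (Steps.bwd (nat_lit 6) (Steps.fwd (nat_lit 1536) (Steps.fwd (nat_lit 1024) Steps.nil)))))))) (nat_lit 19) (nat_lit 0),
  Rule.mk (nat_lit 6) (nat_lit 79) (Steps.bwd (nat_lit 3) (Steps.fwd (nat_lit 1024) (Steps.fwd (nat_lit 512) (Steps.fwd (nat_lit 1024) (Steps.fwd (nat_lit 2560) (Steps.bwd (nat_lit 3) (Steps.bwd (nat_lit 1) (Steps.fwd (nat_lit 1536) Steps.nil)))))))) (nat_lit 19) (nat_lit 6),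
  Rule.mk (nat_lit 3) (nat_lit 106) (Steps.bwd (nat_lit 1) (Steps.fwd (nat_lit 1024) (Steps.bwd (nat_lit 3) (Steps.bwd (nat_lit 1) (Steps.fwd (nat_lit 1024) (Steps.fwd (nat_lit 1536) (Steps.bwd (nat_lit 5) (Steps.fwd (nat_lit 1024) (Steps.fwd (nat_lit 1536) (Steps.bwd (nat_lit 6) (Steps.fwd (nat_lit 1024) Steps.nil))))))))))) (nat_lit 20) (nat_lit 0),
  Rule.mk (nat_lit 2) (nat_lit 106) (Steps.bwd (nat_lit 1) (Steps.bwd (nat_lit 3) (Steps.fwd (nat_lit 1024) (Steps.bwd (nat_lit 1) (Steps.fwd (nat_lit 1536) (Steps.fwd (nat_lit 1024) (Steps.bwd (nat_lit 5) (Steps.fwd (nat_lit 1536) (Steps.fwd (nat_lit 1024) (Steps.bwd (nat_lit 6) (Steps.bwd (nat_lit 3) Steps.nil))))))))))) (nat_lit 21) (nat_lit 8),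
  Rule.mk (nat_lit 6) (nat_lit 79) (Steps.fwd (nat_lit 1536) (Steps.fwd (nat_lit 512) (Steps.fwd (nat_lit 1536) (Steps.bwd (nat_lit 6) (Steps.bwd (nat_lit 3) (Steps.fwd (nat_lit 1024) (Steps.fwd (nat_lit 512) (Steps.fwd (nat_lit 1024) Steps.nil)))))))) (nat_lit 19) (nat_lit 2),
  Rule.mk (nat_lit 1) (nat_lit 79) (Steps.bwd (nat_lit 3) (Steps.bwd (nat_lit 5) (Steps.fwd (nat_lit 1024) (Steps.bwd (nat_lit 1) (Steps.fwd (nat_lit 1024) (Steps.bwd (nat_lit 3) (Steps.fwd (nat_lit 3072) (Steps.fwd (nat_lit 1536) Steps.nil)))))))) (nat_lit 18) (nat_lit 6),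
  Rule.mk (nat_lit 2) (nat_lit 79) (Steps.bwd (nat_lit 3) (Steps.bwd (nat_lit 5) (Steps.bwd (nat_lit 3) (Steps.bwd (nat_lit 1) (Steps.fwd (nat_lit 1536) (Steps.fwd (nat_lit 3072) (Steps.fwd (nat_lit 1024) (Steps.bwd (nat_lit 1) Steps.nil)))))))) (nat_lit 18) (nat_lit 2),
  Rule.mk (nat_lit 1) (nat_lit 106) (Steps.fwd (nat_lit 1024) (Steps.bwd (nat_lit 3) (Steps.fwd (nat_lit 512) (Steps.fwd (nat_lit 1024) (Steps.fwd (nat_lit 1536) (Steps.fwd (nat_lit 512) (Steps.fwd (nat_lit 1024) (Steps.fwd (nat_lit 1536) (Steps.fwd (nat_lit 1024) (Steps.bwd (nat_lit 1) (Steps.bwd (nat_lit 3) Steps.nil))))))))))) (nat_lit 14) (nat_lit 1),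
  Rule.mk (nat_lit 6) (nat_lit 106) (Steps.fwd (nat_lit 1024) (Steps.bwd (nat_lit 3) (Steps.bwd (nat_lit 1) (Steps.fwd (nat_lit 1024) (Steps.bwd (nat_lit 3) (Steps.fwd (nat_lit 512) (Steps.fwd (nat_lit 1024) (Steps.fwd (nat_lit 1536) (Steps.fwd (nat_lit 3072) (Steps.fwd (nat_lit 1024) (Steps.bwd (nat_lit 3) Steps.nil))))))))))) (nat_lit 20) (nat_lit 10)]
noncomputable def R_1 : List (Rule) := [Rule.mk (nat_lit 1) (nat_lit 79) (Steps.fwd (nat_lit 1024) (Steps.bwd (nat_lit 6) (Steps.fwd (nat_lit 1536) (Steps.fwd (nat_lit 512) (Steps.fwd (nat_lit 1536) (Steps.fwd (nat_lit 2560) (Steps.fwd (nat_lit 1536) (Steps.fwd (nat_lit 1024) Steps.nil)))))))) (nat_lit 19) (nat_lit 0),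
  Rule.mk (nat_lit 5) (nat_lit 79) (Steps.bwd (nat_lit 3) (Steps.fwd (nat_lit 512) (Steps.bwd (nat_lit 3) (Steps.bwd (nat_lit 5) (Steps.fwd (nat_lit 1024) (Steps.fwd (nat_lit 512) (Steps.fwd (nat_lit 1024) (Steps.bwd (nat_lit 3) Steps.nil)))))))) (nat_lit 18) (nat_lit 4),
  Rule.mk (nat_lit 6) (nat_lit 79) (Steps.bwd (nat_lit 3) (Steps.fwd (nat_lit 1024) (Steps.fwd (nat_lit 512) (Steps.fwd (nat_lit 1024) (Steps.bwd (nat_lit 6) (Steps.bwd (nat_lit 3) (Steps.bwd (nat_lit 1) (Steps.bwd (nat_lit 3) Steps.nil)))))))) (nat_lit 19) (nat_lit 6),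
  Rule.mk (nat_lit 4) (nat_lit 79) (Steps.bwd (nat_lit 3) (Steps.fwd (nat_lit 512) (Steps.bwd (nat_lit 3) (Steps.fwd (nat_lit 512) (Steps.bwd (nat_lit 4) (Steps.fwd (nat_lit 1536) (Steps.bwd (nat_lit 1) (Steps.fwd (nat_lit 1536) Steps.nil)))))))) (nat_lit 42) (nat_lit 5),
  Rule.mk (nat_lit 0) (nat_lit 97) (Steps.bwd (nat_lit 6) (Steps.fwd (nat_lit 2048) (Steps.fwd (nat_lit 2560) (Steps.fwd (nat_lit 2048) (Steps.bwd (nat_lit 6) (Steps.bwd (nat_lit 4) (Steps.fwd (nat_lit 2560) (Steps.fwd (nat_lit 2048) (Steps.fwd (nat_lit 2560) (Steps.fwd (nat_lit 2048) Steps.nil)))))))))) (nat_lit 51) (nat_lit 0),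
  Rule.mk (nat_lit 0) (nat_lit 34) (Steps.fwd (nat_lit 512) (Steps.fwd (nat_lit 0) (Steps.fwd (nat_lit 512) Steps.nil))) (nat_lit 54) (nat_lit 0),
  Rule.mk (nat_lit 0) (nat_lit 34) (Steps.bwd (nat_lit 3) (Steps.fwd (nat_lit 0) (Steps.fwd (nat_lit 1536) Steps.nil))) (nat_lit 54) (nat_lit 0),
  Rule.mk (nat_lit 0) (nat_lit 34) (Steps.bwd (nat_lit 1) (Steps.fwd (nat_lit 0) (Steps.fwd (nat_lit 512) Steps.nil))) (nat_lit 54) (nat_lit 0),
  Rule.mk (nat_lit 0) (nat_lit 34) (Steps.fwd (nat_lit 3072) (Steps.bwd (nat_lit 0) (Steps.bwd (nat_lit 6) Steps.nil))) (nat_lit 54) (nat_lit 0),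
  Rule.mk (nat_lit 0) (nat_lit 34) (Steps.bwd (nat_lit 6) (Steps.bwd (nat_lit 0) (Steps.fwd (nat_lit 3072) Steps.nil))) (nat_lit 54) (nat_lit 0),
  Rule.mk (nat_lit 0) (nat_lit 34) (Steps.fwd (nat_lit 2560) (Steps.fwd (nat_lit 0) (Steps.bwd (nat_lit 5) Steps.nil))) (nat_lit 54) (nat_lit 0),
  Rule.mk (nat_lit 6) (nat_lit 25) (Steps.bwd (nat_lit 0) (Steps.fwd (nat_lit 3072) Steps.nil)) (nat_lit 54) (nat_lit 0),
  Rule.mk (nat_lit 5) (nat_lit 25) (Steps.bwd (nat_lit 0) (Steps.bwd (nat_lit 6) Steps.nil)) (nat_lit 54) (nat_lit 0),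
  Rule.mk (nat_lit 4) (nat_lit 25) (Steps.bwd (nat_lit 0) (Steps.fwd (nat_lit 2048) Steps.nil)) (nat_lit 54) (nat_lit 0),
  Rule.mk (nat_lit 6) (nat_lit 25) (Steps.bwd (nat_lit 0) (Steps.bwd (nat_lit 5) Steps.nil)) (nat_lit 54) (nat_lit 0),
  Rule.mk (nat_lit 0) (nat_lit 223) (Steps.fwd (nat_lit 2048) (Steps.bwd (nat_lit 3) (Steps.fwd (nat_lit 3072) (Steps.bwd (nat_lit 4) (Steps.bwd (nat_lit 3) (Steps.bwd (nat_lit 5) (Steps.fwd (nat_lit 2048) (Steps.bwd (nat_lit 3) (Steps.fwd (nat_lit 3072) (Steps.bwd (nat_lit 4) (Steps.fwd (nat_lit 1536) (Steps.bwd (nat_lit 5) (Steps.fwd (nat_lit 2048) (Steps.bwd (nat_lit 3) (Steps.fwd (nat_lit 3072) (Steps.fwd (nat_lit 2048) (Steps.fwd (nat_lit 1536) (Steps.bwd (nat_lit 5) (Steps.bwd (nat_lit 4) (Steps.bwd (nat_lit 3) (Steps.bwd (nat_lit 5) (Steps.fwd (nat_lit 2048) (Steps.fwd (nat_lit 1536) (Steps.fwd (nat_lit 3072) Steps.nil)))))))))))))))))))))))) (nat_lit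 52) (nat_lit 2),
  Rule.mk (nat_lit 0) (nat_lit 34) (Steps.fwd (nat_lit 1536) (Steps.fwd (nat_lit 0) (Steps.fwd (nat_lit 1536) Steps.nil))) (nat_lit 54) (nat_lit 0),
  Rule.mk (nat_lit 0) (nat_lit 34) (Steps.fwd (nat_lit 3072) (Steps.bwd (nat_lit 0) (Steps.fwd (nat_lit 2560) Steps.nil))) (nat_lit 54) (nat_lit 0),
  Rule.mk (nat_lit 0) (nat_lit 34) (Steps.fwd (nat_lit 3072) (Steps.fwd (nat_lit 0) (Steps.fwd (nat_lit 2560) Steps.nil))) (nat_lit 54) (nat_lit 0),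
  Rule.mk (nat_lit 0) (nat_lit 34) (Steps.fwd (nat_lit 2560) (Steps.bwd (nat_lit 0) (Steps.fwd (nat_lit 3072) Steps.nil))) (nat_lit 54) (nat_lit 0),
  Rule.mk (nat_lit 0) (nat_lit 34) (Steps.fwd (nat_lit 2048) (Steps.fwd (nat_lit 0) (Steps.bwd (nat_lit 4) Steps.nil))) (nat_lit 54) (nat_lit 0),
  Rule.mk (nat_lit 0) (nat_lit 43) (Steps.fwd (nat_lit 1536) (Steps.fwd (nat_lit 0) (Steps.bwd (nat_lit 3) (Steps.fwd (nat_lit 0) Steps.nil)))) (nat_lit 54) (nat_lit 0),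
  Rule.mk (nat_lit 0) (nat_lit 43) (Steps.bwd (nat_lit 0) (Steps.fwd (nat_lit 2048) (Steps.fwd (nat_lit 0) (Steps.bwd (nat_lit 4) Steps.nil)))) (nat_lit 54) (nat_lit 0),
  Rule.mk (nat_lit 0) (nat_lit 25) (Steps.fwd (nat_lit 0) (Steps.fwd (nat_lit 0) Steps.nil)) (nat_lit 54) (nat_lit 0),
  Rule.mk (nat_lit 0) (nat_lit 34) (Steps.fwd (nat_lit 1536) (Steps.fwd (nat_lit 0) (Steps.bwd (nat_lit 3) Steps.nil))) (nat_lit 54) (nat_lit 0),
  Rule.mk (nat_lit 0) (nat_lit 34) (Steps.bwd (nat_lit 5) (Steps.fwd (nat_lit 0) (Steps.fwd (nat_lit 2560) Steps.nil))) (nat_lit 54) (nat_lit 0),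
  Rule.mk (nat_lit 0) (nat_lit 34) (Steps.bwd (nat_lit 4) (Steps.bwd (nat_lit 0) (Steps.bwd (nat_lit 4) Steps.nil))) (nat_lit 54) (nat_lit 0),
  Rule.mk (nat_lit 4) (nat_lit 25) (Steps.bwd (nat_lit 0) (Steps.bwd (nat_lit 4) Steps.nil)) (nat_lit 54) (nat_lit 0)]
noncomputable def R : List (List (Rule)) := [R_0, R_1]
def LW : List Word := [[], [0], [2], [4], [10], [6], [7], [0], [1], [2], [3], [4], [5], [10], [11]]
def par : Par := ⟨9, 4, 13, 22, 511, 8191, 4194303⟩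
theorem hpar : par.ok := by decide
theorem hR0_0 : lall (R) (fun l => lall l (ruleOK relsA LW par)) = true := by decide +kernel
theorem hR0 : lall (R) (fun l => lall l (ruleOK relsA LW par)) = true := hR0_0
theorem hR : RulesOK relsA LW par R := rulesOK_of rfl hR0
def cols : List (ℕ × ℕ) := [(512, 1), (1024, 2), (1536, 3), (2048, 4), (2560, 6)]
theorem hcols : lall cols (colOK relsA LW par) = true := by decide +kernel
noncomputable def JS0 : List ℕ := [nat_lit 0x24e0a92c90020196228088a048a44040123830960f0703c8854860e2181000048a032211c8a04284202908080c820800060391812462290499040242058301a44201220014184403820880b05104004400400502c86060390c08031f901f824881222024103f1e3e041040841040f870f4820d208f458f4023d023d1e021e0147804783e02818123d018f068ec043c048f004031d8c1d0f0063c1d0b1d00c120204808063a143a010e448e402050201408011c881c804380400180838008006e380080800140002028180e061c0d820000204028180805030100a010635008d408d4680868021a01,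
  nat_lit 0x2100796812082d86430572b292b0582e180a958aa00500d2c018b2162a95139502a61169842a142a0f0003400540181406544c5b3205c305703950a6940401292429014aa192a8140c5218522b068aa5116522d9803e612b018a28ca0052a87caa050214079401a58099601a0e280c2804c2e160c85826503a500913c493c2212078401e1127a227854345b0f96c2a4f404f0a1384938261408848221327222705838580b9602c4e384e0a935093428132a870aa1426a0268109a5c004c3e4d2b164b828131609c4c3c4b02060a20f288109674960325092500808030300c044a384e008080c530d868326c0203030289c120602cd000040503934164c3201021281a0e069348e608c152317,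
  nat_lit 0x6800820120800824d03c32720b0381a000419dc830146b0099c046903b833008ce17149d810006e07111d03e2001800cad802020f878e6741409c2a1432b53204cc85cc80232013218c1018f04643a250c313b98da1884e62026201188b988c27c020205024cc0d0f07cd81930b330060c05cc00130013017c117c445f02010488c4a26139a4bec8165e3e0000834c4631081c10c4ba0d2e8105170100038002e174165d2e300d030c0610a008b6bcba5b2d2e2d1700a070b01cb85a3861111a0b8595a183317c1c0c2f048260501965616004582e012c010b2182e828b8acb81a0b960065701044205b052a,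
  nat_lit 0x5e0148d21800057451e99512a9509d1f25542a3549ad4c604d800849e2c96d34041500a8048093110049e2301ce4080e68640730220306c91300d052c42033eca410082b2480013d48150042f1c58010ac742000f5190830479591c2d1400800018a72011dc2e103b808e5102274050301a01011c61890803f1f1e4ea003842059d0f03042214e000826f1c1bcba0c601506830e60e08000de01806e008180a043783016720683df8000a6f111ec3e7836be0180056381c8e8ee6c7a013604012000e8e054ac36780f07cd80135821e0000403361bc1408368180e6a7600009ac186e03820d806069a5d1a45a692e01341f,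
  nat_lit 0x5b00ee2c807716003b8b201dc55815656d5607575b5b01ca11cd00051510001ac190020eb4b100286c80009614c042680eb80092034fd65280c935412034ad41b809214c080219ca]
theorem S0_c : blocks (facts 9 4 13 22 511 8191 4194303 9 511 7 127 A R 32) 32 JS0 308 = true := by decide +kernel
theorem S0 : On (Step.{u} relsA LW par A) 308 468 :=
  steps_of_blocks hpar hR S0_c (by decide +kernel)
theorem D0_c : allB (defOK 9 13 22 511 4194303 305 A K) 1 2 = true := by decide +kernel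
theorem D0 : On (fun r => defOK par.W par.WL par.E par.mW par.mE 305 A K r = true) 256 384 :=
  On.of_allB D0_c
noncomputable def JW0 : List ℕ := [nat_lit 0x10e079074310b4582065d1442904088fd409016381c419084018d08cfc3f8fb3e0216551044992471994611a4801f6591e44d9a07594488fa6412867d26490f6685984a92c671a36792e4b53c681384e933699a24c13e4c9a85014251146]
theorem W0_c : blocks (rows 9 4 13 22 511 8191 4194303 10 1023 50 A 468 15 cols 25) 25 JW0 0 = true := by decide +kernel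
theorem W0 : On (Row.{u} relsA LW par A 468 15 cols) 0 25 :=
  rows_of_blocks hpar (by decide) hcols W0_c (by decide +kernel)
theorem idx : Idx.{u} relsA [[0], [2], [4], [10], [6]] [[0], [2], [4], [10]] 15 :=
  idx_of_cert hpar hR (K := K) (by decide +kernel) (T := 305) (T' := 384) (by decide) D0
    (subs := [1,2,3,4]) (by decide +kernel) (T1 := 308) (by decide) (N := 468) S0
    (by decide) (n' := 25) (by decide) W0 (by decide +kernel) (by decide +kernel)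
end T2
theorem b2 : Bound.{u} relsA [[0], [2], [4], [10], [6]] 5760 := .of_idx T2.idx b1 (by decide)
namespace T3
noncomputable def A_0 : List (ℕ) := [nat_lit 0x5a0758eb3d0aa96721562cd3a3f5988596b2d0aa5650564ac942b45907566b1c6b196319602c52ac0588855cb0ccb0961211e2c11ac05807476afc4af55f055babd32b75781570aec2ae55d15552b91ab0570356eadcc8fd5b0d592b50ab15686562accaab1590958ab132a9560555aabcc8f1570956aad2a3b5582552aac4aa9551151aa922a7550747aa9c4a99530d1eaa5423e548347ca8c68e1511942aa112a05401518a7c4a354f154da9d429c5388536a6c2a0d4d2145a99128c530752ea5c2a594b0c29a95428d5281510a4c6971490547a913a8e520151ca3caa2d47094228d3280518348ea2d0a0d4521402893a81510850aa1c6979430d3e2851a5b5085500a0c4a01410d30a81184350030769fc60813f052727d28294f864ea9ec49e93d213c2790a4f4f064ee9dcc1513b09392751a704e834de9ccc919390d38a713a6e4e024da9bd09b937052c26d32634d854ca9aca92d3519332692a4c4d030cc99cc92d330c19265283b4c810ec98c6989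311826261304b4c0307a1e441e03c0c3d84c0a5d09614bc97ca9592f192ba5d2a584b860ec96ca9552d183ba593a544b0708e121008c3ba01ca57304708e74ac958a08d2aa12a25428764a610c6948a0c5289926a50286549e849c938c0c5268c310763839498849692d010831a01804438431148484224a10c311c18043083e49460cc925090433981a066383206680680d10058169c1624842440a420f61f0a0fc3d9c1ea47405007c703a918e13d22843206410650ca8062150413c279c1483f401d0a020a614ce91028941602c3813488505490cc075211818030302007a2054904a05819101502a281308410520c460e4158c0e829181306e40300bc80542e101d07a203c0d4406a1d480e020100f045202109a404e0d8805c17100a049202409c4050118808820900f84a202548040248fc80391f100e23d2009478401a8ec80651d211ca39423847040100ec806c1c900d023200f04c4020058801c10100601d200b026400c050205c0a840c01e401f03e801608860600c1804817380707410780e0e0681aa01e028183c0786038084609c139c08024281104a801e04860700e0808811380501a801c039001004a0018191808010700602cc030061802237081001e6020068a0280d8808010300500e500c018a00c050c020051803008400400c80040120000013800,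
  nat_lit 0x42e329a5350538a704b19a710d934c13f479846bc6420cd8d9199b33683386702764d7989ea0b120f420741e8b50649078503194319632a24327b068650c9cc913318c118211ec4a023f0c918b716e095115882de5bd05c0cb20cba2c0a1d32e24348682870ea88eb17019d63ac13dc308c15c7694760ec090613420b03186668cd20ea1d4193726e811c4d82480a5886394c18c718e80b016021b447184788f088027021a487ca8750e94aa151315243852a680cc7ad01148c918310115672da178e3586b14308d511a4348819c339068cd18cb6162191c2c662ca298a134538c809ea19fb3f683f859467f0b20d0f21e39523d662344044548a9184f10f290e3f862227a50438fd0caa90e287a0e2506e250e5046904922d909aa41463c07a0a48892187b91b28bf40863ba814a644ef207b1df18f80e4606e40ce408810cee9dd38f63c0624a3dc43d87b185f86d286c1f060dc3e4a3d47a943786c40f41e850dc400a1d07f8d6c2d842d75ae32ac4e844e49c98482123a1134261986a848450898a4941293f280612a4f904fcb608b696d095927e812624ca118d889138f141da1e073b2764e760ed8d119ae38fc33a833c5ac45c4e984798fa186e2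7631203cc63f475a0b897108f20d620e03f0e79064943819e31e43b051e47684790f2187e8f210fd1fa80e04f444d09a9c9a16a38aa154121a59907e5179911a2739a544433de81ce818b08cfc9f9410d446240c818e478d814b00d8311e34a521a55c44788f185290d10a52c012684d0e234528446870183711a308a2486118f718f81dc290720a620c200a1008e189011d288324281027bcc41c831cf8081304024023e07c0c4204a844386e38360de10b61d0e1cc399c1b8c311930c080c22a102a454a02689d389c1a212224444440881c3d0d010610c2805e16d00b84e0ca799340c029e12a6258624462202b85a18cc1227120240e114771c350ef090815a815c2b901389394441263129252710c564e560ab204f8a2108721080ea209020c9120928cc385d29472924686494c8a05f953190720e70ea20c6220439c20954111923270fe524434c69a02e925115a2b4717e22101049508ac15838a02aa5142284e12850144f886304110a213e27ca1285f842b85710c018030b821021742e8c1789918490fe308027861296b2167ad52ad45a88570b4c6b49691d58ad142b3,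
  nat_lit 0x6c04332d7c831daf107cb5d21f06b84282d6c8369ad108035921d96b04338d5c880dab1093b5521406a8434cd4c87e9a91113b5122176a04342d3c87a1a7109334d213e6984432d2c868da510fdb49212969042dad1c8825a310edb4521eb6884348d0c87f1a110acb412170680434ecfc87a59f10d8b3d21e7678432ecec88159d10ab17620c42b8415c5108288da907998821d317040c239481d0e390c8942209534041987b484888210398db2060364427678483e8959043a2e219339441de7c884211990fca1b216b2a0413a59c82a51090aa18521192be41505208270e1909a181216022e41044c88240de90a49ab20d3278412248c820cf2907e9a2213d19a40b63ec81bcf1109297920c33ae41dc7c4841cdb907918b217117c40b43a881b8e710ad12d209637642946108468fb10889a920d1382426a5f88584899044339213f6704420cdc881d9b10ef335219566841acccc840d991095331216c6604450cbc88899710efb2d20d56584204cac85619510b7b2920d965041fec9c86759310cfb25221a6484438c8c8554b91056a18214f44042a67248440d4106822b216a44842cc56c8285911049b21208e6404102c7c84198f107631d20ab6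384140c6c82198d19853192b0c630561cc5ccc418b19893152b146285626c4c4c49891988b110b10620661ec3c4c39871586b0d0b0c6185616c2c4c29851984b090b07610660ec1ccc19831087b05330360840e4c0c827d811151301228d60065febfc89c57f11392fd226a5f844dcbec89217d1033af9204c5f04528bdc81497b1031af5225a5e840f2bcc8a3d79103e2f120625e04096bbc8a4577103daed20895d8408ebac89bd751123ae920345d0405ab9c8a2d73103bae520765c8407cb8c810d71103208c20441be40ca2d0815052113109820481c245122c88a283f101f8e7208a0d245421588a545d11398dd226b21444b243089b45810282e1224a5c0452eb7c8a596f10298e0206621244b842c81e05991430de228711644d01f489f058902886820331c444982bc813c51913089722571b8453a2d48a682a90162dd22425b84486b6c89116d11209ad119845264546b046650414b8a09319c23e22d035043151405111984199332818a31423dcb414550cf19690be10e235d067c651c2c85938cb2d2745467d06bcf384d8a2a119b1b4319632c23d47f20f309b414d,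
  nat_lit 0x840683107ca2ca0f1a0bc1d2bf6838682b06ca1fa0d220b41930b2830882f05c67120b19fb4151bcd828730504ce45e092098c1141bd820781303ce57e072205c0d41c3818281702d0522050a04c093985810721301c4faa031c34c050bd93fc24190110452019c45c0239ba802816700107dcfba085bff0beb7fc71305786f8cc31dfebfd38b440272f88384801fe1c593fb0bf77f47118fe4efe1fc1c6fbf718e6400822afd84fd5faa0593f440b12fa37ba83105edf99ce01f543e97e47218fc46629f81c723ef43dc7dc82fefb4efb1f61c70beb19453c682247f447fcffa0be1831be17d4179645024b89720459ba21be37c737a4c424588b208b98221c038071c07cc6fa5f4a0853e841b837081baf9c6f25f31c2b3e519cc7c8716cf8d0f81f120ba3e113e07c08260f7c4f79ef1cc03dd13dc7b8816ef6c4f69ed1cbbbd93bd57b072eaf5d0389eb20730e6406838c439ef546641ea0caebd30bd22ba22ea5d4e2bcfc08bd17a397939e21d23a503a85e88c618c398b28a77a4f48e25de89cda1b438dc7a0779ef3cef10c3a1e4bce3bc579a728ef310f0c5c9de3bcb13ca7947174634e624e91cbc190418a31e81786384628c520b99cc11893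127176f2502d4e208a39473bc6790578ef1ce155e315e1bc530b57882786f0ca1545d8c2b115117b2f612f82f084488908be17c20b72e6416c5e062d4980c8597418b42ee3160390628c5b8c3e97f18b230031742d86155e105e0bc11b0278035faefc6b75df0d6d3bd210177841a8eec8649dd10a93b920d27704270edc8461db10923b520c276842dcecc8545d9108dbb120f7760418aebc8305d7107b3ad20597584136eac8299d510873a920cf75040bee9c81c5d310363a520d77484190e8c83c1d11064ba1216974041fce7c8361cf10d2b9d20f1738423ee6c85a1cd10abb9920fc7304250e5c84cdcb108f39521d67284196e4c83d5c910cf39121af7204458e3c8875c710f738d21d571843cce2c8659c5110238921dc7104272e1c8329c3107a38521d87084422e0c8809c1108e381213a700429cdfc858dbf1117b7d21aa6f84414dec8475bd1105b79221f6f0445addc8531bb10b2b7521216e84334dcc8821b910ed37121ea6e04358dbc852db710b236d21ef6d8426cdac883db5110336921dd6d04328d9c8319b3107c36521206c843a8d8c88a5b11111b6121e0,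
  nat_lit 0xa0029ff3fd13a67f0a7b4fd14f59f869f33ecf39e7d0a7ccf9439a9f0873b3dc73367b0e7acf53cd69e819af3cc33867916334f134ed9e0595d3bc536677226c4ed1c9f9d857413ac3396750a74ce90ce79d039cf39cce6a730d864e514e49c819bd38c6e5a710d8bce12b979c029bf37cce626f0d894dd1b0e9b868c536c72866d0a5acd93cd89b0362735cce7a6b0a6acd52c609a879a734c534a690e47cd10ccf9a0598d33cd2d2671662ccd34b0998598f32cd2da652263cc944c5990362d31d13126315d14c514c4988596130cb2ee610a604c144bf980596f2fc72665f0e3c4bd3ba1978196f2ec32ea5d0a5ccb93ba0970296f2dd0e7a5b065acb543a496889632ccee96590658cb143a2960395f2bd12ba5722334ad44ac95888cf2ad12aa55218cca93ca8950761729d129a5321864a544a4948861328cd282511d8d4a144a0940861527d127a4f218949d3c9c938762326d126a4d218b4993496930862b25cf25a4b1d89c954494928862924cf1c2492182c91148f92058e923cec1a472239c8d3b0791878eb22cf18645223bc89446391078f321cf196431e3dc85431890878fd20cec3e41223e4813b1790058fb1fcec623f163dc7d430f8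f828f71ecec363d0a3cc793c648f028ef1dd118a3b0a3ac753c608e8860f1cc51ca391d82c712c708e076071bc6ede370636c6d146c8d8374d1ac31a2350634c691bb28d0376719c6e8a330dcf4651b108c8361b18c6e8e310dcfc611b078c036068986fa10b1cdca140a258be78b5178689512a0dfa301c0846c83e917507222e1e2c21541468b6736d1686718e88e181d038e81d023726e426fcfa08df9bf212c36c239116467d62c19098e311bc378139a720a51a2b9628c5631f78aa589f150d00629962545214348a288971406f32279e2544e144d89a78991306f22258a24c4a1c3789237a1120511e2399fd4461c4188a67e1110710e219e20442320e8822881100c7fa1f961b43e340387a58730f0c4ba1d9e1d43a2c03872286f0e110da1b946f4361c3586a88690d06f1219860c1cd31c2864546b0c4d0b218150692c314385e53970b910ae16a0e142c1c18856641a50c4708e118e2a0d39cb46814628d4472ce59c9792f11c538a31c48c508c91920d9a131bd228c31306cc6372151cc642938be85081d309d073a131cbd42539d7848884308d06de110a10c2141f1,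
  nat_lit 0xc002bff7fc9682ff0afe5fd0dfcbf833c37ec9642fd0c91df91981bf02bed7dc7702fb0efadf545c3be882477cc57aaf90af8df11df0be08b8f7bd03eef70c5eded39a2bd87bcd7acf792f522e45e945e8bd08bc779c579af31ef2de515e4bc81bc778c5786f10e12de125e0bc02bbf77c377aef0d15ddd25dbbb88bb776d176aed0e075d90dd7bb07bad75c575aeb1eeadd519caba8337b74c670ee90ed65d115b2ba02b9d73c3736e722cbdcd459bb982b9772c772ae522cb5c9393cb901b8f71d078ae306e2dc538cdb881b8770d0796e10ee0dc13d9cb807b7f6fcf676df0e115bd1db5b787b756ec56eadd1ed0db915b8b708b3d6dd1656db22dadb5459fb683b5f6cc76c2d920b3db13da6b6074376bd16a2d720f95ad3daab58745d6ac56aad51ce55a915a8b50846769c569ad31ca85a515a4b48844368c368ad11ecd5a10da0b402b3d67c67cacf12c7d9d159cb381b3766c5666cd06ccd991a21b304b2f65c565acb06cad9519b7b28320964c6612c90ce3d9119c9b20325763c65fac70cdad8d195bb183ae162c762ac50ac4d891d88b10577761c7596c316b5d853321b085aff60cd55ac10ac0d810d69b002aff5fcb556bf0abed7d354da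f82af75eccecebd0abcd793552af06aeb5dcb592bb0abad753563ae85ae35cccc76b90ab8d712b1eae06adf5bcd57eb70ab6d6d3320ad82ad75acac8ab51ab4d693562ad05acb59ccc72b30ab2d652b1bac82ac758c6ec6b106ad5611bbcac01abb57c357aaf0d90d5d1b22ab8363756c6c72ad0d8ed591b1eab0363f55c355aab0aaad5524f4aa81aa754c6ea6a906a8d511550aa01a9d53c3536a71281d4d24e0a981a8952d152aa522a4d490cf0a90691151d1516a30e9fd451d44a888a8150c750aa122a0d410d2ea802a7d4fc34ea9f069bd3d2c89a7829b74ec34da9d0a9c5390d28a701a534dcd1da9b0a8f535150da6889c94cc74be991a3c5311c7ea6039fd4bcb44a970a96d2d1cffa583a574ad138a950e3fd2934eea5029e149cb492930e845251d10a487a4748c3382910e5ed21151ba4089e747c54728f066cd1d0d1ca38772d46c71c68d1a5bd192cbfa30697745cb30a8b1a88d153b99a282a2344c337e890e5cd111d06a206a1f43d0e628721ce50d0ceda1889fd42c72ce851e80d090d08a1069f941cb3ea83167c5053d04a08362940c6e9281167550134f6,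
  nat_lit 0xa830a891869192289230293a46056848a150e91432203283140640a810ca0ace150160c27850303f058207e90ce140161429851305305480a290c491009952203d32434842484080c9081e9018030103003a607a0c8a90419081901628320463084108410821102102b083106220620c480c414881582b202b05240520dc40dc17841b85c102f0f410b81e841e8350835075086a08020ea114210022882284d104d092109a0d840d817041b049102e09c209c1282138230823041084609420828fc490120052023f0a3f47a247c8f828f91e851ea3b123c47814788ec28ed1d091d23a0a3a47084748e480451c091ca390a3947014700ec40ec1c841d823103904c104609840980b080b01308160402040074208009880e808301402a202805ca0500a0c0a006401402a7028024c0540c140a815181500c702a07c40780f0c0f00d301e042503c084207805a00f01f181f01c603e088a07c11040f80e282204220440850088061c11007381802e803005c40601a8c0b8082817038607409040e81e141d03a183a0708074068e0e81c0c1c0352838032607009440e01a841c0192835050206a06d00d41420080282825024505009420a013a01401b383c04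e2078031008406941082518250483048044a09c121813824082701e8048094e090091812812081203220240450048029c0901c081c0387032028e070068c08811081101c201a0342034022006809180e01c101c020402404840480840090321032029006404040400b180b018101602c402c02180581b180c018201803c603c08040780f0237034303406c2068030c03007080601e346e068403c02980781b281a014503601c6040038803803280700c200c028202802880500a200a00a100a01480140208020040804006200600c200c010c0100228020022004008200800a0010011801002600200420040014000002000000300000040000004006311e2fc606c5b8bcb847170b16e2d3612c586c538aca5fb150b14e293113c502c4f89cd77f131711e253224c482c4788ca56f110e07e2119bec408c3387c57a70f230561d198cc383bd986d18570d0ee4e190e18c308c2d85c385b0b0b0ae150e14c282c2784c3827090b08e1118dbc202c1f83c383b070b06e0d0e0bc182c1782c97530507046091608c104bbf81c68930312cfe051604c081c0780c66cb010c5c6012600,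
  nat_lit 0x5048514a044a25448d44a8832894fe7512a1c4a2143a1442812a8750c150ea150a1d411943284428650a250aa148a153f9542a840a8550845089f46a10130d41a810a8250085049fd0a053f854027f22804fc50569f8c9d93e893f278427e4fa14cc9ed09f539153ea7c0a684f674f89e049f133853da7b1a7b48c64f69cca9ed22993d2742a7a49a14f49e069e127853c27802794f034f2150c9e1398d3ba763a774e884ee9d449dd29053b26c1a7605654ec9d509cd34853a84f2a754e484ea9c829a928853a26b0a7348a54e89cc49d1391d398292a7204c54e2980c9c5388938a560a714de74e295029c1369d3826c42700f064e09bc49b82599378470a6f4dc64c49b8a13136052aa590a6d4da34dc9b0e9b43c9936a6c126c07654d89ac69ad34a135a6a3a6b4d224d699ca9ad350935042326a4d054d29a1099d2615342671a674ce24d0998e99d3309330422a664ca3054994296c3ca1328783a654ca24ca990c1e131893203b426407674c61dc298c3c9531a62084804c74c498509893089312610a5704c84c2098c9812f8530260126009884c012ce9803c9c3c25a087909830f297021e025882604b404c0a23096975097d2f1d2fa5b125f0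4654be974e9792d092f047325e4ba34b4970497424152ea5a3a5c4b684b8950c9712d212d8392a5b4b264b496069643b992c84712594aa74b2960495024192c2563a580ee30901d841212ba02425710770ec80ee190695c11a12ba4a184748434ac9544959208d2a839325511234a89102904338c33832082a0ce10a41442199280d2803d08300a430f818c21f03e0129862087b4921490928214c450d24a420a4311410a091c2224290d29a5042524a424a4938a949280928864325149e54a093c693c329527a4d124f49a849e18c618d270c1824d3a4e49c249c190a934280c282481a4806830681106110328d25a4c1876498249613c29302121262460a4b11460c6110a18c31083186240630882086228a1101f8422020384411221142250229212044862288908650c4081010d249d25241424a49224940ccc9281a19248672a4906470ce199019c330833833286606620680b020cc0b201982d083405a305a148a0b524181683e102d026705a148c92123892405342480a280a40a8e1483da03e03d387c0a220f8140a1f01f183d83e2a47486848e91460f81f9c1f03f183f,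
  nat_lit 0x947144208442083a0841221882080810464444886604910844122294219834ce3308d04a5099394a23480fe54c44688ca08d15419912b4832254d05504f20a988311070807106464621c441c4389e395429212322650524928469884392514232b44a8c220508844086392a14252b0554c5604fa0aa88610a00945140214c21820984287518bf108217e2fc82fc2b902b82e185713c11803008300208c42084208413220ba17481743f844c899209913c20fe1fc81fc4f104f00d201101c4010064807008811e00802a4038047602480480e01532a4200e01a055203808e00c8155812023d01c055802008fc0481202a822a847e8480aa50ab1200166aac02cc5820596aa90b096111612c002d558405acb588b096a896b2d60ad655485acb2c6b55559d6aaca1ad456e85a6b404b49651d692c91ac95883588b446b45680568ac842d156475a0b386b3d678567acc12ce582859cb306b356605662a942cc5925596b044b2d658565ac712ca5627594b204b25640d642c132c858e1590b04ab1d592163ac60ac5560858cb0c4b19628d62aad42c5588258ab08cb116185622af3ac35804580b004b096105612c10ac15588582b002b015b055fabd1abd56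e157aaf40af95f0d5f23f32bd5705578af0aaad5e0d5e2ba12bc5721574ae80aed5d8d5dab92aba5545572ae04ae555955c2b612b7480556cab46ab5598d59ab10ab4568056aacc2ac95785572ae1aae560155aad06ad559895a2a932b45645566ab0aac9578d58aaf12b04765560ab8cabd1e19572ac0aac54845589006ab1558555aa622ab47e35568ec6aa955055523c1aa95521552a944aa1539d542a70aa7472354e8f4ea9d531d1f2a53aa654c154c8e86a95522151aa40aa45462548a8c2a8d46855126a1aa25428544a884a894a8550aa11aa15105542a80ca1d348d5029e0a9f488353ea58ea7d47194fa521a9e52e753ca784a7948154f29d129c066353aa5caa754d054ea9b429d5383538a70ca6149194e28b0a9c5206536a6c4a6c0b0d4da641a9a52c6534a284a6941a14d29642995165532a48aa614b9949a511a9752a252ca546a5546214aa942a8a5222528a506a51421d4a2910a935242526a410a4d491d49a881a9252075249e86a452f8d4828f1a8f51c751ea184a3d47114727e1a8e506651c90c6a35461d46a84328d5045518a286a2d410945a890a8a,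
  nat_lit 0xde51f23d103d4361c7a8f410f50d820d820061b01b18361dc18f41fe82003fc440039987f9400ad828215ae7646764cf0ccf0ad316c36233628bc68bcb69457093088627e12544a424f89d048e91d19ee27472724e42470a08c9d091293a342327284866a8a515091a11212354734234ca6a8a00d0894041412802282258a5049f18a013f113e12a627c24d04f8b620b6958096c27e32da258c4fc4988499b041b11b07362584c6c50394d890618f11e061e21aca3c47e08789db40f10d661e032443c0ec1c781db29d91e663b267447647994ed9ae11db3b483b648066b87d14d719d31ae3c8735c3e8c67464a0ce9f9096b3a632d65a905ac551cb596a11d32e283a63ace74c9d847d0f310fa0e081f43f4e3e89a889d892413b27a72761ace3cc79207986b20eb15421d61a863ac3584758ad197106c30d63c8e1ac430c7e07028fc19261f86790324ec08cf0fd319e3b453b056067687914ed20719e40e631e44f423f49a8c9e892393d2c2126a234e4d4770cb5166096a21a415413862a8540cb3222316644e52cc584459886a0b31a53a2f44e845e6c048bcfc9917a222a27444844681c4888aba1111612a0723c740e294e584b020b0a2331f92c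023f255ce88c948d031602a06360640c36106c0d2886c0a530d82ae534a280655c8694ab881191e0f4321a440658052a0b0095193411a414a13462944904380922070124211a414e7b8ee20f711c11ee21063dc41507708e88ee1ef29dc100220a1d4c4148ea04011c38801025100474e47041188e121291d242325420ca484f7889092041213e073de41907bc3a948308111062407102208a480ac8cf8096109508c812a258e25437883705a086e0de70dc1d061bc1b1c3787410730c210e80dce1d030043995a08c30c0318615d030c621c618d1106005e80c02a442a04e045404d40a8222315227422a4688c4e85a109d092713a34103442e1c6891139100f472223402440a48c6805c40d00b630c2270416c2d202d849409c2943326550264ca7a0c98c4114f180829e118e25844044b0ef18ae1a63188644231017202d09110901061122114e2444104480ef10ee20e11dc3bce3b8351c778ad10ae142115a13902b4510457126412710a724e554449c95149388541262ac224c21cc49843949495911292547252288a564ab18ac8a0395914462ac5550558840c510a140a2,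
  nat_lit 0x43472dc2acc2b02714560ac10ac13e11585c102b0b808b7996196f2d862de2b4a5bcaa84b78c32996458232c81026586120cb22c319332e345886908b10284cb8c23997188532e868c53cea8d0d1d541d63b813aa3b50754cd18ea8ee29d52da62e02b8a5c0ab04b81d630ef3ac53a83b4e75861048d8ed18c21da120a3b443b43514768ec286a1d821d826863b0ea207619a38ec14e11345310268a59c4d049309a18e718c168c3187c046314c10c60b0818c75046687718cd1ef099a1de63a87c0275048989b93a293726c226e48424dc9b209b936313926c512052c64d847209b14b414c2c81296270c52c4e98a6165094c0b6618e3e4231c2c141708e1858102111c238423822984708f304511e211e4e0623c9d2047939388f230127084904e1089c9c099293843e33d6879087ca91d0f9ea121f2a8543e87468750e210e9513a1d404243a54463250e1ca8918115113c62a2870667501890e21e2a1c424140680c680c8c1d01a02420323464068442809010cec11842023d454043c064603f988c05e18ab09c61562ac42ac50045596c38ab05e60bc338417839042f0d5385e1ac120669063586aa06b1a310d61aa12044f8635430186a8d131a43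f8134868d0690498c6705c30ce21e119c340c68cfd84d1964296214c82c4589058cb18c7a8a619052c622c42a0c588531cb18a9316314c214c29ca29853a0b204d28a714e214e595029cf520f591929ea20283d47f047ecfd18fd91029fb21e83f6594c2a4b208b2964416515052c854ca878f5890f10139eb0fe520243c6548fe208790f110f0f4521e7a4c7f0800cf491131e93f423d27e907a48818fd10e41fa10a321c43844384f8c3890040711fe70e21c441c43914388d2189408c512824cc2504a084a08508942807128348c174d520691a138d223631b04906695138cf420419b02ac324e504249c93816b8ff1926280124c4980b61028d02a0a1a0a35414148280b64d084f420a1ad924874147a10829020905125320a24883d081447a0ef94f411b11241086248815046d021c8d8f6291b40a7408568c810ef15029e019de32253bc77c4778eea0ef1df41e024453be3dd077c7b8c39102387220680e41c841c88108818f919030e85206400c40c81147f87329022b453ba78047747b9cf008428f70da31ec3e501b47c1c3686d106d06c50da3e4e3e07c887c0f430f8,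
  nat_lit 0xda461ec382c2c539187080230d11e4618c244c304d1185b0a0b0619c46143b48c25828984306330820a460ec0c4c1d82098330433056066608c04cc098109813010b026022602c002bfd2b11802fd0afe5f625f8be04be57a897b2f312f45de25e0ba84bad7389742e212e31be21181f822305a046f8a410b41301148384426059047087e10b20d221ce2c0239c2b04348ba10561ba117442843748604850b0110c5c025c2424438058847010b0909166221637822cc45886f07d088b16220fa38841a02a84340af08e2146215e25c228c6e084b8b508dc0aa216ab744b756e056eada0adb3d6135a6b466b4d620d68d439ad294635a848a6b5118514a291a292d074528a108a504091496b32293d4135882066b06a20d614931ac422535882027688fa1042093a08336541076c2825048d0491f3a09450241274cc8246a0c8f8f1091f1d6623e320a47c80846a09930d427051a88a0c85d1414b51981a282d08450330c660d094cc1df099818a833066466646998cc9aa29993c01332314c34862942e95709682d0318a5a4a5a067186785c28cf21c119e17c433cd3a0679a638cf0be605e17ca1786b8c2f8da405f1b270be4a0c35c49146b8fe10d719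211ae6bd035ccf8c6505a28ca18c619453843287a04650cb38ca19030b20b8a1642c182c89b10590d810b22a8a5a46408b49a5096942e72d27b0c67c9d94cf9e7119f33a133e79cc4d4f3950822a19e73cc83ce3f8e79d178515217422a2d65454358c36830946d1a610da20011b436503686594638cb305b29a219626c63f899987f08d28fe1b011fc268c26c24944d8a6089b29c8136670485cb5150ba270a17296629a270a534b104a694e309d29c529869c6538d39cd31e909a7348634e344a69cd318681a629a33cc334c6c027990798f313429e61d651903c02320ce20640d530d90c051b23fc2364b894cd9d8099b33863a667826bcd78cce20b31af3c8141682c682cf621059283a0b27a64167b04841080d08135321040e14204cce841168d16993322d458545a65048b50f8516a19422d41e5268650683c99a10799409dd32a732830506506198ca19519953bc132a304e6546218ca997299525083d84ecc7b0d704f621a2a1929e64328782864469899928113323c1266304a15c60986119210c125051245482648c90c940c031922dc618030845b8560cb722c416e,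
  nat_lit 0x7604d8be00bec59816f03e027c0a405141440a081d813282d029505204860f80a58158122020029e03a053e1400a3d23814883d028303a04fa04c09f921014824a028702c05440c809fd2a812da4802940a6050c0a80a00098146a7d029f486051c9040a15220142244224448644869100b6d21816e24102da48405ba9540ef92b01dfb0003c25fe0782c006f09df91e13c023c177e1780ef84efdde89debbc0bbd7762778ee82eeddd09dd3b60bb97702770edc2ee1db09dbbb513b5764176aecc2ed1d909d9bb113b17601762ebc4ec1d705d7bae13ae758275ae982eb5d585d63aa13ab7521754ea04ea5d385d43a613a774a274ae882e95d209d23a30ba47442746e844e85cf05d0ba013a073e1740e784e7dce89ceb9c0b9d7362738e682e6dcd09cd39913997301732e5c4e61cb05cbb961396728272ae382e55c985ca39213937202722e3c2e41c709c7b8a0b8b7122714e1c4e21c305c3b830b847042706e004e05bf85c037e137f6f816fadec4df1bc05bcb7713786ea26ecdcc4dd1b685ba37113726e016e2dbc4dc1b689b736b136c6d226d4da02da5b389b43660b676ca26ccd742d91b089b135f13606ba26bcd6c4d71ad05adb59135a6a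c26aed4c2d51a909a9b4a0b4b6922694d1c4d21a305a3b4513466861688d084d0da009a0b3a0b4167c267ecf42cf99e099eb3b0b3c674267657045d8e384bb144095c36a228862026d45c08c40e508b838e21ca68045089584a11ed09a020823da36c2410d9086d9e109b225623c272848b91085171f209ca46623e486c28cca8090d967095044222ce57c4614de84c2948095f3862290604270c8b88c0932091737a22644f046acf104d5923093c3ca224668827946688d10fb08cd3c421f675c45e4e704bc9f109d736e23e262c26dc5f08c58ea08be39c21d46ec44b489849698409bb3ec23086a427d8e088d497e09c122622fcce04ce599059cb370b3866c266ecd04cd599859a33213336602662cbc2cc1960596b2b132c6522654ca02ca59389943251326648164ac8c4c910c08b915b097244014307244880d404e4a2b11a8448145656c489190899131b0b226401642c7c4c818f058fb1d131e638163ac6c4c718c898d309331a6165632c5c4c6186958c30f331762a262cc4cac558a05818ac23146222628c4c2c102f1189b120b0f0b046242508c4442918830d1310,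
  nat_lit 0x2ba77a65742514519cae97a21753ae73f073c25e8e720e78e921d217a11d264082f45f1c5e9b4218c368228a25ce515e889e93c90bd11b877a261c26d0e215e83c933d079027a0f10ef41e715e798733cf798279ef38c61c5c88c38b5418779a279c710ef385c95e6bcc33cd78c779a2e4cf31e421e63cb18b90aa7172158ef2ce90de51d2118d31a131a2ece634c804e91cc39d231e23205cd0640c784c798e418f31c131c2f10638e604c517839cc78e33126242624e219e4bc713c978a7388f1ca51de418a3bc343c878a278c154af19e219e28b533c417611765e042ec5d905d915091522a422a1f86454588cbd8e4217b2e6217843062f05e045e112091214832242cc65f0578cb9978097326042f02d824c0ba089817709742e842e839045dcbb90bb8b708e42fe216e60025fcc010bf8b611800c841bc188837032983386320dd11241c41dc842823904b84c20a40986098190c198218c33042388a0ca31140d0c19419983204718640a610c810c822c6f0171079210c09641461f082e83d905a826384c09010982e80bc82a1429062183308e8090120c1202598258a302f008e10960d081a46e017886720e10ce04a00c4c0c8100c190dd02f62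1405ea1d884242120448e202ed0ec311213c22243b983b90a02e608e20ee1d8c1d811a023847284712e05d808cc08c13141307930790f060f02900be426013704f287b0cc04a214882c81320258a302eb07670f21dc21e41da03c076087805a40ac2e80b9c27a028029385007c509e228092c101821030284207c40fa1f40b9029a02a02d285405680a60f8614c328124864024a02c606222c0b8d288c2190c02f45d605e0b9c0bc85a817704c026207a304c0a4a0f429013b82b282a066049a0c06058458170048025809604de1a40ba431014e8e102fa06404a4b980bd4848172889024c0ee04b21d809501c981c848025d08e04ae08c097c11812b02602710f204da1e009c01d941d8b402f85f205f814c82cc3d813a87d02df08604d02c80bdc25813087902630f004c80a860ec2b0174050024609e048e074a0a42101212df02e40a8049014c09140994158310241086052e9486080580179aea02ef0f805161ec0a68130130030029b07a04e40a809d80b0127089029306004d43780b8423812f03402a14d4053619c0a24100133077025a0ec04b80e4096c1c812aa56025f,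
  nat_lit 0x286885c8d4b0b6162216c2c3234856285870910b0a19e15c1a194325e5286f1467091a0906a0d0a0d25e741a8c487e210911a3f81a3438a84688d4e8d11a85191c53a357ac339672c272c97909792f092f118325e6cc2715188df61b34231426246484c284ca321099b3114628c128d0a450aa11861518b3c2a85018522f4f0a6138a140ea442884c184e73d109e128a131793c26848184a7e0f096118a121f1442484488470882630c392111b744223f01843078f081fe1a1041e441f832583f0745079fa9a0f41b441d838783b058b075fd9a0e41a2c1b0fc5835064506a0c1e0cc1744197f85830fd4b05e0b0a0bc153c167f6582b0343050c09e0a1163c1326488250403044df2208c0f141030a7821038303e051e07948440e818881b0302608be92061c3440c814181657cf028c192049be0c097e628110003020f99e043d50c071ce880f014f01e028a033e60c067d4780d0087014739e029fe09fe80833fc45507f9001cff3f4140480618081f51012010a0192e3c038021804378f008c30e00c00140130688027f4700085a2003ff19f730623ee7cc27ddfe89ff95e43ff14877fe5782ff9f59dff186115e14882bcfe426185a1cc32011bfd7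f017fa45888050710989e3120141c14027fce805fe0d0720c3a0e2f6841cfec4ff1f605fe3f53bfc22837f6fd90fec3f1dfdbf913fa7ec17f4fdcefe9eb8dfc8df3bf97ee27f0230efddee0d002000a007de37ec1f90fd9fa0dfabed0bf57e617e85f50fd0e004be914117d16282fa8306fb8ff85061b81bf31c077e66e047d5f904fa90a41f57e037e4f644fc9ea1df93f10be27e027e2f690fc4bb9df8bef0bf07b677e0fb84fbc5ba1f7be50bee7ba87dcf446fb4709df6beb13ec13077d678c6f80f184f19fd41e33fa13fa44907f5f10cff9ba098316683064b86fa8349df507d3914374225c37906e89888df1323931304222c6050608f988e010939f37d027d2f502fa5e505f40dd43e87ce1370f984f9de521f38ba3be77c837ccf2cef99f209f2bde43e530077caf8c2f91ef9df23e213e326087c6f850f89f085ed17443e17be17c06346f7c5b1def9871bde7ba17bc5fd0f75ed85ee18f1bdb1c877b65d46f69ec0dec8b03bd97a627b0f5c2f60579dec3d613d738c87aef1c2f583421eb1c610e617211cc3890718ba84e30b043d57a827aa430ef51e98cc70a343d3,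
  nat_lit 0x1c860d02d0a3887114bb8b028dd39a31ceff4cf6852187217728b47ee57c037ca5d0519898130308c118614672087144c20a395e094740063e67dca7cde6a04c0b730980aa5130ff0cf78da15ef0b231807ea57a27106f45fd94a2bcd19451c27388fd42710a381ff3ff0bcd22a621242ca424e40c84a0e31c030653807cc1158c0186e0b228dc79c71c25fcc3845a94709c218e1130078cf90cf49fb15e907e2897286312e830cfcc3f185b09728b67f667be514af7def0210180041f7a257caf44105e1018da3fc29b485833685141054e201f6a311bce79a07d6ff02f38bd98700b328e021208ae6e8c5f5e78cbe9c004551b808323840f15e6205bbc838b70aa616ef18a2dde9020b3c81bf612e08348006f31ed85e608b307d22450fa4b8c450f1948a1ff2bf47e608a8fc0a5785b020dbdf041c82c57c8f941078da020c3fb044d79c07d8378c2c470022997f43cf2fa0870f782f3de820bf8b5317f78a52fe2c810d05b81e1bf6044c7e01790f6caffc85988ac5729150fc08a47dcc8022b15003cc03dc0fa087245010ecfe96023f4043641c5306fc4a618af0222be4041d8aa541cff011385998bdc53297b162086ef3c0f74bf81e220c1bd07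9007def942f41ff8222115045140008a1000c7fa02021d183044241858026181119fc95f13e3044741c089e5ec112a2a15063d003ee3ee08867f8112e008220c3631ff80453fef881121060224c3b31e325c53c70e8c7f60002201ff043f3c608787f410fa1c988908b2912224087b15c67206e1a1a4352bd17a4689825cd148da1a2744d29458a8186d15430e21b8629c53145721658af154515a281a2b453445530658ab14cf152249a2a0b32c5389e5307004d12625960045029f7894516642cd146288e2944d445289428a31411146278a2844b445089c389f124f13e271e1a3ce0c4e86a789d0ec71361a8a2643a1c4b89288950fc312623860ec3f1c487f25891114711df896234451446888788af6cb112210a21c413c4241858830f871021f0a1fc022c3f87a887d0e8d0fa1e221e88b2c3d87668784b8d0ee1c0a1dc393c3b87288750d850e9e18e1c88b343979e38706e8d0e21ba21c4364437804686c71030d5e2861a12c0943856186108070ce189ce692c11cd38a639b0c050c51a1a18c2f443025878610acb0c2179c9612f312c85c585f0b8651ce5961742d142e,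
  nat_lit 0x928293920832724c0a4db16449b9322935260f2658aa24cc94349892e5931250b25e48864bb133c9792a592d1c4325a38064ab144495926192924c724e489649c92349391a2926c0cf24e470a4947244928e2892323d1241831e4847114908e65921234d23d84224748b1c8d8e8791b1d871da460e4648b148c8c07919228322e3b1e45c89148a8c4891522032263c2244c881c8890e2911190f222410e43c7a3c878f438f51f071f2430e434842c8690a690d2085219869e4348114858fe890b20c5211871e4247d3c839026904c41120a401e40b173c808fe29011f0b2023d963fc7e347f61c88fd1f451fa3e1a3eb103c7c8f238f7194f1ea3c063cc6344788ec18ef184f1da380e3ac7334748e028e8c20f1ce381639471347260888e31b031be319237c6e146e76c38dd19491b5d50e36c64246c8d628d4e9c71ae301235bab1c6a8c248d518891a6340a3446724688c018cf198519e32863346414658c618c9188518e308631460146144c481502c88591315132160a2646c244c6fd0899129d134071a1642c642c74448590a1d0b21432143a024286e4e8511a8e2fa322c5f8bc68be6d8f179191a2f45b445e44a544a8c048951815182300a303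e884608d8e8c22e8d1b2362a3646c146c854d1762e162ec5b145d8b288ba83471710a962e0e33c5c856342a8c448550a850aa13421538038b7168b16d189a2dc2c0c5b46258b50c43168de222d1d131d13a213a27410744741ce8c0319d03a063a074027407410740e808e80d231d03a0a3a0dc94dc8de19b9286437251887d0fa04fa10a19f43e853e86fca6fc700cdf9b621b6384136c37466d8d998db1bc29b642668b3160b164e4222cbfa1c581c688b0720c38ce404718e321b30d031c6518a38cde18d99cd21bc1be33787088709e995fd1fe34088106800f80a574960c459ba1c313745402804a5f4be186f0b1317c85a346501ca6405818bc3ca2c070ac50d239cc2e85d18b9be72c0531457cef98c6382b185e3ca319079657d463caf2dea98e91d233e87b253706e0a730c498fa97830dd2145176430a429ea95f418d33e97d267a8290a1a0af15eb3fd29c67b661cc398cffdfb98aebf82be12ea57f037cc2bc7394b98bc306931e67d4628d0160314c717428af7c252eaf8caf4dfc99ec3d833e280c385e430c2edea18c6bd931cc31257e4f5cc619f899ebbda31c6,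
  nat_lit 0xa0c1a15408f42a849a7f5011509a067a13398f42283a284507150894a3a0f3ecb41e82a28350515069ee6a0b4043415ce9a825020d049cc1a07408540dd28e815013d027385a053687406801a80cea45009ec6a013f8d3fe7e067fcf90cfe73679fd3b833f6461a7ecfb1cf19ce79f93ed13f27d8a7e4fa2cfb99e39f53e4f3e9cd227d4f81cf99ee29f13dd13e27b067bb9d44f773889ed22cd3d66d867ab061cf49e6672d3cc53ce790e79cf044f29e279e53a053ca6f16794af34f19de59e13bc73be76a277cde3cef95c59df3b873ba5616774ed14ee9b289dd2bcb3b66f2276cec0ce361e39d93acd18e6e0a75b0b1ceb60a39d4e70d3aa7495cdb181ce99d058cf360b3a2738a73ce634e773469cce707396321a72ce42c6572e39c938cce7e6b8a71ce114e29be59c4c207386701670ba01ce072e59c0e84737e6f1a334d814de9a019bb3745376689e6ecd60cdc9b8361536cf37245166dcb00cda74889b5348b36a689659cb534d39a8574919cb3626c9a56c961cd99aa19b0e64735e609a6bb981cd68c269ace6c7355ce8e684cc1b9a60839a93303352658669ccd0cd290639a33391342679e684cc14d0996299f324d33e670e65ccd14ce9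96799b3311336621a66ccb44cc7465999328d32e600e654b634ca96869933191325cf9a643151cc7746698f318531d8c8e634c544c6986398b2c4d316510e624bf14c395639852e0d3098d0e60b9e34c198089832fd13025f1a5fcbd0cbe976297ce7912fa5b9e5f4bc14bd978797b2e872f1d09e5e4bb1cb19708976e7cf2ee5d1e5cba03cba97019732b472e1cfa25c4b61cb7960896d2d052d9d19e5b4b21cb596839152cc32d1d1225a4b214b39647966e94f2ca580a58ca91ca9944191cc682c2182858ab190b1890a19551fc32ae4c06494730ca3934395528c72618b858b4800c9a936190328072824b8e4bc911c9093c393d21071f6398e42c801c9293a3929290729a560e3bc891cae74689612b052be438657c6644af95a295d1e832ba3a8656c6744ad91819592a0b2ae518a55b1944ab952595528852aa508a54c840ca9616795328052a23f06544a414a78f6194ec31129e528a534860ca6942694b234329584a252ca034a494659491d032918d1e51ca244a3942594523c3285852250c900ca092e293f20c327e4e964f496149e8fa193d25452763e064eb113c9d,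
  nat_lit 0x7520ae8eb01616a702c23a80573aa60aed534160ebf02bfd520575aee0af55f41602bc02bcd7c0581af60b055b035b6b706b8d750d8c7606b16c80d62ac4958fd6e2d89b0a1b155b4b62aba06c4d730d667786b0f6187612c306b2d8515866445b0d60c7616b61ac2d831584aaa5b09600d60ebc0ec156f0d82b003b03558d602a716bf57c1d7daf23af754cb5eabc12bcd771578ac66af15d8b5deba0ebb5642d76ae63aeb5cc55d18f16ba5723573ae44acec74d5cab712b8d5f3570ada3adf5bc55bd8f96b756c256d6426ad95a095aeb11ab55671d69ad22ad359c55a18d96b456635676386accef47592ad86b1cd42563ac42ac4ec0758a6a92b15590d61ac02ac0eec7582af8aafbaf1d5fab42abd378957aac8aaecdc255daaa1ab956c55726c12ad4eb2559aae2ab0c80755dd70eab3ba1d55a9e2aa9548554e6f92a9ba81d52a044aa54109545da0ea8bb81d509cc4aa0ed4753ea68aa73ad1d4e7583a9b530d192a58aa64652d4b90e5a95524d1ea9e86a45481d49a8c2a8f4b0351ea2a2a339d2d459d41a8b5145516319aa24eb2d44a862a894f515129f22a1d421542a266a85504b452a00ea0d3d3d408f06a814c8b5029f1a9dc77353ea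7a2a7f4f8f4fe9e8e9f53c2d3da6a1a794f074f299229e4892d3ca7668ef4ec74ee990a9dcdb453ba6e7a751d4b4e69c968f538348c9fa6a714dc54e69c1e9cd371d38a6c6a6f4d474da7aa29b4763536a668a6b220d4d67e8e9a53315349de1a6943514d2990699ce545339503a653ad14ca5c9a98d170d31a3e1a614bc54c297868ab98452fa1e7a5f1c874ba96a270d252d2da5889d5428b4b2950a95d222d2aa4e1a5538514aa780e94d2845299586a5349c74a26c96944f34527a4c6a4147cd49a920a9352445269c07a4b29c749291069252334f372c6a4748c548d848e91d1d2d22a202a45381148a698e90cbc35219f83a4147cb4828b0e8fb963d1fa3c58eb474747a7e9e8f50f151d72e8a3b46474728c868dcbd351ba303a35465146a8b8a8d4c0351aa302a332f8b466719e8c4c33518a2a3a2f2e0b45e8b0687b993d16a2a2a2d450b45689068a4951d14a268a28e64d44e898a89b111d13a228a27440f44a6fa2895100d119be7a21438743e851a8750c150e9f01a1d3d9143a869643d0c1d0d9c88a1b42cd4327d068639b450ca0e1a17428542e849e85d091d0a,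
  nat_lit 0xb368b9972d1666dd86e5da345cbb6e1b957205726e106e4c261dc83567b91040771ee30ae3dba1dc61f68b8d7105716150ee21a23dc48283b87708570c91a2e15c015c1b3a7b8060876fedf06dfdbd15beb3c8b7d6e0f6fade06deda03dbdb442b79684f6f2dd9ed159a3dbbb721b7568116e6db8edc5b615b7b688b6f6d87092db06db59f45b6b6a442b6d056d6da86dadab1c112623b5b08c76a2d70e1095d25b4b2a8b687dc96ced38e06c0b1db1b6431d36c436cad2a2d95b015b12a07b636bc36c2d39ed85ae15af4668b5f6b436bad4a2d75ac15ad3947b5b6acf6b2d586d222e3dab3e48b5369c36a10d9ed396745a584e3b4873c768ecca2d1c091da2b422b3457c7684f88ed059f0d9fb2a2b3e8cc767ace86cf59d258e3ca3b3a45c7670750ecd9e21d9ab264b356489664fb0ecc5980d98b2e1b2e59c765ce70ecb58d0d94b262b29648364ec88ac95900d91b1e2b21638363ec68ac709420d221e42a43b485b8ab90760d7206c20c42d05a484382c906490521511584270178835039108086d20f734a419e47882ac6710c90f1208e13e423049082147b105391f208111e418421884a07e10498d203110b0418a5480c18b701848ec039a1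3641e032082983601d2968031f21c07423240eb4999050151030727006283500c4c80818210f04f41ee061e2b0148c6c102f8cf039e156072c2688304c9018508e039d1400ab24600c0c4281db0ac03b814e075c1c483f84081ce080211b18406184a00c6c4981cc8c5031221e0774ee813d1dc029188e056213409983c00eb18a02a78a603a40b207445a40ea86402338fc0322140072e4140ecc4781da85e03bc72c0ac21c80ef5d5023307204ec0be073ee5c156460818593304eb2660638234159c4682a2545056914a0ae427c0edc4d01d78fe03a714c08d029415308f027291b030d1b008c82180e602c01d80c803ab13608d6c1815558482a832104d51360746c0c1535d58233886055d1000764ef0138c6c01d439e046d0e20740c7013aea202b3871046f74608d6ea0119191026b059046a60e0a9ceb011818d826e06c046973e08d8e9c118dd68230ba60462ace1ae55ac35a2b495dabb5056a8d6575eef0d1b1d81a3531b33a68d80b0ec7ccea99019d5c6a058b644575ac70ce9eb395d3ba605657540b135b0ceb19095d63ab058aaaa5a9ceb416198e95d43a70566,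
  nat_lit 0x30853830881830bf02dfda139f6b300be46101689e9830f0a3061a3ae07a85d4185d19a115da83a2bb6834566a016b91202d814506084300ba373817810982ee14605da2a008568c4174ed01cd49f629a9b6a335270416f8fb02de15d060a4560b5f740177d0a82ed9a905bdb680bbd6d41776ee9adae0e2c223ec6bf0610b6fade98fb14230e52845b285e8d80d0c16e915b35d82e45bb17481892ec0311e2031edc3c5b22410b87b091af4e0f2de9c226c3f840b87f0f0318de90630c3e0c5e44cd6609696cc598062cbfa0c57834b82ec798d90db2d90b22520988cc5c8ad94b9624321844854318bcd84308970817206264300c4b8c0d83f091707e10062ebbe0c4e5f8a6ef078316e2c312d226525b78018a0dd831512d06292085c638bc58c3091b1862e2e2fc4c3c5d844b8bb150f16e2b162c2266c598a8b8acbf17156281e29c4a3c4f8945898ad971362436254486c49805188b100710e1b1621c2c8c425e878830f0b10617462041a4c3f878787f0d230f61c161dc268c3b850f872ec0f0de19161ac148c357a078670b9f0ce0a16173563c2f838985f07930b22e1e162643c2b80c985702130a0be1e143443c27830984f091304e0c0e123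103c2584038470812f21721e103763c1e5d87838a10f06dd3260d3823c186a0782ceb8f055de260a4363c125207823030b03da126072883c0c5707814d00f0260216031f63c023947801100eff9131dfe3da3bfb66057f6ce12fed9b25fc30a3bf77e457eac892fcdf63df94004bf173c77e2fb22fb92e25f6be21bed7d057d6f686fa9e545f5be8322d7cc37d2e122fa1f81df3b928be64f0f7cce892f95bc1df22284be37bc57c2f506f81e245f0bde38157b837bee322f78e625eb31a4bd82e497a6e2a2f75ed15ee19a7bdd7ac77b6e21ef6deb15ecbd81bd9794f7b2f486f5de73debbd23bd46ad17aaf1a2f4de70de8bc87bcf0a4779af306f35e50de519a3bca62c7790bc8ef1de145e2bc41bc44f07784968ef02181ddfbba2bbc6a47776ee111b5b315dcbb81bb976c376ca80eeddd315dbbb22bb574cf766ec10f1dd215d8bb01bb175cf74aea1eebc121dd6bac1bad7543756ea0aeadd30dd4ba47ba96ccf74cf992e95d10dacba03ba28851746d21ee8db40dd028a4ba16591742df8ae7dc145cfb387b9f738863ee68ee75ce0dceb462b9b7311736e086e65a51dcc,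
  nat_lit 0x2ea63c43ec0f807281eb1c7062139e080a6ec673cde02d5a312a2e38c345d7ac180c4602093d3293139208b04580fd8fb020010b05ba2be33ee8d8167ca201e915b31cb2e4539678c872deb030d8a4395f1cc62be2f4a3a4b90c74a20045f1c8727857cc4f073149e18f193c24607982f41844bc8cc81d205e4290728e858851c8903110b404102b6328e89107090d9ce12352a2446434486d816a115822f231323345c54667c811749620b9167412c39a0b488d0c884dd02cc93c39423f032846800fc49582fa1c338e138683885f4871059020a18203f53686302688a6048b81fda1804323e6446a37c1044df01fc9e231bd2ea537a8d066f49901fb98503fd39408b86200f24d101ef0b9061439e63186300f9cc4030e8bd03e636453047001678bf0cc11c4058eb82822644c1012fc02ff1d005ceb3043a259c67450b02cb114059c3da0be17d817f0c182cd15e040ab32837772ce6ec821898a0e05f939232626f816488b02c813041047a662084c41644af02ca1ed03e21b607c8f98184474820320d218e3140bd22dc17088620fc18929f828407e075d043058021317a03d936e62f2748a5e4e702039f504212140848634c7c4f982d01b703e83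da52ec5e865d8e381eb976062084462f45d80f60bb82e43f105ea7fa6356718a6acba8cd59e203e17ae0c4273c183d17022d0e6061535038436a90724e51ce493103fa3ee0b4284c1818a1a0ad9cb05d828e0b1a260e521e618a40b9294828a329057c0ffd0d8cda16739721d20c208b90882d59d1023505ff27807b6640178ee70c96947040b148081e540e56e0582c695041432b60b62708169d120216a21321b46854368cc116cb9021792c05a541a62ce88410c4fb911942131f82840be63841034e202063cf31c330e53868c4670cc081fe23505d237a07f08341754c3830998c0612b8072fc608163c8982e79d10597be20bfb6690612dd9cc240905933760b46fe816448201f198e061f1c80b927e00fc88602129f131d731a53ae574675cbc81ea9f103e97b00c405e81838d581ed1c60616b5283507c8e6a21083059c905ad436844969ce89119030395b042e290079a6d0182510a10c5a43a18ba034305c816c91002d618f05e125a0b9a8d8884c4c020742e05b12860b4c59cc5410694a82151950436085859c10c11902d99f8060d386079c8d01752cf20e0db839c1,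
  nat_lit 0x28a519a5fd0794c398f29c329e52fa33ca15502e05c9c5c14730b8318817462ce2e85f202b0bd385631e517c2e462f8e0a0701c041c141863826e06704da20da8dc39b5388336a44cc7f49694fe9d121fd3ec33fa5f505f8ff94bf08b412d25c725a74064b4a2910a2181a14418425c3a864b88a10ff97f39e138853c28306784fb18ff20021fe308816660d06110614c218619841f672086150618c190c31be098624634006146804c01cd91b529b239833642d817145e8c6d8ea40691d270d244ce1f45882e00b7412b170625651ca4ac7310e618905ec39e81ce738e39cc798750be28ea42663507d466a084a0d49f339a93fc63526dce374dba0dc17a29b830e437063026e0db8d13190298b3a4331628d0570ae9cae131315c20852b86386570d00cc51e239742ba61f61a10394731c7295e28e539631ca628c73d1020de22e39bc2f463986241808e60301932408c26271186a0c7250994e490b41f63ee73ec4c017191802da9f21a3612e8288514e5108b14a2213194446454408d468805b9c918b9312329052466341794f1830098538b4456836c8cce6d9191915a202a2b44a0b6872016a50a98f921841cd442739a378172cdd820122119ba2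ee7340618c680919c95916192b3c20bea60902c8c09c591b5318238813041f8104ca2988b8cd2917228322e8d4c860df206f9bd38df1f66264574a4c8730c991c63185356530a38c16a8f918e521529ca41a339461d06205a9cc41c431883c253106001710d902f69b429a230e33443340f7cf281e78b803c71740854628a630c60cc40b8061c0ac08522f80f2cc7145e8e005b838207e68cc6700da81e891439133fa0b307f8644cbf01fa18f21d025a08068501740e70d0b12e059b3c483da7fc17c6cd91061e103d03fc0bf083017f05982dd98404013c4330657ce5791310af10405ef30c081283017d8c08d0720005fa38e337c36ca4590082fd942295e20832bc5d0e7b4df14f69ff19ed16c81b6f7ce36ca2146d9b203e51b60bdc1a410a0c718748b9218a0fa0b8239105089581e417a40b02f2716073017ac73821399031ce316539c3a80fa8f89cfa9f829f546843ea6a01164fc04fa9f1410a35208107c467cc6e82119b804223a4636e8981654c581e51c641c71c4738e680c71cc314e3975417615e72ec6f8c5d8ae01e99ab397735683406281810d002f517405c7,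
  nat_lit 0xea10ea229219a41044107688768f810f81d4036444643de6680d8d0401b9a0b21ac3d443c87680dc8cc909b8f921203e006ba7808484f781b1229037435806f47900dc463909b137036043e443e4800d789081b0964220644606da52c883d0581b8136035f45a445a87c0de47c107c0f903652ca43ba7800dd50301b720f036f18e06d853086511681bc0c620c61f006cc7740dd8b201b514b036b32806ee3180d9cb281b494c03686d076d67ac86b4ef91049db219835a068a86487f0d2110f2222228412065c6600d18d190fd9fc034c43c068835486b914019796d21de3be068e7ec0d2cac90caa19034320443d86b80cb4b61103a2203303bc06904a48358d181a519503422b044207b00cb103819896d033627c42063580d24ac819aa10032b2d8066e40c0d3494819a13f212a2b006704f80ccc95019c93f033245e44547608538b190cda2a037e3cc44146a886c07a106514e038533606fe65888110501c61b0037d42242c43280e189d10cf1d80380408071647486bcf301be202214d2c407084e483d47a01c399e03813b844586580e28d781bd91c20cb29a07063d40e209d01c91d5221d45807124740e446581c1139039343a071a7700e40e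b10f711c03943aa071e7b80e54eb01c7127212734c434c5008368a090a0a03215524e06ac7e887e8d301aa1a120d92de442449884006d01aa941035c42e434e5540d5d1390f49fa03533d041fe3640d41090195100034e28006b667085c0d381a8a1c221c40606467a40d487f81a79a103293b242ac4980d68b801ac217034043444348700c90d890d8a27033f33a440a7a00ca0ab01ac99c034133e432e8680c94f390f39b1033e40a064e7640ce8cb81931e7033d33a067667c0cf1c89dca3953b9071e871cd84ed79ae9db1393439219a816c5f902c4c690c48b819891f6826085488c0d48d180cd198d1f633c65748895158d129f241c835073906ed0378dd20dd9ff31bb3ca83c245d01f88b1c3f1ca40e339271c6688e600d120d90db40cd]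
noncomputable def A : List (List (ℕ)) := [A_0]
noncomputable def K_0 : List (ℕ) := [nat_lit 0x52ac0537a767649f14d29b53ca754ca974f49c1422834608c56eadc4f2eaa4954f671271e9466a90c8d9db2c67eca19a31f798c0d7c260614b1562312432ab51fa3c618b09d9a24604c253aaf95a6b6987235488b7975a0b41aeae48c6e8e2cd642bd38cb1898f33e652ce992b316448b917ae758e9ad20a4257aaf92cb3d6428a10921141c81920239600b6d0433c6408d924aae50c95919a325a0b452bb4064e5bcb721643a84107a0a43c8992625240ece5931622c2510c718d3025d0a124648aa8d57a5848e9214e2984ee50d9bb242d25a0ad95c2e25b51da43616b19049454748d1842d2418cd98e95a2ac58caa9572b24ec9f98c3164e09e1822fe4e8a01702d852c9c9412b057ca791b25c47c9691e28e4f88e9662ce534a515028c4f4b2954292530a411c2324ac8b9182584888d12924649094115212428881212404a89292624e4588a1082164488990d21c4148890f20e4188210320440480000,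
  nat_lit 0x97b38e5f2b3576ac5324959bae966454d964f19d724a49c955e72ee56eaf1592aa60abe9daa7197eec5e529f548a95502545029c94127375eb7d70ad84fb206a8d50926ea69047ca22f1dc35467a326e87c7977b455d1cb3a992dddcd4774f2e2a74af75b52deac8ca14f2d42a615eaa018c316770a39d23855f8bed2fac3582ed147bcf60c9d13faf65eeb6587b105c6b9577af0470ba510c808ff1fa414907591f63dbd4913365e03a69792d1de4638c8e8a65c6c8df251d846a8cef624b4688d6e253c2e05ccba1442894fc9b183b0d7849a95d2b957eb0132a5b77f36a4bbd770485d152144bc8a509a1c440ad5663c346ebf57f2d45aa88d0d3be8f142e47bd6a2cf414628b50ea29373b74f6a4948acf5aeb5936a5a5d8eea5b469a212e5d451c79285515aea45a8b10c2a976c89527a4b626975282515508890dac87772d6384ba7431b51f23d568ac12e332654ccd95a2743e93529bcd544a855b296,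
  nat_lit 0x6bcd75ae35b6b4d65ac3576acd55aa3536a4d45a834f69cd35a634b694d25a434768cd15a2343684d059832f65ccb58e31b634c655629452681502203404805001ff3fc7f4fe1fb3f47e4fc1f73ec7d4fa1f33e47c4f81ef3dc7b4f61eb3d47a4f41e73cc794f21e33c4784f01df3bc774ee1db3b4764ec1d73ac754ea1d33a4744e81cf39c734e61cb394724e41c738c714e21c3384704e01bf37c6f4de1bb3746e4dc1b736c6d4da1b33646c4d81af35c6b4d61ab3546a4d41a734c694d21a3344684d019f33c674ce19b334664cc19732c654ca193324644c818f314624c418730c614c21833005f8be97c2f65e8bc9782ee5d8ba9732e45acb51642c0578ae9532a4544a713726c4d49a1332644c49812f21955e8951378b436875584d2f21792e4708c118bb114d157aacb834c699de0b8759cae166acb788b8976b885ff576aa55ca18a4146af35e335a8a4ca5e8aad8a3154cc989532a7594b266bccf,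
  nat_lit 0x9b936e6c4d59a934e694d19a133a66ccc99331e634c598930e614c19812ee58cb095d2b6564ab9552a6544a794d296524a39452865049f93d2764d49993123a46c8b91522243c8690920e3d4778ed1d63a4738e51863045f8bd1762e45b8b51662c4578ad1562a4538a51462844f89d1362644b8951262444788d116224438851062043f87d0f61e43b8750e61c43786d0d61a4338650c61842f85d0b61642b8550a61442784d096124238450861041f83d0760e41b8350660c41782d0560a4138250460840f81d0360640b8150260440780d01602403805006003ff7fcff5fe3fb7f4fe5fc3f77ecfd5fa3f37e4fc5f83ef7dcfb5f63eb7d4fa5f43e77ccf95f23e37c4f85f03df7bcf75ee3db7b4f65d039f73ce75ce39b734e65cc39772ce55ca393724e45c838f71ce35c638b714e05c037f6fcdf5be37b6f4de5bc3776ecdd5ba3736e4dc5b836f6dcdb5b636b6d4da5b43676ccd95b23636c4d85b035f,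
  nat_lit 0xbfd7f6fe5fbbf57e6fc5f7bed7d6fa5f3be57c6f85efbdd7b6f65ebbd57a6f45e7bcd796f25e3bc5786f05dfbbd776ee5dbbb5766ec5d7bad756ea5d3ba5746e85cfb9d736e65cbb95726e45c7b8d716e25c3b85706e05bfb7d6f6de5bbb756e6dc5b7b6d6d6da5b3b656c6d85afb5d6b6d65abb556a6d45a7b4d696d25a3b45686d059fb3d676ce59bb35666cc597b2d656ca593b25646c858fb1d636c658bb15626c4587b0d616c2583b05606c057fafd5f6be57baf55e6bc577aed5d6ba573ae55c6b856fadd5b6b656bad55a6b4567acd596b2563ac5586b055fab756aab555aa754aa5549a8b512a1d42a835029fd3ea7b4f29dd3aa734e29bd36a6b4d299d32a634c297d2ea5b4b295d2aa534a293d26a4b49291d22a4347e8f51da3746a8cd18a2f42684507a0d41682503a05406804ff9fd3f67e4fb9f53e67c4f79ed3d67a4f39e53c6784ef9dd3b6764eb9d53a6744e79cd396724e29c33826fcde,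
  nat_lit 0xdfdbf77e6fbdf5be77c6f7dedbd77a6f3de5bc7786efdddbb7766ebdd5ba7746e7dcdb97726e3dc5b87706dfdbdb776e6dbdb5b676c6d7dadb576a6d3da5b47686cfd9db37666cbd95b27646c7d8db17626c3d85b07606bfd7daf75e6bbd75ae75c6b7d6dad75a6b3d65ac7586afd5dab7566abd55aa7546a7d4da97526a3d45a875069fd3da774e69bd35a674c697d2da574a693d25a474868fd1da374668bd15a2744687d0da1742683d05a074067fcfd9f73e67bcf59e73c677ced9d73a673ce59c73866fcdd9b73666bcd59a734667ccd99732663cc59873065fcbd9772e65bcb59672c657cad9572a653ca59472864fc9d9372664bc9592724647c8d91722643c859072063fc7d8f71e63bc758e71c637c6d8d71a633c658c71862fc5d8b71662bc558a714627c4d89712623c458871061fc3d8770e61bc358670c617c2d8570a613c258470860fc1d8370660bc1582704607c0d81702603c05807005ff,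
  nat_lit 0x39872fe5dcb79672be55ca794727e4dc9792723e45c879071fe3dc778e71be35c678c717e2dc578a713e25c478870fe1dc378670be15c2784707e0dc1782703e05c07806ff]
noncomputable def K : List (List (ℕ)) := [K_0]
noncomputable def R_0 : List (Rule) := [Rule.mk (nat_lit 1) (nat_lit 50) (Steps.bwd (nat_lit 7) (Steps.fwd (nat_lit 2048) (Steps.fwd (nat_lit 14336) Steps.nil))) (nat_lit 22) (nat_lit 1),
  Rule.mk (nat_lit 6) (nat_lit 50) (Steps.bwd (nat_lit 7) (Steps.bwd (nat_lit 5) (Steps.fwd (nat_lit 14336) Steps.nil))) (nat_lit 30) (nat_lit 0),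
  Rule.mk (nat_lit 3) (nat_lit 154) (Steps.bwd (nat_lit 7) (Steps.fwd (nat_lit 2048) (Steps.fwd (nat_lit 6144) (Steps.fwd (nat_lit 2048) (Steps.fwd (nat_lit 4096) (Steps.fwd (nat_lit 6144) (Steps.fwd (nat_lit 2048) (Steps.fwd (nat_lit 4096) (Steps.fwd (nat_lit 6144) (Steps.fwd (nat_lit 14336) (Steps.fwd (nat_lit 2048) Steps.nil))))))))))) (nat_lit 28) (nat_lit 9),
  Rule.mk (nat_lit 8) (nat_lit 37) (Steps.bwd (nat_lit 8) (Steps.fwd (nat_lit 14336) Steps.nil)) (nat_lit 9) (nat_lit 0),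
  Rule.mk (nat_lit 1) (nat_lit 50) (Steps.bwd (nat_lit 8) (Steps.fwd (nat_lit 2048) (Steps.fwd (nat_lit 16384) Steps.nil))) (nat_lit 22) (nat_lit 3),
  Rule.mk (nat_lit 2) (nat_lit 50) (Steps.bwd (nat_lit 8) (Steps.fwd (nat_lit 4096) (Steps.fwd (nat_lit 14336) Steps.nil))) (nat_lit 25) (nat_lit 0),
  Rule.mk (nat_lit 5) (nat_lit 50) (Steps.bwd (nat_lit 8) (Steps.fwd (nat_lit 10240) (Steps.fwd (nat_lit 16384) Steps.nil))) (nat_lit 30) (nat_lit 2),
  Rule.mk (nat_lit 3) (nat_lit 76) (Steps.bwd (nat_lit 8) (Steps.fwd (nat_lit 6144) (Steps.fwd (nat_lit 14336) (Steps.fwd (nat_lit 6144) (Steps.bwd (nat_lit 8) Steps.nil))))) (nat_lit 27) (nat_lit 0),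
  Rule.mk (nat_lit 1) (nat_lit 50) (Steps.bwd (nat_lit 4) (Steps.fwd (nat_lit 2048) (Steps.fwd (nat_lit 8192) Steps.nil))) (nat_lit 38) (nat_lit 0),
  Rule.mk (nat_lit 2) (nat_lit 115) (Steps.bwd (nat_lit 4) (Steps.fwd (nat_lit 2048) (Steps.fwd (nat_lit 6144) (Steps.bwd (nat_lit 2) (Steps.fwd (nat_lit 6144) (Steps.fwd (nat_lit 4096) (Steps.fwd (nat_lit 2048) (Steps.fwd (nat_lit 8192) Steps.nil)))))))) (nat_lit 40) (nat_lit 2),
  Rule.mk (nat_lit 2) (nat_lit 115) (Steps.bwd (nat_lit 4) (Steps.fwd (nat_lit 2048) (Steps.fwd (nat_lit 6144) (Steps.fwd (nat_lit 4096) (Steps.fwd (nat_lit 6144) (Steps.bwd (nat_lit 2) (Steps.fwd (nat_lit 2048) (Steps.fwd (nat_lit 8192) Steps.nil)))))))) (nat_lit 40) (nat_lit 2),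
  Rule.mk (nat_lit 4) (nat_lit 76) (Steps.bwd (nat_lit 3) (Steps.bwd (nat_lit 4) (Steps.fwd (nat_lit 6144) (Steps.fwd (nat_lit 8192) (Steps.fwd (nat_lit 6144) Steps.nil))))) (nat_lit 36) (nat_lit 0),
  Rule.mk (nat_lit 1) (nat_lit 115) (Steps.bwd (nat_lit 3) (Steps.fwd (nat_lit 2048) (Steps.bwd (nat_lit 4) (Steps.fwd (nat_lit 6144) (Steps.fwd (nat_lit 2048) (Steps.fwd (nat_lit 6144) (Steps.fwd (nat_lit 8192) (Steps.fwd (nat_lit 6144) Steps.nil)))))))) (nat_lit 42) (nat_lit 7),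
  Rule.mk (nat_lit 2) (nat_lit 115) (Steps.bwd (nat_lit 3) (Steps.fwd (nat_lit 4096) (Steps.fwd (nat_lit 2048) (Steps.bwd (nat_lit 4) (Steps.fwd (nat_lit 4096) (Steps.fwd (nat_lit 8192) (Steps.fwd (nat_lit 2048) (Steps.fwd (nat_lit 6144) Steps.nil)))))))) (nat_lit 40) (nat_lit 6),
  Rule.mk (nat_lit 1) (nat_lit 115) (Steps.bwd (nat_lit 3) (Steps.fwd (nat_lit 4096) (Steps.fwd (nat_lit 6144) (Steps.fwd (nat_lit 4096) (Steps.fwd (nat_lit 2048) (Steps.fwd (nat_lit 8192) (Steps.bwd (nat_lit 2) (Steps.fwd (nat_lit 8192) Steps.nil)))))))) (nat_lit 40) (nat_lit 4),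
  Rule.mk (nat_lit 2) (nat_lit 50) (Steps.bwd (nat_lit 5) (Steps.fwd (nat_lit 4096) (Steps.fwd (nat_lit 10240) Steps.nil))) (nat_lit 16) (nat_lit 1),
  Rule.mk (nat_lit 5) (nat_lit 37) (Steps.bwd (nat_lit 5) (Steps.bwd (nat_lit 5) Steps.nil)) (nat_lit 6) (nat_lit 0),
  Rule.mk (nat_lit 3) (nat_lit 154) (Steps.bwd (nat_lit 6) (Steps.bwd (nat_lit 2) (Steps.bwd (nat_lit 3) (Steps.fwd (nat_lit 2048) (Steps.fwd (nat_lit 4096) (Steps.fwd (nat_lit 6144) (Steps.fwd (nat_lit 2048) (Steps.fwd (nat_lit 4096) (Steps.bwd (nat_lit 3) (Steps.bwd (nat_lit 5) (Steps.fwd (nat_lit 4096) Steps.nil))))))))))) (nat_lit 20) (nat_lit 9),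
  Rule.mk (nat_lit 5) (nat_lit 50) (Steps.bwd (nat_lit 2) (Steps.bwd (nat_lit 6) (Steps.bwd (nat_lit 2) Steps.nil))) (nat_lit 16) (nat_lit 2),
  Rule.mk (nat_lit 6) (nat_lit 37) (Steps.bwd (nat_lit 6) (Steps.bwd (nat_lit 6) Steps.nil)) (nat_lit 7) (nat_lit 0),
  Rule.mk (nat_lit 2) (nat_lit 50) (Steps.bwd (nat_lit 6) (Steps.fwd (nat_lit 4096) (Steps.bwd (nat_lit 5) Steps.nil))) (nat_lit 16) (nat_lit 3),
  Rule.mk (nat_lit 3) (nat_lit 115) (Steps.bwd (nat_lit 1) (Steps.fwd (nat_lit 6144) (Steps.fwd (nat_lit 10240) (Steps.fwd (nat_lit 6144) (Steps.bwd (nat_lit 2) (Steps.fwd (nat_lit 2048) (Steps.fwd (nat_lit 4096) (Steps.bwd (nat_lit 6) Steps.nil)))))))) (nat_lit 19) (nat_lit 3),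
  Rule.mk (nat_lit 1) (nat_lit 115) (Steps.fwd (nat_lit 4096) (Steps.fwd (nat_lit 10240) (Steps.bwd (nat_lit 3) (Steps.fwd (nat_lit 2048) (Steps.fwd (nat_lit 6144) (Steps.bwd (nat_lit 6) (Steps.fwd (nat_lit 6144) (Steps.fwd (nat_lit 4096) Steps.nil)))))))) (nat_lit 19) (nat_lit 0),
  Rule.mk (nat_lit 3) (nat_lit 115) (Steps.bwd (nat_lit 5) (Steps.fwd (nat_lit 4096) (Steps.fwd (nat_lit 2048) (Steps.fwd (nat_lit 4096) (Steps.fwd (nat_lit 6144) (Steps.fwd (nat_lit 12288) (Steps.fwd (nat_lit 6144) (Steps.bwd (nat_lit 1) Steps.nil)))))))) (nat_lit 18) (nat_lit 7),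
  Rule.mk (nat_lit 1) (nat_lit 115) (Steps.bwd (nat_lit 2) (Steps.bwd (nat_lit 6) (Steps.fwd (nat_lit 6144) (Steps.bwd (nat_lit 1) (Steps.fwd (nat_lit 6144) (Steps.fwd (nat_lit 10240) (Steps.bwd (nat_lit 3) (Steps.fwd (nat_lit 4096) Steps.nil)))))))) (nat_lit 19) (nat_lit 0),
  Rule.mk (nat_lit 3) (nat_lit 154) (Steps.fwd (nat_lit 2048) (Steps.bwd (nat_lit 2) (Steps.fwd (nat_lit 6144) (Steps.bwd (nat_lit 1) (Steps.fwd (nat_lit 4096) (Steps.fwd (nat_lit 6144) (Steps.fwd (nat_lit 2048) (Steps.fwd (nat_lit 4096) (Steps.bwd (nat_lit 3) (Steps.fwd (nat_lit 4096) (Steps.bwd (nat_lit 1) Steps.nil))))))))))) (nat_lit 14) (nat_lit 0),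
  Rule.mk (nat_lit 0) (nat_lit 167) (Steps.bwd (nat_lit 1) (Steps.fwd (nat_lit 6144) (Steps.fwd (nat_lit 4096) (Steps.bwd (nat_lit 1) (Steps.fwd (nat_lit 6144) (Steps.fwd (nat_lit 2048) (Steps.fwd (nat_lit 4096) (Steps.bwd (nat_lit 3) (Steps.fwd (nat_lit 4096) (Steps.bwd (nat_lit 1) (Steps.fwd (nat_lit 6144) (Steps.bwd (nat_lit 2) Steps.nil)))))))))))) (nat_lit 15) (nat_lit 8),
  Rule.mk (nat_lit 1) (nat_lit 37) (Steps.bwd (nat_lit 0) (Steps.bwd (nat_lit 1) Steps.nil)) (nat_lit 56) (nat_lit 0),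
  Rule.mk (nat_lit 3) (nat_lit 37) (Steps.bwd (nat_lit 0) (Steps.fwd (nat_lit 6144) Steps.nil)) (nat_lit 56) (nat_lit 0),
  Rule.mk (nat_lit 2) (nat_lit 50) (Steps.bwd (nat_lit 6) (Steps.fwd (nat_lit 4096) (Steps.fwd (nat_lit 12288) Steps.nil))) (nat_lit 16) (nat_lit 3),
  Rule.mk (nat_lit 3) (nat_lit 115) (Steps.bwd (nat_lit 6) (Steps.fwd (nat_lit 6144) (Steps.fwd (nat_lit 4096) (Steps.fwd (nat_lit 2048) (Steps.bwd (nat_lit 2) (Steps.fwd (nat_lit 10240) (Steps.fwd (nat_lit 6144) (Steps.fwd (nat_lit 2048) Steps.nil)))))))) (nat_lit 19) (nat_lit 5),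
  Rule.mk (nat_lit 1) (nat_lit 115) (Steps.fwd (nat_lit 4096) (Steps.bwd (nat_lit 6) (Steps.fwd (nat_lit 6144) (Steps.bwd (nat_lit 1) (Steps.fwd (nat_lit 6144) (Steps.fwd (nat_lit 10240) (Steps.bwd (nat_lit 3) (Steps.fwd (nat_lit 4096) Steps.nil)))))))) (nat_lit 19) (nat_lit 0),
  Rule.mk (nat_lit 3) (nat_lit 154) (Steps.bwd (nat_lit 6) (Steps.fwd (nat_lit 4096) (Steps.fwd (nat_lit 6144) (Steps.bwd (nat_lit 1) (Steps.bwd (nat_lit 2) (Steps.fwd (nat_lit 6144) (Steps.fwd (nat_lit 2048) (Steps.fwd (nat_lit 4096) (Steps.bwd (nat_lit 3) (Steps.fwd (nat_lit 12288) (Steps.fwd (nat_lit 4096) Steps.nil))))))))))) (nat_lit 20) (nat_lit 9),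
  Rule.mk (nat_lit 8) (nat_lit 154) (Steps.bwd (nat_lit 3) (Steps.fwd (nat_lit 2048) (Steps.bwd (nat_lit 7) (Steps.fwd (nat_lit 6144) (Steps.bwd (nat_lit 2) (Steps.fwd (nat_lit 2048) (Steps.bwd (nat_lit 3) (Steps.fwd (nat_lit 4096) (Steps.fwd (nat_lit 2048) (Steps.fwd (nat_lit 6144) (Steps.fwd (nat_lit 2048) Steps.nil))))))))))) (nat_lit 29) (nat_lit 3),
  Rule.mk (nat_lit 1) (nat_lit 154) (Steps.fwd (nat_lit 16384) (Steps.bwd (nat_lit 3) (Steps.fwd (nat_lit 4096) (Steps.fwd (nat_lit 2048) (Steps.fwd (nat_lit 6144) (Steps.fwd (nat_lit 4096) (Steps.fwd (nat_lit 2048) (Steps.bwd (nat_lit 3) (Steps.fwd (nat_lit 2048) (Steps.fwd (nat_lit 14336) (Steps.fwd (nat_lit 6144) Steps.nil))))))))))) (nat_lit 29) (nat_lit 5),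
  Rule.mk (nat_lit 3) (nat_lit 76) (Steps.bwd (nat_lit 8) (Steps.fwd (nat_lit 6144) (Steps.bwd (nat_lit 8) (Steps.bwd (nat_lit 3) (Steps.bwd (nat_lit 8) Steps.nil))))) (nat_lit 27) (nat_lit 0),
  Rule.mk (nat_lit 8) (nat_lit 37) (Steps.bwd (nat_lit 8) (Steps.bwd (nat_lit 8) Steps.nil)) (nat_lit 9) (nat_lit 0),
  Rule.mk (nat_lit 2) (nat_lit 76) (Steps.bwd (nat_lit 8) (Steps.fwd (nat_lit 6144) (Steps.fwd (nat_lit 4096) (Steps.bwd (nat_lit 8) (Steps.bwd (nat_lit 3) Steps.nil))))) (nat_lit 33) (nat_lit 0),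
  Rule.mk (nat_lit 3) (nat_lit 76) (Steps.bwd (nat_lit 7) (Steps.bwd (nat_lit 3) (Steps.fwd (nat_lit 16384) (Steps.bwd (nat_lit 3) (Steps.fwd (nat_lit 16384) Steps.nil))))) (nat_lit 26) (nat_lit 1),
  Rule.mk (nat_lit 7) (nat_lit 50) (Steps.bwd (nat_lit 2) (Steps.bwd (nat_lit 7) (Steps.bwd (nat_lit 2) Steps.nil))) (nat_lit 24) (nat_lit 0),
  Rule.mk (nat_lit 7) (nat_lit 37) (Steps.fwd (nat_lit 16384) (Steps.bwd (nat_lit 7) Steps.nil)) (nat_lit 8) (nat_lit 0),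
  Rule.mk (nat_lit 1) (nat_lit 50) (Steps.fwd (nat_lit 14336) (Steps.fwd (nat_lit 2048) (Steps.bwd (nat_lit 7) Steps.nil))) (nat_lit 22) (nat_lit 3),
  Rule.mk (nat_lit 7) (nat_lit 76) (Steps.bwd (nat_lit 3) (Steps.bwd (nat_lit 7) (Steps.bwd (nat_lit 3) (Steps.bwd (nat_lit 7) (Steps.fwd (nat_lit 6144) Steps.nil))))) (nat_lit 26) (nat_lit 0),
  Rule.mk (nat_lit 8) (nat_lit 76) (Steps.bwd (nat_lit 3) (Steps.fwd (nat_lit 14336) (Steps.bwd (nat_lit 3) (Steps.bwd (nat_lit 8) (Steps.bwd (nat_lit 3) Steps.nil))))) (nat_lit 27) (nat_lit 1),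
  Rule.mk (nat_lit 2) (nat_lit 102) (Steps.bwd (nat_lit 3) (Steps.bwd (nat_lit 2) (Steps.fwd (nat_lit 6144) (Steps.fwd (nat_lit 4096) (Steps.fwd (nat_lit 6144) (Steps.fwd (nat_lit 4096) (Steps.fwd (nat_lit 6144) Steps.nil))))))) (nat_lit 12) (nat_lit 1),
  Rule.mk (nat_lit 1) (nat_lit 154) (Steps.bwd (nat_lit 3) (Steps.fwd (nat_lit 2048) (Steps.bwd (nat_lit 2) (Steps.fwd (nat_lit 6144) (Steps.fwd (nat_lit 2048) (Steps.fwd (nat_lit 4096) (Steps.fwd (nat_lit 6144) (Steps.fwd (nat_lit 2048) (Steps.fwd (nat_lit 4096) (Steps.fwd (nat_lit 6144) (Steps.bwd (nat_lit 2) Steps.nil))))))))))) (nat_lit 14) (nat_lit 11),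
  Rule.mk (nat_lit 6) (nat_lit 50) (Steps.bwd (nat_lit 8) (Steps.fwd (nat_lit 12288) (Steps.bwd (nat_lit 7) Steps.nil))) (nat_lit 31) (nat_lit 3),
  Rule.mk (nat_lit 7) (nat_lit 50) (Steps.bwd (nat_lit 5) (Steps.bwd (nat_lit 8) (Steps.bwd (nat_lit 6) Steps.nil))) (nat_lit 30) (nat_lit 1),
  Rule.mk (nat_lit 8) (nat_lit 50) (Steps.bwd (nat_lit 5) (Steps.bwd (nat_lit 7) (Steps.bwd (nat_lit 6) Steps.nil))) (nat_lit 31) (nat_lit 0),
  Rule.mk (nat_lit 1) (nat_lit 50) (Steps.bwd (nat_lit 7) (Steps.bwd (nat_lit 1) (Steps.bwd (nat_lit 8) Steps.nil))) (nat_lit 22) (nat_lit 1),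
  Rule.mk (nat_lit 6) (nat_lit 50) (Steps.bwd (nat_lit 7) (Steps.fwd (nat_lit 12288) (Steps.bwd (nat_lit 8) Steps.nil))) (nat_lit 30) (nat_lit 0),
  Rule.mk (nat_lit 5) (nat_lit 50) (Steps.bwd (nat_lit 7) (Steps.bwd (nat_lit 6) (Steps.fwd (nat_lit 14336) Steps.nil))) (nat_lit 31) (nat_lit 1),
  Rule.mk (nat_lit 3) (nat_lit 154) (Steps.bwd (nat_lit 1) (Steps.bwd (nat_lit 7) (Steps.fwd (nat_lit 6144) (Steps.fwd (nat_lit 4096) (Steps.bwd (nat_lit 1) (Steps.fwd (nat_lit 6144) (Steps.fwd (nat_lit 4096) (Steps.fwd (nat_lit 2048) (Steps.bwd (nat_lit 3) (Steps.bwd (nat_lit 1) (Steps.bwd (nat_lit 8) Steps.nil))))))))))) (nat_lit 29) (nat_lit 4),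
  Rule.mk (nat_lit 3) (nat_lit 76) (Steps.bwd (nat_lit 7) (Steps.fwd (nat_lit 6144) (Steps.fwd (nat_lit 16384) (Steps.fwd (nat_lit 6144) (Steps.fwd (nat_lit 16384) Steps.nil))))) (nat_lit 26) (nat_lit 1),
  Rule.mk (nat_lit 5) (nat_lit 115) (Steps.bwd (nat_lit 3) (Steps.fwd (nat_lit 2048) (Steps.fwd (nat_lit 6144) (Steps.bwd (nat_lit 5) (Steps.fwd (nat_lit 4096) (Steps.fwd (nat_lit 2048) (Steps.bwd (nat_lit 2) (Steps.fwd (nat_lit 6144) Steps.nil)))))))) (nat_lit 18) (nat_lit 4),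
  Rule.mk (nat_lit 8) (nat_lit 154) (Steps.bwd (nat_lit 3) (Steps.fwd (nat_lit 2048) (Steps.fwd (nat_lit 16384) (Steps.fwd (nat_lit 6144) (Steps.fwd (nat_lit 4096) (Steps.fwd (nat_lit 2048) (Steps.bwd (nat_lit 3) (Steps.fwd (nat_lit 4096) (Steps.bwd (nat_lit 1) (Steps.fwd (nat_lit 6144) (Steps.fwd (nat_lit 2048) Steps.nil))))))))))) (nat_lit 29) (nat_lit 3),
  Rule.mk (nat_lit 2) (nat_lit 50) (Steps.bwd (nat_lit 6) (Steps.bwd (nat_lit 2) (Steps.bwd (nat_lit 5) Steps.nil))) (nat_lit 16) (nat_lit 3),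
  Rule.mk (nat_lit 7) (nat_lit 50) (Steps.bwd (nat_lit 6) (Steps.fwd (nat_lit 14336) (Steps.bwd (nat_lit 5) Steps.nil))) (nat_lit 31) (nat_lit 2),
  Rule.mk (nat_lit 1) (nat_lit 115) (Steps.bwd (nat_lit 3) (Steps.bwd (nat_lit 6) (Steps.fwd (nat_lit 6144) (Steps.fwd (nat_lit 4096) (Steps.fwd (nat_lit 2048) (Steps.bwd (nat_lit 2) (Steps.bwd (nat_lit 6) (Steps.fwd (nat_lit 6144) Steps.nil)))))))) (nat_lit 19) (nat_lit 4),
  Rule.mk (nat_lit 5) (nat_lit 154) (Steps.bwd (nat_lit 3) (Steps.fwd (nat_lit 4096) (Steps.fwd (nat_lit 10240) (Steps.fwd (nat_lit 6144) (Steps.fwd (nat_lit 4096) (Steps.fwd (nat_lit 2048) (Steps.fwd (nat_lit 6144) (Steps.fwd (nat_lit 4096) (Steps.fwd (nat_lit 2048) (Steps.fwd (nat_lit 6144) (Steps.bwd (nat_lit 2) Steps.nil))))))))))) (nat_lit 21) (nat_lit 3),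
  Rule.mk (nat_lit 5) (nat_lit 37) (Steps.fwd (nat_lit 12288) (Steps.bwd (nat_lit 5) Steps.nil)) (nat_lit 6) (nat_lit 0),
  Rule.mk (nat_lit 8) (nat_lit 50) (Steps.bwd (nat_lit 6) (Steps.bwd (nat_lit 7) (Steps.bwd (nat_lit 5) Steps.nil))) (nat_lit 30) (nat_lit 3),
  Rule.mk (nat_lit 2) (nat_lit 50) (Steps.bwd (nat_lit 8) (Steps.fwd (nat_lit 4096) (Steps.bwd (nat_lit 8) Steps.nil))) (nat_lit 25) (nat_lit 0),
  Rule.mk (nat_lit 5) (nat_lit 50) (Steps.bwd (nat_lit 8) (Steps.bwd (nat_lit 6) (Steps.bwd (nat_lit 7) Steps.nil))) (nat_lit 30) (nat_lit 2)]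
noncomputable def R_1 : List (Rule) := [Rule.mk (nat_lit 1) (nat_lit 50) (Steps.bwd (nat_lit 7) (Steps.fwd (nat_lit 2048) (Steps.bwd (nat_lit 8) Steps.nil))) (nat_lit 22) (nat_lit 1),
  Rule.mk (nat_lit 2) (nat_lit 50) (Steps.bwd (nat_lit 7) (Steps.bwd (nat_lit 2) (Steps.fwd (nat_lit 16384) Steps.nil))) (nat_lit 24) (nat_lit 1),
  Rule.mk (nat_lit 6) (nat_lit 50) (Steps.bwd (nat_lit 7) (Steps.bwd (nat_lit 5) (Steps.bwd (nat_lit 8) Steps.nil))) (nat_lit 30) (nat_lit 0),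
  Rule.mk (nat_lit 5) (nat_lit 50) (Steps.bwd (nat_lit 7) (Steps.fwd (nat_lit 10240) (Steps.bwd (nat_lit 8) Steps.nil))) (nat_lit 31) (nat_lit 1),
  Rule.mk (nat_lit 3) (nat_lit 76) (Steps.bwd (nat_lit 7) (Steps.bwd (nat_lit 2) (Steps.fwd (nat_lit 6144) (Steps.fwd (nat_lit 16384) (Steps.bwd (nat_lit 2) Steps.nil))))) (nat_lit 32) (nat_lit 2),
  Rule.mk (nat_lit 7) (nat_lit 50) (Steps.bwd (nat_lit 1) (Steps.fwd (nat_lit 14336) (Steps.bwd (nat_lit 1) Steps.nil))) (nat_lit 22) (nat_lit 2),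
  Rule.mk (nat_lit 8) (nat_lit 50) (Steps.bwd (nat_lit 1) (Steps.fwd (nat_lit 16384) (Steps.bwd (nat_lit 1) Steps.nil))) (nat_lit 22) (nat_lit 0),
  Rule.mk (nat_lit 3) (nat_lit 102) (Steps.bwd (nat_lit 1) (Steps.fwd (nat_lit 6144) (Steps.fwd (nat_lit 2048) (Steps.fwd (nat_lit 6144) (Steps.bwd (nat_lit 1) (Steps.bwd (nat_lit 3) (Steps.fwd (nat_lit 2048) Steps.nil))))))) (nat_lit 10) (nat_lit 0),
  Rule.mk (nat_lit 5) (nat_lit 115) (Steps.fwd (nat_lit 6144) (Steps.bwd (nat_lit 1) (Steps.fwd (nat_lit 6144) (Steps.bwd (nat_lit 5) (Steps.bwd (nat_lit 2) (Steps.fwd (nat_lit 2048) (Steps.fwd (nat_lit 4096) (Steps.bwd (nat_lit 3) Steps.nil)))))))) (nat_lit 18) (nat_lit 4),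
  Rule.mk (nat_lit 2) (nat_lit 115) (Steps.bwd (nat_lit 1) (Steps.fwd (nat_lit 4096) (Steps.fwd (nat_lit 10240) (Steps.fwd (nat_lit 6144) (Steps.fwd (nat_lit 2048) (Steps.bwd (nat_lit 3) (Steps.fwd (nat_lit 10240) (Steps.fwd (nat_lit 6144) Steps.nil)))))))) (nat_lit 19) (nat_lit 8),
  Rule.mk (nat_lit 6) (nat_lit 115) (Steps.fwd (nat_lit 6144) (Steps.bwd (nat_lit 1) (Steps.fwd (nat_lit 6144) (Steps.fwd (nat_lit 10240) (Steps.bwd (nat_lit 3) (Steps.bwd (nat_lit 2) (Steps.fwd (nat_lit 2048) (Steps.fwd (nat_lit 4096) Steps.nil)))))))) (nat_lit 19) (nat_lit 2),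
  Rule.mk (nat_lit 5) (nat_lit 50) (Steps.bwd (nat_lit 7) (Steps.fwd (nat_lit 10240) (Steps.fwd (nat_lit 14336) Steps.nil))) (nat_lit 31) (nat_lit 1),
  Rule.mk (nat_lit 8) (nat_lit 50) (Steps.bwd (nat_lit 6) (Steps.fwd (nat_lit 16384) (Steps.bwd (nat_lit 5) Steps.nil))) (nat_lit 30) (nat_lit 3),
  Rule.mk (nat_lit 7) (nat_lit 50) (Steps.bwd (nat_lit 6) (Steps.bwd (nat_lit 8) (Steps.bwd (nat_lit 5) Steps.nil))) (nat_lit 31) (nat_lit 2),
  Rule.mk (nat_lit 7) (nat_lit 76) (Steps.bwd (nat_lit 3) (Steps.fwd (nat_lit 16384) (Steps.fwd (nat_lit 6144) (Steps.fwd (nat_lit 16384) (Steps.bwd (nat_lit 3) Steps.nil))))) (nat_lit 26) (nat_lit 0),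
  Rule.mk (nat_lit 8) (nat_lit 76) (Steps.bwd (nat_lit 3) (Steps.fwd (nat_lit 14336) (Steps.bwd (nat_lit 3) (Steps.fwd (nat_lit 14336) (Steps.fwd (nat_lit 6144) Steps.nil))))) (nat_lit 27) (nat_lit 1),
  Rule.mk (nat_lit 2) (nat_lit 76) (Steps.bwd (nat_lit 3) (Steps.fwd (nat_lit 16384) (Steps.bwd (nat_lit 2) (Steps.fwd (nat_lit 6144) (Steps.fwd (nat_lit 16384) Steps.nil))))) (nat_lit 32) (nat_lit 1),
  Rule.mk (nat_lit 5) (nat_lit 154) (Steps.bwd (nat_lit 3) (Steps.fwd (nat_lit 4096) (Steps.fwd (nat_lit 10240) (Steps.fwd (nat_lit 6144) (Steps.bwd (nat_lit 2) (Steps.fwd (nat_lit 2048) (Steps.bwd (nat_lit 3) (Steps.bwd (nat_lit 2) (Steps.fwd (nat_lit 2048) (Steps.fwd (nat_lit 6144) (Steps.fwd (nat_lit 4096) Steps.nil))))))))))) (nat_lit 21) (nat_lit 3),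
  Rule.mk (nat_lit 1) (nat_lit 50) (Steps.bwd (nat_lit 8) (Steps.fwd (nat_lit 2048) (Steps.bwd (nat_lit 7) Steps.nil))) (nat_lit 22) (nat_lit 3),
  Rule.mk (nat_lit 6) (nat_lit 50) (Steps.bwd (nat_lit 8) (Steps.fwd (nat_lit 12288) (Steps.fwd (nat_lit 16384) Steps.nil))) (nat_lit 31) (nat_lit 3),
  Rule.mk (nat_lit 3) (nat_lit 115) (Steps.fwd (nat_lit 2048) (Steps.bwd (nat_lit 3) (Steps.bwd (nat_lit 6) (Steps.bwd (nat_lit 3) (Steps.bwd (nat_lit 2) (Steps.fwd (nat_lit 2048) (Steps.fwd (nat_lit 4096) (Steps.bwd (nat_lit 6) Steps.nil)))))))) (nat_lit 19) (nat_lit 3),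
  Rule.mk (nat_lit 3) (nat_lit 76) (Steps.bwd (nat_lit 8) (Steps.fwd (nat_lit 6144) (Steps.bwd (nat_lit 8) (Steps.fwd (nat_lit 6144) (Steps.bwd (nat_lit 8) Steps.nil))))) (nat_lit 27) (nat_lit 0),
  Rule.mk (nat_lit 2) (nat_lit 76) (Steps.fwd (nat_lit 6144) (Steps.fwd (nat_lit 16384) (Steps.fwd (nat_lit 4096) (Steps.fwd (nat_lit 6144) (Steps.fwd (nat_lit 16384) Steps.nil))))) (nat_lit 32) (nat_lit 1),
  Rule.mk (nat_lit 3) (nat_lit 102) (Steps.bwd (nat_lit 1) (Steps.fwd (nat_lit 6144) (Steps.bwd (nat_lit 1) (Steps.fwd (nat_lit 6144) (Steps.fwd (nat_lit 2048) (Steps.bwd (nat_lit 3) (Steps.fwd (nat_lit 2048) Steps.nil))))))) (nat_lit 10) (nat_lit 0),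
  Rule.mk (nat_lit 5) (nat_lit 115) (Steps.fwd (nat_lit 6144) (Steps.bwd (nat_lit 1) (Steps.fwd (nat_lit 6144) (Steps.bwd (nat_lit 5) (Steps.bwd (nat_lit 2) (Steps.fwd (nat_lit 2048) (Steps.bwd (nat_lit 2) (Steps.bwd (nat_lit 3) Steps.nil)))))))) (nat_lit 18) (nat_lit 4),
  Rule.mk (nat_lit 6) (nat_lit 115) (Steps.fwd (nat_lit 6144) (Steps.bwd (nat_lit 1) (Steps.fwd (nat_lit 6144) (Steps.fwd (nat_lit 10240) (Steps.fwd (nat_lit 6144) (Steps.fwd (nat_lit 4096) (Steps.fwd (nat_lit 2048) (Steps.bwd (nat_lit 2) Steps.nil)))))))) (nat_lit 19) (nat_lit 2),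
  Rule.mk (nat_lit 7) (nat_lit 50) (Steps.bwd (nat_lit 1) (Steps.bwd (nat_lit 8) (Steps.fwd (nat_lit 2048) Steps.nil))) (nat_lit 22) (nat_lit 2),
  Rule.mk (nat_lit 8) (nat_lit 50) (Steps.bwd (nat_lit 1) (Steps.bwd (nat_lit 7) (Steps.bwd (nat_lit 1) Steps.nil))) (nat_lit 22) (nat_lit 0),
  Rule.mk (nat_lit 5) (nat_lit 115) (Steps.fwd (nat_lit 6144) (Steps.bwd (nat_lit 1) (Steps.fwd (nat_lit 6144) (Steps.bwd (nat_lit 5) (Steps.fwd (nat_lit 4096) (Steps.bwd (nat_lit 1) (Steps.bwd (nat_lit 2) (Steps.bwd (nat_lit 3) Steps.nil)))))))) (nat_lit 18) (nat_lit 4),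
  Rule.mk (nat_lit 2) (nat_lit 115) (Steps.bwd (nat_lit 1) (Steps.bwd (nat_lit 2) (Steps.fwd (nat_lit 6144) (Steps.bwd (nat_lit 5) (Steps.fwd (nat_lit 6144) (Steps.fwd (nat_lit 2048) (Steps.bwd (nat_lit 3) (Steps.bwd (nat_lit 5) Steps.nil)))))))) (nat_lit 18) (nat_lit 0),
  Rule.mk (nat_lit 2) (nat_lit 115) (Steps.bwd (nat_lit 4) (Steps.fwd (nat_lit 2048) (Steps.fwd (nat_lit 6144) (Steps.bwd (nat_lit 2) (Steps.fwd (nat_lit 6144) (Steps.fwd (nat_lit 4096) (Steps.bwd (nat_lit 1) (Steps.fwd (nat_lit 8192) Steps.nil)))))))) (nat_lit 40) (nat_lit 2),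
  Rule.mk (nat_lit 1) (nat_lit 50) (Steps.bwd (nat_lit 4) (Steps.bwd (nat_lit 1) (Steps.fwd (nat_lit 8192) Steps.nil))) (nat_lit 38) (nat_lit 0),
  Rule.mk (nat_lit 2) (nat_lit 115) (Steps.bwd (nat_lit 4) (Steps.bwd (nat_lit 1) (Steps.fwd (nat_lit 6144) (Steps.fwd (nat_lit 4096) (Steps.fwd (nat_lit 6144) (Steps.fwd (nat_lit 4096) (Steps.fwd (nat_lit 2048) (Steps.fwd (nat_lit 8192) Steps.nil)))))))) (nat_lit 40) (nat_lit 2),
  Rule.mk (nat_lit 2) (nat_lit 115) (Steps.bwd (nat_lit 4) (Steps.bwd (nat_lit 1) (Steps.fwd (nat_lit 6144) (Steps.fwd (nat_lit 4096) (Steps.fwd (nat_lit 6144) (Steps.bwd (nat_lit 2) (Steps.fwd (nat_lit 2048) (Steps.fwd (nat_lit 8192) Steps.nil)))))))) (nat_lit 40) (nat_lit 2),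
  Rule.mk (nat_lit 2) (nat_lit 115) (Steps.bwd (nat_lit 4) (Steps.fwd (nat_lit 2048) (Steps.bwd (nat_lit 3) (Steps.fwd (nat_lit 4096) (Steps.fwd (nat_lit 6144) (Steps.bwd (nat_lit 2) (Steps.bwd (nat_lit 1) (Steps.fwd (nat_lit 8192) Steps.nil)))))))) (nat_lit 40) (nat_lit 2),
  Rule.mk (nat_lit 2) (nat_lit 115) (Steps.bwd (nat_lit 4) (Steps.bwd (nat_lit 1) (Steps.fwd (nat_lit 6144) (Steps.bwd (nat_lit 2) (Steps.fwd (nat_lit 6144) (Steps.fwd (nat_lit 4096) (Steps.fwd (nat_lit 2048) (Steps.fwd (nat_lit 8192) Steps.nil)))))))) (nat_lit 40) (nat_lit 2),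
  Rule.mk (nat_lit 2) (nat_lit 193) (Steps.bwd (nat_lit 8) (Steps.bwd (nat_lit 4) (Steps.bwd (nat_lit 2) (Steps.bwd (nat_lit 8) (Steps.bwd (nat_lit 4) (Steps.bwd (nat_lit 2) (Steps.bwd (nat_lit 8) (Steps.fwd (nat_lit 8192) (Steps.fwd (nat_lit 4096) (Steps.fwd (nat_lit 14336) (Steps.fwd (nat_lit 8192) (Steps.fwd (nat_lit 4096) (Steps.fwd (nat_lit 14336) (Steps.fwd (nat_lit 8192) Steps.nil)))))))))))))) (nat_lit 47) (nat_lit 0),
  Rule.mk (nat_lit 4) (nat_lit 115) (Steps.fwd (nat_lit 2048) (Steps.fwd (nat_lit 6144) (Steps.fwd (nat_lit 4096) (Steps.fwd (nat_lit 6144) (Steps.fwd (nat_lit 4096) (Steps.fwd (nat_lit 2048) (Steps.fwd (nat_lit 8192) (Steps.bwd (nat_lit 2) Steps.nil)))))))) (nat_lit 40) (nat_lit 3),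
  Rule.mk (nat_lit 2) (nat_lit 115) (Steps.bwd (nat_lit 4) (Steps.fwd (nat_lit 2048) (Steps.bwd (nat_lit 3) (Steps.fwd (nat_lit 4096) (Steps.fwd (nat_lit 6144) (Steps.fwd (nat_lit 4096) (Steps.fwd (nat_lit 2048) (Steps.fwd (nat_lit 8192) Steps.nil)))))))) (nat_lit 40) (nat_lit 2),
  Rule.mk (nat_lit 2) (nat_lit 115) (Steps.bwd (nat_lit 4) (Steps.fwd (nat_lit 2048) (Steps.fwd (nat_lit 6144) (Steps.fwd (nat_lit 4096) (Steps.bwd (nat_lit 3) (Steps.bwd (nat_lit 2) (Steps.fwd (nat_lit 2048) (Steps.fwd (nat_lit 8192) Steps.nil)))))))) (nat_lit 40) (nat_lit 2),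
  Rule.mk (nat_lit 2) (nat_lit 115) (Steps.bwd (nat_lit 4) (Steps.fwd (nat_lit 2048) (Steps.bwd (nat_lit 3) (Steps.bwd (nat_lit 2) (Steps.fwd (nat_lit 6144) (Steps.fwd (nat_lit 4096) (Steps.fwd (nat_lit 2048) (Steps.fwd (nat_lit 8192) Steps.nil)))))))) (nat_lit 40) (nat_lit 2),
  Rule.mk (nat_lit 2) (nat_lit 115) (Steps.bwd (nat_lit 4) (Steps.bwd (nat_lit 1) (Steps.fwd (nat_lit 6144) (Steps.fwd (nat_lit 4096) (Steps.bwd (nat_lit 3) (Steps.fwd (nat_lit 4096) (Steps.fwd (nat_lit 2048) (Steps.fwd (nat_lit 8192) Steps.nil)))))))) (nat_lit 40) (nat_lit 2),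
  Rule.mk (nat_lit 2) (nat_lit 115) (Steps.bwd (nat_lit 4) (Steps.fwd (nat_lit 2048) (Steps.fwd (nat_lit 6144) (Steps.fwd (nat_lit 4096) (Steps.fwd (nat_lit 6144) (Steps.bwd (nat_lit 2) (Steps.bwd (nat_lit 1) (Steps.fwd (nat_lit 8192) Steps.nil)))))))) (nat_lit 40) (nat_lit 2),
  Rule.mk (nat_lit 2) (nat_lit 115) (Steps.bwd (nat_lit 4) (Steps.fwd (nat_lit 2048) (Steps.bwd (nat_lit 3) (Steps.bwd (nat_lit 2) (Steps.fwd (nat_lit 6144) (Steps.fwd (nat_lit 4096) (Steps.bwd (nat_lit 1) (Steps.fwd (nat_lit 8192) Steps.nil)))))))) (nat_lit 40) (nat_lit 2),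
  Rule.mk (nat_lit 2) (nat_lit 115) (Steps.bwd (nat_lit 4) (Steps.bwd (nat_lit 1) (Steps.fwd (nat_lit 6144) (Steps.fwd (nat_lit 4096) (Steps.bwd (nat_lit 3) (Steps.bwd (nat_lit 2) (Steps.fwd (nat_lit 2048) (Steps.fwd (nat_lit 8192) Steps.nil)))))))) (nat_lit 40) (nat_lit 2),
  Rule.mk (nat_lit 2) (nat_lit 115) (Steps.bwd (nat_lit 3) (Steps.fwd (nat_lit 4096) (Steps.bwd (nat_lit 1) (Steps.bwd (nat_lit 4) (Steps.fwd (nat_lit 4096) (Steps.fwd (nat_lit 8192) (Steps.fwd (nat_lit 2048) (Steps.fwd (nat_lit 6144) Steps.nil)))))))) (nat_lit 40) (nat_lit 6),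
  Rule.mk (nat_lit 1) (nat_lit 115) (Steps.bwd (nat_lit 3) (Steps.bwd (nat_lit 1) (Steps.bwd (nat_lit 4) (Steps.bwd (nat_lit 3) (Steps.bwd (nat_lit 1) (Steps.fwd (nat_lit 6144) (Steps.fwd (nat_lit 8192) (Steps.fwd (nat_lit 6144) Steps.nil)))))))) (nat_lit 42) (nat_lit 7),
  Rule.mk (nat_lit 4) (nat_lit 50) (Steps.bwd (nat_lit 1) (Steps.fwd (nat_lit 8192) (Steps.fwd (nat_lit 2048) Steps.nil))) (nat_lit 38) (nat_lit 1),
  Rule.mk (nat_lit 2) (nat_lit 115) (Steps.fwd (nat_lit 8192) (Steps.bwd (nat_lit 1) (Steps.bwd (nat_lit 3) (Steps.bwd (nat_lit 2) (Steps.fwd (nat_lit 6144) (Steps.fwd (nat_lit 4096) (Steps.fwd (nat_lit 2048) (Steps.fwd (nat_lit 8192) Steps.nil)))))))) (nat_lit 40) (nat_lit 2),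
  Rule.mk (nat_lit 3) (nat_lit 115) (Steps.bwd (nat_lit 1) (Steps.fwd (nat_lit 8192) (Steps.bwd (nat_lit 2) (Steps.fwd (nat_lit 8192) (Steps.bwd (nat_lit 1) (Steps.fwd (nat_lit 4096) (Steps.bwd (nat_lit 3) (Steps.fwd (nat_lit 4096) Steps.nil)))))))) (nat_lit 41) (nat_lit 5),
  Rule.mk (nat_lit 5) (nat_lit 128) (Steps.bwd (nat_lit 4) (Steps.bwd (nat_lit 5) (Steps.bwd (nat_lit 4) (Steps.bwd (nat_lit 5) (Steps.bwd (nat_lit 4) (Steps.fwd (nat_lit 12288) (Steps.fwd (nat_lit 8192) (Steps.bwd (nat_lit 5) (Steps.fwd (nat_lit 8192) Steps.nil))))))))) (nat_lit 50) (nat_lit 0),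
  Rule.mk (nat_lit 2) (nat_lit 50) (Steps.fwd (nat_lit 10240) (Steps.fwd (nat_lit 4096) (Steps.bwd (nat_lit 5) Steps.nil))) (nat_lit 16) (nat_lit 3),
  Rule.mk (nat_lit 6) (nat_lit 50) (Steps.bwd (nat_lit 2) (Steps.bwd (nat_lit 5) (Steps.bwd (nat_lit 2) Steps.nil))) (nat_lit 16) (nat_lit 0),
  Rule.mk (nat_lit 4) (nat_lit 128) (Steps.bwd (nat_lit 6) (Steps.bwd (nat_lit 4) (Steps.bwd (nat_lit 6) (Steps.bwd (nat_lit 4) (Steps.fwd (nat_lit 10240) (Steps.fwd (nat_lit 8192) (Steps.bwd (nat_lit 6) (Steps.fwd (nat_lit 8192) (Steps.bwd (nat_lit 6) Steps.nil))))))))) (nat_lit 51) (nat_lit 0),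
  Rule.mk (nat_lit 2) (nat_lit 50) (Steps.bwd (nat_lit 5) (Steps.fwd (nat_lit 4096) (Steps.bwd (nat_lit 6) Steps.nil))) (nat_lit 16) (nat_lit 1),
  Rule.mk (nat_lit 8) (nat_lit 50) (Steps.bwd (nat_lit 5) (Steps.bwd (nat_lit 7) (Steps.fwd (nat_lit 10240) Steps.nil))) (nat_lit 31) (nat_lit 0),
  Rule.mk (nat_lit 7) (nat_lit 50) (Steps.bwd (nat_lit 2) (Steps.bwd (nat_lit 7) (Steps.fwd (nat_lit 4096) Steps.nil))) (nat_lit 24) (nat_lit 0),
  Rule.mk (nat_lit 3) (nat_lit 76) (Steps.bwd (nat_lit 7) (Steps.bwd (nat_lit 2) (Steps.bwd (nat_lit 3) (Steps.fwd (nat_lit 16384) (Steps.fwd (nat_lit 4096) Steps.nil))))) (nat_lit 32) (nat_lit 2),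
  Rule.mk (nat_lit 8) (nat_lit 50) (Steps.bwd (nat_lit 2) (Steps.bwd (nat_lit 8) (Steps.fwd (nat_lit 4096) Steps.nil))) (nat_lit 25) (nat_lit 1),
  Rule.mk (nat_lit 8) (nat_lit 50) (Steps.bwd (nat_lit 1) (Steps.fwd (nat_lit 16384) (Steps.fwd (nat_lit 2048) Steps.nil))) (nat_lit 22) (nat_lit 0),
  Rule.mk (nat_lit 7) (nat_lit 37) (Steps.bwd (nat_lit 7) (Steps.bwd (nat_lit 7) Steps.nil)) (nat_lit 8) (nat_lit 0),
  Rule.mk (nat_lit 2) (nat_lit 50) (Steps.bwd (nat_lit 7) (Steps.fwd (nat_lit 4096) (Steps.bwd (nat_lit 7) Steps.nil))) (nat_lit 24) (nat_lit 1),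
  Rule.mk (nat_lit 3) (nat_lit 76) (Steps.bwd (nat_lit 7) (Steps.fwd (nat_lit 6144) (Steps.bwd (nat_lit 7) (Steps.fwd (nat_lit 6144) (Steps.bwd (nat_lit 7) Steps.nil))))) (nat_lit 26) (nat_lit 1),
  Rule.mk (nat_lit 3) (nat_lit 76) (Steps.bwd (nat_lit 7) (Steps.bwd (nat_lit 2) (Steps.fwd (nat_lit 6144) (Steps.bwd (nat_lit 7) (Steps.fwd (nat_lit 4096) Steps.nil))))) (nat_lit 32) (nat_lit 2)]
noncomputable def R_2 : List (Rule) := [Rule.mk (nat_lit 3) (nat_lit 102) (Steps.fwd (nat_lit 4096) (Steps.bwd (nat_lit 3) (Steps.fwd (nat_lit 4096) (Steps.fwd (nat_lit 6144) (Steps.bwd (nat_lit 2) (Steps.fwd (nat_lit 6144) (Steps.bwd (nat_lit 2) Steps.nil))))))) (nat_lit 12) (nat_lit 0),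
  Rule.mk (nat_lit 7) (nat_lit 37) (Steps.bwd (nat_lit 7) (Steps.fwd (nat_lit 16384) Steps.nil)) (nat_lit 8) (nat_lit 0),
  Rule.mk (nat_lit 6) (nat_lit 50) (Steps.bwd (nat_lit 7) (Steps.fwd (nat_lit 12288) (Steps.fwd (nat_lit 14336) Steps.nil))) (nat_lit 30) (nat_lit 0),
  Rule.mk (nat_lit 5) (nat_lit 37) (Steps.bwd (nat_lit 5) (Steps.fwd (nat_lit 12288) Steps.nil)) (nat_lit 6) (nat_lit 0),
  Rule.mk (nat_lit 6) (nat_lit 50) (Steps.bwd (nat_lit 8) (Steps.bwd (nat_lit 5) (Steps.bwd (nat_lit 7) Steps.nil))) (nat_lit 31) (nat_lit 3),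
  Rule.mk (nat_lit 2) (nat_lit 50) (Steps.bwd (nat_lit 7) (Steps.bwd (nat_lit 2) (Steps.bwd (nat_lit 7) Steps.nil))) (nat_lit 24) (nat_lit 1),
  Rule.mk (nat_lit 3) (nat_lit 76) (Steps.bwd (nat_lit 7) (Steps.bwd (nat_lit 3) (Steps.bwd (nat_lit 7) (Steps.bwd (nat_lit 3) (Steps.bwd (nat_lit 7) Steps.nil))))) (nat_lit 26) (nat_lit 1),
  Rule.mk (nat_lit 5) (nat_lit 50) (Steps.bwd (nat_lit 8) (Steps.fwd (nat_lit 10240) (Steps.bwd (nat_lit 7) Steps.nil))) (nat_lit 30) (nat_lit 2),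
  Rule.mk (nat_lit 6) (nat_lit 50) (Steps.bwd (nat_lit 8) (Steps.bwd (nat_lit 5) (Steps.fwd (nat_lit 16384) Steps.nil))) (nat_lit 31) (nat_lit 3),
  Rule.mk (nat_lit 6) (nat_lit 37) (Steps.bwd (nat_lit 6) (Steps.fwd (nat_lit 10240) Steps.nil)) (nat_lit 7) (nat_lit 0),
  Rule.mk (nat_lit 5) (nat_lit 50) (Steps.bwd (nat_lit 7) (Steps.bwd (nat_lit 6) (Steps.bwd (nat_lit 8) Steps.nil))) (nat_lit 31) (nat_lit 1),
  Rule.mk (nat_lit 8) (nat_lit 50) (Steps.bwd (nat_lit 5) (Steps.fwd (nat_lit 16384) (Steps.bwd (nat_lit 6) Steps.nil))) (nat_lit 31) (nat_lit 0),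
  Rule.mk (nat_lit 1) (nat_lit 50) (Steps.bwd (nat_lit 7) (Steps.bwd (nat_lit 1) (Steps.fwd (nat_lit 14336) Steps.nil))) (nat_lit 22) (nat_lit 1),
  Rule.mk (nat_lit 2) (nat_lit 50) (Steps.fwd (nat_lit 10240) (Steps.bwd (nat_lit 2) (Steps.bwd (nat_lit 5) Steps.nil))) (nat_lit 16) (nat_lit 3),
  Rule.mk (nat_lit 1) (nat_lit 50) (Steps.bwd (nat_lit 8) (Steps.bwd (nat_lit 1) (Steps.bwd (nat_lit 7) Steps.nil))) (nat_lit 22) (nat_lit 3),
  Rule.mk (nat_lit 3) (nat_lit 76) (Steps.bwd (nat_lit 7) (Steps.fwd (nat_lit 4096) (Steps.bwd (nat_lit 3) (Steps.fwd (nat_lit 16384) (Steps.fwd (nat_lit 4096) Steps.nil))))) (nat_lit 32) (nat_lit 2),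
  Rule.mk (nat_lit 3) (nat_lit 76) (Steps.fwd (nat_lit 16384) (Steps.bwd (nat_lit 3) (Steps.bwd (nat_lit 7) (Steps.fwd (nat_lit 6144) (Steps.fwd (nat_lit 16384) Steps.nil))))) (nat_lit 26) (nat_lit 1),
  Rule.mk (nat_lit 3) (nat_lit 154) (Steps.fwd (nat_lit 2048) (Steps.fwd (nat_lit 4096) (Steps.bwd (nat_lit 3) (Steps.fwd (nat_lit 4096) (Steps.bwd (nat_lit 1) (Steps.bwd (nat_lit 3) (Steps.fwd (nat_lit 2048) (Steps.fwd (nat_lit 4096) (Steps.bwd (nat_lit 3) (Steps.fwd (nat_lit 2048) (Steps.fwd (nat_lit 4096) Steps.nil))))))))))) (nat_lit 14) (nat_lit 6),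
  Rule.mk (nat_lit 3) (nat_lit 154) (Steps.fwd (nat_lit 2048) (Steps.fwd (nat_lit 4096) (Steps.fwd (nat_lit 6144) (Steps.bwd (nat_lit 1) (Steps.bwd (nat_lit 2) (Steps.bwd (nat_lit 3) (Steps.fwd (nat_lit 4096) (Steps.fwd (nat_lit 2048) (Steps.fwd (nat_lit 6144) (Steps.bwd (nat_lit 1) (Steps.bwd (nat_lit 2) Steps.nil))))))))))) (nat_lit 14) (nat_lit 3),
  Rule.mk (nat_lit 3) (nat_lit 154) (Steps.bwd (nat_lit 6) (Steps.fwd (nat_lit 4096) (Steps.fwd (nat_lit 6144) (Steps.bwd (nat_lit 1) (Steps.bwd (nat_lit 2) (Steps.bwd (nat_lit 3) (Steps.fwd (nat_lit 2048) (Steps.fwd (nat_lit 4096) (Steps.bwd (nat_lit 3) (Steps.bwd (nat_lit 5) (Steps.bwd (nat_lit 2) Steps.nil))))))))))) (nat_lit 20) (nat_lit 9),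
  Rule.mk (nat_lit 3) (nat_lit 154) (Steps.bwd (nat_lit 2) (Steps.fwd (nat_lit 10240) (Steps.bwd (nat_lit 3) (Steps.fwd (nat_lit 4096) (Steps.bwd (nat_lit 1) (Steps.bwd (nat_lit 3) (Steps.fwd (nat_lit 4096) (Steps.fwd (nat_lit 2048) (Steps.fwd (nat_lit 6144) (Steps.bwd (nat_lit 2) (Steps.fwd (nat_lit 12288) Steps.nil))))))))))) (nat_lit 21) (nat_lit 4),
  Rule.mk (nat_lit 5) (nat_lit 154) (Steps.bwd (nat_lit 3) (Steps.bwd (nat_lit 2) (Steps.fwd (nat_lit 10240) (Steps.fwd (nat_lit 6144) (Steps.bwd (nat_lit 2) (Steps.bwd (nat_lit 1) (Steps.fwd (nat_lit 6144) (Steps.bwd (nat_lit 2) (Steps.bwd (nat_lit 1) (Steps.fwd (nat_lit 6144) (Steps.fwd (nat_lit 4096) Steps.nil))))))))))) (nat_lit 21) (nat_lit 3),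
  Rule.mk (nat_lit 3) (nat_lit 76) (Steps.fwd (nat_lit 16384) (Steps.fwd (nat_lit 4096) (Steps.fwd (nat_lit 6144) (Steps.bwd (nat_lit 7) (Steps.fwd (nat_lit 4096) Steps.nil))))) (nat_lit 32) (nat_lit 2),
  Rule.mk (nat_lit 3) (nat_lit 76) (Steps.fwd (nat_lit 16384) (Steps.fwd (nat_lit 6144) (Steps.bwd (nat_lit 7) (Steps.bwd (nat_lit 3) (Steps.fwd (nat_lit 16384) Steps.nil))))) (nat_lit 26) (nat_lit 1),
  Rule.mk (nat_lit 5) (nat_lit 50) (Steps.bwd (nat_lit 8) (Steps.bwd (nat_lit 6) (Steps.fwd (nat_lit 16384) Steps.nil))) (nat_lit 30) (nat_lit 2),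
  Rule.mk (nat_lit 3) (nat_lit 76) (Steps.bwd (nat_lit 8) (Steps.bwd (nat_lit 3) (Steps.fwd (nat_lit 14336) (Steps.fwd (nat_lit 6144) (Steps.bwd (nat_lit 8) Steps.nil))))) (nat_lit 27) (nat_lit 0),
  Rule.mk (nat_lit 8) (nat_lit 50) (Steps.bwd (nat_lit 5) (Steps.fwd (nat_lit 16384) (Steps.fwd (nat_lit 10240) Steps.nil))) (nat_lit 31) (nat_lit 0),
  Rule.mk (nat_lit 3) (nat_lit 115) (Steps.bwd (nat_lit 1) (Steps.fwd (nat_lit 6144) (Steps.fwd (nat_lit 10240) (Steps.fwd (nat_lit 6144) (Steps.bwd (nat_lit 2) (Steps.bwd (nat_lit 1) (Steps.bwd (nat_lit 2) (Steps.fwd (nat_lit 10240) Steps.nil)))))))) (nat_lit 19) (nat_lit 3),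
  Rule.mk (nat_lit 1) (nat_lit 115) (Steps.bwd (nat_lit 2) (Steps.bwd (nat_lit 6) (Steps.fwd (nat_lit 6144) (Steps.fwd (nat_lit 2048) (Steps.fwd (nat_lit 6144) (Steps.bwd (nat_lit 6) (Steps.fwd (nat_lit 6144) (Steps.fwd (nat_lit 4096) Steps.nil)))))))) (nat_lit 19) (nat_lit 0),
  Rule.mk (nat_lit 1) (nat_lit 50) (Steps.fwd (nat_lit 16384) (Steps.bwd (nat_lit 1) (Steps.bwd (nat_lit 8) Steps.nil))) (nat_lit 22) (nat_lit 1),
  Rule.mk (nat_lit 1) (nat_lit 50) (Steps.bwd (nat_lit 8) (Steps.bwd (nat_lit 1) (Steps.fwd (nat_lit 16384) Steps.nil))) (nat_lit 22) (nat_lit 3),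
  Rule.mk (nat_lit 3) (nat_lit 115) (Steps.fwd (nat_lit 12288) (Steps.fwd (nat_lit 6144) (Steps.fwd (nat_lit 2048) (Steps.fwd (nat_lit 6144) (Steps.fwd (nat_lit 12288) (Steps.fwd (nat_lit 4096) (Steps.bwd (nat_lit 1) (Steps.bwd (nat_lit 2) Steps.nil)))))))) (nat_lit 18) (nat_lit 3),
  Rule.mk (nat_lit 1) (nat_lit 115) (Steps.fwd (nat_lit 4096) (Steps.bwd (nat_lit 6) (Steps.fwd (nat_lit 6144) (Steps.bwd (nat_lit 1) (Steps.fwd (nat_lit 6144) (Steps.fwd (nat_lit 10240) (Steps.bwd (nat_lit 3) (Steps.bwd (nat_lit 2) Steps.nil)))))))) (nat_lit 19) (nat_lit 0),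
  Rule.mk (nat_lit 1) (nat_lit 115) (Steps.fwd (nat_lit 6144) (Steps.bwd (nat_lit 6) (Steps.fwd (nat_lit 6144) (Steps.fwd (nat_lit 4096) (Steps.fwd (nat_lit 2048) (Steps.fwd (nat_lit 4096) (Steps.fwd (nat_lit 10240) (Steps.bwd (nat_lit 3) Steps.nil)))))))) (nat_lit 19) (nat_lit 4),
  Rule.mk (nat_lit 1) (nat_lit 115) (Steps.fwd (nat_lit 4096) (Steps.bwd (nat_lit 6) (Steps.fwd (nat_lit 6144) (Steps.fwd (nat_lit 2048) (Steps.fwd (nat_lit 6144) (Steps.bwd (nat_lit 6) (Steps.fwd (nat_lit 6144) (Steps.fwd (nat_lit 4096) Steps.nil)))))))) (nat_lit 19) (nat_lit 0),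
  Rule.mk (nat_lit 0) (nat_lit 63) (Steps.bwd (nat_lit 1) (Steps.fwd (nat_lit 16384) (Steps.bwd (nat_lit 1) (Steps.bwd (nat_lit 8) Steps.nil)))) (nat_lit 22) (nat_lit 0),
  Rule.mk (nat_lit 1) (nat_lit 50) (Steps.fwd (nat_lit 14336) (Steps.bwd (nat_lit 1) (Steps.bwd (nat_lit 7) Steps.nil))) (nat_lit 22) (nat_lit 3),
  Rule.mk (nat_lit 3) (nat_lit 154) (Steps.fwd (nat_lit 10240) (Steps.fwd (nat_lit 4096) (Steps.bwd (nat_lit 3) (Steps.bwd (nat_lit 1) (Steps.fwd (nat_lit 4096) (Steps.bwd (nat_lit 3) (Steps.fwd (nat_lit 2048) (Steps.fwd (nat_lit 4096) (Steps.fwd (nat_lit 6144) (Steps.fwd (nat_lit 12288) (Steps.fwd (nat_lit 4096) Steps.nil))))))))))) (nat_lit 20) (nat_lit 9),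
  Rule.mk (nat_lit 1) (nat_lit 115) (Steps.bwd (nat_lit 2) (Steps.bwd (nat_lit 6) (Steps.fwd (nat_lit 6144) (Steps.fwd (nat_lit 2048) (Steps.fwd (nat_lit 6144) (Steps.fwd (nat_lit 10240) (Steps.bwd (nat_lit 3) (Steps.fwd (nat_lit 4096) Steps.nil)))))))) (nat_lit 19) (nat_lit 0),
  Rule.mk (nat_lit 3) (nat_lit 115) (Steps.bwd (nat_lit 5) (Steps.fwd (nat_lit 6144) (Steps.bwd (nat_lit 1) (Steps.fwd (nat_lit 6144) (Steps.bwd (nat_lit 5) (Steps.fwd (nat_lit 4096) (Steps.bwd (nat_lit 1) (Steps.bwd (nat_lit 2) Steps.nil)))))))) (nat_lit 18) (nat_lit 3),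
  Rule.mk (nat_lit 3) (nat_lit 115) (Steps.bwd (nat_lit 5) (Steps.fwd (nat_lit 6144) (Steps.fwd (nat_lit 2048) (Steps.fwd (nat_lit 6144) (Steps.bwd (nat_lit 5) (Steps.fwd (nat_lit 4096) (Steps.fwd (nat_lit 2048) (Steps.fwd (nat_lit 4096) Steps.nil)))))))) (nat_lit 18) (nat_lit 3),
  Rule.mk (nat_lit 2) (nat_lit 50) (Steps.bwd (nat_lit 5) (Steps.bwd (nat_lit 2) (Steps.bwd (nat_lit 6) Steps.nil))) (nat_lit 16) (nat_lit 1),
  Rule.mk (nat_lit 3) (nat_lit 115) (Steps.bwd (nat_lit 5) (Steps.bwd (nat_lit 3) (Steps.bwd (nat_lit 1) (Steps.bwd (nat_lit 3) (Steps.bwd (nat_lit 5) (Steps.fwd (nat_lit 4096) (Steps.fwd (nat_lit 2048) (Steps.fwd (nat_lit 4096) Steps.nil)))))))) (nat_lit 18) (nat_lit 3),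
  Rule.mk (nat_lit 3) (nat_lit 76) (Steps.bwd (nat_lit 7) (Steps.fwd (nat_lit 6144) (Steps.fwd (nat_lit 16384) (Steps.bwd (nat_lit 3) (Steps.bwd (nat_lit 7) Steps.nil))))) (nat_lit 26) (nat_lit 1),
  Rule.mk (nat_lit 3) (nat_lit 115) (Steps.bwd (nat_lit 6) (Steps.fwd (nat_lit 6144) (Steps.fwd (nat_lit 4096) (Steps.bwd (nat_lit 1) (Steps.fwd (nat_lit 4096) (Steps.fwd (nat_lit 10240) (Steps.fwd (nat_lit 6144) (Steps.bwd (nat_lit 1) Steps.nil)))))))) (nat_lit 19) (nat_lit 5),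
  Rule.mk (nat_lit 2) (nat_lit 50) (Steps.bwd (nat_lit 8) (Steps.bwd (nat_lit 2) (Steps.fwd (nat_lit 14336) Steps.nil))) (nat_lit 25) (nat_lit 0),
  Rule.mk (nat_lit 3) (nat_lit 76) (Steps.bwd (nat_lit 8) (Steps.bwd (nat_lit 3) (Steps.bwd (nat_lit 8) (Steps.bwd (nat_lit 3) (Steps.bwd (nat_lit 8) Steps.nil))))) (nat_lit 27) (nat_lit 0),
  Rule.mk (nat_lit 7) (nat_lit 50) (Steps.bwd (nat_lit 6) (Steps.bwd (nat_lit 8) (Steps.fwd (nat_lit 12288) Steps.nil))) (nat_lit 31) (nat_lit 2),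
  Rule.mk (nat_lit 3) (nat_lit 154) (Steps.bwd (nat_lit 6) (Steps.fwd (nat_lit 4096) (Steps.fwd (nat_lit 6144) (Steps.fwd (nat_lit 2048) (Steps.bwd (nat_lit 2) (Steps.fwd (nat_lit 6144) (Steps.bwd (nat_lit 1) (Steps.fwd (nat_lit 4096) (Steps.bwd (nat_lit 3) (Steps.fwd (nat_lit 12288) (Steps.bwd (nat_lit 2) Steps.nil))))))))))) (nat_lit 20) (nat_lit 9),
  Rule.mk (nat_lit 2) (nat_lit 50) (Steps.bwd (nat_lit 6) (Steps.bwd (nat_lit 2) (Steps.fwd (nat_lit 12288) Steps.nil))) (nat_lit 16) (nat_lit 3),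
  Rule.mk (nat_lit 7) (nat_lit 50) (Steps.bwd (nat_lit 5) (Steps.fwd (nat_lit 14336) (Steps.bwd (nat_lit 6) Steps.nil))) (nat_lit 30) (nat_lit 1),
  Rule.mk (nat_lit 3) (nat_lit 154) (Steps.bwd (nat_lit 1) (Steps.fwd (nat_lit 4096) (Steps.fwd (nat_lit 6144) (Steps.bwd (nat_lit 5) (Steps.bwd (nat_lit 2) (Steps.fwd (nat_lit 6144) (Steps.fwd (nat_lit 10240) (Steps.bwd (nat_lit 2) (Steps.fwd (nat_lit 6144) (Steps.bwd (nat_lit 1) (Steps.fwd (nat_lit 4096) Steps.nil))))))))))) (nat_lit 20) (nat_lit 3),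
  Rule.mk (nat_lit 8) (nat_lit 50) (Steps.bwd (nat_lit 1) (Steps.bwd (nat_lit 7) (Steps.fwd (nat_lit 2048) Steps.nil))) (nat_lit 22) (nat_lit 0),
  Rule.mk (nat_lit 2) (nat_lit 115) (Steps.bwd (nat_lit 1) (Steps.fwd (nat_lit 4096) (Steps.bwd (nat_lit 6) (Steps.fwd (nat_lit 6144) (Steps.fwd (nat_lit 2048) (Steps.fwd (nat_lit 6144) (Steps.fwd (nat_lit 10240) (Steps.bwd (nat_lit 3) Steps.nil)))))))) (nat_lit 19) (nat_lit 8),
  Rule.mk (nat_lit 1) (nat_lit 154) (Steps.bwd (nat_lit 3) (Steps.fwd (nat_lit 2048) (Steps.bwd (nat_lit 2) (Steps.fwd (nat_lit 6144) (Steps.bwd (nat_lit 1) (Steps.fwd (nat_lit 4096) (Steps.bwd (nat_lit 3) (Steps.bwd (nat_lit 1) (Steps.fwd (nat_lit 4096) (Steps.fwd (nat_lit 6144) (Steps.fwd (nat_lit 4096) Steps.nil))))))))))) (nat_lit 14) (nat_lit 11),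
  Rule.mk (nat_lit 3) (nat_lit 102) (Steps.bwd (nat_lit 2) (Steps.bwd (nat_lit 3) (Steps.fwd (nat_lit 4096) (Steps.bwd (nat_lit 3) (Steps.fwd (nat_lit 4096) (Steps.bwd (nat_lit 3) (Steps.bwd (nat_lit 2) Steps.nil))))))) (nat_lit 12) (nat_lit 0),
  Rule.mk (nat_lit 1) (nat_lit 115) (Steps.bwd (nat_lit 2) (Steps.bwd (nat_lit 3) (Steps.fwd (nat_lit 12288) (Steps.fwd (nat_lit 6144) (Steps.bwd (nat_lit 1) (Steps.bwd (nat_lit 3) (Steps.fwd (nat_lit 12288) (Steps.fwd (nat_lit 4096) Steps.nil)))))))) (nat_lit 18) (nat_lit 1),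
  Rule.mk (nat_lit 7) (nat_lit 76) (Steps.fwd (nat_lit 4096) (Steps.fwd (nat_lit 6144) (Steps.fwd (nat_lit 16384) (Steps.bwd (nat_lit 2) (Steps.bwd (nat_lit 3) Steps.nil))))) (nat_lit 32) (nat_lit 0),
  Rule.mk (nat_lit 7) (nat_lit 76) (Steps.bwd (nat_lit 3) (Steps.bwd (nat_lit 7) (Steps.fwd (nat_lit 6144) (Steps.fwd (nat_lit 16384) (Steps.bwd (nat_lit 3) Steps.nil))))) (nat_lit 26) (nat_lit 0),
  Rule.mk (nat_lit 8) (nat_lit 76) (Steps.bwd (nat_lit 3) (Steps.fwd (nat_lit 14336) (Steps.fwd (nat_lit 6144) (Steps.fwd (nat_lit 14336) (Steps.fwd (nat_lit 6144) Steps.nil))))) (nat_lit 27) (nat_lit 1),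
  Rule.mk (nat_lit 2) (nat_lit 76) (Steps.bwd (nat_lit 3) (Steps.bwd (nat_lit 7) (Steps.fwd (nat_lit 4096) (Steps.bwd (nat_lit 3) (Steps.bwd (nat_lit 7) Steps.nil))))) (nat_lit 32) (nat_lit 1),
  Rule.mk (nat_lit 1) (nat_lit 115) (Steps.fwd (nat_lit 4096) (Steps.bwd (nat_lit 3) (Steps.fwd (nat_lit 12288) (Steps.fwd (nat_lit 6144) (Steps.bwd (nat_lit 1) (Steps.bwd (nat_lit 3) (Steps.bwd (nat_lit 5) (Steps.bwd (nat_lit 2) Steps.nil)))))))) (nat_lit 18) (nat_lit 1),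
  Rule.mk (nat_lit 6) (nat_lit 115) (Steps.bwd (nat_lit 3) (Steps.bwd (nat_lit 1) (Steps.fwd (nat_lit 6144) (Steps.bwd (nat_lit 6) (Steps.bwd (nat_lit 3) (Steps.fwd (nat_lit 4096) (Steps.fwd (nat_lit 2048) (Steps.fwd (nat_lit 4096) Steps.nil)))))))) (nat_lit 19) (nat_lit 2),
  Rule.mk (nat_lit 8) (nat_lit 50) (Steps.bwd (nat_lit 6) (Steps.bwd (nat_lit 7) (Steps.fwd (nat_lit 12288) Steps.nil))) (nat_lit 30) (nat_lit 3)]
noncomputable def R_3 : List (Rule) := [Rule.mk (nat_lit 1) (nat_lit 50) (Steps.fwd (nat_lit 16384) (Steps.fwd (nat_lit 2048) (Steps.bwd (nat_lit 8) Steps.nil))) (nat_lit 22) (nat_lit 1),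
  Rule.mk (nat_lit 8) (nat_lit 50) (Steps.bwd (nat_lit 6) (Steps.fwd (nat_lit 16384) (Steps.fwd (nat_lit 12288) Steps.nil))) (nat_lit 30) (nat_lit 3),
  Rule.mk (nat_lit 5) (nat_lit 115) (Steps.bwd (nat_lit 3) (Steps.bwd (nat_lit 1) (Steps.fwd (nat_lit 6144) (Steps.fwd (nat_lit 12288) (Steps.bwd (nat_lit 2) (Steps.fwd (nat_lit 2048) (Steps.bwd (nat_lit 2) (Steps.bwd (nat_lit 3) Steps.nil)))))))) (nat_lit 18) (nat_lit 4),
  Rule.mk (nat_lit 1) (nat_lit 115) (Steps.bwd (nat_lit 3) (Steps.bwd (nat_lit 6) (Steps.bwd (nat_lit 3) (Steps.bwd (nat_lit 2) (Steps.fwd (nat_lit 2048) (Steps.bwd (nat_lit 2) (Steps.fwd (nat_lit 10240) (Steps.fwd (nat_lit 6144) Steps.nil)))))))) (nat_lit 19) (nat_lit 4),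
  Rule.mk (nat_lit 7) (nat_lit 154) (Steps.bwd (nat_lit 3) (Steps.fwd (nat_lit 4096) (Steps.bwd (nat_lit 1) (Steps.fwd (nat_lit 6144) (Steps.bwd (nat_lit 2) (Steps.fwd (nat_lit 2048) (Steps.fwd (nat_lit 6144) (Steps.bwd (nat_lit 1) (Steps.bwd (nat_lit 8) (Steps.bwd (nat_lit 3) (Steps.bwd (nat_lit 1) Steps.nil))))))))))) (nat_lit 29) (nat_lit 6),
  Rule.mk (nat_lit 2) (nat_lit 115) (Steps.bwd (nat_lit 1) (Steps.bwd (nat_lit 2) (Steps.fwd (nat_lit 6144) (Steps.fwd (nat_lit 12288) (Steps.fwd (nat_lit 6144) (Steps.fwd (nat_lit 2048) (Steps.bwd (nat_lit 3) (Steps.bwd (nat_lit 5) Steps.nil)))))))) (nat_lit 18) (nat_lit 0),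
  Rule.mk (nat_lit 6) (nat_lit 50) (Steps.fwd (nat_lit 4096) (Steps.bwd (nat_lit 5) (Steps.bwd (nat_lit 2) Steps.nil))) (nat_lit 16) (nat_lit 0),
  Rule.mk (nat_lit 5) (nat_lit 115) (Steps.bwd (nat_lit 3) (Steps.bwd (nat_lit 1) (Steps.fwd (nat_lit 6144) (Steps.bwd (nat_lit 5) (Steps.fwd (nat_lit 4096) (Steps.fwd (nat_lit 2048) (Steps.fwd (nat_lit 4096) (Steps.bwd (nat_lit 3) Steps.nil)))))))) (nat_lit 18) (nat_lit 4),
  Rule.mk (nat_lit 2) (nat_lit 115) (Steps.bwd (nat_lit 3) (Steps.fwd (nat_lit 4096) (Steps.bwd (nat_lit 1) (Steps.fwd (nat_lit 8192) (Steps.fwd (nat_lit 4096) (Steps.bwd (nat_lit 4) (Steps.fwd (nat_lit 2048) (Steps.fwd (nat_lit 6144) Steps.nil)))))))) (nat_lit 40) (nat_lit 6),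
  Rule.mk (nat_lit 2) (nat_lit 76) (Steps.bwd (nat_lit 3) (Steps.bwd (nat_lit 7) (Steps.fwd (nat_lit 4096) (Steps.fwd (nat_lit 6144) (Steps.bwd (nat_lit 7) Steps.nil))))) (nat_lit 32) (nat_lit 1),
  Rule.mk (nat_lit 3) (nat_lit 102) (Steps.bwd (nat_lit 2) (Steps.bwd (nat_lit 3) (Steps.bwd (nat_lit 2) (Steps.fwd (nat_lit 6144) (Steps.fwd (nat_lit 4096) (Steps.fwd (nat_lit 6144) (Steps.fwd (nat_lit 4096) Steps.nil))))))) (nat_lit 12) (nat_lit 0),
  Rule.mk (nat_lit 5) (nat_lit 115) (Steps.bwd (nat_lit 3) (Steps.fwd (nat_lit 2048) (Steps.bwd (nat_lit 3) (Steps.fwd (nat_lit 12288) (Steps.bwd (nat_lit 2) (Steps.bwd (nat_lit 1) (Steps.fwd (nat_lit 4096) (Steps.fwd (nat_lit 6144) Steps.nil)))))))) (nat_lit 18) (nat_lit 4),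
  Rule.mk (nat_lit 8) (nat_lit 76) (Steps.fwd (nat_lit 6144) (Steps.fwd (nat_lit 14336) (Steps.bwd (nat_lit 3) (Steps.fwd (nat_lit 14336) (Steps.fwd (nat_lit 6144) Steps.nil))))) (nat_lit 27) (nat_lit 1),
  Rule.mk (nat_lit 3) (nat_lit 154) (Steps.fwd (nat_lit 10240) (Steps.bwd (nat_lit 2) (Steps.bwd (nat_lit 3) (Steps.fwd (nat_lit 2048) (Steps.bwd (nat_lit 2) (Steps.fwd (nat_lit 6144) (Steps.fwd (nat_lit 2048) (Steps.fwd (nat_lit 4096) (Steps.fwd (nat_lit 6144) (Steps.bwd (nat_lit 5) (Steps.bwd (nat_lit 2) Steps.nil))))))))))) (nat_lit 20) (nat_lit 9),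
  Rule.mk (nat_lit 3) (nat_lit 115) (Steps.bwd (nat_lit 1) (Steps.bwd (nat_lit 3) (Steps.fwd (nat_lit 12288) (Steps.fwd (nat_lit 4096) (Steps.fwd (nat_lit 2048) (Steps.bwd (nat_lit 2) (Steps.fwd (nat_lit 6144) (Steps.fwd (nat_lit 12288) Steps.nil)))))))) (nat_lit 18) (nat_lit 5),
  Rule.mk (nat_lit 1) (nat_lit 154) (Steps.bwd (nat_lit 3) (Steps.bwd (nat_lit 1) (Steps.bwd (nat_lit 2) (Steps.fwd (nat_lit 6144) (Steps.fwd (nat_lit 2048) (Steps.bwd (nat_lit 2) (Steps.fwd (nat_lit 6144) (Steps.fwd (nat_lit 2048) (Steps.bwd (nat_lit 2) (Steps.bwd (nat_lit 3) (Steps.bwd (nat_lit 2) Steps.nil))))))))))) (nat_lit 14) (nat_lit 11),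
  Rule.mk (nat_lit 5) (nat_lit 115) (Steps.fwd (nat_lit 4096) (Steps.bwd (nat_lit 1) (Steps.fwd (nat_lit 4096) (Steps.fwd (nat_lit 6144) (Steps.bwd (nat_lit 5) (Steps.bwd (nat_lit 3) (Steps.bwd (nat_lit 1) (Steps.bwd (nat_lit 3) Steps.nil)))))))) (nat_lit 18) (nat_lit 8),
  Rule.mk (nat_lit 6) (nat_lit 115) (Steps.fwd (nat_lit 6144) (Steps.bwd (nat_lit 2) (Steps.bwd (nat_lit 1) (Steps.bwd (nat_lit 2) (Steps.bwd (nat_lit 6) (Steps.bwd (nat_lit 3) (Steps.bwd (nat_lit 1) (Steps.bwd (nat_lit 3) Steps.nil)))))))) (nat_lit 19) (nat_lit 6),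
  Rule.mk (nat_lit 6) (nat_lit 50) (Steps.bwd (nat_lit 2) (Steps.fwd (nat_lit 12288) (Steps.bwd (nat_lit 2) Steps.nil))) (nat_lit 16) (nat_lit 0),
  Rule.mk (nat_lit 8) (nat_lit 50) (Steps.bwd (nat_lit 2) (Steps.fwd (nat_lit 14336) (Steps.fwd (nat_lit 4096) Steps.nil))) (nat_lit 25) (nat_lit 1),
  Rule.mk (nat_lit 7) (nat_lit 76) (Steps.bwd (nat_lit 2) (Steps.bwd (nat_lit 3) (Steps.fwd (nat_lit 16384) (Steps.bwd (nat_lit 2) (Steps.fwd (nat_lit 6144) Steps.nil))))) (nat_lit 32) (nat_lit 0),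
  Rule.mk (nat_lit 1) (nat_lit 115) (Steps.bwd (nat_lit 2) (Steps.bwd (nat_lit 3) (Steps.bwd (nat_lit 5) (Steps.bwd (nat_lit 3) (Steps.fwd (nat_lit 2048) (Steps.fwd (nat_lit 6144) (Steps.bwd (nat_lit 5) (Steps.bwd (nat_lit 2) Steps.nil)))))))) (nat_lit 18) (nat_lit 1),
  Rule.mk (nat_lit 5) (nat_lit 115) (Steps.bwd (nat_lit 3) (Steps.fwd (nat_lit 2048) (Steps.fwd (nat_lit 6144) (Steps.fwd (nat_lit 12288) (Steps.fwd (nat_lit 4096) (Steps.fwd (nat_lit 2048) (Steps.fwd (nat_lit 4096) (Steps.fwd (nat_lit 6144) Steps.nil)))))))) (nat_lit 18) (nat_lit 4),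
  Rule.mk (nat_lit 5) (nat_lit 115) (Steps.bwd (nat_lit 3) (Steps.fwd (nat_lit 2048) (Steps.fwd (nat_lit 6144) (Steps.fwd (nat_lit 12288) (Steps.bwd (nat_lit 2) (Steps.fwd (nat_lit 2048) (Steps.fwd (nat_lit 4096) (Steps.fwd (nat_lit 6144) Steps.nil)))))))) (nat_lit 18) (nat_lit 4),
  Rule.mk (nat_lit 1) (nat_lit 115) (Steps.bwd (nat_lit 2) (Steps.bwd (nat_lit 3) (Steps.fwd (nat_lit 12288) (Steps.fwd (nat_lit 6144) (Steps.bwd (nat_lit 1) (Steps.fwd (nat_lit 6144) (Steps.bwd (nat_lit 5) (Steps.bwd (nat_lit 2) Steps.nil)))))))) (nat_lit 18) (nat_lit 1),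
  Rule.mk (nat_lit 1) (nat_lit 154) (Steps.bwd (nat_lit 3) (Steps.bwd (nat_lit 2) (Steps.bwd (nat_lit 1) (Steps.bwd (nat_lit 3) (Steps.fwd (nat_lit 4096) (Steps.fwd (nat_lit 12288) (Steps.fwd (nat_lit 6144) (Steps.bwd (nat_lit 2) (Steps.fwd (nat_lit 10240) (Steps.fwd (nat_lit 6144) (Steps.bwd (nat_lit 2) Steps.nil))))))))))) (nat_lit 21) (nat_lit 9),
  Rule.mk (nat_lit 5) (nat_lit 115) (Steps.bwd (nat_lit 3) (Steps.fwd (nat_lit 2048) (Steps.fwd (nat_lit 6144) (Steps.bwd (nat_lit 5) (Steps.fwd (nat_lit 4096) (Steps.fwd (nat_lit 2048) (Steps.fwd (nat_lit 4096) (Steps.bwd (nat_lit 3) Steps.nil)))))))) (nat_lit 18) (nat_lit 4),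
  Rule.mk (nat_lit 1) (nat_lit 154) (Steps.bwd (nat_lit 3) (Steps.bwd (nat_lit 2) (Steps.fwd (nat_lit 2048) (Steps.fwd (nat_lit 6144) (Steps.fwd (nat_lit 2048) (Steps.fwd (nat_lit 4096) (Steps.fwd (nat_lit 6144) (Steps.fwd (nat_lit 4096) (Steps.fwd (nat_lit 2048) (Steps.fwd (nat_lit 6144) (Steps.fwd (nat_lit 4096) Steps.nil))))))))))) (nat_lit 15) (nat_lit 9),
  Rule.mk (nat_lit 8) (nat_lit 154) (Steps.fwd (nat_lit 2048) (Steps.fwd (nat_lit 6144) (Steps.fwd (nat_lit 16384) (Steps.bwd (nat_lit 1) (Steps.bwd (nat_lit 3) (Steps.fwd (nat_lit 2048) (Steps.fwd (nat_lit 4096) (Steps.bwd (nat_lit 3) (Steps.bwd (nat_lit 1) (Steps.fwd (nat_lit 4096) (Steps.fwd (nat_lit 6144) Steps.nil))))))))))) (nat_lit 28) (nat_lit 7),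
  Rule.mk (nat_lit 5) (nat_lit 50) (Steps.bwd (nat_lit 2) (Steps.fwd (nat_lit 10240) (Steps.bwd (nat_lit 2) Steps.nil))) (nat_lit 16) (nat_lit 2),
  Rule.mk (nat_lit 3) (nat_lit 76) (Steps.bwd (nat_lit 2) (Steps.bwd (nat_lit 8) (Steps.bwd (nat_lit 3) (Steps.bwd (nat_lit 2) (Steps.fwd (nat_lit 14336) Steps.nil))))) (nat_lit 33) (nat_lit 2),
  Rule.mk (nat_lit 1) (nat_lit 115) (Steps.bwd (nat_lit 2) (Steps.bwd (nat_lit 3) (Steps.fwd (nat_lit 12288) (Steps.bwd (nat_lit 3) (Steps.bwd (nat_lit 1) (Steps.fwd (nat_lit 6144) (Steps.bwd (nat_lit 5) (Steps.fwd (nat_lit 4096) Steps.nil)))))))) (nat_lit 18) (nat_lit 1),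
  Rule.mk (nat_lit 3) (nat_lit 115) (Steps.bwd (nat_lit 6) (Steps.fwd (nat_lit 6144) (Steps.bwd (nat_lit 2) (Steps.bwd (nat_lit 1) (Steps.bwd (nat_lit 2) (Steps.fwd (nat_lit 10240) (Steps.fwd (nat_lit 6144) (Steps.bwd (nat_lit 1) Steps.nil)))))))) (nat_lit 19) (nat_lit 5),
  Rule.mk (nat_lit 3) (nat_lit 115) (Steps.bwd (nat_lit 1) (Steps.fwd (nat_lit 6144) (Steps.bwd (nat_lit 5) (Steps.bwd (nat_lit 2) (Steps.bwd (nat_lit 1) (Steps.fwd (nat_lit 4096) (Steps.bwd (nat_lit 3) (Steps.fwd (nat_lit 12288) Steps.nil)))))))) (nat_lit 18) (nat_lit 5),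
  Rule.mk (nat_lit 0) (nat_lit 167) (Steps.bwd (nat_lit 1) (Steps.fwd (nat_lit 4096) (Steps.bwd (nat_lit 3) (Steps.bwd (nat_lit 2) (Steps.bwd (nat_lit 1) (Steps.fwd (nat_lit 6144) (Steps.bwd (nat_lit 2) (Steps.fwd (nat_lit 2048) (Steps.fwd (nat_lit 6144) (Steps.bwd (nat_lit 2) (Steps.fwd (nat_lit 2048) (Steps.fwd (nat_lit 6144) Steps.nil)))))))))))) (nat_lit 15) (nat_lit 1),
  Rule.mk (nat_lit 5) (nat_lit 50) (Steps.bwd (nat_lit 2) (Steps.fwd (nat_lit 10240) (Steps.fwd (nat_lit 4096) Steps.nil))) (nat_lit 16) (nat_lit 2),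
  Rule.mk (nat_lit 3) (nat_lit 115) (Steps.bwd (nat_lit 2) (Steps.fwd (nat_lit 2048) (Steps.bwd (nat_lit 2) (Steps.fwd (nat_lit 10240) (Steps.bwd (nat_lit 3) (Steps.fwd (nat_lit 2048) (Steps.fwd (nat_lit 6144) (Steps.bwd (nat_lit 6) Steps.nil)))))))) (nat_lit 19) (nat_lit 7),
  Rule.mk (nat_lit 1) (nat_lit 115) (Steps.bwd (nat_lit 2) (Steps.fwd (nat_lit 10240) (Steps.bwd (nat_lit 3) (Steps.fwd (nat_lit 2048) (Steps.fwd (nat_lit 6144) (Steps.bwd (nat_lit 6) (Steps.fwd (nat_lit 6144) (Steps.fwd (nat_lit 4096) Steps.nil)))))))) (nat_lit 19) (nat_lit 0),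
  Rule.mk (nat_lit 2) (nat_lit 115) (Steps.bwd (nat_lit 1) (Steps.fwd (nat_lit 4096) (Steps.bwd (nat_lit 3) (Steps.fwd (nat_lit 12288) (Steps.bwd (nat_lit 3) (Steps.bwd (nat_lit 1) (Steps.fwd (nat_lit 6144) (Steps.bwd (nat_lit 5) Steps.nil)))))))) (nat_lit 18) (nat_lit 0),
  Rule.mk (nat_lit 5) (nat_lit 50) (Steps.fwd (nat_lit 4096) (Steps.fwd (nat_lit 10240) (Steps.bwd (nat_lit 2) Steps.nil))) (nat_lit 16) (nat_lit 2),
  Rule.mk (nat_lit 4) (nat_lit 76) (Steps.bwd (nat_lit 3) (Steps.bwd (nat_lit 4) (Steps.bwd (nat_lit 3) (Steps.fwd (nat_lit 8192) (Steps.fwd (nat_lit 6144) Steps.nil))))) (nat_lit 36) (nat_lit 0),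
  Rule.mk (nat_lit 1) (nat_lit 102) (Steps.bwd (nat_lit 3) (Steps.fwd (nat_lit 2048) (Steps.fwd (nat_lit 6144) (Steps.fwd (nat_lit 2048) (Steps.bwd (nat_lit 3) (Steps.bwd (nat_lit 1) (Steps.fwd (nat_lit 6144) Steps.nil))))))) (nat_lit 10) (nat_lit 1),
  Rule.mk (nat_lit 8) (nat_lit 76) (Steps.bwd (nat_lit 3) (Steps.bwd (nat_lit 8) (Steps.fwd (nat_lit 6144) (Steps.fwd (nat_lit 14336) (Steps.fwd (nat_lit 6144) Steps.nil))))) (nat_lit 27) (nat_lit 1),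
  Rule.mk (nat_lit 1) (nat_lit 102) (Steps.bwd (nat_lit 3) (Steps.bwd (nat_lit 1) (Steps.fwd (nat_lit 6144) (Steps.fwd (nat_lit 2048) (Steps.bwd (nat_lit 3) (Steps.fwd (nat_lit 2048) (Steps.fwd (nat_lit 6144) Steps.nil))))))) (nat_lit 10) (nat_lit 1),
  Rule.mk (nat_lit 3) (nat_lit 115) (Steps.bwd (nat_lit 5) (Steps.bwd (nat_lit 3) (Steps.fwd (nat_lit 2048) (Steps.fwd (nat_lit 6144) (Steps.fwd (nat_lit 12288) (Steps.fwd (nat_lit 4096) (Steps.fwd (nat_lit 2048) (Steps.fwd (nat_lit 4096) Steps.nil)))))))) (nat_lit 18) (nat_lit 3),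
  Rule.mk (nat_lit 4) (nat_lit 115) (Steps.fwd (nat_lit 6144) (Steps.bwd (nat_lit 1) (Steps.bwd (nat_lit 3) (Steps.bwd (nat_lit 1) (Steps.fwd (nat_lit 8192) (Steps.fwd (nat_lit 6144) (Steps.fwd (nat_lit 2048) (Steps.bwd (nat_lit 3) Steps.nil)))))))) (nat_lit 42) (nat_lit 5),
  Rule.mk (nat_lit 1) (nat_lit 102) (Steps.bwd (nat_lit 3) (Steps.fwd (nat_lit 2048) (Steps.bwd (nat_lit 3) (Steps.fwd (nat_lit 2048) (Steps.fwd (nat_lit 6144) (Steps.fwd (nat_lit 2048) (Steps.bwd (nat_lit 3) Steps.nil))))))) (nat_lit 10) (nat_lit 1),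
  Rule.mk (nat_lit 5) (nat_lit 115) (Steps.bwd (nat_lit 3) (Steps.fwd (nat_lit 2048) (Steps.bwd (nat_lit 3) (Steps.bwd (nat_lit 5) (Steps.bwd (nat_lit 2) (Steps.bwd (nat_lit 1) (Steps.fwd (nat_lit 4096) (Steps.fwd (nat_lit 6144) Steps.nil)))))))) (nat_lit 18) (nat_lit 4),
  Rule.mk (nat_lit 4) (nat_lit 115) (Steps.bwd (nat_lit 3) (Steps.fwd (nat_lit 2048) (Steps.bwd (nat_lit 3) (Steps.fwd (nat_lit 2048) (Steps.bwd (nat_lit 4) (Steps.fwd (nat_lit 6144) (Steps.bwd (nat_lit 1) (Steps.fwd (nat_lit 6144) Steps.nil)))))))) (nat_lit 42) (nat_lit 5),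
  Rule.mk (nat_lit 2) (nat_lit 154) (Steps.bwd (nat_lit 3) (Steps.bwd (nat_lit 2) (Steps.bwd (nat_lit 1) (Steps.bwd (nat_lit 3) (Steps.bwd (nat_lit 1) (Steps.fwd (nat_lit 4096) (Steps.fwd (nat_lit 6144) (Steps.fwd (nat_lit 2048) (Steps.fwd (nat_lit 4096) (Steps.bwd (nat_lit 3) (Steps.bwd (nat_lit 1) Steps.nil))))))))))) (nat_lit 14) (nat_lit 8),
  Rule.mk (nat_lit 8) (nat_lit 76) (Steps.bwd (nat_lit 3) (Steps.fwd (nat_lit 14336) (Steps.fwd (nat_lit 6144) (Steps.bwd (nat_lit 8) (Steps.bwd (nat_lit 3) Steps.nil))))) (nat_lit 27) (nat_lit 1),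
  Rule.mk (nat_lit 6) (nat_lit 115) (Steps.bwd (nat_lit 3) (Steps.fwd (nat_lit 4096) (Steps.fwd (nat_lit 2048) (Steps.fwd (nat_lit 4096) (Steps.fwd (nat_lit 10240) (Steps.bwd (nat_lit 3) (Steps.fwd (nat_lit 2048) (Steps.fwd (nat_lit 6144) Steps.nil)))))))) (nat_lit 19) (nat_lit 6),
  Rule.mk (nat_lit 8) (nat_lit 76) (Steps.bwd (nat_lit 3) (Steps.fwd (nat_lit 14336) (Steps.bwd (nat_lit 3) (Steps.bwd (nat_lit 8) (Steps.fwd (nat_lit 6144) Steps.nil))))) (nat_lit 27) (nat_lit 1),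
  Rule.mk (nat_lit 1) (nat_lit 102) (Steps.bwd (nat_lit 3) (Steps.fwd (nat_lit 2048) (Steps.fwd (nat_lit 6144) (Steps.bwd (nat_lit 1) (Steps.fwd (nat_lit 6144) (Steps.fwd (nat_lit 2048) (Steps.fwd (nat_lit 6144) Steps.nil))))))) (nat_lit 10) (nat_lit 1),
  Rule.mk (nat_lit 5) (nat_lit 115) (Steps.bwd (nat_lit 3) (Steps.fwd (nat_lit 2048) (Steps.fwd (nat_lit 6144) (Steps.bwd (nat_lit 5) (Steps.bwd (nat_lit 2) (Steps.bwd (nat_lit 1) (Steps.bwd (nat_lit 2) (Steps.fwd (nat_lit 6144) Steps.nil)))))))) (nat_lit 18) (nat_lit 4),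
  Rule.mk (nat_lit 3) (nat_lit 76) (Steps.bwd (nat_lit 7) (Steps.bwd (nat_lit 3) (Steps.fwd (nat_lit 16384) (Steps.fwd (nat_lit 6144) (Steps.bwd (nat_lit 7) Steps.nil))))) (nat_lit 26) (nat_lit 1),
  Rule.mk (nat_lit 2) (nat_lit 154) (Steps.fwd (nat_lit 6144) (Steps.fwd (nat_lit 12288) (Steps.fwd (nat_lit 4096) (Steps.bwd (nat_lit 3) (Steps.bwd (nat_lit 6) (Steps.bwd (nat_lit 2) (Steps.bwd (nat_lit 3) (Steps.fwd (nat_lit 2048) (Steps.fwd (nat_lit 4096) (Steps.fwd (nat_lit 6144) (Steps.fwd (nat_lit 2048) Steps.nil))))))))))) (nat_lit 20) (nat_lit 5),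
  Rule.mk (nat_lit 2) (nat_lit 50) (Steps.bwd (nat_lit 8) (Steps.bwd (nat_lit 2) (Steps.bwd (nat_lit 8) Steps.nil))) (nat_lit 25) (nat_lit 0),
  Rule.mk (nat_lit 5) (nat_lit 115) (Steps.bwd (nat_lit 3) (Steps.bwd (nat_lit 1) (Steps.bwd (nat_lit 3) (Steps.bwd (nat_lit 5) (Steps.bwd (nat_lit 2) (Steps.fwd (nat_lit 2048) (Steps.fwd (nat_lit 4096) (Steps.fwd (nat_lit 6144) Steps.nil)))))))) (nat_lit 18) (nat_lit 4),
  Rule.mk (nat_lit 3) (nat_lit 115) (Steps.bwd (nat_lit 6) (Steps.bwd (nat_lit 3) (Steps.fwd (nat_lit 4096) (Steps.fwd (nat_lit 2048) (Steps.fwd (nat_lit 4096) (Steps.fwd (nat_lit 10240) (Steps.fwd (nat_lit 6144) (Steps.bwd (nat_lit 1) Steps.nil)))))))) (nat_lit 19) (nat_lit 5),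
  Rule.mk (nat_lit 6) (nat_lit 50) (Steps.bwd (nat_lit 2) (Steps.bwd (nat_lit 5) (Steps.fwd (nat_lit 4096) Steps.nil))) (nat_lit 16) (nat_lit 0),
  Rule.mk (nat_lit 3) (nat_lit 76) (Steps.bwd (nat_lit 2) (Steps.bwd (nat_lit 8) (Steps.bwd (nat_lit 3) (Steps.fwd (nat_lit 4096) (Steps.bwd (nat_lit 8) Steps.nil))))) (nat_lit 33) (nat_lit 2),
  Rule.mk (nat_lit 4) (nat_lit 115) (Steps.fwd (nat_lit 6144) (Steps.bwd (nat_lit 1) (Steps.bwd (nat_lit 3) (Steps.fwd (nat_lit 2048) (Steps.bwd (nat_lit 4) (Steps.fwd (nat_lit 6144) (Steps.fwd (nat_lit 2048) (Steps.bwd (nat_lit 3) Steps.nil)))))))) (nat_lit 42) (nat_lit 5),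
  Rule.mk (nat_lit 3) (nat_lit 115) (Steps.bwd (nat_lit 5) (Steps.fwd (nat_lit 6144) (Steps.fwd (nat_lit 2048) (Steps.fwd (nat_lit 6144) (Steps.fwd (nat_lit 12288) (Steps.fwd (nat_lit 4096) (Steps.fwd (nat_lit 2048) (Steps.bwd (nat_lit 2) Steps.nil)))))))) (nat_lit 18) (nat_lit 3)]
noncomputable def R_4 : List (Rule) := [Rule.mk (nat_lit 3) (nat_lit 102) (Steps.bwd (nat_lit 1) (Steps.fwd (nat_lit 6144) (Steps.bwd (nat_lit 1) (Steps.bwd (nat_lit 3) (Steps.fwd (nat_lit 2048) (Steps.fwd (nat_lit 6144) (Steps.fwd (nat_lit 2048) Steps.nil))))))) (nat_lit 10) (nat_lit 0),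
  Rule.mk (nat_lit 7) (nat_lit 50) (Steps.bwd (nat_lit 1) (Steps.fwd (nat_lit 14336) (Steps.fwd (nat_lit 2048) Steps.nil))) (nat_lit 22) (nat_lit 2),
  Rule.mk (nat_lit 3) (nat_lit 115) (Steps.bwd (nat_lit 1) (Steps.fwd (nat_lit 6144) (Steps.bwd (nat_lit 5) (Steps.fwd (nat_lit 4096) (Steps.fwd (nat_lit 2048) (Steps.bwd (nat_lit 2) (Steps.fwd (nat_lit 6144) (Steps.fwd (nat_lit 12288) Steps.nil)))))))) (nat_lit 18) (nat_lit 5),
  Rule.mk (nat_lit 2) (nat_lit 76) (Steps.bwd (nat_lit 3) (Steps.fwd (nat_lit 16384) (Steps.bwd (nat_lit 2) (Steps.bwd (nat_lit 3) (Steps.bwd (nat_lit 7) Steps.nil))))) (nat_lit 32) (nat_lit 1),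
  Rule.mk (nat_lit 1) (nat_lit 102) (Steps.bwd (nat_lit 3) (Steps.bwd (nat_lit 1) (Steps.bwd (nat_lit 3) (Steps.fwd (nat_lit 2048) (Steps.fwd (nat_lit 6144) (Steps.bwd (nat_lit 1) (Steps.bwd (nat_lit 3) Steps.nil))))))) (nat_lit 10) (nat_lit 1),
  Rule.mk (nat_lit 3) (nat_lit 102) (Steps.bwd (nat_lit 1) (Steps.bwd (nat_lit 3) (Steps.bwd (nat_lit 1) (Steps.fwd (nat_lit 6144) (Steps.fwd (nat_lit 2048) (Steps.fwd (nat_lit 6144) (Steps.fwd (nat_lit 2048) Steps.nil))))))) (nat_lit 10) (nat_lit 0),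
  Rule.mk (nat_lit 2) (nat_lit 115) (Steps.bwd (nat_lit 1) (Steps.fwd (nat_lit 4096) (Steps.fwd (nat_lit 10240) (Steps.bwd (nat_lit 3) (Steps.bwd (nat_lit 1) (Steps.fwd (nat_lit 6144) (Steps.bwd (nat_lit 6) (Steps.bwd (nat_lit 3) Steps.nil)))))))) (nat_lit 19) (nat_lit 8),
  Rule.mk (nat_lit 5) (nat_lit 154) (Steps.bwd (nat_lit 3) (Steps.fwd (nat_lit 4096) (Steps.bwd (nat_lit 6) (Steps.bwd (nat_lit 3) (Steps.fwd (nat_lit 4096) (Steps.fwd (nat_lit 2048) (Steps.fwd (nat_lit 6144) (Steps.fwd (nat_lit 4096) (Steps.bwd (nat_lit 1) (Steps.bwd (nat_lit 3) (Steps.bwd (nat_lit 2) Steps.nil))))))))))) (nat_lit 21) (nat_lit 3),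
  Rule.mk (nat_lit 2) (nat_lit 76) (Steps.bwd (nat_lit 3) (Steps.bwd (nat_lit 7) (Steps.fwd (nat_lit 4096) (Steps.bwd (nat_lit 3) (Steps.fwd (nat_lit 16384) Steps.nil))))) (nat_lit 32) (nat_lit 1),
  Rule.mk (nat_lit 3) (nat_lit 102) (Steps.bwd (nat_lit 1) (Steps.bwd (nat_lit 3) (Steps.fwd (nat_lit 2048) (Steps.bwd (nat_lit 3) (Steps.bwd (nat_lit 1) (Steps.fwd (nat_lit 6144) (Steps.fwd (nat_lit 2048) Steps.nil))))))) (nat_lit 10) (nat_lit 0),
  Rule.mk (nat_lit 6) (nat_lit 115) (Steps.bwd (nat_lit 3) (Steps.bwd (nat_lit 2) (Steps.fwd (nat_lit 2048) (Steps.fwd (nat_lit 4096) (Steps.bwd (nat_lit 6) (Steps.fwd (nat_lit 6144) (Steps.fwd (nat_lit 2048) (Steps.bwd (nat_lit 3) Steps.nil)))))))) (nat_lit 19) (nat_lit 6),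
  Rule.mk (nat_lit 8) (nat_lit 50) (Steps.bwd (nat_lit 2) (Steps.bwd (nat_lit 8) (Steps.bwd (nat_lit 2) Steps.nil))) (nat_lit 25) (nat_lit 1),
  Rule.mk (nat_lit 3) (nat_lit 102) (Steps.bwd (nat_lit 1) (Steps.fwd (nat_lit 6144) (Steps.bwd (nat_lit 1) (Steps.bwd (nat_lit 3) (Steps.bwd (nat_lit 1) (Steps.bwd (nat_lit 3) (Steps.bwd (nat_lit 1) Steps.nil))))))) (nat_lit 10) (nat_lit 0),
  Rule.mk (nat_lit 2) (nat_lit 115) (Steps.bwd (nat_lit 1) (Steps.bwd (nat_lit 2) (Steps.fwd (nat_lit 10240) (Steps.fwd (nat_lit 6144) (Steps.bwd (nat_lit 1) (Steps.bwd (nat_lit 3) (Steps.fwd (nat_lit 10240) (Steps.bwd (nat_lit 3) Steps.nil)))))))) (nat_lit 19) (nat_lit 8),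
  Rule.mk (nat_lit 6) (nat_lit 154) (Steps.fwd (nat_lit 4096) (Steps.fwd (nat_lit 6144) (Steps.fwd (nat_lit 2048) (Steps.bwd (nat_lit 2) (Steps.fwd (nat_lit 6144) (Steps.bwd (nat_lit 1) (Steps.fwd (nat_lit 4096) (Steps.bwd (nat_lit 3) (Steps.bwd (nat_lit 5) (Steps.bwd (nat_lit 2) (Steps.bwd (nat_lit 3) Steps.nil))))))))))) (nat_lit 20) (nat_lit 10),
  Rule.mk (nat_lit 6) (nat_lit 37) (Steps.fwd (nat_lit 10240) (Steps.bwd (nat_lit 6) Steps.nil)) (nat_lit 7) (nat_lit 0),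
  Rule.mk (nat_lit 3) (nat_lit 115) (Steps.fwd (nat_lit 2048) (Steps.fwd (nat_lit 6144) (Steps.fwd (nat_lit 10240) (Steps.fwd (nat_lit 6144) (Steps.fwd (nat_lit 4096) (Steps.bwd (nat_lit 1) (Steps.fwd (nat_lit 4096) (Steps.bwd (nat_lit 6) Steps.nil)))))))) (nat_lit 19) (nat_lit 3),
  Rule.mk (nat_lit 7) (nat_lit 50) (Steps.bwd (nat_lit 5) (Steps.bwd (nat_lit 8) (Steps.fwd (nat_lit 10240) Steps.nil))) (nat_lit 30) (nat_lit 1),
  Rule.mk (nat_lit 3) (nat_lit 115) (Steps.bwd (nat_lit 5) (Steps.fwd (nat_lit 4096) (Steps.bwd (nat_lit 1) (Steps.bwd (nat_lit 2) (Steps.bwd (nat_lit 3) (Steps.bwd (nat_lit 5) (Steps.bwd (nat_lit 3) (Steps.fwd (nat_lit 2048) Steps.nil)))))))) (nat_lit 18) (nat_lit 7),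
  Rule.mk (nat_lit 6) (nat_lit 50) (Steps.bwd (nat_lit 2) (Steps.fwd (nat_lit 12288) (Steps.fwd (nat_lit 4096) Steps.nil))) (nat_lit 16) (nat_lit 0),
  Rule.mk (nat_lit 7) (nat_lit 50) (Steps.bwd (nat_lit 2) (Steps.fwd (nat_lit 16384) (Steps.bwd (nat_lit 2) Steps.nil))) (nat_lit 24) (nat_lit 0),
  Rule.mk (nat_lit 3) (nat_lit 76) (Steps.bwd (nat_lit 2) (Steps.fwd (nat_lit 14336) (Steps.bwd (nat_lit 3) (Steps.bwd (nat_lit 2) (Steps.bwd (nat_lit 8) Steps.nil))))) (nat_lit 33) (nat_lit 2),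
  Rule.mk (nat_lit 1) (nat_lit 115) (Steps.bwd (nat_lit 2) (Steps.fwd (nat_lit 6144) (Steps.fwd (nat_lit 12288) (Steps.fwd (nat_lit 6144) (Steps.fwd (nat_lit 2048) (Steps.bwd (nat_lit 3) (Steps.bwd (nat_lit 5) (Steps.fwd (nat_lit 4096) Steps.nil)))))))) (nat_lit 18) (nat_lit 1),
  Rule.mk (nat_lit 3) (nat_lit 102) (Steps.bwd (nat_lit 1) (Steps.bwd (nat_lit 3) (Steps.bwd (nat_lit 1) (Steps.bwd (nat_lit 3) (Steps.bwd (nat_lit 1) (Steps.fwd (nat_lit 6144) (Steps.fwd (nat_lit 2048) Steps.nil))))))) (nat_lit 10) (nat_lit 0),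
  Rule.mk (nat_lit 6) (nat_lit 115) (Steps.bwd (nat_lit 3) (Steps.fwd (nat_lit 4096) (Steps.bwd (nat_lit 1) (Steps.bwd (nat_lit 2) (Steps.bwd (nat_lit 6) (Steps.fwd (nat_lit 6144) (Steps.fwd (nat_lit 2048) (Steps.bwd (nat_lit 3) Steps.nil)))))))) (nat_lit 19) (nat_lit 6),
  Rule.mk (nat_lit 3) (nat_lit 102) (Steps.bwd (nat_lit 2) (Steps.fwd (nat_lit 6144) (Steps.bwd (nat_lit 2) (Steps.fwd (nat_lit 6144) (Steps.fwd (nat_lit 4096) (Steps.bwd (nat_lit 3) (Steps.fwd (nat_lit 4096) Steps.nil))))))) (nat_lit 12) (nat_lit 0),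
  Rule.mk (nat_lit 1) (nat_lit 115) (Steps.bwd (nat_lit 2) (Steps.fwd (nat_lit 6144) (Steps.bwd (nat_lit 5) (Steps.bwd (nat_lit 3) (Steps.fwd (nat_lit 2048) (Steps.bwd (nat_lit 3) (Steps.fwd (nat_lit 12288) (Steps.fwd (nat_lit 4096) Steps.nil)))))))) (nat_lit 18) (nat_lit 1),
  Rule.mk (nat_lit 3) (nat_lit 115) (Steps.bwd (nat_lit 6) (Steps.bwd (nat_lit 3) (Steps.bwd (nat_lit 2) (Steps.bwd (nat_lit 1) (Steps.fwd (nat_lit 4096) (Steps.bwd (nat_lit 6) (Steps.fwd (nat_lit 6144) (Steps.bwd (nat_lit 1) Steps.nil)))))))) (nat_lit 19) (nat_lit 5),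
  Rule.mk (nat_lit 1) (nat_lit 115) (Steps.fwd (nat_lit 4096) (Steps.bwd (nat_lit 6) (Steps.bwd (nat_lit 3) (Steps.fwd (nat_lit 2048) (Steps.bwd (nat_lit 3) (Steps.fwd (nat_lit 10240) (Steps.bwd (nat_lit 3) (Steps.bwd (nat_lit 2) Steps.nil)))))))) (nat_lit 19) (nat_lit 0),
  Rule.mk (nat_lit 1) (nat_lit 115) (Steps.bwd (nat_lit 3) (Steps.fwd (nat_lit 2048) (Steps.bwd (nat_lit 4) (Steps.fwd (nat_lit 6144) (Steps.fwd (nat_lit 2048) (Steps.bwd (nat_lit 3) (Steps.fwd (nat_lit 8192) (Steps.fwd (nat_lit 6144) Steps.nil)))))))) (nat_lit 42) (nat_lit 7),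
  Rule.mk (nat_lit 8) (nat_lit 76) (Steps.bwd (nat_lit 3) (Steps.bwd (nat_lit 2) (Steps.bwd (nat_lit 8) (Steps.fwd (nat_lit 6144) (Steps.bwd (nat_lit 2) Steps.nil))))) (nat_lit 33) (nat_lit 1),
  Rule.mk (nat_lit 1) (nat_lit 115) (Steps.bwd (nat_lit 3) (Steps.fwd (nat_lit 2048) (Steps.bwd (nat_lit 4) (Steps.bwd (nat_lit 3) (Steps.fwd (nat_lit 2048) (Steps.fwd (nat_lit 6144) (Steps.fwd (nat_lit 8192) (Steps.fwd (nat_lit 6144) Steps.nil)))))))) (nat_lit 42) (nat_lit 7),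
  Rule.mk (nat_lit 7) (nat_lit 154) (Steps.fwd (nat_lit 2048) (Steps.bwd (nat_lit 3) (Steps.fwd (nat_lit 2048) (Steps.bwd (nat_lit 2) (Steps.fwd (nat_lit 6144) (Steps.fwd (nat_lit 2048) (Steps.fwd (nat_lit 4096) (Steps.bwd (nat_lit 3) (Steps.bwd (nat_lit 8) (Steps.fwd (nat_lit 2048) (Steps.bwd (nat_lit 3) Steps.nil))))))))))) (nat_lit 28) (nat_lit 10),
  Rule.mk (nat_lit 3) (nat_lit 76) (Steps.bwd (nat_lit 2) (Steps.fwd (nat_lit 14336) (Steps.fwd (nat_lit 6144) (Steps.fwd (nat_lit 4096) (Steps.bwd (nat_lit 8) Steps.nil))))) (nat_lit 33) (nat_lit 2),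
  Rule.mk (nat_lit 1) (nat_lit 154) (Steps.bwd (nat_lit 2) (Steps.bwd (nat_lit 3) (Steps.bwd (nat_lit 2) (Steps.fwd (nat_lit 2048) (Steps.fwd (nat_lit 6144) (Steps.fwd (nat_lit 2048) (Steps.fwd (nat_lit 4096) (Steps.bwd (nat_lit 3) (Steps.fwd (nat_lit 2048) (Steps.bwd (nat_lit 2) (Steps.bwd (nat_lit 3) Steps.nil))))))))))) (nat_lit 14) (nat_lit 7),
  Rule.mk (nat_lit 3) (nat_lit 76) (Steps.bwd (nat_lit 4) (Steps.fwd (nat_lit 6144) (Steps.bwd (nat_lit 4) (Steps.fwd (nat_lit 6144) (Steps.fwd (nat_lit 8192) Steps.nil))))) (nat_lit 36) (nat_lit 1),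
  Rule.mk (nat_lit 3) (nat_lit 76) (Steps.bwd (nat_lit 4) (Steps.bwd (nat_lit 3) (Steps.bwd (nat_lit 4) (Steps.fwd (nat_lit 6144) (Steps.fwd (nat_lit 8192) Steps.nil))))) (nat_lit 36) (nat_lit 1),
  Rule.mk (nat_lit 3) (nat_lit 115) (Steps.bwd (nat_lit 2) (Steps.fwd (nat_lit 6144) (Steps.bwd (nat_lit 2) (Steps.fwd (nat_lit 2048) (Steps.bwd (nat_lit 4) (Steps.fwd (nat_lit 4096) (Steps.fwd (nat_lit 8192) (Steps.fwd (nat_lit 2048) Steps.nil)))))))) (nat_lit 40) (nat_lit 5),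
  Rule.mk (nat_lit 4) (nat_lit 115) (Steps.bwd (nat_lit 2) (Steps.bwd (nat_lit 4) (Steps.fwd (nat_lit 2048) (Steps.bwd (nat_lit 3) (Steps.bwd (nat_lit 2) (Steps.bwd (nat_lit 3) (Steps.bwd (nat_lit 2) (Steps.fwd (nat_lit 2048) Steps.nil)))))))) (nat_lit 40) (nat_lit 1),
  Rule.mk (nat_lit 1) (nat_lit 115) (Steps.bwd (nat_lit 2) (Steps.fwd (nat_lit 6144) (Steps.bwd (nat_lit 2) (Steps.bwd (nat_lit 3) (Steps.fwd (nat_lit 2048) (Steps.bwd (nat_lit 4) (Steps.bwd (nat_lit 2) (Steps.bwd (nat_lit 4) Steps.nil)))))))) (nat_lit 41) (nat_lit 1),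
  Rule.mk (nat_lit 3) (nat_lit 102) (Steps.bwd (nat_lit 2) (Steps.fwd (nat_lit 6144) (Steps.fwd (nat_lit 4096) (Steps.bwd (nat_lit 3) (Steps.fwd (nat_lit 4096) (Steps.fwd (nat_lit 6144) (Steps.bwd (nat_lit 2) Steps.nil))))))) (nat_lit 12) (nat_lit 0),
  Rule.mk (nat_lit 4) (nat_lit 115) (Steps.bwd (nat_lit 2) (Steps.bwd (nat_lit 4) (Steps.fwd (nat_lit 2048) (Steps.fwd (nat_lit 6144) (Steps.fwd (nat_lit 4096) (Steps.fwd (nat_lit 6144) (Steps.bwd (nat_lit 2) (Steps.fwd (nat_lit 2048) Steps.nil)))))))) (nat_lit 40) (nat_lit 1),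
  Rule.mk (nat_lit 1) (nat_lit 115) (Steps.bwd (nat_lit 2) (Steps.fwd (nat_lit 6144) (Steps.fwd (nat_lit 4096) (Steps.bwd (nat_lit 3) (Steps.fwd (nat_lit 2048) (Steps.bwd (nat_lit 4) (Steps.bwd (nat_lit 2) (Steps.bwd (nat_lit 4) Steps.nil)))))))) (nat_lit 41) (nat_lit 1),
  Rule.mk (nat_lit 3) (nat_lit 154) (Steps.bwd (nat_lit 6) (Steps.fwd (nat_lit 4096) (Steps.fwd (nat_lit 6144) (Steps.fwd (nat_lit 2048) (Steps.fwd (nat_lit 4096) (Steps.bwd (nat_lit 3) (Steps.fwd (nat_lit 2048) (Steps.bwd (nat_lit 2) (Steps.fwd (nat_lit 6144) (Steps.bwd (nat_lit 5) (Steps.fwd (nat_lit 4096) Steps.nil))))))))))) (nat_lit 20) (nat_lit 9),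
  Rule.mk (nat_lit 5) (nat_lit 50) (Steps.bwd (nat_lit 2) (Steps.bwd (nat_lit 6) (Steps.fwd (nat_lit 4096) Steps.nil))) (nat_lit 16) (nat_lit 2),
  Rule.mk (nat_lit 3) (nat_lit 115) (Steps.bwd (nat_lit 1) (Steps.fwd (nat_lit 6144) (Steps.bwd (nat_lit 6) (Steps.bwd (nat_lit 3) (Steps.fwd (nat_lit 4096) (Steps.fwd (nat_lit 2048) (Steps.bwd (nat_lit 2) (Steps.bwd (nat_lit 6) Steps.nil)))))))) (nat_lit 19) (nat_lit 3),
  Rule.mk (nat_lit 1) (nat_lit 115) (Steps.fwd (nat_lit 4096) (Steps.bwd (nat_lit 6) (Steps.bwd (nat_lit 3) (Steps.fwd (nat_lit 2048) (Steps.fwd (nat_lit 6144) (Steps.bwd (nat_lit 6) (Steps.fwd (nat_lit 6144) (Steps.bwd (nat_lit 2) Steps.nil)))))))) (nat_lit 19) (nat_lit 0),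
  Rule.mk (nat_lit 3) (nat_lit 115) (Steps.fwd (nat_lit 12288) (Steps.bwd (nat_lit 3) (Steps.fwd (nat_lit 2048) (Steps.fwd (nat_lit 6144) (Steps.fwd (nat_lit 12288) (Steps.bwd (nat_lit 2) (Steps.bwd (nat_lit 1) (Steps.fwd (nat_lit 4096) Steps.nil)))))))) (nat_lit 18) (nat_lit 3),
  Rule.mk (nat_lit 1) (nat_lit 115) (Steps.fwd (nat_lit 6144) (Steps.fwd (nat_lit 12288) (Steps.fwd (nat_lit 4096) (Steps.fwd (nat_lit 2048) (Steps.bwd (nat_lit 2) (Steps.bwd (nat_lit 3) (Steps.fwd (nat_lit 12288) (Steps.fwd (nat_lit 6144) Steps.nil)))))))) (nat_lit 18) (nat_lit 6),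
  Rule.mk (nat_lit 1) (nat_lit 115) (Steps.bwd (nat_lit 2) (Steps.fwd (nat_lit 6144) (Steps.fwd (nat_lit 12288) (Steps.fwd (nat_lit 6144) (Steps.fwd (nat_lit 2048) (Steps.bwd (nat_lit 3) (Steps.fwd (nat_lit 12288) (Steps.fwd (nat_lit 4096) Steps.nil)))))))) (nat_lit 18) (nat_lit 1),
  Rule.mk (nat_lit 0) (nat_lit 115) (Steps.bwd (nat_lit 1) (Steps.fwd (nat_lit 6144) (Steps.bwd (nat_lit 1) (Steps.fwd (nat_lit 6144) (Steps.fwd (nat_lit 2048) (Steps.bwd (nat_lit 3) (Steps.fwd (nat_lit 2048) (Steps.fwd (nat_lit 6144) Steps.nil)))))))) (nat_lit 10) (nat_lit 0),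
  Rule.mk (nat_lit 3) (nat_lit 115) (Steps.bwd (nat_lit 5) (Steps.fwd (nat_lit 6144) (Steps.fwd (nat_lit 2048) (Steps.bwd (nat_lit 3) (Steps.bwd (nat_lit 5) (Steps.bwd (nat_lit 2) (Steps.bwd (nat_lit 1) (Steps.fwd (nat_lit 4096) Steps.nil)))))))) (nat_lit 18) (nat_lit 3),
  Rule.mk (nat_lit 3) (nat_lit 154) (Steps.fwd (nat_lit 2048) (Steps.fwd (nat_lit 4096) (Steps.bwd (nat_lit 3) (Steps.bwd (nat_lit 1) (Steps.fwd (nat_lit 4096) (Steps.fwd (nat_lit 6144) (Steps.bwd (nat_lit 2) (Steps.fwd (nat_lit 2048) (Steps.fwd (nat_lit 6144) (Steps.bwd (nat_lit 1) (Steps.bwd (nat_lit 2) Steps.nil))))))))))) (nat_lit 14) (nat_lit 3),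
  Rule.mk (nat_lit 5) (nat_lit 115) (Steps.bwd (nat_lit 3) (Steps.fwd (nat_lit 2048) (Steps.fwd (nat_lit 6144) (Steps.bwd (nat_lit 5) (Steps.bwd (nat_lit 2) (Steps.fwd (nat_lit 2048) (Steps.fwd (nat_lit 4096) (Steps.fwd (nat_lit 6144) Steps.nil)))))))) (nat_lit 18) (nat_lit 4),
  Rule.mk (nat_lit 5) (nat_lit 154) (Steps.bwd (nat_lit 3) (Steps.fwd (nat_lit 4096) (Steps.fwd (nat_lit 10240) (Steps.bwd (nat_lit 3) (Steps.bwd (nat_lit 2) (Steps.fwd (nat_lit 2048) (Steps.fwd (nat_lit 6144) (Steps.fwd (nat_lit 4096) (Steps.fwd (nat_lit 2048) (Steps.bwd (nat_lit 3) (Steps.fwd (nat_lit 4096) Steps.nil))))))))))) (nat_lit 21) (nat_lit 3),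
  Rule.mk (nat_lit 2) (nat_lit 102) (Steps.bwd (nat_lit 3) (Steps.fwd (nat_lit 4096) (Steps.bwd (nat_lit 3) (Steps.fwd (nat_lit 4096) (Steps.fwd (nat_lit 6144) (Steps.bwd (nat_lit 2) (Steps.fwd (nat_lit 6144) Steps.nil))))))) (nat_lit 12) (nat_lit 1),
  Rule.mk (nat_lit 5) (nat_lit 115) (Steps.bwd (nat_lit 3) (Steps.bwd (nat_lit 1) (Steps.fwd (nat_lit 6144) (Steps.bwd (nat_lit 5) (Steps.bwd (nat_lit 2) (Steps.fwd (nat_lit 2048) (Steps.fwd (nat_lit 4096) (Steps.bwd (nat_lit 3) Steps.nil)))))))) (nat_lit 18) (nat_lit 4),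
  Rule.mk (nat_lit 0) (nat_lit 128) (Steps.fwd (nat_lit 6144) (Steps.bwd (nat_lit 1) (Steps.bwd (nat_lit 3) (Steps.bwd (nat_lit 5) (Steps.fwd (nat_lit 4096) (Steps.fwd (nat_lit 2048) (Steps.bwd (nat_lit 2) (Steps.fwd (nat_lit 6144) (Steps.bwd (nat_lit 5) Steps.nil))))))))) (nat_lit 18) (nat_lit 4),
  Rule.mk (nat_lit 2) (nat_lit 115) (Steps.bwd (nat_lit 1) (Steps.bwd (nat_lit 2) (Steps.bwd (nat_lit 3) (Steps.bwd (nat_lit 5) (Steps.fwd (nat_lit 6144) (Steps.fwd (nat_lit 2048) (Steps.fwd (nat_lit 6144) (Steps.bwd (nat_lit 5) Steps.nil)))))))) (nat_lit 18) (nat_lit 0),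
  Rule.mk (nat_lit 3) (nat_lit 154) (Steps.bwd (nat_lit 1) (Steps.bwd (nat_lit 2) (Steps.bwd (nat_lit 3) (Steps.fwd (nat_lit 4096) (Steps.bwd (nat_lit 1) (Steps.fwd (nat_lit 6144) (Steps.fwd (nat_lit 2048) (Steps.bwd (nat_lit 2) (Steps.fwd (nat_lit 6144) (Steps.bwd (nat_lit 1) (Steps.bwd (nat_lit 2) Steps.nil))))))))))) (nat_lit 14) (nat_lit 6),
  Rule.mk (nat_lit 5) (nat_lit 115) (Steps.bwd (nat_lit 2) (Steps.fwd (nat_lit 2048) (Steps.fwd (nat_lit 4096) (Steps.fwd (nat_lit 6144) (Steps.fwd (nat_lit 12288) (Steps.fwd (nat_lit 6144) (Steps.fwd (nat_lit 2048) (Steps.fwd (nat_lit 6144) Steps.nil)))))))) (nat_lit 18) (nat_lit 8),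
  Rule.mk (nat_lit 0) (nat_lit 128) (Steps.fwd (nat_lit 6144) (Steps.bwd (nat_lit 1) (Steps.fwd (nat_lit 6144) (Steps.bwd (nat_lit 5) (Steps.fwd (nat_lit 4096) (Steps.fwd (nat_lit 2048) (Steps.fwd (nat_lit 4096) (Steps.bwd (nat_lit 3) (Steps.fwd (nat_lit 12288) Steps.nil))))))))) (nat_lit 18) (nat_lit 4),
  Rule.mk (nat_lit 3) (nat_lit 50) (Steps.bwd (nat_lit 0) (Steps.fwd (nat_lit 6144) (Steps.fwd (nat_lit 0) Steps.nil))) (nat_lit 56) (nat_lit 0),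
  Rule.mk (nat_lit 1) (nat_lit 115) (Steps.bwd (nat_lit 2) (Steps.fwd (nat_lit 6144) (Steps.fwd (nat_lit 12288) (Steps.bwd (nat_lit 3) (Steps.fwd (nat_lit 2048) (Steps.fwd (nat_lit 6144) (Steps.fwd (nat_lit 12288) (Steps.fwd (nat_lit 4096) Steps.nil)))))))) (nat_lit 18) (nat_lit 1)]
noncomputable def R_5 : List (Rule) := [Rule.mk (nat_lit 8) (nat_lit 154) (Steps.bwd (nat_lit 3) (Steps.fwd (nat_lit 2048) (Steps.bwd (nat_lit 7) (Steps.bwd (nat_lit 3) (Steps.fwd (nat_lit 4096) (Steps.fwd (nat_lit 2048) (Steps.fwd (nat_lit 6144) (Steps.bwd (nat_lit 2) (Steps.fwd (nat_lit 2048) (Steps.bwd (nat_lit 3) (Steps.fwd (nat_lit 2048) Steps.nil))))))))))) (nat_lit 29) (nat_lit 3),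
  Rule.mk (nat_lit 1) (nat_lit 154) (Steps.fwd (nat_lit 16384) (Steps.fwd (nat_lit 6144) (Steps.fwd (nat_lit 4096) (Steps.fwd (nat_lit 2048) (Steps.bwd (nat_lit 3) (Steps.bwd (nat_lit 2) (Steps.fwd (nat_lit 2048) (Steps.fwd (nat_lit 6144) (Steps.fwd (nat_lit 2048) (Steps.fwd (nat_lit 14336) (Steps.fwd (nat_lit 6144) Steps.nil))))))))))) (nat_lit 29) (nat_lit 5),
  Rule.mk (nat_lit 4) (nat_lit 193) (Steps.bwd (nat_lit 2) (Steps.bwd (nat_lit 8) (Steps.bwd (nat_lit 4) (Steps.fwd (nat_lit 4096) (Steps.bwd (nat_lit 8) (Steps.bwd (nat_lit 4) (Steps.fwd (nat_lit 4096) (Steps.bwd (nat_lit 8) (Steps.fwd (nat_lit 8192) (Steps.fwd (nat_lit 4096) (Steps.bwd (nat_lit 8) (Steps.fwd (nat_lit 8192) (Steps.fwd (nat_lit 4096) (Steps.fwd (nat_lit 14336) Steps.nil)))))))))))))) (nat_lit 47) (nat_lit 2),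
  Rule.mk (nat_lit 3) (nat_lit 76) (Steps.fwd (nat_lit 4096) (Steps.bwd (nat_lit 8) (Steps.fwd (nat_lit 6144) (Steps.bwd (nat_lit 2) (Steps.bwd (nat_lit 8) Steps.nil))))) (nat_lit 33) (nat_lit 2),
  Rule.mk (nat_lit 8) (nat_lit 76) (Steps.bwd (nat_lit 3) (Steps.fwd (nat_lit 4096) (Steps.fwd (nat_lit 14336) (Steps.bwd (nat_lit 3) (Steps.fwd (nat_lit 4096) Steps.nil))))) (nat_lit 33) (nat_lit 1),
  Rule.mk (nat_lit 5) (nat_lit 115) (Steps.bwd (nat_lit 3) (Steps.bwd (nat_lit 1) (Steps.fwd (nat_lit 6144) (Steps.bwd (nat_lit 5) (Steps.bwd (nat_lit 2) (Steps.fwd (nat_lit 2048) (Steps.fwd (nat_lit 4096) (Steps.fwd (nat_lit 6144) Steps.nil)))))))) (nat_lit 18) (nat_lit 4),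
  Rule.mk (nat_lit 3) (nat_lit 154) (Steps.bwd (nat_lit 7) (Steps.bwd (nat_lit 1) (Steps.fwd (nat_lit 6144) (Steps.bwd (nat_lit 1) (Steps.bwd (nat_lit 2) (Steps.fwd (nat_lit 6144) (Steps.fwd (nat_lit 2048) (Steps.fwd (nat_lit 4096) (Steps.bwd (nat_lit 3) (Steps.bwd (nat_lit 8) (Steps.bwd (nat_lit 1) Steps.nil))))))))))) (nat_lit 28) (nat_lit 9),
  Rule.mk (nat_lit 2) (nat_lit 115) (Steps.bwd (nat_lit 1) (Steps.fwd (nat_lit 4096) (Steps.fwd (nat_lit 6144) (Steps.fwd (nat_lit 12288) (Steps.bwd (nat_lit 3) (Steps.fwd (nat_lit 2048) (Steps.fwd (nat_lit 6144) (Steps.bwd (nat_lit 5) Steps.nil)))))))) (nat_lit 18) (nat_lit 0),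
  Rule.mk (nat_lit 3) (nat_lit 154) (Steps.bwd (nat_lit 7) (Steps.fwd (nat_lit 2048) (Steps.bwd (nat_lit 3) (Steps.fwd (nat_lit 2048) (Steps.bwd (nat_lit 2) (Steps.fwd (nat_lit 6144) (Steps.fwd (nat_lit 2048) (Steps.bwd (nat_lit 2) (Steps.bwd (nat_lit 3) (Steps.bwd (nat_lit 8) (Steps.fwd (nat_lit 2048) Steps.nil))))))))))) (nat_lit 28) (nat_lit 9),
  Rule.mk (nat_lit 3) (nat_lit 154) (Steps.fwd (nat_lit 2048) (Steps.bwd (nat_lit 2) (Steps.fwd (nat_lit 6144) (Steps.fwd (nat_lit 14336) (Steps.bwd (nat_lit 1) (Steps.fwd (nat_lit 6144) (Steps.fwd (nat_lit 16384) (Steps.fwd (nat_lit 2048) (Steps.bwd (nat_lit 3) (Steps.bwd (nat_lit 1) (Steps.fwd (nat_lit 4096) Steps.nil))))))))))) (nat_lit 28) (nat_lit 3),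
  Rule.mk (nat_lit 3) (nat_lit 154) (Steps.fwd (nat_lit 2048) (Steps.fwd (nat_lit 4096) (Steps.bwd (nat_lit 3) (Steps.fwd (nat_lit 4096) (Steps.bwd (nat_lit 1) (Steps.fwd (nat_lit 6144) (Steps.fwd (nat_lit 2048) (Steps.bwd (nat_lit 2) (Steps.fwd (nat_lit 6144) (Steps.bwd (nat_lit 1) (Steps.bwd (nat_lit 2) Steps.nil))))))))))) (nat_lit 14) (nat_lit 6),
  Rule.mk (nat_lit 8) (nat_lit 76) (Steps.bwd (nat_lit 3) (Steps.fwd (nat_lit 4096) (Steps.fwd (nat_lit 14336) (Steps.fwd (nat_lit 6144) (Steps.bwd (nat_lit 2) Steps.nil))))) (nat_lit 33) (nat_lit 1),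
  Rule.mk (nat_lit 3) (nat_lit 76) (Steps.bwd (nat_lit 8) (Steps.bwd (nat_lit 3) (Steps.bwd (nat_lit 8) (Steps.bwd (nat_lit 3) (Steps.fwd (nat_lit 14336) Steps.nil))))) (nat_lit 27) (nat_lit 0),
  Rule.mk (nat_lit 3) (nat_lit 115) (Steps.bwd (nat_lit 5) (Steps.fwd (nat_lit 6144) (Steps.bwd (nat_lit 1) (Steps.fwd (nat_lit 6144) (Steps.bwd (nat_lit 5) (Steps.fwd (nat_lit 4096) (Steps.fwd (nat_lit 2048) (Steps.bwd (nat_lit 2) Steps.nil)))))))) (nat_lit 18) (nat_lit 3),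
  Rule.mk (nat_lit 4) (nat_lit 115) (Steps.fwd (nat_lit 4096) (Steps.fwd (nat_lit 8192) (Steps.fwd (nat_lit 2048) (Steps.fwd (nat_lit 6144) (Steps.bwd (nat_lit 2) (Steps.bwd (nat_lit 3) (Steps.bwd (nat_lit 2) (Steps.fwd (nat_lit 2048) Steps.nil)))))))) (nat_lit 40) (nat_lit 1),
  Rule.mk (nat_lit 0) (nat_lit 206) (Steps.fwd (nat_lit 4096) (Steps.fwd (nat_lit 14336) (Steps.fwd (nat_lit 8192) (Steps.fwd (nat_lit 4096) (Steps.fwd (nat_lit 14336) (Steps.bwd (nat_lit 4) (Steps.fwd (nat_lit 4096) (Steps.bwd (nat_lit 8) (Steps.fwd (nat_lit 8192) (Steps.bwd (nat_lit 2) (Steps.fwd (nat_lit 14336) (Steps.bwd (nat_lit 4) (Steps.bwd (nat_lit 2) (Steps.bwd (nat_lit 8) (Steps.bwd (nat_lit 4) Steps.nil))))))))))))))) (nat_lit 47) (nat_lit 2),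
  Rule.mk (nat_lit 0) (nat_lit 50) (Steps.bwd (nat_lit 2) (Steps.fwd (nat_lit 0) (Steps.fwd (nat_lit 4096) Steps.nil))) (nat_lit 56) (nat_lit 0),
  Rule.mk (nat_lit 4) (nat_lit 37) (Steps.bwd (nat_lit 0) (Steps.bwd (nat_lit 4) Steps.nil)) (nat_lit 56) (nat_lit 0),
  Rule.mk (nat_lit 8) (nat_lit 37) (Steps.bwd (nat_lit 0) (Steps.fwd (nat_lit 16384) Steps.nil)) (nat_lit 56) (nat_lit 0),
  Rule.mk (nat_lit 0) (nat_lit 50) (Steps.bwd (nat_lit 3) (Steps.fwd (nat_lit 0) (Steps.fwd (nat_lit 6144) Steps.nil))) (nat_lit 56) (nat_lit 0),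
  Rule.mk (nat_lit 0) (nat_lit 50) (Steps.bwd (nat_lit 8) (Steps.fwd (nat_lit 0) (Steps.fwd (nat_lit 16384) Steps.nil))) (nat_lit 56) (nat_lit 0),
  Rule.mk (nat_lit 0) (nat_lit 50) (Steps.fwd (nat_lit 6144) (Steps.fwd (nat_lit 0) (Steps.fwd (nat_lit 6144) Steps.nil))) (nat_lit 56) (nat_lit 0),
  Rule.mk (nat_lit 8) (nat_lit 37) (Steps.bwd (nat_lit 0) (Steps.bwd (nat_lit 7) Steps.nil)) (nat_lit 56) (nat_lit 0),
  Rule.mk (nat_lit 4) (nat_lit 193) (Steps.fwd (nat_lit 4096) (Steps.bwd (nat_lit 8) (Steps.bwd (nat_lit 4) (Steps.bwd (nat_lit 2) (Steps.bwd (nat_lit 8) (Steps.fwd (nat_lit 8192) (Steps.fwd (nat_lit 4096) (Steps.bwd (nat_lit 8) (Steps.bwd (nat_lit 4) (Steps.fwd (nat_lit 4096) (Steps.fwd (nat_lit 14336) (Steps.fwd (nat_lit 8192) (Steps.fwd (nat_lit 4096) (Steps.fwd (nat_lit 14336) Steps.nil)))))))))))))) (nat_lit 47) (nat_lit 2),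
  Rule.mk (nat_lit 0) (nat_lit 219) (Steps.fwd (nat_lit 16384) (Steps.bwd (nat_lit 4) (Steps.fwd (nat_lit 16384) (Steps.fwd (nat_lit 8192) (Steps.fwd (nat_lit 16384) (Steps.fwd (nat_lit 8192) (Steps.fwd (nat_lit 16384) (Steps.bwd (nat_lit 4) (Steps.fwd (nat_lit 16384) (Steps.bwd (nat_lit 4) (Steps.fwd (nat_lit 16384) (Steps.bwd (nat_lit 4) (Steps.bwd (nat_lit 7) (Steps.fwd (nat_lit 8192) (Steps.bwd (nat_lit 7) (Steps.bwd (nat_lit 4) Steps.nil)))))))))))))))) (nat_lit 48) (nat_lit 1),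
  Rule.mk (nat_lit 0) (nat_lit 50) (Steps.fwd (nat_lit 6144) (Steps.fwd (nat_lit 0) (Steps.bwd (nat_lit 3) Steps.nil))) (nat_lit 56) (nat_lit 0),
  Rule.mk (nat_lit 0) (nat_lit 50) (Steps.bwd (nat_lit 4) (Steps.bwd (nat_lit 0) (Steps.bwd (nat_lit 4) Steps.nil))) (nat_lit 56) (nat_lit 0),
  Rule.mk (nat_lit 0) (nat_lit 50) (Steps.fwd (nat_lit 4096) (Steps.fwd (nat_lit 0) (Steps.bwd (nat_lit 2) Steps.nil))) (nat_lit 56) (nat_lit 0),
  Rule.mk (nat_lit 4) (nat_lit 37) (Steps.bwd (nat_lit 0) (Steps.fwd (nat_lit 8192) Steps.nil)) (nat_lit 56) (nat_lit 0),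
  Rule.mk (nat_lit 0) (nat_lit 50) (Steps.bwd (nat_lit 3) (Steps.fwd (nat_lit 0) (Steps.bwd (nat_lit 3) Steps.nil))) (nat_lit 56) (nat_lit 0),
  Rule.mk (nat_lit 0) (nat_lit 63) (Steps.bwd (nat_lit 4) (Steps.bwd (nat_lit 0) (Steps.fwd (nat_lit 8192) (Steps.fwd (nat_lit 0) Steps.nil)))) (nat_lit 56) (nat_lit 0),
  Rule.mk (nat_lit 2) (nat_lit 115) (Steps.bwd (nat_lit 3) (Steps.bwd (nat_lit 2) (Steps.bwd (nat_lit 1) (Steps.bwd (nat_lit 4) (Steps.fwd (nat_lit 4096) (Steps.fwd (nat_lit 8192) (Steps.fwd (nat_lit 2048) (Steps.fwd (nat_lit 6144) Steps.nil)))))))) (nat_lit 40) (nat_lit 6),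
  Rule.mk (nat_lit 1) (nat_lit 115) (Steps.bwd (nat_lit 3) (Steps.bwd (nat_lit 1) (Steps.bwd (nat_lit 4) (Steps.fwd (nat_lit 6144) (Steps.bwd (nat_lit 1) (Steps.fwd (nat_lit 6144) (Steps.fwd (nat_lit 8192) (Steps.fwd (nat_lit 6144) Steps.nil)))))))) (nat_lit 42) (nat_lit 7),
  Rule.mk (nat_lit 3) (nat_lit 115) (Steps.bwd (nat_lit 1) (Steps.fwd (nat_lit 8192) (Steps.fwd (nat_lit 4096) (Steps.fwd (nat_lit 8192) (Steps.fwd (nat_lit 2048) (Steps.fwd (nat_lit 4096) (Steps.bwd (nat_lit 3) (Steps.bwd (nat_lit 2) Steps.nil)))))))) (nat_lit 41) (nat_lit 5),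
  Rule.mk (nat_lit 1) (nat_lit 115) (Steps.bwd (nat_lit 3) (Steps.bwd (nat_lit 2) (Steps.fwd (nat_lit 6144) (Steps.fwd (nat_lit 4096) (Steps.fwd (nat_lit 2048) (Steps.fwd (nat_lit 8192) (Steps.fwd (nat_lit 4096) (Steps.fwd (nat_lit 8192) Steps.nil)))))))) (nat_lit 40) (nat_lit 4),
  Rule.mk (nat_lit 3) (nat_lit 102) (Steps.bwd (nat_lit 2) (Steps.bwd (nat_lit 3) (Steps.bwd (nat_lit 2) (Steps.fwd (nat_lit 6144) (Steps.fwd (nat_lit 4096) (Steps.bwd (nat_lit 3) (Steps.bwd (nat_lit 2) Steps.nil))))))) (nat_lit 12) (nat_lit 0),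
  Rule.mk (nat_lit 4) (nat_lit 76) (Steps.fwd (nat_lit 6144) (Steps.bwd (nat_lit 4) (Steps.fwd (nat_lit 6144) (Steps.fwd (nat_lit 8192) (Steps.bwd (nat_lit 3) Steps.nil))))) (nat_lit 36) (nat_lit 0),
  Rule.mk (nat_lit 2) (nat_lit 115) (Steps.bwd (nat_lit 1) (Steps.fwd (nat_lit 8192) (Steps.bwd (nat_lit 2) (Steps.fwd (nat_lit 8192) (Steps.fwd (nat_lit 2048) (Steps.bwd (nat_lit 3) (Steps.bwd (nat_lit 2) (Steps.bwd (nat_lit 3) Steps.nil)))))))) (nat_lit 40) (nat_lit 8),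
  Rule.mk (nat_lit 3) (nat_lit 115) (Steps.bwd (nat_lit 1) (Steps.fwd (nat_lit 8192) (Steps.bwd (nat_lit 2) (Steps.fwd (nat_lit 8192) (Steps.fwd (nat_lit 2048) (Steps.bwd (nat_lit 2) (Steps.bwd (nat_lit 3) (Steps.bwd (nat_lit 2) Steps.nil)))))))) (nat_lit 41) (nat_lit 5),
  Rule.mk (nat_lit 3) (nat_lit 76) (Steps.bwd (nat_lit 7) (Steps.fwd (nat_lit 4096) (Steps.fwd (nat_lit 6144) (Steps.fwd (nat_lit 16384) (Steps.fwd (nat_lit 4096) Steps.nil))))) (nat_lit 32) (nat_lit 2),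
  Rule.mk (nat_lit 3) (nat_lit 76) (Steps.bwd (nat_lit 7) (Steps.fwd (nat_lit 4096) (Steps.fwd (nat_lit 6144) (Steps.bwd (nat_lit 7) (Steps.bwd (nat_lit 2) Steps.nil))))) (nat_lit 32) (nat_lit 2),
  Rule.mk (nat_lit 7) (nat_lit 76) (Steps.bwd (nat_lit 3) (Steps.bwd (nat_lit 7) (Steps.fwd (nat_lit 6144) (Steps.bwd (nat_lit 7) (Steps.bwd (nat_lit 3) Steps.nil))))) (nat_lit 26) (nat_lit 0),
  Rule.mk (nat_lit 8) (nat_lit 76) (Steps.bwd (nat_lit 3) (Steps.fwd (nat_lit 4096) (Steps.fwd (nat_lit 14336) (Steps.fwd (nat_lit 6144) (Steps.fwd (nat_lit 4096) Steps.nil))))) (nat_lit 33) (nat_lit 1),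
  Rule.mk (nat_lit 8) (nat_lit 37) (Steps.fwd (nat_lit 14336) (Steps.bwd (nat_lit 8) Steps.nil)) (nat_lit 9) (nat_lit 0),
  Rule.mk (nat_lit 2) (nat_lit 102) (Steps.bwd (nat_lit 3) (Steps.bwd (nat_lit 2) (Steps.fwd (nat_lit 6144) (Steps.bwd (nat_lit 2) (Steps.fwd (nat_lit 6144) (Steps.bwd (nat_lit 2) (Steps.fwd (nat_lit 6144) Steps.nil))))))) (nat_lit 12) (nat_lit 1),
  Rule.mk (nat_lit 8) (nat_lit 50) (Steps.fwd (nat_lit 4096) (Steps.bwd (nat_lit 8) (Steps.bwd (nat_lit 2) Steps.nil))) (nat_lit 25) (nat_lit 1),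
  Rule.mk (nat_lit 3) (nat_lit 76) (Steps.bwd (nat_lit 2) (Steps.fwd (nat_lit 14336) (Steps.fwd (nat_lit 6144) (Steps.bwd (nat_lit 2) (Steps.bwd (nat_lit 8) Steps.nil))))) (nat_lit 33) (nat_lit 2),
  Rule.mk (nat_lit 7) (nat_lit 50) (Steps.bwd (nat_lit 1) (Steps.bwd (nat_lit 8) (Steps.bwd (nat_lit 1) Steps.nil))) (nat_lit 22) (nat_lit 2),
  Rule.mk (nat_lit 8) (nat_lit 76) (Steps.bwd (nat_lit 3) (Steps.fwd (nat_lit 4096) (Steps.fwd (nat_lit 14336) (Steps.bwd (nat_lit 3) (Steps.bwd (nat_lit 2) Steps.nil))))) (nat_lit 33) (nat_lit 1),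
  Rule.mk (nat_lit 3) (nat_lit 76) (Steps.bwd (nat_lit 8) (Steps.fwd (nat_lit 6144) (Steps.bwd (nat_lit 8) (Steps.bwd (nat_lit 3) (Steps.fwd (nat_lit 14336) Steps.nil))))) (nat_lit 27) (nat_lit 0),
  Rule.mk (nat_lit 3) (nat_lit 154) (Steps.fwd (nat_lit 2048) (Steps.bwd (nat_lit 2) (Steps.fwd (nat_lit 6144) (Steps.fwd (nat_lit 2048) (Steps.bwd (nat_lit 2) (Steps.bwd (nat_lit 3) (Steps.bwd (nat_lit 8) (Steps.fwd (nat_lit 2048) (Steps.fwd (nat_lit 6144) (Steps.fwd (nat_lit 16384) (Steps.fwd (nat_lit 2048) Steps.nil))))))))))) (nat_lit 28) (nat_lit 0),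
  Rule.mk (nat_lit 1) (nat_lit 154) (Steps.bwd (nat_lit 3) (Steps.bwd (nat_lit 2) (Steps.fwd (nat_lit 2048) (Steps.fwd (nat_lit 6144) (Steps.fwd (nat_lit 4096) (Steps.bwd (nat_lit 1) (Steps.fwd (nat_lit 6144) (Steps.fwd (nat_lit 2048) (Steps.bwd (nat_lit 2) (Steps.fwd (nat_lit 6144) (Steps.bwd (nat_lit 2) Steps.nil))))))))))) (nat_lit 15) (nat_lit 6),
  Rule.mk (nat_lit 7) (nat_lit 154) (Steps.bwd (nat_lit 3) (Steps.bwd (nat_lit 2) (Steps.fwd (nat_lit 2048) (Steps.fwd (nat_lit 6144) (Steps.fwd (nat_lit 4096) (Steps.bwd (nat_lit 1) (Steps.fwd (nat_lit 6144) (Steps.fwd (nat_lit 2048) (Steps.fwd (nat_lit 14336) (Steps.fwd (nat_lit 6144) (Steps.bwd (nat_lit 1) Steps.nil))))))))))) (nat_lit 29) (nat_lit 6),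
  Rule.mk (nat_lit 2) (nat_lit 154) (Steps.bwd (nat_lit 1) (Steps.bwd (nat_lit 3) (Steps.bwd (nat_lit 1) (Steps.fwd (nat_lit 4096) (Steps.bwd (nat_lit 3) (Steps.fwd (nat_lit 2048) (Steps.bwd (nat_lit 2) (Steps.fwd (nat_lit 6144) (Steps.fwd (nat_lit 2048) (Steps.bwd (nat_lit 2) (Steps.bwd (nat_lit 3) Steps.nil))))))))))) (nat_lit 14) (nat_lit 10),
  Rule.mk (nat_lit 3) (nat_lit 154) (Steps.bwd (nat_lit 8) (Steps.fwd (nat_lit 2048) (Steps.bwd (nat_lit 3) (Steps.bwd (nat_lit 7) (Steps.bwd (nat_lit 1) (Steps.fwd (nat_lit 6144) (Steps.bwd (nat_lit 1) (Steps.fwd (nat_lit 4096) (Steps.fwd (nat_lit 6144) (Steps.fwd (nat_lit 2048) (Steps.fwd (nat_lit 4096) Steps.nil))))))))))) (nat_lit 28) (nat_lit 6),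
  Rule.mk (nat_lit 8) (nat_lit 76) (Steps.bwd (nat_lit 3) (Steps.bwd (nat_lit 8) (Steps.fwd (nat_lit 6144) (Steps.fwd (nat_lit 14336) (Steps.bwd (nat_lit 3) Steps.nil))))) (nat_lit 27) (nat_lit 1),
  Rule.mk (nat_lit 3) (nat_lit 76) (Steps.bwd (nat_lit 2) (Steps.bwd (nat_lit 8) (Steps.fwd (nat_lit 6144) (Steps.fwd (nat_lit 4096) (Steps.bwd (nat_lit 8) Steps.nil))))) (nat_lit 33) (nat_lit 2),
  Rule.mk (nat_lit 3) (nat_lit 76) (Steps.bwd (nat_lit 7) (Steps.bwd (nat_lit 3) (Steps.fwd (nat_lit 16384) (Steps.bwd (nat_lit 3) (Steps.bwd (nat_lit 7) Steps.nil))))) (nat_lit 26) (nat_lit 1),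
  Rule.mk (nat_lit 3) (nat_lit 154) (Steps.bwd (nat_lit 8) (Steps.fwd (nat_lit 2048) (Steps.fwd (nat_lit 6144) (Steps.bwd (nat_lit 7) (Steps.fwd (nat_lit 2048) (Steps.bwd (nat_lit 3) (Steps.bwd (nat_lit 1) (Steps.fwd (nat_lit 4096) (Steps.bwd (nat_lit 3) (Steps.bwd (nat_lit 1) (Steps.fwd (nat_lit 4096) Steps.nil))))))))))) (nat_lit 28) (nat_lit 6),
  Rule.mk (nat_lit 2) (nat_lit 76) (Steps.bwd (nat_lit 8) (Steps.fwd (nat_lit 6144) (Steps.bwd (nat_lit 2) (Steps.fwd (nat_lit 14336) (Steps.bwd (nat_lit 3) Steps.nil))))) (nat_lit 33) (nat_lit 0),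
  Rule.mk (nat_lit 7) (nat_lit 50) (Steps.bwd (nat_lit 2) (Steps.fwd (nat_lit 16384) (Steps.fwd (nat_lit 4096) Steps.nil))) (nat_lit 24) (nat_lit 0),
  Rule.mk (nat_lit 3) (nat_lit 76) (Steps.bwd (nat_lit 2) (Steps.bwd (nat_lit 8) (Steps.bwd (nat_lit 3) (Steps.bwd (nat_lit 2) (Steps.bwd (nat_lit 8) Steps.nil))))) (nat_lit 33) (nat_lit 2),
  Rule.mk (nat_lit 1) (nat_lit 154) (Steps.bwd (nat_lit 2) (Steps.fwd (nat_lit 6144) (Steps.bwd (nat_lit 2) (Steps.bwd (nat_lit 1) (Steps.bwd (nat_lit 3) (Steps.bwd (nat_lit 1) (Steps.fwd (nat_lit 4096) (Steps.fwd (nat_lit 6144) (Steps.fwd (nat_lit 2048) (Steps.fwd (nat_lit 4096) (Steps.bwd (nat_lit 3) Steps.nil))))))))))) (nat_lit 14) (nat_lit 7),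
  Rule.mk (nat_lit 3) (nat_lit 154) (Steps.bwd (nat_lit 1) (Steps.fwd (nat_lit 4096) (Steps.bwd (nat_lit 3) (Steps.fwd (nat_lit 4096) (Steps.fwd (nat_lit 2048) (Steps.fwd (nat_lit 6144) (Steps.bwd (nat_lit 1) (Steps.fwd (nat_lit 4096) (Steps.fwd (nat_lit 6144) (Steps.bwd (nat_lit 1) (Steps.fwd (nat_lit 4096) Steps.nil))))))))))) (nat_lit 14) (nat_lit 6)]
noncomputable def R_6 : List (Rule) := [Rule.mk (nat_lit 2) (nat_lit 154) (Steps.bwd (nat_lit 1) (Steps.fwd (nat_lit 6144) (Steps.fwd (nat_lit 2048) (Steps.bwd (nat_lit 2) (Steps.bwd (nat_lit 3) (Steps.fwd (nat_lit 2048) (Steps.bwd (nat_lit 2) (Steps.bwd (nat_lit 3) (Steps.bwd (nat_lit 1) (Steps.fwd (nat_lit 4096) (Steps.fwd (nat_lit 6144) Steps.nil))))))))))) (nat_lit 14) (nat_lit 10),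
  Rule.mk (nat_lit 3) (nat_lit 154) (Steps.bwd (nat_lit 6) (Steps.fwd (nat_lit 4096) (Steps.fwd (nat_lit 6144) (Steps.fwd (nat_lit 2048) (Steps.fwd (nat_lit 4096) (Steps.bwd (nat_lit 3) (Steps.fwd (nat_lit 2048) (Steps.bwd (nat_lit 2) (Steps.bwd (nat_lit 3) (Steps.bwd (nat_lit 5) (Steps.fwd (nat_lit 4096) Steps.nil))))))))))) (nat_lit 20) (nat_lit 9),
  Rule.mk (nat_lit 3) (nat_lit 154) (Steps.bwd (nat_lit 2) (Steps.fwd (nat_lit 10240) (Steps.bwd (nat_lit 3) (Steps.fwd (nat_lit 4096) (Steps.bwd (nat_lit 1) (Steps.bwd (nat_lit 3) (Steps.bwd (nat_lit 2) (Steps.bwd (nat_lit 1) (Steps.bwd (nat_lit 3) (Steps.fwd (nat_lit 4096) (Steps.bwd (nat_lit 5) Steps.nil))))))))))) (nat_lit 21) (nat_lit 4),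
  Rule.mk (nat_lit 7) (nat_lit 50) (Steps.bwd (nat_lit 6) (Steps.fwd (nat_lit 14336) (Steps.fwd (nat_lit 12288) Steps.nil))) (nat_lit 31) (nat_lit 2),
  Rule.mk (nat_lit 2) (nat_lit 115) (Steps.bwd (nat_lit 3) (Steps.fwd (nat_lit 4096) (Steps.bwd (nat_lit 1) (Steps.bwd (nat_lit 4) (Steps.fwd (nat_lit 4096) (Steps.fwd (nat_lit 8192) (Steps.bwd (nat_lit 1) (Steps.fwd (nat_lit 6144) Steps.nil)))))))) (nat_lit 40) (nat_lit 6),
  Rule.mk (nat_lit 1) (nat_lit 102) (Steps.bwd (nat_lit 3) (Steps.fwd (nat_lit 2048) (Steps.fwd (nat_lit 6144) (Steps.fwd (nat_lit 2048) (Steps.fwd (nat_lit 6144) (Steps.bwd (nat_lit 1) (Steps.fwd (nat_lit 6144) Steps.nil))))))) (nat_lit 10) (nat_lit 1),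
  Rule.mk (nat_lit 3) (nat_lit 102) (Steps.bwd (nat_lit 1) (Steps.bwd (nat_lit 3) (Steps.bwd (nat_lit 1) (Steps.fwd (nat_lit 6144) (Steps.bwd (nat_lit 1) (Steps.bwd (nat_lit 3) (Steps.bwd (nat_lit 1) Steps.nil))))))) (nat_lit 10) (nat_lit 0),
  Rule.mk (nat_lit 4) (nat_lit 115) (Steps.bwd (nat_lit 1) (Steps.bwd (nat_lit 3) (Steps.fwd (nat_lit 4096) (Steps.fwd (nat_lit 6144) (Steps.fwd (nat_lit 4096) (Steps.bwd (nat_lit 1) (Steps.fwd (nat_lit 8192) (Steps.bwd (nat_lit 2) Steps.nil)))))))) (nat_lit 40) (nat_lit 3),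
  Rule.mk (nat_lit 3) (nat_lit 76) (Steps.bwd (nat_lit 7) (Steps.bwd (nat_lit 3) (Steps.bwd (nat_lit 7) (Steps.fwd (nat_lit 6144) (Steps.bwd (nat_lit 7) Steps.nil))))) (nat_lit 26) (nat_lit 1),
  Rule.mk (nat_lit 3) (nat_lit 102) (Steps.bwd (nat_lit 1) (Steps.fwd (nat_lit 6144) (Steps.bwd (nat_lit 1) (Steps.fwd (nat_lit 6144) (Steps.fwd (nat_lit 2048) (Steps.bwd (nat_lit 3) (Steps.bwd (nat_lit 1) Steps.nil))))))) (nat_lit 10) (nat_lit 0),
  Rule.mk (nat_lit 3) (nat_lit 76) (Steps.bwd (nat_lit 2) (Steps.bwd (nat_lit 8) (Steps.fwd (nat_lit 6144) (Steps.fwd (nat_lit 4096) (Steps.fwd (nat_lit 14336) Steps.nil))))) (nat_lit 33) (nat_lit 2),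
  Rule.mk (nat_lit 3) (nat_lit 154) (Steps.bwd (nat_lit 6) (Steps.fwd (nat_lit 4096) (Steps.fwd (nat_lit 6144) (Steps.bwd (nat_lit 1) (Steps.bwd (nat_lit 2) (Steps.fwd (nat_lit 6144) (Steps.fwd (nat_lit 2048) (Steps.bwd (nat_lit 2) (Steps.fwd (nat_lit 6144) (Steps.bwd (nat_lit 5) (Steps.fwd (nat_lit 4096) Steps.nil))))))))))) (nat_lit 20) (nat_lit 9),
  Rule.mk (nat_lit 3) (nat_lit 154) (Steps.bwd (nat_lit 2) (Steps.bwd (nat_lit 6) (Steps.fwd (nat_lit 6144) (Steps.fwd (nat_lit 4096) (Steps.fwd (nat_lit 2048) (Steps.fwd (nat_lit 6144) (Steps.bwd (nat_lit 2) (Steps.fwd (nat_lit 2048) (Steps.fwd (nat_lit 6144) (Steps.fwd (nat_lit 4096) (Steps.bwd (nat_lit 5) Steps.nil))))))))))) (nat_lit 21) (nat_lit 4),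
  Rule.mk (nat_lit 7) (nat_lit 154) (Steps.bwd (nat_lit 3) (Steps.fwd (nat_lit 4096) (Steps.bwd (nat_lit 1) (Steps.fwd (nat_lit 6144) (Steps.fwd (nat_lit 4096) (Steps.fwd (nat_lit 2048) (Steps.fwd (nat_lit 6144) (Steps.bwd (nat_lit 1) (Steps.fwd (nat_lit 14336) (Steps.fwd (nat_lit 6144) (Steps.fwd (nat_lit 2048) Steps.nil))))))))))) (nat_lit 29) (nat_lit 6),
  Rule.mk (nat_lit 8) (nat_lit 76) (Steps.bwd (nat_lit 3) (Steps.fwd (nat_lit 14336) (Steps.fwd (nat_lit 6144) (Steps.fwd (nat_lit 14336) (Steps.bwd (nat_lit 3) Steps.nil))))) (nat_lit 27) (nat_lit 1),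
  Rule.mk (nat_lit 2) (nat_lit 76) (Steps.bwd (nat_lit 3) (Steps.fwd (nat_lit 16384) (Steps.fwd (nat_lit 4096) (Steps.bwd (nat_lit 3) (Steps.bwd (nat_lit 7) Steps.nil))))) (nat_lit 32) (nat_lit 1),
  Rule.mk (nat_lit 8) (nat_lit 50) (Steps.bwd (nat_lit 2) (Steps.fwd (nat_lit 14336) (Steps.bwd (nat_lit 2) Steps.nil))) (nat_lit 25) (nat_lit 1),
  Rule.mk (nat_lit 4) (nat_lit 115) (Steps.bwd (nat_lit 1) (Steps.fwd (nat_lit 6144) (Steps.fwd (nat_lit 4096) (Steps.bwd (nat_lit 3) (Steps.bwd (nat_lit 2) (Steps.bwd (nat_lit 1) (Steps.bwd (nat_lit 4) (Steps.fwd (nat_lit 4096) Steps.nil)))))))) (nat_lit 40) (nat_lit 3),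
  Rule.mk (nat_lit 3) (nat_lit 76) (Steps.bwd (nat_lit 7) (Steps.fwd (nat_lit 6144) (Steps.fwd (nat_lit 16384) (Steps.fwd (nat_lit 6144) (Steps.bwd (nat_lit 7) Steps.nil))))) (nat_lit 26) (nat_lit 1),
  Rule.mk (nat_lit 3) (nat_lit 154) (Steps.bwd (nat_lit 2) (Steps.fwd (nat_lit 2048) (Steps.fwd (nat_lit 6144) (Steps.fwd (nat_lit 2048) (Steps.bwd (nat_lit 2) (Steps.fwd (nat_lit 6144) (Steps.fwd (nat_lit 4096) (Steps.bwd (nat_lit 1) (Steps.bwd (nat_lit 3) (Steps.fwd (nat_lit 4096) (Steps.bwd (nat_lit 1) Steps.nil))))))))))) (nat_lit 15) (nat_lit 10),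
  Rule.mk (nat_lit 3) (nat_lit 76) (Steps.bwd (nat_lit 2) (Steps.bwd (nat_lit 8) (Steps.bwd (nat_lit 3) (Steps.fwd (nat_lit 4096) (Steps.fwd (nat_lit 14336) Steps.nil))))) (nat_lit 33) (nat_lit 2),
  Rule.mk (nat_lit 3) (nat_lit 154) (Steps.bwd (nat_lit 6) (Steps.fwd (nat_lit 4096) (Steps.fwd (nat_lit 6144) (Steps.fwd (nat_lit 2048) (Steps.fwd (nat_lit 4096) (Steps.bwd (nat_lit 3) (Steps.bwd (nat_lit 1) (Steps.bwd (nat_lit 2) (Steps.bwd (nat_lit 3) (Steps.fwd (nat_lit 12288) (Steps.fwd (nat_lit 4096) Steps.nil))))))))))) (nat_lit 20) (nat_lit 9),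
  Rule.mk (nat_lit 3) (nat_lit 102) (Steps.bwd (nat_lit 2) (Steps.fwd (nat_lit 6144) (Steps.bwd (nat_lit 2) (Steps.bwd (nat_lit 3) (Steps.bwd (nat_lit 2) (Steps.bwd (nat_lit 3) (Steps.bwd (nat_lit 2) Steps.nil))))))) (nat_lit 12) (nat_lit 0),
  Rule.mk (nat_lit 3) (nat_lit 115) (Steps.bwd (nat_lit 2) (Steps.bwd (nat_lit 3) (Steps.fwd (nat_lit 4096) (Steps.fwd (nat_lit 2048) (Steps.bwd (nat_lit 4) (Steps.bwd (nat_lit 2) (Steps.fwd (nat_lit 8192) (Steps.bwd (nat_lit 1) Steps.nil)))))))) (nat_lit 40) (nat_lit 5),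
  Rule.mk (nat_lit 3) (nat_lit 102) (Steps.bwd (nat_lit 1) (Steps.fwd (nat_lit 6144) (Steps.fwd (nat_lit 2048) (Steps.bwd (nat_lit 3) (Steps.fwd (nat_lit 2048) (Steps.fwd (nat_lit 6144) (Steps.bwd (nat_lit 1) Steps.nil))))))) (nat_lit 10) (nat_lit 0),
  Rule.mk (nat_lit 3) (nat_lit 76) (Steps.bwd (nat_lit 8) (Steps.fwd (nat_lit 6144) (Steps.bwd (nat_lit 8) (Steps.fwd (nat_lit 6144) (Steps.fwd (nat_lit 14336) Steps.nil))))) (nat_lit 27) (nat_lit 0),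
  Rule.mk (nat_lit 2) (nat_lit 76) (Steps.bwd (nat_lit 8) (Steps.fwd (nat_lit 6144) (Steps.bwd (nat_lit 2) (Steps.bwd (nat_lit 8) (Steps.bwd (nat_lit 3) Steps.nil))))) (nat_lit 33) (nat_lit 0),
  Rule.mk (nat_lit 4) (nat_lit 115) (Steps.fwd (nat_lit 4096) (Steps.fwd (nat_lit 8192) (Steps.fwd (nat_lit 2048) (Steps.fwd (nat_lit 6144) (Steps.fwd (nat_lit 4096) (Steps.bwd (nat_lit 3) (Steps.bwd (nat_lit 2) (Steps.fwd (nat_lit 2048) Steps.nil)))))))) (nat_lit 40) (nat_lit 1),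
  Rule.mk (nat_lit 8) (nat_lit 76) (Steps.bwd (nat_lit 3) (Steps.bwd (nat_lit 8) (Steps.bwd (nat_lit 3) (Steps.fwd (nat_lit 14336) (Steps.bwd (nat_lit 3) Steps.nil))))) (nat_lit 27) (nat_lit 1),
  Rule.mk (nat_lit 7) (nat_lit 154) (Steps.bwd (nat_lit 3) (Steps.fwd (nat_lit 4096) (Steps.fwd (nat_lit 2048) (Steps.fwd (nat_lit 6144) (Steps.bwd (nat_lit 2) (Steps.fwd (nat_lit 2048) (Steps.fwd (nat_lit 6144) (Steps.fwd (nat_lit 2048) (Steps.fwd (nat_lit 14336) (Steps.bwd (nat_lit 3) (Steps.fwd (nat_lit 2048) Steps.nil))))))))))) (nat_lit 29) (nat_lit 6),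
  Rule.mk (nat_lit 7) (nat_lit 76) (Steps.bwd (nat_lit 3) (Steps.bwd (nat_lit 7) (Steps.bwd (nat_lit 3) (Steps.bwd (nat_lit 7) (Steps.bwd (nat_lit 3) Steps.nil))))) (nat_lit 26) (nat_lit 0),
  Rule.mk (nat_lit 1) (nat_lit 102) (Steps.bwd (nat_lit 3) (Steps.fwd (nat_lit 2048) (Steps.bwd (nat_lit 3) (Steps.bwd (nat_lit 1) (Steps.bwd (nat_lit 3) (Steps.bwd (nat_lit 1) (Steps.fwd (nat_lit 6144) Steps.nil))))))) (nat_lit 10) (nat_lit 1),
  Rule.mk (nat_lit 2) (nat_lit 154) (Steps.bwd (nat_lit 1) (Steps.bwd (nat_lit 3) (Steps.fwd (nat_lit 2048) (Steps.bwd (nat_lit 2) (Steps.fwd (nat_lit 6144) (Steps.bwd (nat_lit 1) (Steps.fwd (nat_lit 4096) (Steps.fwd (nat_lit 6144) (Steps.fwd (nat_lit 2048) (Steps.bwd (nat_lit 2) (Steps.bwd (nat_lit 3) Steps.nil))))))))))) (nat_lit 14) (nat_lit 10),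
  Rule.mk (nat_lit 3) (nat_lit 102) (Steps.bwd (nat_lit 2) (Steps.fwd (nat_lit 6144) (Steps.bwd (nat_lit 2) (Steps.fwd (nat_lit 6144) (Steps.bwd (nat_lit 2) (Steps.bwd (nat_lit 3) (Steps.bwd (nat_lit 2) Steps.nil))))))) (nat_lit 12) (nat_lit 0),
  Rule.mk (nat_lit 1) (nat_lit 154) (Steps.bwd (nat_lit 2) (Steps.fwd (nat_lit 6144) (Steps.bwd (nat_lit 2) (Steps.fwd (nat_lit 2048) (Steps.fwd (nat_lit 6144) (Steps.fwd (nat_lit 2048) (Steps.bwd (nat_lit 2) (Steps.bwd (nat_lit 3) (Steps.fwd (nat_lit 2048) (Steps.fwd (nat_lit 4096) (Steps.bwd (nat_lit 3) Steps.nil))))))))))) (nat_lit 14) (nat_lit 7),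
  Rule.mk (nat_lit 3) (nat_lit 76) (Steps.bwd (nat_lit 7) (Steps.fwd (nat_lit 6144) (Steps.bwd (nat_lit 7) (Steps.fwd (nat_lit 6144) (Steps.fwd (nat_lit 16384) Steps.nil))))) (nat_lit 26) (nat_lit 1),
  Rule.mk (nat_lit 5) (nat_lit 154) (Steps.bwd (nat_lit 3) (Steps.bwd (nat_lit 2) (Steps.fwd (nat_lit 10240) (Steps.fwd (nat_lit 6144) (Steps.fwd (nat_lit 4096) (Steps.fwd (nat_lit 2048) (Steps.bwd (nat_lit 3) (Steps.fwd (nat_lit 4096) (Steps.bwd (nat_lit 1) (Steps.fwd (nat_lit 6144) (Steps.fwd (nat_lit 4096) Steps.nil))))))))))) (nat_lit 21) (nat_lit 3),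
  Rule.mk (nat_lit 2) (nat_lit 50) (Steps.bwd (nat_lit 7) (Steps.fwd (nat_lit 4096) (Steps.fwd (nat_lit 16384) Steps.nil))) (nat_lit 24) (nat_lit 1),
  Rule.mk (nat_lit 3) (nat_lit 76) (Steps.bwd (nat_lit 8) (Steps.fwd (nat_lit 6144) (Steps.fwd (nat_lit 14336) (Steps.bwd (nat_lit 3) (Steps.fwd (nat_lit 14336) Steps.nil))))) (nat_lit 27) (nat_lit 0),
  Rule.mk (nat_lit 3) (nat_lit 115) (Steps.bwd (nat_lit 1) (Steps.bwd (nat_lit 3) (Steps.bwd (nat_lit 6) (Steps.bwd (nat_lit 3) (Steps.bwd (nat_lit 2) (Steps.fwd (nat_lit 2048) (Steps.fwd (nat_lit 4096) (Steps.bwd (nat_lit 6) Steps.nil)))))))) (nat_lit 19) (nat_lit 3),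
  Rule.mk (nat_lit 1) (nat_lit 115) (Steps.bwd (nat_lit 2) (Steps.fwd (nat_lit 6144) (Steps.fwd (nat_lit 12288) (Steps.bwd (nat_lit 3) (Steps.fwd (nat_lit 2048) (Steps.bwd (nat_lit 3) (Steps.fwd (nat_lit 12288) (Steps.bwd (nat_lit 2) Steps.nil)))))))) (nat_lit 18) (nat_lit 1),
  Rule.mk (nat_lit 2) (nat_lit 76) (Steps.bwd (nat_lit 8) (Steps.bwd (nat_lit 3) (Steps.fwd (nat_lit 4096) (Steps.bwd (nat_lit 8) (Steps.fwd (nat_lit 6144) Steps.nil))))) (nat_lit 33) (nat_lit 0),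
  Rule.mk (nat_lit 3) (nat_lit 154) (Steps.bwd (nat_lit 6) (Steps.bwd (nat_lit 2) (Steps.bwd (nat_lit 3) (Steps.fwd (nat_lit 2048) (Steps.bwd (nat_lit 2) (Steps.bwd (nat_lit 3) (Steps.bwd (nat_lit 1) (Steps.fwd (nat_lit 4096) (Steps.fwd (nat_lit 6144) (Steps.bwd (nat_lit 5) (Steps.fwd (nat_lit 4096) Steps.nil))))))))))) (nat_lit 20) (nat_lit 9),
  Rule.mk (nat_lit 3) (nat_lit 154) (Steps.bwd (nat_lit 2) (Steps.bwd (nat_lit 6) (Steps.bwd (nat_lit 3) (Steps.bwd (nat_lit 2) (Steps.bwd (nat_lit 1) (Steps.bwd (nat_lit 3) (Steps.bwd (nat_lit 2) (Steps.fwd (nat_lit 2048) (Steps.bwd (nat_lit 3) (Steps.fwd (nat_lit 4096) (Steps.bwd (nat_lit 5) Steps.nil))))))))))) (nat_lit 21) (nat_lit 4),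
  Rule.mk (nat_lit 3) (nat_lit 154) (Steps.bwd (nat_lit 6) (Steps.fwd (nat_lit 4096) (Steps.fwd (nat_lit 6144) (Steps.fwd (nat_lit 2048) (Steps.fwd (nat_lit 4096) (Steps.bwd (nat_lit 3) (Steps.bwd (nat_lit 1) (Steps.bwd (nat_lit 2) (Steps.fwd (nat_lit 6144) (Steps.bwd (nat_lit 5) (Steps.fwd (nat_lit 4096) Steps.nil))))))))))) (nat_lit 20) (nat_lit 9),
  Rule.mk (nat_lit 3) (nat_lit 102) (Steps.bwd (nat_lit 2) (Steps.fwd (nat_lit 6144) (Steps.bwd (nat_lit 2) (Steps.bwd (nat_lit 3) (Steps.bwd (nat_lit 2) (Steps.fwd (nat_lit 6144) (Steps.bwd (nat_lit 2) Steps.nil))))))) (nat_lit 12) (nat_lit 0),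
  Rule.mk (nat_lit 1) (nat_lit 115) (Steps.bwd (nat_lit 2) (Steps.bwd (nat_lit 6) (Steps.fwd (nat_lit 6144) (Steps.fwd (nat_lit 2048) (Steps.fwd (nat_lit 6144) (Steps.fwd (nat_lit 10240) (Steps.bwd (nat_lit 3) (Steps.bwd (nat_lit 2) Steps.nil)))))))) (nat_lit 19) (nat_lit 0),
  Rule.mk (nat_lit 3) (nat_lit 115) (Steps.fwd (nat_lit 4096) (Steps.fwd (nat_lit 2048) (Steps.fwd (nat_lit 4096) (Steps.fwd (nat_lit 10240) (Steps.fwd (nat_lit 6144) (Steps.fwd (nat_lit 2048) (Steps.fwd (nat_lit 6144) (Steps.fwd (nat_lit 10240) Steps.nil)))))))) (nat_lit 19) (nat_lit 7),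
  Rule.mk (nat_lit 1) (nat_lit 115) (Steps.bwd (nat_lit 3) (Steps.fwd (nat_lit 12288) (Steps.fwd (nat_lit 4096) (Steps.bwd (nat_lit 1) (Steps.fwd (nat_lit 4096) (Steps.fwd (nat_lit 6144) (Steps.bwd (nat_lit 5) (Steps.bwd (nat_lit 3) Steps.nil)))))))) (nat_lit 18) (nat_lit 6),
  Rule.mk (nat_lit 1) (nat_lit 115) (Steps.fwd (nat_lit 4096) (Steps.fwd (nat_lit 10240) (Steps.bwd (nat_lit 3) (Steps.bwd (nat_lit 1) (Steps.bwd (nat_lit 3) (Steps.bwd (nat_lit 6) (Steps.fwd (nat_lit 6144) (Steps.bwd (nat_lit 2) Steps.nil)))))))) (nat_lit 19) (nat_lit 0),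
  Rule.mk (nat_lit 1) (nat_lit 50) (Steps.fwd (nat_lit 14336) (Steps.bwd (nat_lit 1) (Steps.fwd (nat_lit 16384) Steps.nil))) (nat_lit 22) (nat_lit 3),
  Rule.mk (nat_lit 5) (nat_lit 115) (Steps.fwd (nat_lit 6144) (Steps.bwd (nat_lit 1) (Steps.bwd (nat_lit 3) (Steps.bwd (nat_lit 5) (Steps.bwd (nat_lit 2) (Steps.bwd (nat_lit 1) (Steps.fwd (nat_lit 4096) (Steps.bwd (nat_lit 3) Steps.nil)))))))) (nat_lit 18) (nat_lit 4),
  Rule.mk (nat_lit 3) (nat_lit 154) (Steps.bwd (nat_lit 6) (Steps.bwd (nat_lit 2) (Steps.fwd (nat_lit 6144) (Steps.bwd (nat_lit 1) (Steps.fwd (nat_lit 4096) (Steps.bwd (nat_lit 3) (Steps.bwd (nat_lit 1) (Steps.bwd (nat_lit 2) (Steps.bwd (nat_lit 3) (Steps.fwd (nat_lit 12288) (Steps.bwd (nat_lit 2) Steps.nil))))))))))) (nat_lit 20) (nat_lit 9),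
  Rule.mk (nat_lit 3) (nat_lit 76) (Steps.fwd (nat_lit 16384) (Steps.bwd (nat_lit 2) (Steps.fwd (nat_lit 6144) (Steps.fwd (nat_lit 16384) (Steps.fwd (nat_lit 4096) Steps.nil))))) (nat_lit 32) (nat_lit 2),
  Rule.mk (nat_lit 3) (nat_lit 154) (Steps.bwd (nat_lit 6) (Steps.fwd (nat_lit 4096) (Steps.fwd (nat_lit 6144) (Steps.bwd (nat_lit 1) (Steps.bwd (nat_lit 2) (Steps.fwd (nat_lit 6144) (Steps.bwd (nat_lit 1) (Steps.bwd (nat_lit 2) (Steps.bwd (nat_lit 3) (Steps.bwd (nat_lit 5) (Steps.bwd (nat_lit 2) Steps.nil))))))))))) (nat_lit 20) (nat_lit 9),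
  Rule.mk (nat_lit 1) (nat_lit 115) (Steps.bwd (nat_lit 3) (Steps.fwd (nat_lit 12288) (Steps.bwd (nat_lit 2) (Steps.fwd (nat_lit 2048) (Steps.fwd (nat_lit 4096) (Steps.bwd (nat_lit 3) (Steps.bwd (nat_lit 5) (Steps.fwd (nat_lit 6144) Steps.nil)))))))) (nat_lit 18) (nat_lit 6),
  Rule.mk (nat_lit 6) (nat_lit 115) (Steps.bwd (nat_lit 3) (Steps.fwd (nat_lit 2048) (Steps.bwd (nat_lit 3) (Steps.bwd (nat_lit 6) (Steps.bwd (nat_lit 3) (Steps.bwd (nat_lit 2) (Steps.bwd (nat_lit 1) (Steps.bwd (nat_lit 2) Steps.nil)))))))) (nat_lit 19) (nat_lit 2),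
  Rule.mk (nat_lit 3) (nat_lit 115) (Steps.bwd (nat_lit 5) (Steps.fwd (nat_lit 6144) (Steps.fwd (nat_lit 2048) (Steps.bwd (nat_lit 3) (Steps.fwd (nat_lit 12288) (Steps.fwd (nat_lit 4096) (Steps.bwd (nat_lit 1) (Steps.bwd (nat_lit 2) Steps.nil)))))))) (nat_lit 18) (nat_lit 3),
  Rule.mk (nat_lit 2) (nat_lit 50) (Steps.bwd (nat_lit 5) (Steps.bwd (nat_lit 2) (Steps.fwd (nat_lit 10240) Steps.nil))) (nat_lit 16) (nat_lit 1),
  Rule.mk (nat_lit 3) (nat_lit 154) (Steps.bwd (nat_lit 6) (Steps.fwd (nat_lit 4096) (Steps.fwd (nat_lit 6144) (Steps.bwd (nat_lit 1) (Steps.fwd (nat_lit 4096) (Steps.fwd (nat_lit 6144) (Steps.bwd (nat_lit 1) (Steps.fwd (nat_lit 4096) (Steps.fwd (nat_lit 6144) (Steps.bwd (nat_lit 5) (Steps.fwd (nat_lit 4096) Steps.nil))))))))))) (nat_lit 20) (nat_lit 9),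
  Rule.mk (nat_lit 5) (nat_lit 154) (Steps.bwd (nat_lit 3) (Steps.fwd (nat_lit 4096) (Steps.bwd (nat_lit 6) (Steps.fwd (nat_lit 6144) (Steps.fwd (nat_lit 4096) (Steps.fwd (nat_lit 2048) (Steps.fwd (nat_lit 6144) (Steps.bwd (nat_lit 2) (Steps.fwd (nat_lit 2048) (Steps.fwd (nat_lit 6144) (Steps.bwd (nat_lit 2) Steps.nil))))))))))) (nat_lit 21) (nat_lit 3),
  Rule.mk (nat_lit 3) (nat_lit 76) (Steps.bwd (nat_lit 7) (Steps.bwd (nat_lit 3) (Steps.bwd (nat_lit 7) (Steps.fwd (nat_lit 6144) (Steps.fwd (nat_lit 16384) Steps.nil))))) (nat_lit 26) (nat_lit 1),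
  Rule.mk (nat_lit 2) (nat_lit 76) (Steps.fwd (nat_lit 6144) (Steps.bwd (nat_lit 7) (Steps.fwd (nat_lit 4096) (Steps.bwd (nat_lit 3) (Steps.bwd (nat_lit 7) Steps.nil))))) (nat_lit 32) (nat_lit 1),
  Rule.mk (nat_lit 3) (nat_lit 154) (Steps.bwd (nat_lit 6) (Steps.fwd (nat_lit 4096) (Steps.fwd (nat_lit 6144) (Steps.fwd (nat_lit 2048) (Steps.bwd (nat_lit 2) (Steps.bwd (nat_lit 3) (Steps.bwd (nat_lit 1) (Steps.bwd (nat_lit 2) (Steps.bwd (nat_lit 3) (Steps.fwd (nat_lit 12288) (Steps.fwd (nat_lit 4096) Steps.nil))))))))))) (nat_lit 20) (nat_lit 9)]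
noncomputable def R_7 : List (Rule) := [Rule.mk (nat_lit 5) (nat_lit 154) (Steps.bwd (nat_lit 3) (Steps.fwd (nat_lit 4096) (Steps.fwd (nat_lit 10240) (Steps.fwd (nat_lit 6144) (Steps.bwd (nat_lit 2) (Steps.fwd (nat_lit 2048) (Steps.bwd (nat_lit 3) (Steps.bwd (nat_lit 2) (Steps.fwd (nat_lit 2048) (Steps.bwd (nat_lit 3) (Steps.bwd (nat_lit 2) Steps.nil))))))))))) (nat_lit 21) (nat_lit 3),
  Rule.mk (nat_lit 3) (nat_lit 115) (Steps.bwd (nat_lit 1) (Steps.fwd (nat_lit 6144) (Steps.fwd (nat_lit 10240) (Steps.bwd (nat_lit 3) (Steps.fwd (nat_lit 4096) (Steps.fwd (nat_lit 2048) (Steps.fwd (nat_lit 4096) (Steps.bwd (nat_lit 6) Steps.nil)))))))) (nat_lit 19) (nat_lit 3),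
  Rule.mk (nat_lit 1) (nat_lit 154) (Steps.bwd (nat_lit 8) (Steps.bwd (nat_lit 3) (Steps.bwd (nat_lit 1) (Steps.bwd (nat_lit 7) (Steps.bwd (nat_lit 3) (Steps.fwd (nat_lit 4096) (Steps.bwd (nat_lit 1) (Steps.bwd (nat_lit 3) (Steps.fwd (nat_lit 4096) (Steps.fwd (nat_lit 2048) (Steps.fwd (nat_lit 6144) Steps.nil))))))))))) (nat_lit 29) (nat_lit 2),
  Rule.mk (nat_lit 0) (nat_lit 63) (Steps.bwd (nat_lit 1) (Steps.bwd (nat_lit 7) (Steps.bwd (nat_lit 1) (Steps.bwd (nat_lit 8) Steps.nil)))) (nat_lit 22) (nat_lit 0),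
  Rule.mk (nat_lit 3) (nat_lit 76) (Steps.bwd (nat_lit 7) (Steps.bwd (nat_lit 2) (Steps.fwd (nat_lit 6144) (Steps.fwd (nat_lit 16384) (Steps.fwd (nat_lit 4096) Steps.nil))))) (nat_lit 32) (nat_lit 2),
  Rule.mk (nat_lit 0) (nat_lit 167) (Steps.fwd (nat_lit 2048) (Steps.bwd (nat_lit 3) (Steps.fwd (nat_lit 4096) (Steps.bwd (nat_lit 1) (Steps.fwd (nat_lit 6144) (Steps.fwd (nat_lit 2048) (Steps.bwd (nat_lit 2) (Steps.fwd (nat_lit 6144) (Steps.bwd (nat_lit 2) (Steps.bwd (nat_lit 1) (Steps.bwd (nat_lit 3) (Steps.bwd (nat_lit 2) Steps.nil)))))))))))) (nat_lit 15) (nat_lit 8),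
  Rule.mk (nat_lit 1) (nat_lit 37) (Steps.bwd (nat_lit 0) (Steps.fwd (nat_lit 2048) Steps.nil)) (nat_lit 56) (nat_lit 0),
  Rule.mk (nat_lit 0) (nat_lit 50) (Steps.fwd (nat_lit 16384) (Steps.fwd (nat_lit 0) (Steps.bwd (nat_lit 8) Steps.nil))) (nat_lit 56) (nat_lit 0),
  Rule.mk (nat_lit 3) (nat_lit 37) (Steps.bwd (nat_lit 0) (Steps.bwd (nat_lit 3) Steps.nil)) (nat_lit 56) (nat_lit 0),
  Rule.mk (nat_lit 3) (nat_lit 115) (Steps.bwd (nat_lit 5) (Steps.fwd (nat_lit 6144) (Steps.fwd (nat_lit 2048) (Steps.fwd (nat_lit 6144) (Steps.fwd (nat_lit 12288) (Steps.fwd (nat_lit 4096) (Steps.bwd (nat_lit 1) (Steps.fwd (nat_lit 4096) Steps.nil)))))))) (nat_lit 18) (nat_lit 3),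
  Rule.mk (nat_lit 3) (nat_lit 154) (Steps.fwd (nat_lit 2048) (Steps.bwd (nat_lit 2) (Steps.bwd (nat_lit 3) (Steps.bwd (nat_lit 1) (Steps.fwd (nat_lit 4096) (Steps.bwd (nat_lit 3) (Steps.bwd (nat_lit 5) (Steps.bwd (nat_lit 2) (Steps.fwd (nat_lit 6144) (Steps.bwd (nat_lit 6) (Steps.bwd (nat_lit 2) Steps.nil))))))))))) (nat_lit 20) (nat_lit 0),
  Rule.mk (nat_lit 3) (nat_lit 76) (Steps.bwd (nat_lit 7) (Steps.fwd (nat_lit 6144) (Steps.fwd (nat_lit 16384) (Steps.bwd (nat_lit 3) (Steps.fwd (nat_lit 16384) Steps.nil))))) (nat_lit 26) (nat_lit 1),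
  Rule.mk (nat_lit 6) (nat_lit 50) (Steps.fwd (nat_lit 16384) (Steps.bwd (nat_lit 5) (Steps.bwd (nat_lit 8) Steps.nil))) (nat_lit 30) (nat_lit 0),
  Rule.mk (nat_lit 3) (nat_lit 115) (Steps.bwd (nat_lit 5) (Steps.fwd (nat_lit 6144) (Steps.fwd (nat_lit 2048) (Steps.bwd (nat_lit 3) (Steps.bwd (nat_lit 5) (Steps.fwd (nat_lit 4096) (Steps.fwd (nat_lit 2048) (Steps.bwd (nat_lit 2) Steps.nil)))))))) (nat_lit 18) (nat_lit 3),
  Rule.mk (nat_lit 3) (nat_lit 115) (Steps.bwd (nat_lit 5) (Steps.fwd (nat_lit 4096) (Steps.bwd (nat_lit 1) (Steps.bwd (nat_lit 2) (Steps.fwd (nat_lit 6144) (Steps.fwd (nat_lit 12288) (Steps.bwd (nat_lit 3) (Steps.fwd (nat_lit 2048) Steps.nil)))))))) (nat_lit 18) (nat_lit 7),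
  Rule.mk (nat_lit 6) (nat_lit 115) (Steps.bwd (nat_lit 3) (Steps.bwd (nat_lit 2) (Steps.fwd (nat_lit 2048) (Steps.fwd (nat_lit 4096) (Steps.bwd (nat_lit 6) (Steps.bwd (nat_lit 3) (Steps.fwd (nat_lit 2048) (Steps.fwd (nat_lit 6144) Steps.nil)))))))) (nat_lit 19) (nat_lit 6),
  Rule.mk (nat_lit 3) (nat_lit 154) (Steps.bwd (nat_lit 6) (Steps.bwd (nat_lit 2) (Steps.bwd (nat_lit 3) (Steps.fwd (nat_lit 2048) (Steps.fwd (nat_lit 4096) (Steps.fwd (nat_lit 6144) (Steps.fwd (nat_lit 2048) (Steps.fwd (nat_lit 4096) (Steps.fwd (nat_lit 6144) (Steps.bwd (nat_lit 5) (Steps.fwd (nat_lit 4096) Steps.nil))))))))))) (nat_lit 20) (nat_lit 9),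
  Rule.mk (nat_lit 5) (nat_lit 154) (Steps.bwd (nat_lit 3) (Steps.fwd (nat_lit 4096) (Steps.bwd (nat_lit 6) (Steps.bwd (nat_lit 3) (Steps.bwd (nat_lit 2) (Steps.bwd (nat_lit 1) (Steps.fwd (nat_lit 6144) (Steps.fwd (nat_lit 4096) (Steps.bwd (nat_lit 1) (Steps.bwd (nat_lit 3) (Steps.bwd (nat_lit 2) Steps.nil))))))))))) (nat_lit 21) (nat_lit 3),
  Rule.mk (nat_lit 8) (nat_lit 76) (Steps.bwd (nat_lit 3) (Steps.bwd (nat_lit 8) (Steps.bwd (nat_lit 3) (Steps.fwd (nat_lit 14336) (Steps.fwd (nat_lit 6144) Steps.nil))))) (nat_lit 27) (nat_lit 1),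
  Rule.mk (nat_lit 2) (nat_lit 154) (Steps.bwd (nat_lit 3) (Steps.bwd (nat_lit 6) (Steps.bwd (nat_lit 2) (Steps.bwd (nat_lit 3) (Steps.bwd (nat_lit 1) (Steps.fwd (nat_lit 4096) (Steps.fwd (nat_lit 6144) (Steps.fwd (nat_lit 2048) (Steps.bwd (nat_lit 2) (Steps.fwd (nat_lit 6144) (Steps.bwd (nat_lit 5) Steps.nil))))))))))) (nat_lit 20) (nat_lit 8),
  Rule.mk (nat_lit 8) (nat_lit 76) (Steps.bwd (nat_lit 3) (Steps.fwd (nat_lit 4096) (Steps.bwd (nat_lit 8) (Steps.bwd (nat_lit 3) (Steps.fwd (nat_lit 4096) Steps.nil))))) (nat_lit 33) (nat_lit 1),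
  Rule.mk (nat_lit 5) (nat_lit 154) (Steps.bwd (nat_lit 3) (Steps.fwd (nat_lit 4096) (Steps.bwd (nat_lit 6) (Steps.bwd (nat_lit 3) (Steps.bwd (nat_lit 2) (Steps.fwd (nat_lit 2048) (Steps.bwd (nat_lit 3) (Steps.fwd (nat_lit 4096) (Steps.fwd (nat_lit 2048) (Steps.fwd (nat_lit 6144) (Steps.bwd (nat_lit 2) Steps.nil))))))))))) (nat_lit 21) (nat_lit 3),
  Rule.mk (nat_lit 8) (nat_lit 76) (Steps.bwd (nat_lit 3) (Steps.bwd (nat_lit 8) (Steps.bwd (nat_lit 3) (Steps.bwd (nat_lit 8) (Steps.fwd (nat_lit 6144) Steps.nil))))) (nat_lit 27) (nat_lit 1),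
  Rule.mk (nat_lit 2) (nat_lit 102) (Steps.bwd (nat_lit 3) (Steps.bwd (nat_lit 2) (Steps.fwd (nat_lit 6144) (Steps.fwd (nat_lit 4096) (Steps.bwd (nat_lit 3) (Steps.fwd (nat_lit 4096) (Steps.fwd (nat_lit 6144) Steps.nil))))))) (nat_lit 12) (nat_lit 1),
  Rule.mk (nat_lit 5) (nat_lit 154) (Steps.fwd (nat_lit 4096) (Steps.bwd (nat_lit 3) (Steps.fwd (nat_lit 10240) (Steps.fwd (nat_lit 4096) (Steps.bwd (nat_lit 3) (Steps.bwd (nat_lit 1) (Steps.fwd (nat_lit 4096) (Steps.bwd (nat_lit 3) (Steps.bwd (nat_lit 1) (Steps.bwd (nat_lit 2) (Steps.fwd (nat_lit 6144) Steps.nil))))))))))) (nat_lit 20) (nat_lit 7),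
  Rule.mk (nat_lit 6) (nat_lit 115) (Steps.bwd (nat_lit 3) (Steps.fwd (nat_lit 2048) (Steps.fwd (nat_lit 6144) (Steps.bwd (nat_lit 6) (Steps.fwd (nat_lit 6144) (Steps.bwd (nat_lit 2) (Steps.bwd (nat_lit 1) (Steps.bwd (nat_lit 2) Steps.nil)))))))) (nat_lit 19) (nat_lit 2),
  Rule.mk (nat_lit 2) (nat_lit 154) (Steps.bwd (nat_lit 3) (Steps.fwd (nat_lit 2048) (Steps.fwd (nat_lit 4096) (Steps.fwd (nat_lit 6144) (Steps.bwd (nat_lit 1) (Steps.fwd (nat_lit 4096) (Steps.fwd (nat_lit 6144) (Steps.fwd (nat_lit 12288) (Steps.fwd (nat_lit 4096) (Steps.bwd (nat_lit 3) (Steps.bwd (nat_lit 6) Steps.nil))))))))))) (nat_lit 20) (nat_lit 11),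
  Rule.mk (nat_lit 3) (nat_lit 76) (Steps.fwd (nat_lit 4096) (Steps.fwd (nat_lit 14336) (Steps.fwd (nat_lit 6144) (Steps.fwd (nat_lit 4096) (Steps.fwd (nat_lit 14336) Steps.nil))))) (nat_lit 33) (nat_lit 2),
  Rule.mk (nat_lit 3) (nat_lit 102) (Steps.fwd (nat_lit 4096) (Steps.fwd (nat_lit 6144) (Steps.fwd (nat_lit 4096) (Steps.bwd (nat_lit 3) (Steps.fwd (nat_lit 4096) (Steps.fwd (nat_lit 6144) (Steps.fwd (nat_lit 4096) Steps.nil))))))) (nat_lit 12) (nat_lit 0),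
  Rule.mk (nat_lit 1) (nat_lit 115) (Steps.bwd (nat_lit 3) (Steps.fwd (nat_lit 12288) (Steps.bwd (nat_lit 2) (Steps.fwd (nat_lit 2048) (Steps.bwd (nat_lit 2) (Steps.fwd (nat_lit 6144) (Steps.bwd (nat_lit 5) (Steps.bwd (nat_lit 3) Steps.nil)))))))) (nat_lit 18) (nat_lit 6),
  Rule.mk (nat_lit 6) (nat_lit 115) (Steps.bwd (nat_lit 3) (Steps.bwd (nat_lit 2) (Steps.bwd (nat_lit 1) (Steps.bwd (nat_lit 2) (Steps.fwd (nat_lit 10240) (Steps.fwd (nat_lit 6144) (Steps.fwd (nat_lit 2048) (Steps.bwd (nat_lit 3) Steps.nil)))))))) (nat_lit 19) (nat_lit 6),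
  Rule.mk (nat_lit 3) (nat_lit 76) (Steps.bwd (nat_lit 8) (Steps.bwd (nat_lit 3) (Steps.bwd (nat_lit 8) (Steps.fwd (nat_lit 6144) (Steps.bwd (nat_lit 8) Steps.nil))))) (nat_lit 27) (nat_lit 0),
  Rule.mk (nat_lit 1) (nat_lit 115) (Steps.bwd (nat_lit 3) (Steps.fwd (nat_lit 12288) (Steps.bwd (nat_lit 2) (Steps.fwd (nat_lit 2048) (Steps.bwd (nat_lit 2) (Steps.fwd (nat_lit 6144) (Steps.fwd (nat_lit 12288) (Steps.bwd (nat_lit 3) Steps.nil)))))))) (nat_lit 18) (nat_lit 6),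
  Rule.mk (nat_lit 3) (nat_lit 115) (Steps.bwd (nat_lit 5) (Steps.fwd (nat_lit 4096) (Steps.bwd (nat_lit 1) (Steps.fwd (nat_lit 4096) (Steps.bwd (nat_lit 3) (Steps.fwd (nat_lit 12288) (Steps.bwd (nat_lit 3) (Steps.bwd (nat_lit 1) Steps.nil)))))))) (nat_lit 18) (nat_lit 7),
  Rule.mk (nat_lit 1) (nat_lit 115) (Steps.fwd (nat_lit 6144) (Steps.fwd (nat_lit 10240) (Steps.fwd (nat_lit 6144) (Steps.bwd (nat_lit 2) (Steps.fwd (nat_lit 2048) (Steps.fwd (nat_lit 4096) (Steps.bwd (nat_lit 6) (Steps.bwd (nat_lit 3) Steps.nil)))))))) (nat_lit 19) (nat_lit 4),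
  Rule.mk (nat_lit 3) (nat_lit 154) (Steps.bwd (nat_lit 6) (Steps.bwd (nat_lit 2) (Steps.fwd (nat_lit 6144) (Steps.bwd (nat_lit 1) (Steps.bwd (nat_lit 2) (Steps.bwd (nat_lit 3) (Steps.fwd (nat_lit 2048) (Steps.fwd (nat_lit 4096) (Steps.bwd (nat_lit 3) (Steps.fwd (nat_lit 12288) (Steps.bwd (nat_lit 2) Steps.nil))))))))))) (nat_lit 20) (nat_lit 9),
  Rule.mk (nat_lit 3) (nat_lit 76) (Steps.fwd (nat_lit 14336) (Steps.fwd (nat_lit 6144) (Steps.fwd (nat_lit 14336) (Steps.bwd (nat_lit 3) (Steps.bwd (nat_lit 8) Steps.nil))))) (nat_lit 27) (nat_lit 0),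
  Rule.mk (nat_lit 1) (nat_lit 115) (Steps.bwd (nat_lit 3) (Steps.bwd (nat_lit 5) (Steps.bwd (nat_lit 2) (Steps.fwd (nat_lit 2048) (Steps.bwd (nat_lit 2) (Steps.fwd (nat_lit 6144) (Steps.fwd (nat_lit 12288) (Steps.bwd (nat_lit 3) Steps.nil)))))))) (nat_lit 18) (nat_lit 6),
  Rule.mk (nat_lit 3) (nat_lit 76) (Steps.fwd (nat_lit 16384) (Steps.bwd (nat_lit 3) (Steps.bwd (nat_lit 7) (Steps.bwd (nat_lit 3) (Steps.bwd (nat_lit 7) Steps.nil))))) (nat_lit 26) (nat_lit 1),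
  Rule.mk (nat_lit 1) (nat_lit 115) (Steps.fwd (nat_lit 6144) (Steps.fwd (nat_lit 12288) (Steps.fwd (nat_lit 4096) (Steps.fwd (nat_lit 2048) (Steps.fwd (nat_lit 4096) (Steps.fwd (nat_lit 6144) (Steps.bwd (nat_lit 5) (Steps.fwd (nat_lit 6144) Steps.nil)))))))) (nat_lit 18) (nat_lit 6),
  Rule.mk (nat_lit 3) (nat_lit 76) (Steps.fwd (nat_lit 16384) (Steps.bwd (nat_lit 2) (Steps.bwd (nat_lit 3) (Steps.bwd (nat_lit 7) (Steps.bwd (nat_lit 2) Steps.nil))))) (nat_lit 32) (nat_lit 2),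
  Rule.mk (nat_lit 3) (nat_lit 76) (Steps.fwd (nat_lit 16384) (Steps.fwd (nat_lit 6144) (Steps.fwd (nat_lit 16384) (Steps.fwd (nat_lit 6144) (Steps.bwd (nat_lit 7) Steps.nil))))) (nat_lit 26) (nat_lit 1),
  Rule.mk (nat_lit 3) (nat_lit 115) (Steps.bwd (nat_lit 5) (Steps.bwd (nat_lit 3) (Steps.bwd (nat_lit 1) (Steps.fwd (nat_lit 6144) (Steps.bwd (nat_lit 5) (Steps.bwd (nat_lit 2) (Steps.bwd (nat_lit 1) (Steps.bwd (nat_lit 2) Steps.nil)))))))) (nat_lit 18) (nat_lit 3),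
  Rule.mk (nat_lit 3) (nat_lit 76) (Steps.fwd (nat_lit 14336) (Steps.fwd (nat_lit 6144) (Steps.bwd (nat_lit 8) (Steps.bwd (nat_lit 3) (Steps.bwd (nat_lit 8) Steps.nil))))) (nat_lit 27) (nat_lit 0),
  Rule.mk (nat_lit 1) (nat_lit 115) (Steps.bwd (nat_lit 2) (Steps.bwd (nat_lit 3) (Steps.fwd (nat_lit 12288) (Steps.bwd (nat_lit 3) (Steps.fwd (nat_lit 2048) (Steps.bwd (nat_lit 3) (Steps.fwd (nat_lit 12288) (Steps.fwd (nat_lit 4096) Steps.nil)))))))) (nat_lit 18) (nat_lit 1),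
  Rule.mk (nat_lit 3) (nat_lit 115) (Steps.bwd (nat_lit 1) (Steps.bwd (nat_lit 3) (Steps.fwd (nat_lit 12288) (Steps.fwd (nat_lit 4096) (Steps.fwd (nat_lit 2048) (Steps.fwd (nat_lit 4096) (Steps.fwd (nat_lit 6144) (Steps.bwd (nat_lit 5) Steps.nil)))))))) (nat_lit 18) (nat_lit 5),
  Rule.mk (nat_lit 2) (nat_lit 154) (Steps.bwd (nat_lit 1) (Steps.bwd (nat_lit 3) (Steps.fwd (nat_lit 4096) (Steps.fwd (nat_lit 12288) (Steps.bwd (nat_lit 3) (Steps.bwd (nat_lit 2) (Steps.fwd (nat_lit 10240) (Steps.fwd (nat_lit 6144) (Steps.fwd (nat_lit 4096) (Steps.bwd (nat_lit 1) (Steps.bwd (nat_lit 3) Steps.nil))))))))))) (nat_lit 21) (nat_lit 11),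
  Rule.mk (nat_lit 6) (nat_lit 115) (Steps.fwd (nat_lit 6144) (Steps.fwd (nat_lit 2048) (Steps.fwd (nat_lit 6144) (Steps.fwd (nat_lit 10240) (Steps.bwd (nat_lit 3) (Steps.fwd (nat_lit 4096) (Steps.fwd (nat_lit 2048) (Steps.fwd (nat_lit 4096) Steps.nil)))))))) (nat_lit 19) (nat_lit 2),
  Rule.mk (nat_lit 3) (nat_lit 115) (Steps.bwd (nat_lit 1) (Steps.bwd (nat_lit 3) (Steps.bwd (nat_lit 5) (Steps.bwd (nat_lit 2) (Steps.fwd (nat_lit 2048) (Steps.fwd (nat_lit 4096) (Steps.bwd (nat_lit 3) (Steps.fwd (nat_lit 12288) Steps.nil)))))))) (nat_lit 18) (nat_lit 5),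
  Rule.mk (nat_lit 5) (nat_lit 115) (Steps.fwd (nat_lit 4096) (Steps.bwd (nat_lit 1) (Steps.fwd (nat_lit 4096) (Steps.bwd (nat_lit 3) (Steps.fwd (nat_lit 12288) (Steps.fwd (nat_lit 6144) (Steps.bwd (nat_lit 1) (Steps.bwd (nat_lit 3) Steps.nil)))))))) (nat_lit 18) (nat_lit 8),
  Rule.mk (nat_lit 1) (nat_lit 102) (Steps.bwd (nat_lit 3) (Steps.fwd (nat_lit 2048) (Steps.bwd (nat_lit 3) (Steps.fwd (nat_lit 2048) (Steps.fwd (nat_lit 6144) (Steps.fwd (nat_lit 2048) (Steps.fwd (nat_lit 6144) Steps.nil))))))) (nat_lit 10) (nat_lit 1),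
  Rule.mk (nat_lit 6) (nat_lit 115) (Steps.bwd (nat_lit 3) (Steps.fwd (nat_lit 2048) (Steps.bwd (nat_lit 3) (Steps.fwd (nat_lit 10240) (Steps.bwd (nat_lit 3) (Steps.bwd (nat_lit 2) (Steps.fwd (nat_lit 2048) (Steps.bwd (nat_lit 2) Steps.nil)))))))) (nat_lit 19) (nat_lit 2),
  Rule.mk (nat_lit 1) (nat_lit 115) (Steps.bwd (nat_lit 2) (Steps.fwd (nat_lit 6144) (Steps.fwd (nat_lit 12288) (Steps.fwd (nat_lit 6144) (Steps.bwd (nat_lit 1) (Steps.bwd (nat_lit 3) (Steps.fwd (nat_lit 12288) (Steps.fwd (nat_lit 4096) Steps.nil)))))))) (nat_lit 18) (nat_lit 1),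
  Rule.mk (nat_lit 8) (nat_lit 50) (Steps.fwd (nat_lit 2048) (Steps.fwd (nat_lit 16384) (Steps.bwd (nat_lit 1) Steps.nil))) (nat_lit 22) (nat_lit 0),
  Rule.mk (nat_lit 3) (nat_lit 115) (Steps.bwd (nat_lit 1) (Steps.bwd (nat_lit 3) (Steps.fwd (nat_lit 10240) (Steps.bwd (nat_lit 3) (Steps.fwd (nat_lit 4096) (Steps.bwd (nat_lit 1) (Steps.fwd (nat_lit 4096) (Steps.bwd (nat_lit 6) Steps.nil)))))))) (nat_lit 19) (nat_lit 3),
  Rule.mk (nat_lit 5) (nat_lit 115) (Steps.fwd (nat_lit 4096) (Steps.fwd (nat_lit 2048) (Steps.bwd (nat_lit 2) (Steps.fwd (nat_lit 6144) (Steps.bwd (nat_lit 5) (Steps.fwd (nat_lit 6144) (Steps.bwd (nat_lit 1) (Steps.bwd (nat_lit 3) Steps.nil)))))))) (nat_lit 18) (nat_lit 8),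
  Rule.mk (nat_lit 6) (nat_lit 115) (Steps.fwd (nat_lit 6144) (Steps.bwd (nat_lit 2) (Steps.bwd (nat_lit 1) (Steps.bwd (nat_lit 2) (Steps.fwd (nat_lit 10240) (Steps.fwd (nat_lit 6144) (Steps.bwd (nat_lit 1) (Steps.bwd (nat_lit 3) Steps.nil)))))))) (nat_lit 19) (nat_lit 6),
  Rule.mk (nat_lit 1) (nat_lit 102) (Steps.bwd (nat_lit 3) (Steps.fwd (nat_lit 2048) (Steps.bwd (nat_lit 3) (Steps.fwd (nat_lit 2048) (Steps.bwd (nat_lit 3) (Steps.bwd (nat_lit 1) (Steps.bwd (nat_lit 3) Steps.nil))))))) (nat_lit 10) (nat_lit 1),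
  Rule.mk (nat_lit 6) (nat_lit 115) (Steps.bwd (nat_lit 3) (Steps.fwd (nat_lit 4096) (Steps.bwd (nat_lit 1) (Steps.bwd (nat_lit 2) (Steps.bwd (nat_lit 6) (Steps.bwd (nat_lit 3) (Steps.bwd (nat_lit 1) (Steps.fwd (nat_lit 6144) Steps.nil)))))))) (nat_lit 19) (nat_lit 6),
  Rule.mk (nat_lit 8) (nat_lit 76) (Steps.bwd (nat_lit 3) (Steps.bwd (nat_lit 8) (Steps.bwd (nat_lit 3) (Steps.bwd (nat_lit 8) (Steps.bwd (nat_lit 3) Steps.nil))))) (nat_lit 27) (nat_lit 1),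
  Rule.mk (nat_lit 6) (nat_lit 115) (Steps.bwd (nat_lit 3) (Steps.fwd (nat_lit 4096) (Steps.fwd (nat_lit 2048) (Steps.fwd (nat_lit 4096) (Steps.fwd (nat_lit 10240) (Steps.fwd (nat_lit 6144) (Steps.fwd (nat_lit 2048) (Steps.fwd (nat_lit 6144) Steps.nil)))))))) (nat_lit 19) (nat_lit 6),
  Rule.mk (nat_lit 7) (nat_lit 154) (Steps.bwd (nat_lit 3) (Steps.fwd (nat_lit 4096) (Steps.fwd (nat_lit 2048) (Steps.fwd (nat_lit 6144) (Steps.bwd (nat_lit 2) (Steps.bwd (nat_lit 1) (Steps.bwd (nat_lit 3) (Steps.bwd (nat_lit 1) (Steps.fwd (nat_lit 14336) (Steps.fwd (nat_lit 6144) (Steps.bwd (nat_lit 1) Steps.nil))))))))))) (nat_lit 29) (nat_lit 6),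
  Rule.mk (nat_lit 1) (nat_lit 115) (Steps.bwd (nat_lit 2) (Steps.fwd (nat_lit 6144) (Steps.fwd (nat_lit 12288) (Steps.fwd (nat_lit 6144) (Steps.fwd (nat_lit 2048) (Steps.fwd (nat_lit 6144) (Steps.bwd (nat_lit 5) (Steps.fwd (nat_lit 4096) Steps.nil)))))))) (nat_lit 18) (nat_lit 1),
  Rule.mk (nat_lit 3) (nat_lit 115) (Steps.bwd (nat_lit 1) (Steps.bwd (nat_lit 3) (Steps.fwd (nat_lit 10240) (Steps.fwd (nat_lit 6144) (Steps.fwd (nat_lit 4096) (Steps.fwd (nat_lit 2048) (Steps.fwd (nat_lit 4096) (Steps.bwd (nat_lit 6) Steps.nil)))))))) (nat_lit 19) (nat_lit 3)]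
noncomputable def R_8 : List (Rule) := [Rule.mk (nat_lit 2) (nat_lit 154) (Steps.bwd (nat_lit 1) (Steps.bwd (nat_lit 3) (Steps.fwd (nat_lit 4096) (Steps.fwd (nat_lit 12288) (Steps.fwd (nat_lit 6144) (Steps.fwd (nat_lit 4096) (Steps.bwd (nat_lit 6) (Steps.fwd (nat_lit 6144) (Steps.fwd (nat_lit 4096) (Steps.bwd (nat_lit 1) (Steps.bwd (nat_lit 3) Steps.nil))))))))))) (nat_lit 21) (nat_lit 11),
  Rule.mk (nat_lit 5) (nat_lit 115) (Steps.fwd (nat_lit 4096) (Steps.fwd (nat_lit 2048) (Steps.fwd (nat_lit 4096) (Steps.fwd (nat_lit 6144) (Steps.bwd (nat_lit 5) (Steps.fwd (nat_lit 6144) (Steps.bwd (nat_lit 1) (Steps.bwd (nat_lit 3) Steps.nil)))))))) (nat_lit 18) (nat_lit 8),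
  Rule.mk (nat_lit 1) (nat_lit 115) (Steps.fwd (nat_lit 4096) (Steps.bwd (nat_lit 3) (Steps.fwd (nat_lit 12288) (Steps.bwd (nat_lit 3) (Steps.bwd (nat_lit 1) (Steps.fwd (nat_lit 6144) (Steps.bwd (nat_lit 5) (Steps.fwd (nat_lit 4096) Steps.nil)))))))) (nat_lit 18) (nat_lit 1),
  Rule.mk (nat_lit 3) (nat_lit 115) (Steps.bwd (nat_lit 6) (Steps.fwd (nat_lit 6144) (Steps.fwd (nat_lit 4096) (Steps.bwd (nat_lit 1) (Steps.fwd (nat_lit 4096) (Steps.fwd (nat_lit 10240) (Steps.bwd (nat_lit 3) (Steps.fwd (nat_lit 2048) Steps.nil)))))))) (nat_lit 19) (nat_lit 5),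
  Rule.mk (nat_lit 1) (nat_lit 115) (Steps.bwd (nat_lit 3) (Steps.fwd (nat_lit 12288) (Steps.fwd (nat_lit 4096) (Steps.fwd (nat_lit 2048) (Steps.bwd (nat_lit 2) (Steps.fwd (nat_lit 6144) (Steps.bwd (nat_lit 5) (Steps.bwd (nat_lit 3) Steps.nil)))))))) (nat_lit 18) (nat_lit 6),
  Rule.mk (nat_lit 6) (nat_lit 50) (Steps.fwd (nat_lit 14336) (Steps.bwd (nat_lit 5) (Steps.bwd (nat_lit 7) Steps.nil))) (nat_lit 31) (nat_lit 3),
  Rule.mk (nat_lit 1) (nat_lit 102) (Steps.bwd (nat_lit 3) (Steps.bwd (nat_lit 1) (Steps.fwd (nat_lit 6144) (Steps.fwd (nat_lit 2048) (Steps.fwd (nat_lit 6144) (Steps.bwd (nat_lit 1) (Steps.fwd (nat_lit 6144) Steps.nil))))))) (nat_lit 10) (nat_lit 1),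
  Rule.mk (nat_lit 5) (nat_lit 115) (Steps.bwd (nat_lit 3) (Steps.bwd (nat_lit 1) (Steps.fwd (nat_lit 6144) (Steps.bwd (nat_lit 5) (Steps.bwd (nat_lit 2) (Steps.bwd (nat_lit 1) (Steps.fwd (nat_lit 4096) (Steps.bwd (nat_lit 3) Steps.nil)))))))) (nat_lit 18) (nat_lit 4),
  Rule.mk (nat_lit 6) (nat_lit 115) (Steps.bwd (nat_lit 3) (Steps.bwd (nat_lit 1) (Steps.fwd (nat_lit 6144) (Steps.fwd (nat_lit 10240) (Steps.bwd (nat_lit 3) (Steps.bwd (nat_lit 2) (Steps.bwd (nat_lit 1) (Steps.bwd (nat_lit 2) Steps.nil)))))))) (nat_lit 19) (nat_lit 2),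
  Rule.mk (nat_lit 1) (nat_lit 115) (Steps.bwd (nat_lit 2) (Steps.fwd (nat_lit 6144) (Steps.fwd (nat_lit 12288) (Steps.fwd (nat_lit 6144) (Steps.bwd (nat_lit 1) (Steps.fwd (nat_lit 6144) (Steps.bwd (nat_lit 5) (Steps.bwd (nat_lit 2) Steps.nil)))))))) (nat_lit 18) (nat_lit 1),
  Rule.mk (nat_lit 6) (nat_lit 115) (Steps.fwd (nat_lit 6144) (Steps.bwd (nat_lit 2) (Steps.fwd (nat_lit 2048) (Steps.bwd (nat_lit 2) (Steps.fwd (nat_lit 10240) (Steps.fwd (nat_lit 6144) (Steps.bwd (nat_lit 1) (Steps.bwd (nat_lit 3) Steps.nil)))))))) (nat_lit 19) (nat_lit 6),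
  Rule.mk (nat_lit 7) (nat_lit 76) (Steps.bwd (nat_lit 2) (Steps.fwd (nat_lit 6144) (Steps.fwd (nat_lit 16384) (Steps.fwd (nat_lit 4096) (Steps.bwd (nat_lit 3) Steps.nil))))) (nat_lit 32) (nat_lit 0),
  Rule.mk (nat_lit 3) (nat_lit 115) (Steps.bwd (nat_lit 1) (Steps.fwd (nat_lit 6144) (Steps.bwd (nat_lit 5) (Steps.bwd (nat_lit 2) (Steps.fwd (nat_lit 2048) (Steps.bwd (nat_lit 2) (Steps.bwd (nat_lit 3) (Steps.bwd (nat_lit 5) Steps.nil)))))))) (nat_lit 18) (nat_lit 5),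
  Rule.mk (nat_lit 6) (nat_lit 115) (Steps.fwd (nat_lit 6144) (Steps.bwd (nat_lit 2) (Steps.bwd (nat_lit 1) (Steps.fwd (nat_lit 4096) (Steps.fwd (nat_lit 10240) (Steps.fwd (nat_lit 6144) (Steps.bwd (nat_lit 1) (Steps.bwd (nat_lit 3) Steps.nil)))))))) (nat_lit 19) (nat_lit 6),
  Rule.mk (nat_lit 3) (nat_lit 76) (Steps.bwd (nat_lit 8) (Steps.bwd (nat_lit 3) (Steps.fwd (nat_lit 14336) (Steps.bwd (nat_lit 3) (Steps.bwd (nat_lit 8) Steps.nil))))) (nat_lit 27) (nat_lit 0),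
  Rule.mk (nat_lit 3) (nat_lit 115) (Steps.bwd (nat_lit 1) (Steps.bwd (nat_lit 3) (Steps.bwd (nat_lit 5) (Steps.fwd (nat_lit 4096) (Steps.bwd (nat_lit 1) (Steps.fwd (nat_lit 4096) (Steps.fwd (nat_lit 6144) (Steps.bwd (nat_lit 5) Steps.nil)))))))) (nat_lit 18) (nat_lit 5),
  Rule.mk (nat_lit 2) (nat_lit 115) (Steps.bwd (nat_lit 1) (Steps.fwd (nat_lit 4096) (Steps.fwd (nat_lit 6144) (Steps.fwd (nat_lit 12288) (Steps.fwd (nat_lit 6144) (Steps.fwd (nat_lit 2048) (Steps.bwd (nat_lit 3) (Steps.fwd (nat_lit 12288) Steps.nil)))))))) (nat_lit 18) (nat_lit 0),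
  Rule.mk (nat_lit 6) (nat_lit 50) (Steps.fwd (nat_lit 4096) (Steps.fwd (nat_lit 12288) (Steps.bwd (nat_lit 2) Steps.nil))) (nat_lit 16) (nat_lit 0),
  Rule.mk (nat_lit 3) (nat_lit 115) (Steps.bwd (nat_lit 1) (Steps.fwd (nat_lit 6144) (Steps.fwd (nat_lit 12288) (Steps.bwd (nat_lit 2) (Steps.bwd (nat_lit 1) (Steps.fwd (nat_lit 4096) (Steps.bwd (nat_lit 3) (Steps.fwd (nat_lit 12288) Steps.nil)))))))) (nat_lit 18) (nat_lit 5),
  Rule.mk (nat_lit 1) (nat_lit 154) (Steps.bwd (nat_lit 3) (Steps.bwd (nat_lit 1) (Steps.bwd (nat_lit 2) (Steps.fwd (nat_lit 6144) (Steps.fwd (nat_lit 2048) (Steps.fwd (nat_lit 4096) (Steps.fwd (nat_lit 6144) (Steps.fwd (nat_lit 2048) (Steps.fwd (nat_lit 4096) (Steps.bwd (nat_lit 3) (Steps.bwd (nat_lit 2) Steps.nil))))))))))) (nat_lit 14) (nat_lit 11),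
  Rule.mk (nat_lit 5) (nat_lit 115) (Steps.bwd (nat_lit 2) (Steps.fwd (nat_lit 2048) (Steps.fwd (nat_lit 4096) (Steps.fwd (nat_lit 6144) (Steps.bwd (nat_lit 5) (Steps.bwd (nat_lit 3) (Steps.bwd (nat_lit 1) (Steps.bwd (nat_lit 3) Steps.nil)))))))) (nat_lit 18) (nat_lit 8),
  Rule.mk (nat_lit 2) (nat_lit 115) (Steps.bwd (nat_lit 1) (Steps.fwd (nat_lit 4096) (Steps.bwd (nat_lit 3) (Steps.bwd (nat_lit 5) (Steps.fwd (nat_lit 6144) (Steps.bwd (nat_lit 1) (Steps.bwd (nat_lit 3) (Steps.fwd (nat_lit 12288) Steps.nil)))))))) (nat_lit 18) (nat_lit 0),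
  Rule.mk (nat_lit 1) (nat_lit 102) (Steps.bwd (nat_lit 3) (Steps.bwd (nat_lit 1) (Steps.fwd (nat_lit 6144) (Steps.fwd (nat_lit 2048) (Steps.fwd (nat_lit 6144) (Steps.fwd (nat_lit 2048) (Steps.bwd (nat_lit 3) Steps.nil))))))) (nat_lit 10) (nat_lit 1),
  Rule.mk (nat_lit 2) (nat_lit 115) (Steps.bwd (nat_lit 3) (Steps.bwd (nat_lit 5) (Steps.fwd (nat_lit 6144) (Steps.bwd (nat_lit 1) (Steps.bwd (nat_lit 3) (Steps.bwd (nat_lit 5) (Steps.fwd (nat_lit 4096) (Steps.fwd (nat_lit 2048) Steps.nil)))))))) (nat_lit 18) (nat_lit 2),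
  Rule.mk (nat_lit 1) (nat_lit 102) (Steps.bwd (nat_lit 3) (Steps.fwd (nat_lit 2048) (Steps.fwd (nat_lit 6144) (Steps.bwd (nat_lit 1) (Steps.bwd (nat_lit 3) (Steps.bwd (nat_lit 1) (Steps.bwd (nat_lit 3) Steps.nil))))))) (nat_lit 10) (nat_lit 1),
  Rule.mk (nat_lit 6) (nat_lit 115) (Steps.bwd (nat_lit 3) (Steps.fwd (nat_lit 2048) (Steps.fwd (nat_lit 6144) (Steps.fwd (nat_lit 10240) (Steps.bwd (nat_lit 3) (Steps.fwd (nat_lit 4096) (Steps.bwd (nat_lit 1) (Steps.bwd (nat_lit 2) Steps.nil)))))))) (nat_lit 19) (nat_lit 2),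
  Rule.mk (nat_lit 8) (nat_lit 154) (Steps.bwd (nat_lit 3) (Steps.fwd (nat_lit 2048) (Steps.bwd (nat_lit 7) (Steps.fwd (nat_lit 6144) (Steps.fwd (nat_lit 4096) (Steps.bwd (nat_lit 1) (Steps.fwd (nat_lit 6144) (Steps.fwd (nat_lit 4096) (Steps.bwd (nat_lit 1) (Steps.bwd (nat_lit 3) (Steps.fwd (nat_lit 2048) Steps.nil))))))))))) (nat_lit 29) (nat_lit 3),
  Rule.mk (nat_lit 1) (nat_lit 115) (Steps.bwd (nat_lit 2) (Steps.fwd (nat_lit 6144) (Steps.fwd (nat_lit 12288) (Steps.bwd (nat_lit 3) (Steps.fwd (nat_lit 2048) (Steps.fwd (nat_lit 6144) (Steps.bwd (nat_lit 5) (Steps.bwd (nat_lit 2) Steps.nil)))))))) (nat_lit 18) (nat_lit 1),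
  Rule.mk (nat_lit 3) (nat_lit 115) (Steps.bwd (nat_lit 2) (Steps.fwd (nat_lit 2048) (Steps.fwd (nat_lit 4096) (Steps.bwd (nat_lit 6) (Steps.bwd (nat_lit 3) (Steps.bwd (nat_lit 1) (Steps.bwd (nat_lit 3) (Steps.bwd (nat_lit 6) Steps.nil)))))))) (nat_lit 19) (nat_lit 7),
  Rule.mk (nat_lit 3) (nat_lit 102) (Steps.bwd (nat_lit 1) (Steps.fwd (nat_lit 6144) (Steps.bwd (nat_lit 1) (Steps.bwd (nat_lit 3) (Steps.bwd (nat_lit 1) (Steps.bwd (nat_lit 3) (Steps.fwd (nat_lit 2048) Steps.nil))))))) (nat_lit 10) (nat_lit 0),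
  Rule.mk (nat_lit 5) (nat_lit 115) (Steps.fwd (nat_lit 4096) (Steps.bwd (nat_lit 1) (Steps.fwd (nat_lit 4096) (Steps.fwd (nat_lit 6144) (Steps.bwd (nat_lit 5) (Steps.bwd (nat_lit 3) (Steps.fwd (nat_lit 2048) (Steps.bwd (nat_lit 3) Steps.nil)))))))) (nat_lit 18) (nat_lit 8),
  Rule.mk (nat_lit 2) (nat_lit 115) (Steps.fwd (nat_lit 6144) (Steps.fwd (nat_lit 12288) (Steps.bwd (nat_lit 3) (Steps.bwd (nat_lit 1) (Steps.fwd (nat_lit 6144) (Steps.bwd (nat_lit 5) (Steps.fwd (nat_lit 4096) (Steps.bwd (nat_lit 1) Steps.nil)))))))) (nat_lit 18) (nat_lit 2),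
  Rule.mk (nat_lit 1) (nat_lit 115) (Steps.bwd (nat_lit 2) (Steps.fwd (nat_lit 6144) (Steps.fwd (nat_lit 12288) (Steps.fwd (nat_lit 6144) (Steps.bwd (nat_lit 1) (Steps.bwd (nat_lit 3) (Steps.bwd (nat_lit 5) (Steps.bwd (nat_lit 2) Steps.nil)))))))) (nat_lit 18) (nat_lit 1),
  Rule.mk (nat_lit 3) (nat_lit 115) (Steps.bwd (nat_lit 1) (Steps.fwd (nat_lit 6144) (Steps.fwd (nat_lit 12288) (Steps.bwd (nat_lit 2) (Steps.fwd (nat_lit 2048) (Steps.fwd (nat_lit 4096) (Steps.bwd (nat_lit 3) (Steps.fwd (nat_lit 12288) Steps.nil)))))))) (nat_lit 18) (nat_lit 5),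
  Rule.mk (nat_lit 1) (nat_lit 154) (Steps.bwd (nat_lit 3) (Steps.bwd (nat_lit 1) (Steps.fwd (nat_lit 4096) (Steps.fwd (nat_lit 6144) (Steps.fwd (nat_lit 2048) (Steps.fwd (nat_lit 4096) (Steps.bwd (nat_lit 3) (Steps.bwd (nat_lit 1) (Steps.fwd (nat_lit 4096) (Steps.bwd (nat_lit 3) (Steps.bwd (nat_lit 2) Steps.nil))))))))))) (nat_lit 14) (nat_lit 11),
  Rule.mk (nat_lit 6) (nat_lit 115) (Steps.bwd (nat_lit 3) (Steps.bwd (nat_lit 2) (Steps.bwd (nat_lit 1) (Steps.bwd (nat_lit 2) (Steps.bwd (nat_lit 6) (Steps.fwd (nat_lit 6144) (Steps.bwd (nat_lit 1) (Steps.bwd (nat_lit 3) Steps.nil)))))))) (nat_lit 19) (nat_lit 6),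
  Rule.mk (nat_lit 5) (nat_lit 115) (Steps.bwd (nat_lit 3) (Steps.fwd (nat_lit 2048) (Steps.fwd (nat_lit 6144) (Steps.bwd (nat_lit 5) (Steps.fwd (nat_lit 4096) (Steps.bwd (nat_lit 1) (Steps.fwd (nat_lit 4096) (Steps.fwd (nat_lit 6144) Steps.nil)))))))) (nat_lit 18) (nat_lit 4),
  Rule.mk (nat_lit 6) (nat_lit 115) (Steps.bwd (nat_lit 3) (Steps.fwd (nat_lit 2048) (Steps.fwd (nat_lit 6144) (Steps.fwd (nat_lit 10240) (Steps.bwd (nat_lit 3) (Steps.fwd (nat_lit 4096) (Steps.bwd (nat_lit 1) (Steps.fwd (nat_lit 4096) Steps.nil)))))))) (nat_lit 19) (nat_lit 2),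
  Rule.mk (nat_lit 1) (nat_lit 115) (Steps.bwd (nat_lit 2) (Steps.bwd (nat_lit 6) (Steps.fwd (nat_lit 6144) (Steps.fwd (nat_lit 2048) (Steps.bwd (nat_lit 3) (Steps.bwd (nat_lit 6) (Steps.fwd (nat_lit 6144) (Steps.fwd (nat_lit 4096) Steps.nil)))))))) (nat_lit 19) (nat_lit 0),
  Rule.mk (nat_lit 3) (nat_lit 102) (Steps.bwd (nat_lit 1) (Steps.bwd (nat_lit 3) (Steps.bwd (nat_lit 1) (Steps.fwd (nat_lit 6144) (Steps.fwd (nat_lit 2048) (Steps.bwd (nat_lit 3) (Steps.bwd (nat_lit 1) Steps.nil))))))) (nat_lit 10) (nat_lit 0),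
  Rule.mk (nat_lit 5) (nat_lit 115) (Steps.bwd (nat_lit 2) (Steps.bwd (nat_lit 1) (Steps.fwd (nat_lit 4096) (Steps.bwd (nat_lit 3) (Steps.fwd (nat_lit 12288) (Steps.bwd (nat_lit 3) (Steps.bwd (nat_lit 1) (Steps.bwd (nat_lit 3) Steps.nil)))))))) (nat_lit 18) (nat_lit 8),
  Rule.mk (nat_lit 6) (nat_lit 115) (Steps.fwd (nat_lit 6144) (Steps.bwd (nat_lit 2) (Steps.fwd (nat_lit 2048) (Steps.bwd (nat_lit 2) (Steps.bwd (nat_lit 6) (Steps.bwd (nat_lit 3) (Steps.bwd (nat_lit 1) (Steps.bwd (nat_lit 3) Steps.nil)))))))) (nat_lit 19) (nat_lit 6),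
  Rule.mk (nat_lit 1) (nat_lit 115) (Steps.bwd (nat_lit 2) (Steps.fwd (nat_lit 10240) (Steps.bwd (nat_lit 3) (Steps.fwd (nat_lit 2048) (Steps.fwd (nat_lit 6144) (Steps.fwd (nat_lit 10240) (Steps.fwd (nat_lit 6144) (Steps.bwd (nat_lit 2) Steps.nil)))))))) (nat_lit 19) (nat_lit 0),
  Rule.mk (nat_lit 3) (nat_lit 115) (Steps.bwd (nat_lit 1) (Steps.bwd (nat_lit 3) (Steps.bwd (nat_lit 5) (Steps.bwd (nat_lit 2) (Steps.fwd (nat_lit 2048) (Steps.bwd (nat_lit 2) (Steps.fwd (nat_lit 6144) (Steps.bwd (nat_lit 5) Steps.nil)))))))) (nat_lit 18) (nat_lit 5),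
  Rule.mk (nat_lit 5) (nat_lit 115) (Steps.bwd (nat_lit 2) (Steps.fwd (nat_lit 2048) (Steps.fwd (nat_lit 4096) (Steps.bwd (nat_lit 3) (Steps.fwd (nat_lit 12288) (Steps.bwd (nat_lit 3) (Steps.bwd (nat_lit 1) (Steps.bwd (nat_lit 3) Steps.nil)))))))) (nat_lit 18) (nat_lit 8),
  Rule.mk (nat_lit 6) (nat_lit 115) (Steps.fwd (nat_lit 6144) (Steps.bwd (nat_lit 2) (Steps.bwd (nat_lit 1) (Steps.fwd (nat_lit 4096) (Steps.fwd (nat_lit 10240) (Steps.bwd (nat_lit 3) (Steps.bwd (nat_lit 1) (Steps.bwd (nat_lit 3) Steps.nil)))))))) (nat_lit 19) (nat_lit 6),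
  Rule.mk (nat_lit 1) (nat_lit 102) (Steps.bwd (nat_lit 3) (Steps.fwd (nat_lit 2048) (Steps.bwd (nat_lit 3) (Steps.fwd (nat_lit 2048) (Steps.fwd (nat_lit 6144) (Steps.bwd (nat_lit 1) (Steps.fwd (nat_lit 6144) Steps.nil))))))) (nat_lit 10) (nat_lit 1),
  Rule.mk (nat_lit 5) (nat_lit 115) (Steps.bwd (nat_lit 3) (Steps.fwd (nat_lit 2048) (Steps.bwd (nat_lit 3) (Steps.fwd (nat_lit 12288) (Steps.bwd (nat_lit 2) (Steps.fwd (nat_lit 2048) (Steps.bwd (nat_lit 2) (Steps.bwd (nat_lit 3) Steps.nil)))))))) (nat_lit 18) (nat_lit 4),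
  Rule.mk (nat_lit 2) (nat_lit 115) (Steps.bwd (nat_lit 3) (Steps.fwd (nat_lit 12288) (Steps.bwd (nat_lit 3) (Steps.bwd (nat_lit 1) (Steps.bwd (nat_lit 3) (Steps.fwd (nat_lit 12288) (Steps.bwd (nat_lit 2) (Steps.fwd (nat_lit 2048) Steps.nil)))))))) (nat_lit 18) (nat_lit 2),
  Rule.mk (nat_lit 2) (nat_lit 115) (Steps.bwd (nat_lit 1) (Steps.fwd (nat_lit 4096) (Steps.fwd (nat_lit 6144) (Steps.bwd (nat_lit 5) (Steps.fwd (nat_lit 6144) (Steps.fwd (nat_lit 2048) (Steps.fwd (nat_lit 6144) (Steps.bwd (nat_lit 5) Steps.nil)))))))) (nat_lit 18) (nat_lit 0),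
  Rule.mk (nat_lit 5) (nat_lit 50) (Steps.fwd (nat_lit 4096) (Steps.bwd (nat_lit 6) (Steps.bwd (nat_lit 2) Steps.nil))) (nat_lit 16) (nat_lit 2),
  Rule.mk (nat_lit 8) (nat_lit 76) (Steps.bwd (nat_lit 3) (Steps.fwd (nat_lit 4096) (Steps.bwd (nat_lit 8) (Steps.fwd (nat_lit 6144) (Steps.bwd (nat_lit 2) Steps.nil))))) (nat_lit 33) (nat_lit 1),
  Rule.mk (nat_lit 1) (nat_lit 102) (Steps.bwd (nat_lit 3) (Steps.bwd (nat_lit 1) (Steps.fwd (nat_lit 6144) (Steps.fwd (nat_lit 2048) (Steps.fwd (nat_lit 6144) (Steps.fwd (nat_lit 2048) (Steps.fwd (nat_lit 6144) Steps.nil))))))) (nat_lit 10) (nat_lit 1),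
  Rule.mk (nat_lit 2) (nat_lit 102) (Steps.bwd (nat_lit 3) (Steps.fwd (nat_lit 4096) (Steps.fwd (nat_lit 6144) (Steps.fwd (nat_lit 4096) (Steps.fwd (nat_lit 6144) (Steps.fwd (nat_lit 4096) (Steps.bwd (nat_lit 3) Steps.nil))))))) (nat_lit 12) (nat_lit 1),
  Rule.mk (nat_lit 6) (nat_lit 115) (Steps.bwd (nat_lit 3) (Steps.fwd (nat_lit 4096) (Steps.fwd (nat_lit 2048) (Steps.fwd (nat_lit 4096) (Steps.bwd (nat_lit 6) (Steps.bwd (nat_lit 3) (Steps.bwd (nat_lit 1) (Steps.bwd (nat_lit 3) Steps.nil)))))))) (nat_lit 19) (nat_lit 6),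
  Rule.mk (nat_lit 1) (nat_lit 115) (Steps.bwd (nat_lit 2) (Steps.fwd (nat_lit 6144) (Steps.fwd (nat_lit 12288) (Steps.fwd (nat_lit 6144) (Steps.fwd (nat_lit 2048) (Steps.bwd (nat_lit 3) (Steps.fwd (nat_lit 12288) (Steps.bwd (nat_lit 2) Steps.nil)))))))) (nat_lit 18) (nat_lit 1),
  Rule.mk (nat_lit 3) (nat_lit 115) (Steps.bwd (nat_lit 1) (Steps.fwd (nat_lit 6144) (Steps.fwd (nat_lit 12288) (Steps.bwd (nat_lit 2) (Steps.bwd (nat_lit 1) (Steps.bwd (nat_lit 2) (Steps.bwd (nat_lit 3) (Steps.bwd (nat_lit 5) Steps.nil)))))))) (nat_lit 18) (nat_lit 5),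
  Rule.mk (nat_lit 5) (nat_lit 115) (Steps.fwd (nat_lit 4096) (Steps.fwd (nat_lit 2048) (Steps.bwd (nat_lit 2) (Steps.bwd (nat_lit 3) (Steps.fwd (nat_lit 12288) (Steps.fwd (nat_lit 6144) (Steps.bwd (nat_lit 1) (Steps.bwd (nat_lit 3) Steps.nil)))))))) (nat_lit 18) (nat_lit 8),
  Rule.mk (nat_lit 6) (nat_lit 115) (Steps.bwd (nat_lit 3) (Steps.bwd (nat_lit 2) (Steps.fwd (nat_lit 2048) (Steps.bwd (nat_lit 2) (Steps.bwd (nat_lit 6) (Steps.fwd (nat_lit 6144) (Steps.bwd (nat_lit 1) (Steps.bwd (nat_lit 3) Steps.nil)))))))) (nat_lit 19) (nat_lit 6),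
  Rule.mk (nat_lit 5) (nat_lit 115) (Steps.fwd (nat_lit 4096) (Steps.fwd (nat_lit 2048) (Steps.fwd (nat_lit 4096) (Steps.bwd (nat_lit 3) (Steps.fwd (nat_lit 12288) (Steps.bwd (nat_lit 3) (Steps.bwd (nat_lit 1) (Steps.bwd (nat_lit 3) Steps.nil)))))))) (nat_lit 18) (nat_lit 8),
  Rule.mk (nat_lit 6) (nat_lit 115) (Steps.fwd (nat_lit 6144) (Steps.fwd (nat_lit 4096) (Steps.fwd (nat_lit 2048) (Steps.fwd (nat_lit 4096) (Steps.bwd (nat_lit 6) (Steps.bwd (nat_lit 3) (Steps.bwd (nat_lit 1) (Steps.bwd (nat_lit 3) Steps.nil)))))))) (nat_lit 19) (nat_lit 6),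
  Rule.mk (nat_lit 7) (nat_lit 76) (Steps.bwd (nat_lit 3) (Steps.bwd (nat_lit 7) (Steps.bwd (nat_lit 3) (Steps.fwd (nat_lit 16384) (Steps.bwd (nat_lit 3) Steps.nil))))) (nat_lit 26) (nat_lit 0),
  Rule.mk (nat_lit 2) (nat_lit 76) (Steps.bwd (nat_lit 3) (Steps.bwd (nat_lit 7) (Steps.bwd (nat_lit 2) (Steps.fwd (nat_lit 6144) (Steps.bwd (nat_lit 7) Steps.nil))))) (nat_lit 32) (nat_lit 1),
  Rule.mk (nat_lit 1) (nat_lit 102) (Steps.bwd (nat_lit 3) (Steps.fwd (nat_lit 2048) (Steps.fwd (nat_lit 6144) (Steps.fwd (nat_lit 2048) (Steps.bwd (nat_lit 3) (Steps.fwd (nat_lit 2048) (Steps.bwd (nat_lit 3) Steps.nil))))))) (nat_lit 10) (nat_lit 1)]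
noncomputable def R_9 : List (Rule) := [Rule.mk (nat_lit 5) (nat_lit 115) (Steps.bwd (nat_lit 3) (Steps.fwd (nat_lit 2048) (Steps.fwd (nat_lit 6144) (Steps.fwd (nat_lit 12288) (Steps.bwd (nat_lit 2) (Steps.bwd (nat_lit 1) (Steps.bwd (nat_lit 2) (Steps.bwd (nat_lit 3) Steps.nil)))))))) (nat_lit 18) (nat_lit 4),
  Rule.mk (nat_lit 6) (nat_lit 115) (Steps.bwd (nat_lit 3) (Steps.fwd (nat_lit 4096) (Steps.fwd (nat_lit 2048) (Steps.fwd (nat_lit 4096) (Steps.bwd (nat_lit 6) (Steps.fwd (nat_lit 6144) (Steps.fwd (nat_lit 2048) (Steps.bwd (nat_lit 3) Steps.nil)))))))) (nat_lit 19) (nat_lit 6),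
  Rule.mk (nat_lit 3) (nat_lit 115) (Steps.bwd (nat_lit 1) (Steps.bwd (nat_lit 3) (Steps.bwd (nat_lit 5) (Steps.fwd (nat_lit 4096) (Steps.fwd (nat_lit 2048) (Steps.bwd (nat_lit 2) (Steps.bwd (nat_lit 3) (Steps.bwd (nat_lit 5) Steps.nil)))))))) (nat_lit 18) (nat_lit 5),
  Rule.mk (nat_lit 1) (nat_lit 154) (Steps.bwd (nat_lit 3) (Steps.bwd (nat_lit 1) (Steps.bwd (nat_lit 2) (Steps.fwd (nat_lit 6144) (Steps.fwd (nat_lit 2048) (Steps.fwd (nat_lit 4096) (Steps.bwd (nat_lit 3) (Steps.bwd (nat_lit 1) (Steps.fwd (nat_lit 4096) (Steps.bwd (nat_lit 3) (Steps.fwd (nat_lit 4096) Steps.nil))))))))))) (nat_lit 14) (nat_lit 11),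
  Rule.mk (nat_lit 5) (nat_lit 115) (Steps.fwd (nat_lit 4096) (Steps.fwd (nat_lit 2048) (Steps.fwd (nat_lit 4096) (Steps.bwd (nat_lit 3) (Steps.bwd (nat_lit 5) (Steps.bwd (nat_lit 3) (Steps.bwd (nat_lit 1) (Steps.bwd (nat_lit 3) Steps.nil)))))))) (nat_lit 18) (nat_lit 8),
  Rule.mk (nat_lit 6) (nat_lit 115) (Steps.bwd (nat_lit 3) (Steps.fwd (nat_lit 4096) (Steps.fwd (nat_lit 2048) (Steps.bwd (nat_lit 2) (Steps.fwd (nat_lit 10240) (Steps.bwd (nat_lit 3) (Steps.bwd (nat_lit 1) (Steps.bwd (nat_lit 3) Steps.nil)))))))) (nat_lit 19) (nat_lit 6),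
  Rule.mk (nat_lit 3) (nat_lit 115) (Steps.fwd (nat_lit 2048) (Steps.bwd (nat_lit 3) (Steps.fwd (nat_lit 10240) (Steps.fwd (nat_lit 6144) (Steps.bwd (nat_lit 2) (Steps.fwd (nat_lit 2048) (Steps.bwd (nat_lit 2) (Steps.bwd (nat_lit 6) Steps.nil)))))))) (nat_lit 19) (nat_lit 3),
  Rule.mk (nat_lit 3) (nat_lit 102) (Steps.bwd (nat_lit 1) (Steps.bwd (nat_lit 3) (Steps.bwd (nat_lit 1) (Steps.fwd (nat_lit 6144) (Steps.fwd (nat_lit 2048) (Steps.fwd (nat_lit 6144) (Steps.bwd (nat_lit 1) Steps.nil))))))) (nat_lit 10) (nat_lit 0),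
  Rule.mk (nat_lit 5) (nat_lit 115) (Steps.bwd (nat_lit 2) (Steps.bwd (nat_lit 1) (Steps.bwd (nat_lit 2) (Steps.bwd (nat_lit 3) (Steps.fwd (nat_lit 12288) (Steps.fwd (nat_lit 6144) (Steps.bwd (nat_lit 1) (Steps.bwd (nat_lit 3) Steps.nil)))))))) (nat_lit 18) (nat_lit 8),
  Rule.mk (nat_lit 6) (nat_lit 115) (Steps.bwd (nat_lit 3) (Steps.bwd (nat_lit 2) (Steps.bwd (nat_lit 1) (Steps.fwd (nat_lit 4096) (Steps.bwd (nat_lit 6) (Steps.fwd (nat_lit 6144) (Steps.bwd (nat_lit 1) (Steps.bwd (nat_lit 3) Steps.nil)))))))) (nat_lit 19) (nat_lit 6),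
  Rule.mk (nat_lit 1) (nat_lit 115) (Steps.bwd (nat_lit 2) (Steps.fwd (nat_lit 6144) (Steps.bwd (nat_lit 5) (Steps.fwd (nat_lit 6144) (Steps.fwd (nat_lit 2048) (Steps.fwd (nat_lit 6144) (Steps.fwd (nat_lit 12288) (Steps.fwd (nat_lit 4096) Steps.nil)))))))) (nat_lit 18) (nat_lit 1),
  Rule.mk (nat_lit 1) (nat_lit 115) (Steps.bwd (nat_lit 2) (Steps.bwd (nat_lit 3) (Steps.bwd (nat_lit 5) (Steps.bwd (nat_lit 3) (Steps.bwd (nat_lit 1) (Steps.fwd (nat_lit 6144) (Steps.bwd (nat_lit 5) (Steps.bwd (nat_lit 2) Steps.nil)))))))) (nat_lit 18) (nat_lit 1),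
  Rule.mk (nat_lit 3) (nat_lit 115) (Steps.bwd (nat_lit 2) (Steps.fwd (nat_lit 2048) (Steps.bwd (nat_lit 2) (Steps.bwd (nat_lit 6) (Steps.fwd (nat_lit 6144) (Steps.fwd (nat_lit 2048) (Steps.fwd (nat_lit 6144) (Steps.bwd (nat_lit 6) Steps.nil)))))))) (nat_lit 19) (nat_lit 7),
  Rule.mk (nat_lit 3) (nat_lit 154) (Steps.bwd (nat_lit 6) (Steps.bwd (nat_lit 2) (Steps.bwd (nat_lit 3) (Steps.fwd (nat_lit 2048) (Steps.fwd (nat_lit 4096) (Steps.bwd (nat_lit 3) (Steps.fwd (nat_lit 2048) (Steps.fwd (nat_lit 4096) (Steps.fwd (nat_lit 6144) (Steps.fwd (nat_lit 12288) (Steps.bwd (nat_lit 2) Steps.nil))))))))))) (nat_lit 20) (nat_lit 9),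
  Rule.mk (nat_lit 1) (nat_lit 115) (Steps.fwd (nat_lit 6144) (Steps.fwd (nat_lit 12288) (Steps.fwd (nat_lit 4096) (Steps.fwd (nat_lit 2048) (Steps.fwd (nat_lit 4096) (Steps.bwd (nat_lit 3) (Steps.fwd (nat_lit 12288) (Steps.fwd (nat_lit 6144) Steps.nil)))))))) (nat_lit 18) (nat_lit 6),
  Rule.mk (nat_lit 1) (nat_lit 115) (Steps.bwd (nat_lit 2) (Steps.fwd (nat_lit 6144) (Steps.fwd (nat_lit 12288) (Steps.bwd (nat_lit 3) (Steps.fwd (nat_lit 2048) (Steps.fwd (nat_lit 6144) (Steps.bwd (nat_lit 5) (Steps.fwd (nat_lit 4096) Steps.nil)))))))) (nat_lit 18) (nat_lit 1),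
  Rule.mk (nat_lit 3) (nat_lit 154) (Steps.bwd (nat_lit 6) (Steps.bwd (nat_lit 2) (Steps.fwd (nat_lit 6144) (Steps.fwd (nat_lit 2048) (Steps.bwd (nat_lit 2) (Steps.bwd (nat_lit 3) (Steps.bwd (nat_lit 1) (Steps.bwd (nat_lit 2) (Steps.bwd (nat_lit 3) (Steps.bwd (nat_lit 5) (Steps.bwd (nat_lit 2) Steps.nil))))))))))) (nat_lit 20) (nat_lit 9),
  Rule.mk (nat_lit 1) (nat_lit 115) (Steps.fwd (nat_lit 6144) (Steps.fwd (nat_lit 12288) (Steps.bwd (nat_lit 2) (Steps.bwd (nat_lit 1) (Steps.bwd (nat_lit 2) (Steps.fwd (nat_lit 6144) (Steps.bwd (nat_lit 5) (Steps.bwd (nat_lit 3) Steps.nil)))))))) (nat_lit 18) (nat_lit 6),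
  Rule.mk (nat_lit 1) (nat_lit 115) (Steps.bwd (nat_lit 2) (Steps.bwd (nat_lit 3) (Steps.bwd (nat_lit 5) (Steps.fwd (nat_lit 6144) (Steps.fwd (nat_lit 2048) (Steps.fwd (nat_lit 6144) (Steps.bwd (nat_lit 5) (Steps.fwd (nat_lit 4096) Steps.nil)))))))) (nat_lit 18) (nat_lit 1),
  Rule.mk (nat_lit 2) (nat_lit 115) (Steps.bwd (nat_lit 4) (Steps.bwd (nat_lit 1) (Steps.bwd (nat_lit 3) (Steps.fwd (nat_lit 4096) (Steps.fwd (nat_lit 6144) (Steps.fwd (nat_lit 4096) (Steps.fwd (nat_lit 2048) (Steps.fwd (nat_lit 8192) Steps.nil)))))))) (nat_lit 40) (nat_lit 2),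
  Rule.mk (nat_lit 2) (nat_lit 115) (Steps.bwd (nat_lit 4) (Steps.fwd (nat_lit 2048) (Steps.fwd (nat_lit 6144) (Steps.bwd (nat_lit 2) (Steps.fwd (nat_lit 6144) (Steps.bwd (nat_lit 2) (Steps.bwd (nat_lit 1) (Steps.fwd (nat_lit 8192) Steps.nil)))))))) (nat_lit 40) (nat_lit 2),
  Rule.mk (nat_lit 2) (nat_lit 115) (Steps.bwd (nat_lit 4) (Steps.bwd (nat_lit 1) (Steps.bwd (nat_lit 3) (Steps.bwd (nat_lit 2) (Steps.fwd (nat_lit 6144) (Steps.fwd (nat_lit 4096) (Steps.fwd (nat_lit 2048) (Steps.fwd (nat_lit 8192) Steps.nil)))))))) (nat_lit 40) (nat_lit 2),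
  Rule.mk (nat_lit 2) (nat_lit 115) (Steps.bwd (nat_lit 4) (Steps.fwd (nat_lit 2048) (Steps.fwd (nat_lit 6144) (Steps.fwd (nat_lit 4096) (Steps.fwd (nat_lit 6144) (Steps.fwd (nat_lit 4096) (Steps.fwd (nat_lit 2048) (Steps.fwd (nat_lit 8192) Steps.nil)))))))) (nat_lit 40) (nat_lit 2),
  Rule.mk (nat_lit 2) (nat_lit 115) (Steps.bwd (nat_lit 4) (Steps.fwd (nat_lit 2048) (Steps.bwd (nat_lit 3) (Steps.bwd (nat_lit 2) (Steps.bwd (nat_lit 3) (Steps.bwd (nat_lit 2) (Steps.fwd (nat_lit 2048) (Steps.fwd (nat_lit 8192) Steps.nil)))))))) (nat_lit 40) (nat_lit 2),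
  Rule.mk (nat_lit 2) (nat_lit 115) (Steps.bwd (nat_lit 4) (Steps.bwd (nat_lit 1) (Steps.bwd (nat_lit 3) (Steps.fwd (nat_lit 4096) (Steps.bwd (nat_lit 3) (Steps.bwd (nat_lit 2) (Steps.fwd (nat_lit 2048) (Steps.fwd (nat_lit 8192) Steps.nil)))))))) (nat_lit 40) (nat_lit 2),
  Rule.mk (nat_lit 2) (nat_lit 115) (Steps.bwd (nat_lit 4) (Steps.bwd (nat_lit 1) (Steps.fwd (nat_lit 6144) (Steps.bwd (nat_lit 2) (Steps.fwd (nat_lit 6144) (Steps.bwd (nat_lit 2) (Steps.bwd (nat_lit 1) (Steps.fwd (nat_lit 8192) Steps.nil)))))))) (nat_lit 40) (nat_lit 2),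
  Rule.mk (nat_lit 2) (nat_lit 115) (Steps.bwd (nat_lit 4) (Steps.bwd (nat_lit 1) (Steps.fwd (nat_lit 6144) (Steps.bwd (nat_lit 2) (Steps.fwd (nat_lit 6144) (Steps.fwd (nat_lit 4096) (Steps.bwd (nat_lit 1) (Steps.fwd (nat_lit 8192) Steps.nil)))))))) (nat_lit 40) (nat_lit 2),
  Rule.mk (nat_lit 2) (nat_lit 115) (Steps.bwd (nat_lit 4) (Steps.fwd (nat_lit 2048) (Steps.fwd (nat_lit 6144) (Steps.fwd (nat_lit 4096) (Steps.bwd (nat_lit 3) (Steps.fwd (nat_lit 4096) (Steps.fwd (nat_lit 2048) (Steps.fwd (nat_lit 8192) Steps.nil)))))))) (nat_lit 40) (nat_lit 2),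
  Rule.mk (nat_lit 2) (nat_lit 115) (Steps.bwd (nat_lit 4) (Steps.fwd (nat_lit 2048) (Steps.fwd (nat_lit 6144) (Steps.bwd (nat_lit 2) (Steps.bwd (nat_lit 3) (Steps.fwd (nat_lit 4096) (Steps.fwd (nat_lit 2048) (Steps.fwd (nat_lit 8192) Steps.nil)))))))) (nat_lit 40) (nat_lit 2),
  Rule.mk (nat_lit 2) (nat_lit 115) (Steps.bwd (nat_lit 4) (Steps.fwd (nat_lit 2048) (Steps.fwd (nat_lit 6144) (Steps.fwd (nat_lit 4096) (Steps.bwd (nat_lit 3) (Steps.fwd (nat_lit 4096) (Steps.bwd (nat_lit 1) (Steps.fwd (nat_lit 8192) Steps.nil)))))))) (nat_lit 40) (nat_lit 2),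
  Rule.mk (nat_lit 2) (nat_lit 115) (Steps.bwd (nat_lit 4) (Steps.bwd (nat_lit 1) (Steps.fwd (nat_lit 6144) (Steps.bwd (nat_lit 2) (Steps.bwd (nat_lit 3) (Steps.bwd (nat_lit 2) (Steps.fwd (nat_lit 2048) (Steps.fwd (nat_lit 8192) Steps.nil)))))))) (nat_lit 40) (nat_lit 2),
  Rule.mk (nat_lit 2) (nat_lit 115) (Steps.bwd (nat_lit 4) (Steps.fwd (nat_lit 2048) (Steps.fwd (nat_lit 6144) (Steps.fwd (nat_lit 4096) (Steps.fwd (nat_lit 6144) (Steps.fwd (nat_lit 4096) (Steps.bwd (nat_lit 1) (Steps.fwd (nat_lit 8192) Steps.nil)))))))) (nat_lit 40) (nat_lit 2),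
  Rule.mk (nat_lit 2) (nat_lit 115) (Steps.bwd (nat_lit 4) (Steps.bwd (nat_lit 1) (Steps.bwd (nat_lit 3) (Steps.bwd (nat_lit 2) (Steps.fwd (nat_lit 6144) (Steps.bwd (nat_lit 2) (Steps.fwd (nat_lit 2048) (Steps.fwd (nat_lit 8192) Steps.nil)))))))) (nat_lit 40) (nat_lit 2),
  Rule.mk (nat_lit 2) (nat_lit 115) (Steps.bwd (nat_lit 4) (Steps.bwd (nat_lit 1) (Steps.bwd (nat_lit 3) (Steps.fwd (nat_lit 4096) (Steps.fwd (nat_lit 6144) (Steps.fwd (nat_lit 4096) (Steps.bwd (nat_lit 1) (Steps.fwd (nat_lit 8192) Steps.nil)))))))) (nat_lit 40) (nat_lit 2),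
  Rule.mk (nat_lit 4) (nat_lit 128) (Steps.bwd (nat_lit 6) (Steps.bwd (nat_lit 4) (Steps.fwd (nat_lit 10240) (Steps.bwd (nat_lit 4) (Steps.bwd (nat_lit 6) (Steps.fwd (nat_lit 8192) (Steps.bwd (nat_lit 6) (Steps.fwd (nat_lit 8192) (Steps.fwd (nat_lit 10240) Steps.nil))))))))) (nat_lit 51) (nat_lit 0),
  Rule.mk (nat_lit 1) (nat_lit 50) (Steps.bwd (nat_lit 4) (Steps.fwd (nat_lit 2048) (Steps.bwd (nat_lit 4) Steps.nil))) (nat_lit 38) (nat_lit 0),
  Rule.mk (nat_lit 2) (nat_lit 115) (Steps.bwd (nat_lit 4) (Steps.fwd (nat_lit 2048) (Steps.fwd (nat_lit 6144) (Steps.bwd (nat_lit 2) (Steps.bwd (nat_lit 3) (Steps.bwd (nat_lit 2) (Steps.bwd (nat_lit 1) (Steps.fwd (nat_lit 8192) Steps.nil)))))))) (nat_lit 40) (nat_lit 2),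
  Rule.mk (nat_lit 6) (nat_lit 128) (Steps.bwd (nat_lit 4) (Steps.bwd (nat_lit 6) (Steps.fwd (nat_lit 8192) (Steps.fwd (nat_lit 10240) (Steps.bwd (nat_lit 4) (Steps.fwd (nat_lit 10240) (Steps.fwd (nat_lit 8192) (Steps.bwd (nat_lit 6) (Steps.fwd (nat_lit 8192) Steps.nil))))))))) (nat_lit 51) (nat_lit 1),
  Rule.mk (nat_lit 6) (nat_lit 128) (Steps.bwd (nat_lit 4) (Steps.bwd (nat_lit 6) (Steps.bwd (nat_lit 4) (Steps.bwd (nat_lit 6) (Steps.bwd (nat_lit 4) (Steps.bwd (nat_lit 6) (Steps.fwd (nat_lit 8192) (Steps.fwd (nat_lit 10240) (Steps.fwd (nat_lit 8192) Steps.nil))))))))) (nat_lit 51) (nat_lit 1),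
  Rule.mk (nat_lit 4) (nat_lit 128) (Steps.bwd (nat_lit 6) (Steps.bwd (nat_lit 4) (Steps.fwd (nat_lit 10240) (Steps.bwd (nat_lit 4) (Steps.bwd (nat_lit 6) (Steps.fwd (nat_lit 8192) (Steps.bwd (nat_lit 6) (Steps.fwd (nat_lit 8192) (Steps.bwd (nat_lit 6) Steps.nil))))))))) (nat_lit 51) (nat_lit 0),
  Rule.mk (nat_lit 4) (nat_lit 128) (Steps.bwd (nat_lit 6) (Steps.fwd (nat_lit 8192) (Steps.fwd (nat_lit 10240) (Steps.bwd (nat_lit 4) (Steps.fwd (nat_lit 10240) (Steps.bwd (nat_lit 4) (Steps.bwd (nat_lit 6) (Steps.fwd (nat_lit 8192) (Steps.bwd (nat_lit 6) Steps.nil))))))))) (nat_lit 51) (nat_lit 0),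
  Rule.mk (nat_lit 1) (nat_lit 50) (Steps.bwd (nat_lit 4) (Steps.bwd (nat_lit 1) (Steps.bwd (nat_lit 4) Steps.nil))) (nat_lit 38) (nat_lit 0),
  Rule.mk (nat_lit 4) (nat_lit 115) (Steps.bwd (nat_lit 2) (Steps.fwd (nat_lit 8192) (Steps.fwd (nat_lit 2048) (Steps.bwd (nat_lit 3) (Steps.fwd (nat_lit 4096) (Steps.fwd (nat_lit 6144) (Steps.fwd (nat_lit 4096) (Steps.bwd (nat_lit 1) Steps.nil)))))))) (nat_lit 40) (nat_lit 1),
  Rule.mk (nat_lit 4) (nat_lit 128) (Steps.bwd (nat_lit 5) (Steps.fwd (nat_lit 8192) (Steps.fwd (nat_lit 12288) (Steps.bwd (nat_lit 4) (Steps.bwd (nat_lit 5) (Steps.fwd (nat_lit 8192) (Steps.bwd (nat_lit 5) (Steps.fwd (nat_lit 8192) (Steps.fwd (nat_lit 12288) Steps.nil))))))))) (nat_lit 50) (nat_lit 1),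
  Rule.mk (nat_lit 4) (nat_lit 50) (Steps.bwd (nat_lit 1) (Steps.fwd (nat_lit 8192) (Steps.bwd (nat_lit 1) Steps.nil))) (nat_lit 38) (nat_lit 1),
  Rule.mk (nat_lit 4) (nat_lit 128) (Steps.bwd (nat_lit 5) (Steps.fwd (nat_lit 8192) (Steps.bwd (nat_lit 5) (Steps.bwd (nat_lit 4) (Steps.fwd (nat_lit 12288) (Steps.bwd (nat_lit 4) (Steps.bwd (nat_lit 5) (Steps.fwd (nat_lit 8192) (Steps.bwd (nat_lit 5) Steps.nil))))))))) (nat_lit 50) (nat_lit 1),
  Rule.mk (nat_lit 1) (nat_lit 50) (Steps.fwd (nat_lit 8192) (Steps.fwd (nat_lit 2048) (Steps.bwd (nat_lit 4) Steps.nil))) (nat_lit 38) (nat_lit 0),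
  Rule.mk (nat_lit 4) (nat_lit 115) (Steps.bwd (nat_lit 2) (Steps.fwd (nat_lit 8192) (Steps.bwd (nat_lit 1) (Steps.bwd (nat_lit 3) (Steps.fwd (nat_lit 4096) (Steps.fwd (nat_lit 6144) (Steps.bwd (nat_lit 2) (Steps.bwd (nat_lit 1) Steps.nil)))))))) (nat_lit 40) (nat_lit 1),
  Rule.mk (nat_lit 4) (nat_lit 128) (Steps.bwd (nat_lit 6) (Steps.fwd (nat_lit 8192) (Steps.fwd (nat_lit 10240) (Steps.bwd (nat_lit 4) (Steps.fwd (nat_lit 10240) (Steps.fwd (nat_lit 8192) (Steps.bwd (nat_lit 6) (Steps.fwd (nat_lit 8192) (Steps.bwd (nat_lit 6) Steps.nil))))))))) (nat_lit 51) (nat_lit 0),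
  Rule.mk (nat_lit 4) (nat_lit 128) (Steps.bwd (nat_lit 6) (Steps.fwd (nat_lit 8192) (Steps.fwd (nat_lit 10240) (Steps.bwd (nat_lit 4) (Steps.fwd (nat_lit 10240) (Steps.bwd (nat_lit 4) (Steps.bwd (nat_lit 6) (Steps.fwd (nat_lit 8192) (Steps.fwd (nat_lit 10240) Steps.nil))))))))) (nat_lit 51) (nat_lit 0),
  Rule.mk (nat_lit 4) (nat_lit 115) (Steps.bwd (nat_lit 2) (Steps.fwd (nat_lit 8192) (Steps.bwd (nat_lit 1) (Steps.bwd (nat_lit 3) (Steps.fwd (nat_lit 4096) (Steps.bwd (nat_lit 3) (Steps.fwd (nat_lit 4096) (Steps.bwd (nat_lit 1) Steps.nil)))))))) (nat_lit 40) (nat_lit 1),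
  Rule.mk (nat_lit 4) (nat_lit 128) (Steps.bwd (nat_lit 5) (Steps.fwd (nat_lit 8192) (Steps.fwd (nat_lit 12288) (Steps.bwd (nat_lit 4) (Steps.fwd (nat_lit 12288) (Steps.bwd (nat_lit 4) (Steps.bwd (nat_lit 5) (Steps.fwd (nat_lit 8192) (Steps.bwd (nat_lit 5) Steps.nil))))))))) (nat_lit 50) (nat_lit 1),
  Rule.mk (nat_lit 2) (nat_lit 115) (Steps.bwd (nat_lit 4) (Steps.bwd (nat_lit 1) (Steps.fwd (nat_lit 6144) (Steps.fwd (nat_lit 4096) (Steps.fwd (nat_lit 6144) (Steps.fwd (nat_lit 4096) (Steps.bwd (nat_lit 1) (Steps.fwd (nat_lit 8192) Steps.nil)))))))) (nat_lit 40) (nat_lit 2),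
  Rule.mk (nat_lit 2) (nat_lit 115) (Steps.bwd (nat_lit 4) (Steps.bwd (nat_lit 1) (Steps.bwd (nat_lit 3) (Steps.fwd (nat_lit 4096) (Steps.fwd (nat_lit 6144) (Steps.bwd (nat_lit 2) (Steps.bwd (nat_lit 1) (Steps.fwd (nat_lit 8192) Steps.nil)))))))) (nat_lit 40) (nat_lit 2),
  Rule.mk (nat_lit 2) (nat_lit 115) (Steps.bwd (nat_lit 4) (Steps.bwd (nat_lit 1) (Steps.bwd (nat_lit 3) (Steps.fwd (nat_lit 4096) (Steps.bwd (nat_lit 3) (Steps.fwd (nat_lit 4096) (Steps.bwd (nat_lit 1) (Steps.fwd (nat_lit 8192) Steps.nil)))))))) (nat_lit 40) (nat_lit 2),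
  Rule.mk (nat_lit 2) (nat_lit 115) (Steps.bwd (nat_lit 4) (Steps.bwd (nat_lit 1) (Steps.bwd (nat_lit 3) (Steps.bwd (nat_lit 2) (Steps.fwd (nat_lit 6144) (Steps.fwd (nat_lit 4096) (Steps.bwd (nat_lit 1) (Steps.fwd (nat_lit 8192) Steps.nil)))))))) (nat_lit 40) (nat_lit 2),
  Rule.mk (nat_lit 2) (nat_lit 115) (Steps.bwd (nat_lit 4) (Steps.bwd (nat_lit 1) (Steps.bwd (nat_lit 3) (Steps.bwd (nat_lit 2) (Steps.fwd (nat_lit 6144) (Steps.bwd (nat_lit 2) (Steps.bwd (nat_lit 1) (Steps.fwd (nat_lit 8192) Steps.nil)))))))) (nat_lit 40) (nat_lit 2),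
  Rule.mk (nat_lit 2) (nat_lit 115) (Steps.bwd (nat_lit 4) (Steps.fwd (nat_lit 2048) (Steps.fwd (nat_lit 6144) (Steps.bwd (nat_lit 2) (Steps.bwd (nat_lit 3) (Steps.fwd (nat_lit 4096) (Steps.bwd (nat_lit 1) (Steps.fwd (nat_lit 8192) Steps.nil)))))))) (nat_lit 40) (nat_lit 2),
  Rule.mk (nat_lit 2) (nat_lit 115) (Steps.bwd (nat_lit 4) (Steps.fwd (nat_lit 2048) (Steps.fwd (nat_lit 6144) (Steps.bwd (nat_lit 2) (Steps.fwd (nat_lit 6144) (Steps.bwd (nat_lit 2) (Steps.fwd (nat_lit 2048) (Steps.fwd (nat_lit 8192) Steps.nil)))))))) (nat_lit 40) (nat_lit 2),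
  Rule.mk (nat_lit 2) (nat_lit 115) (Steps.bwd (nat_lit 4) (Steps.fwd (nat_lit 2048) (Steps.bwd (nat_lit 3) (Steps.bwd (nat_lit 2) (Steps.fwd (nat_lit 6144) (Steps.bwd (nat_lit 2) (Steps.fwd (nat_lit 2048) (Steps.fwd (nat_lit 8192) Steps.nil)))))))) (nat_lit 40) (nat_lit 2),
  Rule.mk (nat_lit 2) (nat_lit 115) (Steps.bwd (nat_lit 4) (Steps.bwd (nat_lit 1) (Steps.bwd (nat_lit 3) (Steps.bwd (nat_lit 2) (Steps.bwd (nat_lit 3) (Steps.fwd (nat_lit 4096) (Steps.bwd (nat_lit 1) (Steps.fwd (nat_lit 8192) Steps.nil)))))))) (nat_lit 40) (nat_lit 2),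
  Rule.mk (nat_lit 2) (nat_lit 115) (Steps.bwd (nat_lit 4) (Steps.fwd (nat_lit 2048) (Steps.bwd (nat_lit 3) (Steps.fwd (nat_lit 4096) (Steps.bwd (nat_lit 3) (Steps.fwd (nat_lit 4096) (Steps.fwd (nat_lit 2048) (Steps.fwd (nat_lit 8192) Steps.nil)))))))) (nat_lit 40) (nat_lit 2),
  Rule.mk (nat_lit 2) (nat_lit 115) (Steps.bwd (nat_lit 4) (Steps.bwd (nat_lit 1) (Steps.bwd (nat_lit 3) (Steps.bwd (nat_lit 2) (Steps.bwd (nat_lit 3) (Steps.bwd (nat_lit 2) (Steps.bwd (nat_lit 1) (Steps.fwd (nat_lit 8192) Steps.nil)))))))) (nat_lit 40) (nat_lit 2),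
  Rule.mk (nat_lit 2) (nat_lit 115) (Steps.bwd (nat_lit 4) (Steps.bwd (nat_lit 1) (Steps.bwd (nat_lit 3) (Steps.fwd (nat_lit 4096) (Steps.fwd (nat_lit 6144) (Steps.bwd (nat_lit 2) (Steps.fwd (nat_lit 2048) (Steps.fwd (nat_lit 8192) Steps.nil)))))))) (nat_lit 40) (nat_lit 2)]
noncomputable def R_10 : List (Rule) := [Rule.mk (nat_lit 2) (nat_lit 115) (Steps.bwd (nat_lit 4) (Steps.bwd (nat_lit 1) (Steps.fwd (nat_lit 6144) (Steps.bwd (nat_lit 2) (Steps.bwd (nat_lit 3) (Steps.fwd (nat_lit 4096) (Steps.bwd (nat_lit 1) (Steps.fwd (nat_lit 8192) Steps.nil)))))))) (nat_lit 40) (nat_lit 2),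
  Rule.mk (nat_lit 2) (nat_lit 115) (Steps.bwd (nat_lit 4) (Steps.fwd (nat_lit 2048) (Steps.fwd (nat_lit 6144) (Steps.bwd (nat_lit 2) (Steps.bwd (nat_lit 3) (Steps.bwd (nat_lit 2) (Steps.fwd (nat_lit 2048) (Steps.fwd (nat_lit 8192) Steps.nil)))))))) (nat_lit 40) (nat_lit 2),
  Rule.mk (nat_lit 2) (nat_lit 115) (Steps.bwd (nat_lit 4) (Steps.bwd (nat_lit 1) (Steps.fwd (nat_lit 6144) (Steps.bwd (nat_lit 2) (Steps.bwd (nat_lit 3) (Steps.bwd (nat_lit 2) (Steps.bwd (nat_lit 1) (Steps.fwd (nat_lit 8192) Steps.nil)))))))) (nat_lit 40) (nat_lit 2),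
  Rule.mk (nat_lit 2) (nat_lit 115) (Steps.bwd (nat_lit 4) (Steps.bwd (nat_lit 1) (Steps.bwd (nat_lit 3) (Steps.bwd (nat_lit 2) (Steps.bwd (nat_lit 3) (Steps.fwd (nat_lit 4096) (Steps.fwd (nat_lit 2048) (Steps.fwd (nat_lit 8192) Steps.nil)))))))) (nat_lit 40) (nat_lit 2),
  Rule.mk (nat_lit 2) (nat_lit 115) (Steps.bwd (nat_lit 4) (Steps.bwd (nat_lit 1) (Steps.bwd (nat_lit 3) (Steps.fwd (nat_lit 4096) (Steps.bwd (nat_lit 3) (Steps.bwd (nat_lit 2) (Steps.bwd (nat_lit 1) (Steps.fwd (nat_lit 8192) Steps.nil)))))))) (nat_lit 40) (nat_lit 2),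
  Rule.mk (nat_lit 2) (nat_lit 115) (Steps.bwd (nat_lit 4) (Steps.fwd (nat_lit 2048) (Steps.bwd (nat_lit 3) (Steps.bwd (nat_lit 2) (Steps.fwd (nat_lit 6144) (Steps.bwd (nat_lit 2) (Steps.bwd (nat_lit 1) (Steps.fwd (nat_lit 8192) Steps.nil)))))))) (nat_lit 40) (nat_lit 2),
  Rule.mk (nat_lit 2) (nat_lit 115) (Steps.bwd (nat_lit 4) (Steps.bwd (nat_lit 1) (Steps.fwd (nat_lit 6144) (Steps.bwd (nat_lit 2) (Steps.bwd (nat_lit 3) (Steps.fwd (nat_lit 4096) (Steps.fwd (nat_lit 2048) (Steps.fwd (nat_lit 8192) Steps.nil)))))))) (nat_lit 40) (nat_lit 2),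
  Rule.mk (nat_lit 2) (nat_lit 115) (Steps.bwd (nat_lit 4) (Steps.fwd (nat_lit 2048) (Steps.bwd (nat_lit 3) (Steps.fwd (nat_lit 4096) (Steps.bwd (nat_lit 3) (Steps.fwd (nat_lit 4096) (Steps.bwd (nat_lit 1) (Steps.fwd (nat_lit 8192) Steps.nil)))))))) (nat_lit 40) (nat_lit 2),
  Rule.mk (nat_lit 2) (nat_lit 115) (Steps.bwd (nat_lit 4) (Steps.bwd (nat_lit 1) (Steps.bwd (nat_lit 3) (Steps.bwd (nat_lit 2) (Steps.bwd (nat_lit 3) (Steps.bwd (nat_lit 2) (Steps.fwd (nat_lit 2048) (Steps.fwd (nat_lit 8192) Steps.nil)))))))) (nat_lit 40) (nat_lit 2),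
  Rule.mk (nat_lit 2) (nat_lit 115) (Steps.bwd (nat_lit 4) (Steps.fwd (nat_lit 2048) (Steps.bwd (nat_lit 3) (Steps.fwd (nat_lit 4096) (Steps.fwd (nat_lit 6144) (Steps.fwd (nat_lit 4096) (Steps.bwd (nat_lit 1) (Steps.fwd (nat_lit 8192) Steps.nil)))))))) (nat_lit 40) (nat_lit 2),
  Rule.mk (nat_lit 2) (nat_lit 115) (Steps.bwd (nat_lit 4) (Steps.bwd (nat_lit 1) (Steps.fwd (nat_lit 6144) (Steps.fwd (nat_lit 4096) (Steps.bwd (nat_lit 3) (Steps.fwd (nat_lit 4096) (Steps.bwd (nat_lit 1) (Steps.fwd (nat_lit 8192) Steps.nil)))))))) (nat_lit 40) (nat_lit 2),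
  Rule.mk (nat_lit 2) (nat_lit 115) (Steps.bwd (nat_lit 4) (Steps.bwd (nat_lit 1) (Steps.bwd (nat_lit 3) (Steps.fwd (nat_lit 4096) (Steps.bwd (nat_lit 3) (Steps.fwd (nat_lit 4096) (Steps.fwd (nat_lit 2048) (Steps.fwd (nat_lit 8192) Steps.nil)))))))) (nat_lit 40) (nat_lit 2),
  Rule.mk (nat_lit 2) (nat_lit 115) (Steps.bwd (nat_lit 4) (Steps.bwd (nat_lit 1) (Steps.fwd (nat_lit 6144) (Steps.bwd (nat_lit 2) (Steps.fwd (nat_lit 6144) (Steps.bwd (nat_lit 2) (Steps.fwd (nat_lit 2048) (Steps.fwd (nat_lit 8192) Steps.nil)))))))) (nat_lit 40) (nat_lit 2),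
  Rule.mk (nat_lit 2) (nat_lit 115) (Steps.bwd (nat_lit 4) (Steps.fwd (nat_lit 2048) (Steps.bwd (nat_lit 3) (Steps.bwd (nat_lit 2) (Steps.bwd (nat_lit 3) (Steps.bwd (nat_lit 2) (Steps.bwd (nat_lit 1) (Steps.fwd (nat_lit 8192) Steps.nil)))))))) (nat_lit 40) (nat_lit 2),
  Rule.mk (nat_lit 2) (nat_lit 115) (Steps.bwd (nat_lit 4) (Steps.fwd (nat_lit 2048) (Steps.fwd (nat_lit 6144) (Steps.fwd (nat_lit 4096) (Steps.bwd (nat_lit 3) (Steps.bwd (nat_lit 2) (Steps.bwd (nat_lit 1) (Steps.fwd (nat_lit 8192) Steps.nil)))))))) (nat_lit 40) (nat_lit 2),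
  Rule.mk (nat_lit 2) (nat_lit 115) (Steps.bwd (nat_lit 3) (Steps.fwd (nat_lit 4096) (Steps.fwd (nat_lit 2048) (Steps.bwd (nat_lit 4) (Steps.bwd (nat_lit 2) (Steps.fwd (nat_lit 8192) (Steps.fwd (nat_lit 2048) (Steps.fwd (nat_lit 6144) Steps.nil)))))))) (nat_lit 40) (nat_lit 6),
  Rule.mk (nat_lit 1) (nat_lit 115) (Steps.bwd (nat_lit 3) (Steps.bwd (nat_lit 1) (Steps.bwd (nat_lit 4) (Steps.bwd (nat_lit 3) (Steps.fwd (nat_lit 2048) (Steps.fwd (nat_lit 6144) (Steps.fwd (nat_lit 8192) (Steps.fwd (nat_lit 6144) Steps.nil)))))))) (nat_lit 42) (nat_lit 7),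
  Rule.mk (nat_lit 3) (nat_lit 115) (Steps.bwd (nat_lit 1) (Steps.bwd (nat_lit 3) (Steps.fwd (nat_lit 2048) (Steps.bwd (nat_lit 4) (Steps.fwd (nat_lit 6144) (Steps.fwd (nat_lit 2048) (Steps.bwd (nat_lit 3) (Steps.bwd (nat_lit 4) Steps.nil)))))))) (nat_lit 42) (nat_lit 6),
  Rule.mk (nat_lit 0) (nat_lit 128) (Steps.bwd (nat_lit 3) (Steps.fwd (nat_lit 4096) (Steps.fwd (nat_lit 2048) (Steps.fwd (nat_lit 4096) (Steps.bwd (nat_lit 6) (Steps.fwd (nat_lit 6144) (Steps.fwd (nat_lit 2048) (Steps.fwd (nat_lit 6144) (Steps.bwd (nat_lit 6) Steps.nil))))))))) (nat_lit 19) (nat_lit 6),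
  Rule.mk (nat_lit 0) (nat_lit 50) (Steps.bwd (nat_lit 1) (Steps.fwd (nat_lit 0) (Steps.fwd (nat_lit 2048) Steps.nil))) (nat_lit 56) (nat_lit 0),
  Rule.mk (nat_lit 0) (nat_lit 50) (Steps.bwd (nat_lit 4) (Steps.fwd (nat_lit 0) (Steps.fwd (nat_lit 8192) Steps.nil))) (nat_lit 56) (nat_lit 0),
  Rule.mk (nat_lit 0) (nat_lit 50) (Steps.bwd (nat_lit 1) (Steps.fwd (nat_lit 0) (Steps.bwd (nat_lit 1) Steps.nil))) (nat_lit 56) (nat_lit 0),
  Rule.mk (nat_lit 0) (nat_lit 50) (Steps.fwd (nat_lit 2048) (Steps.fwd (nat_lit 0) (Steps.fwd (nat_lit 2048) Steps.nil))) (nat_lit 56) (nat_lit 0),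
  Rule.mk (nat_lit 0) (nat_lit 323) (Steps.fwd (nat_lit 6144) (Steps.bwd (nat_lit 5) (Steps.fwd (nat_lit 8192) (Steps.bwd (nat_lit 3) (Steps.bwd (nat_lit 5) (Steps.fwd (nat_lit 8192) (Steps.bwd (nat_lit 3) (Steps.fwd (nat_lit 12288) (Steps.fwd (nat_lit 8192) (Steps.fwd (nat_lit 6144) (Steps.bwd (nat_lit 5) (Steps.fwd (nat_lit 8192) (Steps.bwd (nat_lit 3) (Steps.fwd (nat_lit 12288) (Steps.fwd (nat_lit 8192) (Steps.bwd (nat_lit 3) (Steps.fwd (nat_lit 12288) (Steps.fwd (nat_lit 8192) (Steps.fwd (nat_lit 6144) (Steps.bwd (nat_lit 5) (Steps.fwd (nat_lit 8192) (Steps.bwd (nat_lit 3) (Steps.bwd (nat_lit 5) (Steps.fwd (nat_lit 8192) Steps.nil)))))))))))))))))))))))) (nat_lit 52) (nat_lit 0),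
  Rule.mk (nat_lit 0) (nat_lit 50) (Steps.fwd (nat_lit 2048) (Steps.fwd (nat_lit 0) (Steps.bwd (nat_lit 1) Steps.nil))) (nat_lit 56) (nat_lit 0),
  Rule.mk (nat_lit 0) (nat_lit 50) (Steps.fwd (nat_lit 6144) (Steps.bwd (nat_lit 0) (Steps.fwd (nat_lit 6144) Steps.nil))) (nat_lit 56) (nat_lit 0),
  Rule.mk (nat_lit 0) (nat_lit 50) (Steps.fwd (nat_lit 12288) (Steps.fwd (nat_lit 0) (Steps.fwd (nat_lit 10240) Steps.nil))) (nat_lit 56) (nat_lit 0),
  Rule.mk (nat_lit 0) (nat_lit 50) (Steps.fwd (nat_lit 10240) (Steps.fwd (nat_lit 0) (Steps.bwd (nat_lit 5) Steps.nil))) (nat_lit 56) (nat_lit 0),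
  Rule.mk (nat_lit 0) (nat_lit 50) (Steps.fwd (nat_lit 16384) (Steps.fwd (nat_lit 0) (Steps.fwd (nat_lit 14336) Steps.nil))) (nat_lit 56) (nat_lit 0),
  Rule.mk (nat_lit 0) (nat_lit 50) (Steps.fwd (nat_lit 14336) (Steps.fwd (nat_lit 0) (Steps.fwd (nat_lit 16384) Steps.nil))) (nat_lit 56) (nat_lit 0),
  Rule.mk (nat_lit 0) (nat_lit 50) (Steps.bwd (nat_lit 5) (Steps.fwd (nat_lit 0) (Steps.fwd (nat_lit 10240) Steps.nil))) (nat_lit 56) (nat_lit 0),
  Rule.mk (nat_lit 0) (nat_lit 50) (Steps.bwd (nat_lit 6) (Steps.fwd (nat_lit 0) (Steps.bwd (nat_lit 5) Steps.nil))) (nat_lit 56) (nat_lit 0),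
  Rule.mk (nat_lit 0) (nat_lit 63) (Steps.bwd (nat_lit 3) (Steps.fwd (nat_lit 0) (Steps.bwd (nat_lit 3) (Steps.fwd (nat_lit 0) Steps.nil)))) (nat_lit 56) (nat_lit 0),
  Rule.mk (nat_lit 0) (nat_lit 63) (Steps.bwd (nat_lit 0) (Steps.fwd (nat_lit 12288) (Steps.fwd (nat_lit 0) (Steps.bwd (nat_lit 6) Steps.nil)))) (nat_lit 56) (nat_lit 0),
  Rule.mk (nat_lit 0) (nat_lit 50) (Steps.bwd (nat_lit 6) (Steps.fwd (nat_lit 0) (Steps.fwd (nat_lit 12288) Steps.nil))) (nat_lit 56) (nat_lit 0),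
  Rule.mk (nat_lit 0) (nat_lit 50) (Steps.bwd (nat_lit 7) (Steps.fwd (nat_lit 0) (Steps.bwd (nat_lit 8) Steps.nil))) (nat_lit 56) (nat_lit 0),
  Rule.mk (nat_lit 0) (nat_lit 50) (Steps.fwd (nat_lit 14336) (Steps.fwd (nat_lit 0) (Steps.bwd (nat_lit 7) Steps.nil))) (nat_lit 56) (nat_lit 0),
  Rule.mk (nat_lit 0) (nat_lit 37) (Steps.fwd (nat_lit 0) (Steps.fwd (nat_lit 0) Steps.nil)) (nat_lit 56) (nat_lit 0),
  Rule.mk (nat_lit 0) (nat_lit 50) (Steps.bwd (nat_lit 7) (Steps.fwd (nat_lit 0) (Steps.fwd (nat_lit 14336) Steps.nil))) (nat_lit 56) (nat_lit 0),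
  Rule.mk (nat_lit 0) (nat_lit 50) (Steps.bwd (nat_lit 8) (Steps.fwd (nat_lit 0) (Steps.bwd (nat_lit 7) Steps.nil))) (nat_lit 56) (nat_lit 0),
  Rule.mk (nat_lit 0) (nat_lit 50) (Steps.bwd (nat_lit 3) (Steps.bwd (nat_lit 0) (Steps.bwd (nat_lit 3) Steps.nil))) (nat_lit 56) (nat_lit 0),
  Rule.mk (nat_lit 0) (nat_lit 63) (Steps.fwd (nat_lit 6144) (Steps.fwd (nat_lit 0) (Steps.fwd (nat_lit 6144) (Steps.fwd (nat_lit 0) Steps.nil)))) (nat_lit 56) (nat_lit 0),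
  Rule.mk (nat_lit 0) (nat_lit 50) (Steps.bwd (nat_lit 4) (Steps.bwd (nat_lit 0) (Steps.fwd (nat_lit 8192) Steps.nil))) (nat_lit 56) (nat_lit 0),
  Rule.mk (nat_lit 0) (nat_lit 63) (Steps.bwd (nat_lit 1) (Steps.bwd (nat_lit 0) (Steps.fwd (nat_lit 2048) (Steps.fwd (nat_lit 0) Steps.nil)))) (nat_lit 56) (nat_lit 0),
  Rule.mk (nat_lit 0) (nat_lit 63) (Steps.bwd (nat_lit 0) (Steps.bwd (nat_lit 5) (Steps.bwd (nat_lit 0) (Steps.fwd (nat_lit 10240) Steps.nil)))) (nat_lit 56) (nat_lit 0),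
  Rule.mk (nat_lit 0) (nat_lit 50) (Steps.bwd (nat_lit 5) (Steps.fwd (nat_lit 0) (Steps.bwd (nat_lit 6) Steps.nil))) (nat_lit 56) (nat_lit 0),
  Rule.mk (nat_lit 0) (nat_lit 50) (Steps.bwd (nat_lit 3) (Steps.bwd (nat_lit 0) (Steps.fwd (nat_lit 6144) Steps.nil))) (nat_lit 56) (nat_lit 0),
  Rule.mk (nat_lit 5) (nat_lit 37) (Steps.bwd (nat_lit 0) (Steps.fwd (nat_lit 10240) Steps.nil)) (nat_lit 56) (nat_lit 0),
  Rule.mk (nat_lit 0) (nat_lit 50) (Steps.fwd (nat_lit 16384) (Steps.bwd (nat_lit 0) (Steps.fwd (nat_lit 14336) Steps.nil))) (nat_lit 56) (nat_lit 0),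
  Rule.mk (nat_lit 5) (nat_lit 37) (Steps.bwd (nat_lit 0) (Steps.bwd (nat_lit 6) Steps.nil)) (nat_lit 56) (nat_lit 0),
  Rule.mk (nat_lit 0) (nat_lit 50) (Steps.fwd (nat_lit 14336) (Steps.bwd (nat_lit 0) (Steps.bwd (nat_lit 7) Steps.nil))) (nat_lit 56) (nat_lit 0),
  Rule.mk (nat_lit 0) (nat_lit 50) (Steps.fwd (nat_lit 14336) (Steps.bwd (nat_lit 0) (Steps.fwd (nat_lit 16384) Steps.nil))) (nat_lit 56) (nat_lit 0),
  Rule.mk (nat_lit 0) (nat_lit 63) (Steps.bwd (nat_lit 0) (Steps.bwd (nat_lit 4) (Steps.bwd (nat_lit 0) (Steps.fwd (nat_lit 8192) Steps.nil)))) (nat_lit 56) (nat_lit 0),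
  Rule.mk (nat_lit 0) (nat_lit 50) (Steps.fwd (nat_lit 12288) (Steps.fwd (nat_lit 0) (Steps.bwd (nat_lit 6) Steps.nil))) (nat_lit 56) (nat_lit 0),
  Rule.mk (nat_lit 0) (nat_lit 63) (Steps.bwd (nat_lit 0) (Steps.bwd (nat_lit 4) (Steps.fwd (nat_lit 0) (Steps.fwd (nat_lit 8192) Steps.nil)))) (nat_lit 56) (nat_lit 0),
  Rule.mk (nat_lit 0) (nat_lit 63) (Steps.fwd (nat_lit 16384) (Steps.fwd (nat_lit 0) (Steps.bwd (nat_lit 8) (Steps.fwd (nat_lit 0) Steps.nil)))) (nat_lit 56) (nat_lit 0),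
  Rule.mk (nat_lit 0) (nat_lit 63) (Steps.fwd (nat_lit 14336) (Steps.fwd (nat_lit 0) (Steps.bwd (nat_lit 7) (Steps.fwd (nat_lit 0) Steps.nil)))) (nat_lit 56) (nat_lit 0),
  Rule.mk (nat_lit 0) (nat_lit 63) (Steps.fwd (nat_lit 2048) (Steps.bwd (nat_lit 0) (Steps.bwd (nat_lit 1) (Steps.fwd (nat_lit 0) Steps.nil)))) (nat_lit 56) (nat_lit 0),
  Rule.mk (nat_lit 0) (nat_lit 63) (Steps.fwd (nat_lit 16384) (Steps.bwd (nat_lit 0) (Steps.fwd (nat_lit 14336) (Steps.fwd (nat_lit 0) Steps.nil)))) (nat_lit 56) (nat_lit 0),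
  Rule.mk (nat_lit 6) (nat_lit 37) (Steps.bwd (nat_lit 0) (Steps.fwd (nat_lit 12288) Steps.nil)) (nat_lit 56) (nat_lit 0),
  Rule.mk (nat_lit 0) (nat_lit 63) (Steps.bwd (nat_lit 3) (Steps.bwd (nat_lit 0) (Steps.fwd (nat_lit 6144) (Steps.fwd (nat_lit 0) Steps.nil)))) (nat_lit 56) (nat_lit 0),
  Rule.mk (nat_lit 0) (nat_lit 50) (Steps.fwd (nat_lit 2048) (Steps.bwd (nat_lit 0) (Steps.fwd (nat_lit 2048) Steps.nil))) (nat_lit 56) (nat_lit 0),
  Rule.mk (nat_lit 0) (nat_lit 63) (Steps.bwd (nat_lit 7) (Steps.bwd (nat_lit 0) (Steps.fwd (nat_lit 14336) (Steps.fwd (nat_lit 0) Steps.nil)))) (nat_lit 56) (nat_lit 0),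
  Rule.mk (nat_lit 6) (nat_lit 37) (Steps.bwd (nat_lit 0) (Steps.bwd (nat_lit 5) Steps.nil)) (nat_lit 56) (nat_lit 0)]
noncomputable def R_11 : List (Rule) := [Rule.mk (nat_lit 0) (nat_lit 50) (Steps.bwd (nat_lit 8) (Steps.bwd (nat_lit 0) (Steps.fwd (nat_lit 16384) Steps.nil))) (nat_lit 56) (nat_lit 0),
  Rule.mk (nat_lit 7) (nat_lit 37) (Steps.bwd (nat_lit 0) (Steps.fwd (nat_lit 14336) Steps.nil)) (nat_lit 56) (nat_lit 0),
  Rule.mk (nat_lit 0) (nat_lit 50) (Steps.fwd (nat_lit 8192) (Steps.fwd (nat_lit 0) (Steps.bwd (nat_lit 4) Steps.nil))) (nat_lit 56) (nat_lit 0),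
  Rule.mk (nat_lit 0) (nat_lit 50) (Steps.fwd (nat_lit 4096) (Steps.fwd (nat_lit 0) (Steps.fwd (nat_lit 4096) Steps.nil))) (nat_lit 56) (nat_lit 0),
  Rule.mk (nat_lit 2) (nat_lit 37) (Steps.bwd (nat_lit 0) (Steps.fwd (nat_lit 4096) Steps.nil)) (nat_lit 56) (nat_lit 0),
  Rule.mk (nat_lit 0) (nat_lit 50) (Steps.bwd (nat_lit 2) (Steps.fwd (nat_lit 0) (Steps.bwd (nat_lit 2) Steps.nil))) (nat_lit 56) (nat_lit 0),
  Rule.mk (nat_lit 7) (nat_lit 37) (Steps.bwd (nat_lit 0) (Steps.bwd (nat_lit 8) Steps.nil)) (nat_lit 56) (nat_lit 0),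
  Rule.mk (nat_lit 2) (nat_lit 115) (Steps.bwd (nat_lit 3) (Steps.bwd (nat_lit 2) (Steps.bwd (nat_lit 1) (Steps.fwd (nat_lit 8192) (Steps.fwd (nat_lit 4096) (Steps.fwd (nat_lit 8192) (Steps.fwd (nat_lit 2048) (Steps.fwd (nat_lit 6144) Steps.nil)))))))) (nat_lit 40) (nat_lit 6),
  Rule.mk (nat_lit 4) (nat_lit 76) (Steps.bwd (nat_lit 3) (Steps.fwd (nat_lit 8192) (Steps.bwd (nat_lit 3) (Steps.bwd (nat_lit 4) (Steps.fwd (nat_lit 6144) Steps.nil))))) (nat_lit 36) (nat_lit 0),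
  Rule.mk (nat_lit 1) (nat_lit 115) (Steps.bwd (nat_lit 3) (Steps.bwd (nat_lit 1) (Steps.fwd (nat_lit 8192) (Steps.fwd (nat_lit 6144) (Steps.bwd (nat_lit 1) (Steps.bwd (nat_lit 3) (Steps.bwd (nat_lit 4) (Steps.fwd (nat_lit 6144) Steps.nil)))))))) (nat_lit 42) (nat_lit 7),
  Rule.mk (nat_lit 2) (nat_lit 115) (Steps.bwd (nat_lit 3) (Steps.fwd (nat_lit 4096) (Steps.bwd (nat_lit 1) (Steps.bwd (nat_lit 4) (Steps.bwd (nat_lit 2) (Steps.bwd (nat_lit 4) (Steps.fwd (nat_lit 2048) (Steps.fwd (nat_lit 6144) Steps.nil)))))))) (nat_lit 40) (nat_lit 6),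
  Rule.mk (nat_lit 1) (nat_lit 115) (Steps.bwd (nat_lit 3) (Steps.fwd (nat_lit 2048) (Steps.fwd (nat_lit 8192) (Steps.bwd (nat_lit 3) (Steps.fwd (nat_lit 2048) (Steps.fwd (nat_lit 6144) (Steps.bwd (nat_lit 4) (Steps.fwd (nat_lit 6144) Steps.nil)))))))) (nat_lit 42) (nat_lit 7),
  Rule.mk (nat_lit 2) (nat_lit 115) (Steps.bwd (nat_lit 3) (Steps.bwd (nat_lit 2) (Steps.bwd (nat_lit 1) (Steps.fwd (nat_lit 8192) (Steps.fwd (nat_lit 4096) (Steps.bwd (nat_lit 4) (Steps.bwd (nat_lit 1) (Steps.fwd (nat_lit 6144) Steps.nil)))))))) (nat_lit 40) (nat_lit 6),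
  Rule.mk (nat_lit 2) (nat_lit 115) (Steps.bwd (nat_lit 3) (Steps.fwd (nat_lit 4096) (Steps.fwd (nat_lit 2048) (Steps.fwd (nat_lit 8192) (Steps.bwd (nat_lit 2) (Steps.fwd (nat_lit 8192) (Steps.fwd (nat_lit 2048) (Steps.fwd (nat_lit 6144) Steps.nil)))))))) (nat_lit 40) (nat_lit 6),
  Rule.mk (nat_lit 1) (nat_lit 115) (Steps.bwd (nat_lit 3) (Steps.bwd (nat_lit 1) (Steps.fwd (nat_lit 8192) (Steps.bwd (nat_lit 3) (Steps.fwd (nat_lit 2048) (Steps.fwd (nat_lit 6144) (Steps.fwd (nat_lit 8192) (Steps.fwd (nat_lit 6144) Steps.nil)))))))) (nat_lit 42) (nat_lit 7),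
  Rule.mk (nat_lit 4) (nat_lit 76) (Steps.bwd (nat_lit 3) (Steps.fwd (nat_lit 8192) (Steps.fwd (nat_lit 6144) (Steps.fwd (nat_lit 8192) (Steps.fwd (nat_lit 6144) Steps.nil))))) (nat_lit 36) (nat_lit 0),
  Rule.mk (nat_lit 3) (nat_lit 76) (Steps.bwd (nat_lit 4) (Steps.bwd (nat_lit 3) (Steps.bwd (nat_lit 4) (Steps.bwd (nat_lit 3) (Steps.fwd (nat_lit 8192) Steps.nil))))) (nat_lit 36) (nat_lit 1),
  Rule.mk (nat_lit 3) (nat_lit 76) (Steps.bwd (nat_lit 4) (Steps.bwd (nat_lit 3) (Steps.fwd (nat_lit 8192) (Steps.bwd (nat_lit 3) (Steps.bwd (nat_lit 4) Steps.nil))))) (nat_lit 36) (nat_lit 1),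
  Rule.mk (nat_lit 1) (nat_lit 115) (Steps.fwd (nat_lit 6144) (Steps.fwd (nat_lit 2048) (Steps.bwd (nat_lit 4) (Steps.fwd (nat_lit 6144) (Steps.bwd (nat_lit 1) (Steps.fwd (nat_lit 6144) (Steps.bwd (nat_lit 4) (Steps.bwd (nat_lit 3) Steps.nil)))))))) (nat_lit 42) (nat_lit 7),
  Rule.mk (nat_lit 3) (nat_lit 76) (Steps.bwd (nat_lit 4) (Steps.fwd (nat_lit 6144) (Steps.fwd (nat_lit 8192) (Steps.bwd (nat_lit 3) (Steps.bwd (nat_lit 4) Steps.nil))))) (nat_lit 36) (nat_lit 1),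
  Rule.mk (nat_lit 4) (nat_lit 50) (Steps.bwd (nat_lit 1) (Steps.bwd (nat_lit 4) (Steps.bwd (nat_lit 1) Steps.nil))) (nat_lit 38) (nat_lit 1),
  Rule.mk (nat_lit 3) (nat_lit 115) (Steps.bwd (nat_lit 1) (Steps.bwd (nat_lit 4) (Steps.fwd (nat_lit 4096) (Steps.fwd (nat_lit 8192) (Steps.bwd (nat_lit 1) (Steps.bwd (nat_lit 2) (Steps.bwd (nat_lit 3) (Steps.fwd (nat_lit 4096) Steps.nil)))))))) (nat_lit 41) (nat_lit 5),
  Rule.mk (nat_lit 1) (nat_lit 115) (Steps.fwd (nat_lit 8192) (Steps.bwd (nat_lit 2) (Steps.fwd (nat_lit 8192) (Steps.fwd (nat_lit 2048) (Steps.fwd (nat_lit 4096) (Steps.bwd (nat_lit 3) (Steps.fwd (nat_lit 4096) (Steps.bwd (nat_lit 3) Steps.nil)))))))) (nat_lit 41) (nat_lit 6),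
  Rule.mk (nat_lit 4) (nat_lit 76) (Steps.bwd (nat_lit 3) (Steps.fwd (nat_lit 8192) (Steps.fwd (nat_lit 6144) (Steps.bwd (nat_lit 4) (Steps.fwd (nat_lit 6144) Steps.nil))))) (nat_lit 36) (nat_lit 0),
  Rule.mk (nat_lit 2) (nat_lit 102) (Steps.bwd (nat_lit 3) (Steps.fwd (nat_lit 4096) (Steps.fwd (nat_lit 6144) (Steps.fwd (nat_lit 4096) (Steps.bwd (nat_lit 3) (Steps.bwd (nat_lit 2) (Steps.fwd (nat_lit 6144) Steps.nil))))))) (nat_lit 12) (nat_lit 1),
  Rule.mk (nat_lit 1) (nat_lit 115) (Steps.bwd (nat_lit 3) (Steps.fwd (nat_lit 4096) (Steps.fwd (nat_lit 6144) (Steps.fwd (nat_lit 4096) (Steps.bwd (nat_lit 1) (Steps.bwd (nat_lit 4) (Steps.bwd (nat_lit 2) (Steps.fwd (nat_lit 8192) Steps.nil)))))))) (nat_lit 40) (nat_lit 4),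
  Rule.mk (nat_lit 4) (nat_lit 193) (Steps.bwd (nat_lit 7) (Steps.fwd (nat_lit 4096) (Steps.bwd (nat_lit 4) (Steps.fwd (nat_lit 16384) (Steps.fwd (nat_lit 4096) (Steps.bwd (nat_lit 4) (Steps.fwd (nat_lit 16384) (Steps.fwd (nat_lit 4096) (Steps.fwd (nat_lit 8192) (Steps.fwd (nat_lit 16384) (Steps.fwd (nat_lit 4096) (Steps.bwd (nat_lit 4) (Steps.bwd (nat_lit 7) (Steps.fwd (nat_lit 4096) Steps.nil)))))))))))))) (nat_lit 46) (nat_lit 2),
  Rule.mk (nat_lit 4) (nat_lit 115) (Steps.bwd (nat_lit 2) (Steps.fwd (nat_lit 8192) (Steps.fwd (nat_lit 2048) (Steps.fwd (nat_lit 4096) (Steps.fwd (nat_lit 6144) (Steps.bwd (nat_lit 2) (Steps.fwd (nat_lit 6144) (Steps.fwd (nat_lit 2048) Steps.nil)))))))) (nat_lit 41) (nat_lit 7),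
  Rule.mk (nat_lit 4) (nat_lit 50) (Steps.fwd (nat_lit 2048) (Steps.bwd (nat_lit 4) (Steps.bwd (nat_lit 1) Steps.nil))) (nat_lit 38) (nat_lit 1),
  Rule.mk (nat_lit 4) (nat_lit 193) (Steps.bwd (nat_lit 7) (Steps.fwd (nat_lit 4096) (Steps.fwd (nat_lit 8192) (Steps.fwd (nat_lit 16384) (Steps.fwd (nat_lit 4096) (Steps.bwd (nat_lit 4) (Steps.fwd (nat_lit 16384) (Steps.bwd (nat_lit 2) (Steps.fwd (nat_lit 8192) (Steps.bwd (nat_lit 7) (Steps.bwd (nat_lit 2) (Steps.fwd (nat_lit 8192) (Steps.bwd (nat_lit 7) (Steps.bwd (nat_lit 2) Steps.nil)))))))))))))) (nat_lit 46) (nat_lit 2),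
  Rule.mk (nat_lit 7) (nat_lit 76) (Steps.bwd (nat_lit 3) (Steps.bwd (nat_lit 7) (Steps.bwd (nat_lit 3) (Steps.fwd (nat_lit 16384) (Steps.fwd (nat_lit 6144) Steps.nil))))) (nat_lit 26) (nat_lit 0),
  Rule.mk (nat_lit 2) (nat_lit 76) (Steps.bwd (nat_lit 3) (Steps.fwd (nat_lit 16384) (Steps.bwd (nat_lit 2) (Steps.fwd (nat_lit 6144) (Steps.bwd (nat_lit 7) Steps.nil))))) (nat_lit 32) (nat_lit 1),
  Rule.mk (nat_lit 8) (nat_lit 76) (Steps.bwd (nat_lit 3) (Steps.fwd (nat_lit 4096) (Steps.bwd (nat_lit 8) (Steps.fwd (nat_lit 6144) (Steps.fwd (nat_lit 4096) Steps.nil))))) (nat_lit 33) (nat_lit 1),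
  Rule.mk (nat_lit 8) (nat_lit 193) (Steps.bwd (nat_lit 4) (Steps.bwd (nat_lit 2) (Steps.bwd (nat_lit 8) (Steps.bwd (nat_lit 4) (Steps.fwd (nat_lit 4096) (Steps.fwd (nat_lit 14336) (Steps.bwd (nat_lit 4) (Steps.bwd (nat_lit 2) (Steps.fwd (nat_lit 14336) (Steps.fwd (nat_lit 8192) (Steps.fwd (nat_lit 4096) (Steps.bwd (nat_lit 8) (Steps.fwd (nat_lit 8192) (Steps.fwd (nat_lit 4096) Steps.nil)))))))))))))) (nat_lit 47) (nat_lit 1),
  Rule.mk (nat_lit 3) (nat_lit 102) (Steps.bwd (nat_lit 2) (Steps.fwd (nat_lit 6144) (Steps.fwd (nat_lit 4096) (Steps.fwd (nat_lit 6144) (Steps.bwd (nat_lit 2) (Steps.bwd (nat_lit 3) (Steps.fwd (nat_lit 4096) Steps.nil))))))) (nat_lit 12) (nat_lit 0),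
  Rule.mk (nat_lit 3) (nat_lit 76) (Steps.bwd (nat_lit 7) (Steps.fwd (nat_lit 4096) (Steps.bwd (nat_lit 3) (Steps.bwd (nat_lit 7) (Steps.bwd (nat_lit 2) Steps.nil))))) (nat_lit 32) (nat_lit 2),
  Rule.mk (nat_lit 3) (nat_lit 102) (Steps.bwd (nat_lit 2) (Steps.fwd (nat_lit 6144) (Steps.fwd (nat_lit 4096) (Steps.fwd (nat_lit 6144) (Steps.bwd (nat_lit 2) (Steps.fwd (nat_lit 6144) (Steps.bwd (nat_lit 2) Steps.nil))))))) (nat_lit 12) (nat_lit 0),
  Rule.mk (nat_lit 2) (nat_lit 76) (Steps.bwd (nat_lit 3) (Steps.bwd (nat_lit 7) (Steps.bwd (nat_lit 2) (Steps.bwd (nat_lit 3) (Steps.bwd (nat_lit 7) Steps.nil))))) (nat_lit 32) (nat_lit 1),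
  Rule.mk (nat_lit 3) (nat_lit 76) (Steps.bwd (nat_lit 7) (Steps.fwd (nat_lit 6144) (Steps.bwd (nat_lit 7) (Steps.bwd (nat_lit 3) (Steps.bwd (nat_lit 7) Steps.nil))))) (nat_lit 26) (nat_lit 1),
  Rule.mk (nat_lit 7) (nat_lit 76) (Steps.bwd (nat_lit 3) (Steps.fwd (nat_lit 16384) (Steps.bwd (nat_lit 3) (Steps.bwd (nat_lit 7) (Steps.bwd (nat_lit 3) Steps.nil))))) (nat_lit 26) (nat_lit 0),
  Rule.mk (nat_lit 2) (nat_lit 76) (Steps.bwd (nat_lit 3) (Steps.fwd (nat_lit 16384) (Steps.fwd (nat_lit 4096) (Steps.fwd (nat_lit 6144) (Steps.bwd (nat_lit 7) Steps.nil))))) (nat_lit 32) (nat_lit 1),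
  Rule.mk (nat_lit 7) (nat_lit 154) (Steps.bwd (nat_lit 3) (Steps.fwd (nat_lit 4096) (Steps.fwd (nat_lit 2048) (Steps.fwd (nat_lit 6144) (Steps.bwd (nat_lit 2) (Steps.fwd (nat_lit 2048) (Steps.bwd (nat_lit 3) (Steps.bwd (nat_lit 1) (Steps.bwd (nat_lit 8) (Steps.bwd (nat_lit 3) (Steps.bwd (nat_lit 1) Steps.nil))))))))))) (nat_lit 29) (nat_lit 6),
  Rule.mk (nat_lit 8) (nat_lit 193) (Steps.bwd (nat_lit 4) (Steps.fwd (nat_lit 4096) (Steps.fwd (nat_lit 14336) (Steps.fwd (nat_lit 8192) (Steps.bwd (nat_lit 2) (Steps.bwd (nat_lit 8) (Steps.bwd (nat_lit 4) (Steps.fwd (nat_lit 4096) (Steps.fwd (nat_lit 14336) (Steps.fwd (nat_lit 8192) (Steps.fwd (nat_lit 4096) (Steps.bwd (nat_lit 8) (Steps.fwd (nat_lit 8192) (Steps.bwd (nat_lit 2) Steps.nil)))))))))))))) (nat_lit 47) (nat_lit 1),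
  Rule.mk (nat_lit 8) (nat_lit 193) (Steps.bwd (nat_lit 4) (Steps.fwd (nat_lit 4096) (Steps.fwd (nat_lit 14336) (Steps.bwd (nat_lit 4) (Steps.fwd (nat_lit 4096) (Steps.fwd (nat_lit 14336) (Steps.bwd (nat_lit 4) (Steps.bwd (nat_lit 2) (Steps.fwd (nat_lit 14336) (Steps.fwd (nat_lit 8192) (Steps.fwd (nat_lit 4096) (Steps.bwd (nat_lit 8) (Steps.bwd (nat_lit 4) (Steps.bwd (nat_lit 2) Steps.nil)))))))))))))) (nat_lit 47) (nat_lit 1),
  Rule.mk (nat_lit 3) (nat_lit 154) (Steps.bwd (nat_lit 1) (Steps.bwd (nat_lit 2) (Steps.fwd (nat_lit 6144) (Steps.fwd (nat_lit 2048) (Steps.fwd (nat_lit 4096) (Steps.bwd (nat_lit 3) (Steps.fwd (nat_lit 14336) (Steps.fwd (nat_lit 2048) (Steps.bwd (nat_lit 3) (Steps.bwd (nat_lit 7) (Steps.bwd (nat_lit 1) Steps.nil))))))))))) (nat_lit 28) (nat_lit 0),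
  Rule.mk (nat_lit 8) (nat_lit 76) (Steps.bwd (nat_lit 3) (Steps.bwd (nat_lit 2) (Steps.bwd (nat_lit 8) (Steps.bwd (nat_lit 3) (Steps.fwd (nat_lit 4096) Steps.nil))))) (nat_lit 33) (nat_lit 1),
  Rule.mk (nat_lit 1) (nat_lit 154) (Steps.bwd (nat_lit 3) (Steps.bwd (nat_lit 2) (Steps.fwd (nat_lit 2048) (Steps.fwd (nat_lit 6144) (Steps.fwd (nat_lit 2048) (Steps.fwd (nat_lit 4096) (Steps.bwd (nat_lit 3) (Steps.fwd (nat_lit 4096) (Steps.fwd (nat_lit 2048) (Steps.fwd (nat_lit 6144) (Steps.fwd (nat_lit 4096) Steps.nil))))))))))) (nat_lit 15) (nat_lit 9),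
  Rule.mk (nat_lit 3) (nat_lit 76) (Steps.fwd (nat_lit 4096) (Steps.bwd (nat_lit 8) (Steps.bwd (nat_lit 3) (Steps.fwd (nat_lit 4096) (Steps.bwd (nat_lit 8) Steps.nil))))) (nat_lit 33) (nat_lit 2),
  Rule.mk (nat_lit 7) (nat_lit 154) (Steps.bwd (nat_lit 3) (Steps.fwd (nat_lit 4096) (Steps.fwd (nat_lit 2048) (Steps.bwd (nat_lit 3) (Steps.fwd (nat_lit 4096) (Steps.bwd (nat_lit 1) (Steps.fwd (nat_lit 6144) (Steps.fwd (nat_lit 2048) (Steps.bwd (nat_lit 8) (Steps.fwd (nat_lit 6144) (Steps.fwd (nat_lit 2048) Steps.nil))))))))))) (nat_lit 29) (nat_lit 6),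
  Rule.mk (nat_lit 3) (nat_lit 76) (Steps.bwd (nat_lit 7) (Steps.fwd (nat_lit 4096) (Steps.bwd (nat_lit 3) (Steps.bwd (nat_lit 7) (Steps.fwd (nat_lit 4096) Steps.nil))))) (nat_lit 32) (nat_lit 2),
  Rule.mk (nat_lit 7) (nat_lit 76) (Steps.bwd (nat_lit 3) (Steps.fwd (nat_lit 16384) (Steps.fwd (nat_lit 6144) (Steps.fwd (nat_lit 16384) (Steps.fwd (nat_lit 6144) Steps.nil))))) (nat_lit 26) (nat_lit 0),
  Rule.mk (nat_lit 3) (nat_lit 102) (Steps.fwd (nat_lit 2048) (Steps.bwd (nat_lit 3) (Steps.bwd (nat_lit 1) (Steps.fwd (nat_lit 6144) (Steps.bwd (nat_lit 1) (Steps.bwd (nat_lit 3) (Steps.bwd (nat_lit 1) Steps.nil))))))) (nat_lit 10) (nat_lit 0),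
  Rule.mk (nat_lit 8) (nat_lit 76) (Steps.bwd (nat_lit 3) (Steps.bwd (nat_lit 8) (Steps.fwd (nat_lit 6144) (Steps.bwd (nat_lit 8) (Steps.fwd (nat_lit 6144) Steps.nil))))) (nat_lit 27) (nat_lit 1),
  Rule.mk (nat_lit 1) (nat_lit 154) (Steps.bwd (nat_lit 3) (Steps.bwd (nat_lit 1) (Steps.fwd (nat_lit 4096) (Steps.fwd (nat_lit 6144) (Steps.fwd (nat_lit 2048) (Steps.fwd (nat_lit 4096) (Steps.bwd (nat_lit 3) (Steps.bwd (nat_lit 1) (Steps.bwd (nat_lit 2) (Steps.fwd (nat_lit 6144) (Steps.bwd (nat_lit 2) Steps.nil))))))))))) (nat_lit 14) (nat_lit 11),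
  Rule.mk (nat_lit 3) (nat_lit 76) (Steps.bwd (nat_lit 2) (Steps.bwd (nat_lit 8) (Steps.fwd (nat_lit 6144) (Steps.bwd (nat_lit 2) (Steps.bwd (nat_lit 8) Steps.nil))))) (nat_lit 33) (nat_lit 2),
  Rule.mk (nat_lit 7) (nat_lit 154) (Steps.bwd (nat_lit 3) (Steps.fwd (nat_lit 4096) (Steps.fwd (nat_lit 2048) (Steps.bwd (nat_lit 3) (Steps.fwd (nat_lit 4096) (Steps.bwd (nat_lit 1) (Steps.bwd (nat_lit 3) (Steps.fwd (nat_lit 2048) (Steps.bwd (nat_lit 8) (Steps.fwd (nat_lit 6144) (Steps.bwd (nat_lit 1) Steps.nil))))))))))) (nat_lit 29) (nat_lit 6),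
  Rule.mk (nat_lit 3) (nat_lit 76) (Steps.bwd (nat_lit 7) (Steps.fwd (nat_lit 4096) (Steps.bwd (nat_lit 3) (Steps.fwd (nat_lit 16384) (Steps.bwd (nat_lit 2) Steps.nil))))) (nat_lit 32) (nat_lit 2),
  Rule.mk (nat_lit 3) (nat_lit 102) (Steps.bwd (nat_lit 1) (Steps.bwd (nat_lit 3) (Steps.fwd (nat_lit 2048) (Steps.fwd (nat_lit 6144) (Steps.fwd (nat_lit 2048) (Steps.fwd (nat_lit 6144) (Steps.fwd (nat_lit 2048) Steps.nil))))))) (nat_lit 10) (nat_lit 0),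
  Rule.mk (nat_lit 7) (nat_lit 76) (Steps.bwd (nat_lit 2) (Steps.fwd (nat_lit 6144) (Steps.fwd (nat_lit 16384) (Steps.fwd (nat_lit 4096) (Steps.fwd (nat_lit 6144) Steps.nil))))) (nat_lit 32) (nat_lit 0),
  Rule.mk (nat_lit 3) (nat_lit 76) (Steps.bwd (nat_lit 2) (Steps.bwd (nat_lit 8) (Steps.fwd (nat_lit 6144) (Steps.bwd (nat_lit 2) (Steps.fwd (nat_lit 14336) Steps.nil))))) (nat_lit 33) (nat_lit 2),
  Rule.mk (nat_lit 4) (nat_lit 115) (Steps.bwd (nat_lit 2) (Steps.fwd (nat_lit 8192) (Steps.bwd (nat_lit 1) (Steps.bwd (nat_lit 3) (Steps.bwd (nat_lit 2) (Steps.fwd (nat_lit 6144) (Steps.bwd (nat_lit 2) (Steps.fwd (nat_lit 2048) Steps.nil)))))))) (nat_lit 40) (nat_lit 1),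
  Rule.mk (nat_lit 2) (nat_lit 154) (Steps.bwd (nat_lit 1) (Steps.bwd (nat_lit 3) (Steps.fwd (nat_lit 2048) (Steps.bwd (nat_lit 2) (Steps.bwd (nat_lit 3) (Steps.fwd (nat_lit 2048) (Steps.bwd (nat_lit 2) (Steps.fwd (nat_lit 6144) (Steps.fwd (nat_lit 2048) (Steps.bwd (nat_lit 2) (Steps.bwd (nat_lit 3) Steps.nil))))))))))) (nat_lit 14) (nat_lit 10),
  Rule.mk (nat_lit 3) (nat_lit 76) (Steps.bwd (nat_lit 8) (Steps.fwd (nat_lit 6144) (Steps.fwd (nat_lit 14336) (Steps.bwd (nat_lit 3) (Steps.bwd (nat_lit 8) Steps.nil))))) (nat_lit 27) (nat_lit 0),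
  Rule.mk (nat_lit 3) (nat_lit 76) (Steps.bwd (nat_lit 8) (Steps.bwd (nat_lit 3) (Steps.fwd (nat_lit 14336) (Steps.bwd (nat_lit 3) (Steps.fwd (nat_lit 14336) Steps.nil))))) (nat_lit 27) (nat_lit 0)]
noncomputable def R_12 : List (Rule) := [Rule.mk (nat_lit 1) (nat_lit 154) (Steps.bwd (nat_lit 2) (Steps.bwd (nat_lit 3) (Steps.bwd (nat_lit 2) (Steps.bwd (nat_lit 1) (Steps.bwd (nat_lit 3) (Steps.bwd (nat_lit 1) (Steps.fwd (nat_lit 4096) (Steps.bwd (nat_lit 3) (Steps.bwd (nat_lit 1) (Steps.bwd (nat_lit 2) (Steps.bwd (nat_lit 3) Steps.nil))))))))))) (nat_lit 14) (nat_lit 7),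
  Rule.mk (nat_lit 3) (nat_lit 102) (Steps.bwd (nat_lit 1) (Steps.fwd (nat_lit 6144) (Steps.fwd (nat_lit 2048) (Steps.bwd (nat_lit 3) (Steps.bwd (nat_lit 1) (Steps.bwd (nat_lit 3) (Steps.bwd (nat_lit 1) Steps.nil))))))) (nat_lit 10) (nat_lit 0),
  Rule.mk (nat_lit 1) (nat_lit 154) (Steps.bwd (nat_lit 2) (Steps.fwd (nat_lit 6144) (Steps.fwd (nat_lit 4096) (Steps.bwd (nat_lit 1) (Steps.bwd (nat_lit 3) (Steps.bwd (nat_lit 1) (Steps.fwd (nat_lit 4096) (Steps.fwd (nat_lit 6144) (Steps.fwd (nat_lit 2048) (Steps.bwd (nat_lit 2) (Steps.fwd (nat_lit 6144) Steps.nil))))))))))) (nat_lit 14) (nat_lit 7),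
  Rule.mk (nat_lit 4) (nat_lit 193) (Steps.bwd (nat_lit 7) (Steps.fwd (nat_lit 4096) (Steps.bwd (nat_lit 4) (Steps.fwd (nat_lit 16384) (Steps.fwd (nat_lit 4096) (Steps.bwd (nat_lit 4) (Steps.bwd (nat_lit 7) (Steps.fwd (nat_lit 4096) (Steps.fwd (nat_lit 8192) (Steps.bwd (nat_lit 7) (Steps.bwd (nat_lit 2) (Steps.fwd (nat_lit 8192) (Steps.fwd (nat_lit 16384) (Steps.fwd (nat_lit 4096) Steps.nil)))))))))))))) (nat_lit 46) (nat_lit 2),
  Rule.mk (nat_lit 4) (nat_lit 193) (Steps.bwd (nat_lit 2) (Steps.bwd (nat_lit 8) (Steps.bwd (nat_lit 4) (Steps.bwd (nat_lit 2) (Steps.bwd (nat_lit 8) (Steps.bwd (nat_lit 4) (Steps.fwd (nat_lit 4096) (Steps.fwd (nat_lit 14336) (Steps.fwd (nat_lit 8192) (Steps.bwd (nat_lit 2) (Steps.fwd (nat_lit 14336) (Steps.bwd (nat_lit 4) (Steps.fwd (nat_lit 4096) (Steps.bwd (nat_lit 8) Steps.nil)))))))))))))) (nat_lit 47) (nat_lit 2),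
  Rule.mk (nat_lit 5) (nat_lit 154) (Steps.bwd (nat_lit 3) (Steps.bwd (nat_lit 2) (Steps.bwd (nat_lit 6) (Steps.bwd (nat_lit 3) (Steps.fwd (nat_lit 4096) (Steps.bwd (nat_lit 1) (Steps.fwd (nat_lit 6144) (Steps.bwd (nat_lit 2) (Steps.fwd (nat_lit 2048) (Steps.fwd (nat_lit 6144) (Steps.fwd (nat_lit 4096) Steps.nil))))))))))) (nat_lit 21) (nat_lit 3),
  Rule.mk (nat_lit 5) (nat_lit 154) (Steps.bwd (nat_lit 3) (Steps.bwd (nat_lit 2) (Steps.fwd (nat_lit 10240) (Steps.bwd (nat_lit 3) (Steps.fwd (nat_lit 4096) (Steps.bwd (nat_lit 1) (Steps.fwd (nat_lit 6144) (Steps.fwd (nat_lit 4096) (Steps.fwd (nat_lit 2048) (Steps.bwd (nat_lit 3) (Steps.bwd (nat_lit 2) Steps.nil))))))))))) (nat_lit 21) (nat_lit 3),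
  Rule.mk (nat_lit 4) (nat_lit 193) (Steps.bwd (nat_lit 2) (Steps.bwd (nat_lit 8) (Steps.bwd (nat_lit 4) (Steps.fwd (nat_lit 4096) (Steps.fwd (nat_lit 14336) (Steps.bwd (nat_lit 4) (Steps.fwd (nat_lit 4096) (Steps.bwd (nat_lit 8) (Steps.fwd (nat_lit 8192) (Steps.fwd (nat_lit 4096) (Steps.fwd (nat_lit 14336) (Steps.fwd (nat_lit 8192) (Steps.bwd (nat_lit 2) (Steps.bwd (nat_lit 8) Steps.nil)))))))))))))) (nat_lit 47) (nat_lit 2),
  Rule.mk (nat_lit 1) (nat_lit 102) (Steps.bwd (nat_lit 3) (Steps.bwd (nat_lit 1) (Steps.bwd (nat_lit 3) (Steps.fwd (nat_lit 2048) (Steps.fwd (nat_lit 6144) (Steps.fwd (nat_lit 2048) (Steps.fwd (nat_lit 6144) Steps.nil))))))) (nat_lit 10) (nat_lit 1),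
  Rule.mk (nat_lit 2) (nat_lit 115) (Steps.bwd (nat_lit 3) (Steps.fwd (nat_lit 4096) (Steps.fwd (nat_lit 2048) (Steps.fwd (nat_lit 8192) (Steps.bwd (nat_lit 2) (Steps.bwd (nat_lit 4) (Steps.bwd (nat_lit 1) (Steps.fwd (nat_lit 6144) Steps.nil)))))))) (nat_lit 40) (nat_lit 6),
  Rule.mk (nat_lit 3) (nat_lit 76) (Steps.fwd (nat_lit 14336) (Steps.fwd (nat_lit 6144) (Steps.fwd (nat_lit 14336) (Steps.fwd (nat_lit 6144) (Steps.bwd (nat_lit 8) Steps.nil))))) (nat_lit 27) (nat_lit 0),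
  Rule.mk (nat_lit 1) (nat_lit 102) (Steps.bwd (nat_lit 3) (Steps.fwd (nat_lit 2048) (Steps.bwd (nat_lit 3) (Steps.fwd (nat_lit 2048) (Steps.bwd (nat_lit 3) (Steps.bwd (nat_lit 1) (Steps.fwd (nat_lit 6144) Steps.nil))))))) (nat_lit 10) (nat_lit 1),
  Rule.mk (nat_lit 3) (nat_lit 115) (Steps.bwd (nat_lit 2) (Steps.bwd (nat_lit 3) (Steps.bwd (nat_lit 2) (Steps.fwd (nat_lit 2048) (Steps.bwd (nat_lit 4) (Steps.bwd (nat_lit 2) (Steps.fwd (nat_lit 8192) (Steps.bwd (nat_lit 1) Steps.nil)))))))) (nat_lit 40) (nat_lit 5),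
  Rule.mk (nat_lit 1) (nat_lit 154) (Steps.bwd (nat_lit 2) (Steps.bwd (nat_lit 3) (Steps.bwd (nat_lit 2) (Steps.fwd (nat_lit 2048) (Steps.fwd (nat_lit 6144) (Steps.bwd (nat_lit 1) (Steps.fwd (nat_lit 4096) (Steps.bwd (nat_lit 3) (Steps.bwd (nat_lit 1) (Steps.bwd (nat_lit 2) (Steps.bwd (nat_lit 3) Steps.nil))))))))))) (nat_lit 14) (nat_lit 7),
  Rule.mk (nat_lit 4) (nat_lit 115) (Steps.fwd (nat_lit 6144) (Steps.fwd (nat_lit 2048) (Steps.bwd (nat_lit 3) (Steps.fwd (nat_lit 8192) (Steps.fwd (nat_lit 6144) (Steps.bwd (nat_lit 1) (Steps.bwd (nat_lit 3) (Steps.fwd (nat_lit 2048) Steps.nil)))))))) (nat_lit 42) (nat_lit 1),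
  Rule.mk (nat_lit 3) (nat_lit 76) (Steps.bwd (nat_lit 7) (Steps.fwd (nat_lit 6144) (Steps.bwd (nat_lit 7) (Steps.bwd (nat_lit 3) (Steps.fwd (nat_lit 16384) Steps.nil))))) (nat_lit 26) (nat_lit 1),
  Rule.mk (nat_lit 3) (nat_lit 102) (Steps.bwd (nat_lit 1) (Steps.bwd (nat_lit 3) (Steps.bwd (nat_lit 1) (Steps.bwd (nat_lit 3) (Steps.bwd (nat_lit 1) (Steps.bwd (nat_lit 3) (Steps.fwd (nat_lit 2048) Steps.nil))))))) (nat_lit 10) (nat_lit 0),
  Rule.mk (nat_lit 4) (nat_lit 115) (Steps.bwd (nat_lit 1) (Steps.bwd (nat_lit 3) (Steps.fwd (nat_lit 4096) (Steps.bwd (nat_lit 3) (Steps.fwd (nat_lit 4096) (Steps.fwd (nat_lit 2048) (Steps.bwd (nat_lit 4) (Steps.bwd (nat_lit 2) Steps.nil)))))))) (nat_lit 40) (nat_lit 3),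
  Rule.mk (nat_lit 4) (nat_lit 115) (Steps.bwd (nat_lit 2) (Steps.bwd (nat_lit 4) (Steps.bwd (nat_lit 1) (Steps.bwd (nat_lit 2) (Steps.fwd (nat_lit 6144) (Steps.bwd (nat_lit 2) (Steps.bwd (nat_lit 3) (Steps.bwd (nat_lit 1) Steps.nil)))))))) (nat_lit 41) (nat_lit 7),
  Rule.mk (nat_lit 3) (nat_lit 154) (Steps.bwd (nat_lit 6) (Steps.fwd (nat_lit 4096) (Steps.fwd (nat_lit 6144) (Steps.fwd (nat_lit 2048) (Steps.bwd (nat_lit 2) (Steps.fwd (nat_lit 6144) (Steps.fwd (nat_lit 2048) (Steps.fwd (nat_lit 4096) (Steps.bwd (nat_lit 3) (Steps.bwd (nat_lit 5) (Steps.fwd (nat_lit 4096) Steps.nil))))))))))) (nat_lit 20) (nat_lit 9),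
  Rule.mk (nat_lit 3) (nat_lit 154) (Steps.bwd (nat_lit 2) (Steps.bwd (nat_lit 6) (Steps.bwd (nat_lit 3) (Steps.bwd (nat_lit 2) (Steps.fwd (nat_lit 2048) (Steps.fwd (nat_lit 6144) (Steps.bwd (nat_lit 2) (Steps.bwd (nat_lit 1) (Steps.bwd (nat_lit 3) (Steps.fwd (nat_lit 4096) (Steps.bwd (nat_lit 5) Steps.nil))))))))))) (nat_lit 21) (nat_lit 4),
  Rule.mk (nat_lit 3) (nat_lit 115) (Steps.bwd (nat_lit 1) (Steps.fwd (nat_lit 6144) (Steps.bwd (nat_lit 6) (Steps.fwd (nat_lit 6144) (Steps.fwd (nat_lit 4096) (Steps.fwd (nat_lit 2048) (Steps.bwd (nat_lit 2) (Steps.bwd (nat_lit 6) Steps.nil)))))))) (nat_lit 19) (nat_lit 3),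
  Rule.mk (nat_lit 1) (nat_lit 115) (Steps.bwd (nat_lit 2) (Steps.bwd (nat_lit 6) (Steps.bwd (nat_lit 3) (Steps.fwd (nat_lit 2048) (Steps.fwd (nat_lit 6144) (Steps.bwd (nat_lit 6) (Steps.fwd (nat_lit 6144) (Steps.fwd (nat_lit 4096) Steps.nil)))))))) (nat_lit 19) (nat_lit 0),
  Rule.mk (nat_lit 1) (nat_lit 115) (Steps.bwd (nat_lit 3) (Steps.fwd (nat_lit 12288) (Steps.fwd (nat_lit 4096) (Steps.bwd (nat_lit 1) (Steps.fwd (nat_lit 4096) (Steps.fwd (nat_lit 6144) (Steps.fwd (nat_lit 12288) (Steps.fwd (nat_lit 6144) Steps.nil)))))))) (nat_lit 18) (nat_lit 6),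
  Rule.mk (nat_lit 6) (nat_lit 115) (Steps.bwd (nat_lit 3) (Steps.fwd (nat_lit 2048) (Steps.fwd (nat_lit 6144) (Steps.fwd (nat_lit 10240) (Steps.fwd (nat_lit 6144) (Steps.bwd (nat_lit 2) (Steps.fwd (nat_lit 2048) (Steps.fwd (nat_lit 4096) Steps.nil)))))))) (nat_lit 19) (nat_lit 2),
  Rule.mk (nat_lit 3) (nat_lit 154) (Steps.bwd (nat_lit 6) (Steps.bwd (nat_lit 2) (Steps.bwd (nat_lit 3) (Steps.fwd (nat_lit 2048) (Steps.fwd (nat_lit 4096) (Steps.bwd (nat_lit 3) (Steps.bwd (nat_lit 1) (Steps.fwd (nat_lit 4096) (Steps.fwd (nat_lit 6144) (Steps.bwd (nat_lit 5) (Steps.fwd (nat_lit 4096) Steps.nil))))))))))) (nat_lit 20) (nat_lit 9),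
  Rule.mk (nat_lit 5) (nat_lit 154) (Steps.bwd (nat_lit 3) (Steps.fwd (nat_lit 4096) (Steps.bwd (nat_lit 6) (Steps.fwd (nat_lit 6144) (Steps.fwd (nat_lit 4096) (Steps.bwd (nat_lit 1) (Steps.bwd (nat_lit 3) (Steps.fwd (nat_lit 4096) (Steps.fwd (nat_lit 2048) (Steps.bwd (nat_lit 3) (Steps.fwd (nat_lit 4096) Steps.nil))))))))))) (nat_lit 21) (nat_lit 3),
  Rule.mk (nat_lit 5) (nat_lit 154) (Steps.bwd (nat_lit 3) (Steps.bwd (nat_lit 2) (Steps.bwd (nat_lit 6) (Steps.fwd (nat_lit 6144) (Steps.fwd (nat_lit 4096) (Steps.fwd (nat_lit 2048) (Steps.fwd (nat_lit 6144) (Steps.bwd (nat_lit 2) (Steps.fwd (nat_lit 2048) (Steps.fwd (nat_lit 6144) (Steps.bwd (nat_lit 2) Steps.nil))))))))))) (nat_lit 21) (nat_lit 3),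
  Rule.mk (nat_lit 3) (nat_lit 154) (Steps.bwd (nat_lit 6) (Steps.fwd (nat_lit 4096) (Steps.fwd (nat_lit 6144) (Steps.bwd (nat_lit 1) (Steps.fwd (nat_lit 4096) (Steps.bwd (nat_lit 3) (Steps.fwd (nat_lit 2048) (Steps.bwd (nat_lit 2) (Steps.fwd (nat_lit 6144) (Steps.bwd (nat_lit 5) (Steps.fwd (nat_lit 4096) Steps.nil))))))))))) (nat_lit 20) (nat_lit 9),
  Rule.mk (nat_lit 1) (nat_lit 115) (Steps.bwd (nat_lit 2) (Steps.bwd (nat_lit 6) (Steps.bwd (nat_lit 3) (Steps.bwd (nat_lit 1) (Steps.fwd (nat_lit 6144) (Steps.fwd (nat_lit 10240) (Steps.bwd (nat_lit 3) (Steps.bwd (nat_lit 2) Steps.nil)))))))) (nat_lit 19) (nat_lit 0),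
  Rule.mk (nat_lit 1) (nat_lit 115) (Steps.bwd (nat_lit 3) (Steps.fwd (nat_lit 12288) (Steps.fwd (nat_lit 4096) (Steps.bwd (nat_lit 1) (Steps.bwd (nat_lit 2) (Steps.bwd (nat_lit 3) (Steps.bwd (nat_lit 5) (Steps.fwd (nat_lit 6144) Steps.nil)))))))) (nat_lit 18) (nat_lit 6),
  Rule.mk (nat_lit 2) (nat_lit 76) (Steps.bwd (nat_lit 3) (Steps.fwd (nat_lit 16384) (Steps.fwd (nat_lit 4096) (Steps.fwd (nat_lit 6144) (Steps.fwd (nat_lit 16384) Steps.nil))))) (nat_lit 32) (nat_lit 1),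
  Rule.mk (nat_lit 1) (nat_lit 115) (Steps.bwd (nat_lit 2) (Steps.fwd (nat_lit 6144) (Steps.fwd (nat_lit 12288) (Steps.bwd (nat_lit 3) (Steps.bwd (nat_lit 1) (Steps.bwd (nat_lit 3) (Steps.bwd (nat_lit 5) (Steps.bwd (nat_lit 2) Steps.nil)))))))) (nat_lit 18) (nat_lit 1),
  Rule.mk (nat_lit 7) (nat_lit 50) (Steps.fwd (nat_lit 2048) (Steps.fwd (nat_lit 14336) (Steps.bwd (nat_lit 1) Steps.nil))) (nat_lit 22) (nat_lit 2),
  Rule.mk (nat_lit 6) (nat_lit 115) (Steps.bwd (nat_lit 3) (Steps.bwd (nat_lit 2) (Steps.fwd (nat_lit 2048) (Steps.bwd (nat_lit 2) (Steps.fwd (nat_lit 10240) (Steps.fwd (nat_lit 6144) (Steps.bwd (nat_lit 1) (Steps.bwd (nat_lit 3) Steps.nil)))))))) (nat_lit 19) (nat_lit 6),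
  Rule.mk (nat_lit 5) (nat_lit 50) (Steps.fwd (nat_lit 16384) (Steps.bwd (nat_lit 6) (Steps.bwd (nat_lit 8) Steps.nil))) (nat_lit 31) (nat_lit 1),
  Rule.mk (nat_lit 1) (nat_lit 115) (Steps.bwd (nat_lit 2) (Steps.fwd (nat_lit 10240) (Steps.fwd (nat_lit 6144) (Steps.fwd (nat_lit 2048) (Steps.bwd (nat_lit 3) (Steps.fwd (nat_lit 10240) (Steps.bwd (nat_lit 3) (Steps.bwd (nat_lit 2) Steps.nil)))))))) (nat_lit 19) (nat_lit 0),
  Rule.mk (nat_lit 5) (nat_lit 115) (Steps.fwd (nat_lit 6144) (Steps.fwd (nat_lit 2048) (Steps.bwd (nat_lit 3) (Steps.fwd (nat_lit 12288) (Steps.fwd (nat_lit 4096) (Steps.bwd (nat_lit 1) (Steps.bwd (nat_lit 2) (Steps.bwd (nat_lit 3) Steps.nil)))))))) (nat_lit 18) (nat_lit 4),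
  Rule.mk (nat_lit 6) (nat_lit 50) (Steps.fwd (nat_lit 16384) (Steps.bwd (nat_lit 5) (Steps.fwd (nat_lit 14336) Steps.nil))) (nat_lit 30) (nat_lit 0),
  Rule.mk (nat_lit 3) (nat_lit 362) (Steps.bwd (nat_lit 5) (Steps.bwd (nat_lit 3) (Steps.bwd (nat_lit 4) (Steps.bwd (nat_lit 8) (Steps.bwd (nat_lit 4) (Steps.fwd (nat_lit 6144) (Steps.bwd (nat_lit 6) (Steps.fwd (nat_lit 6144) (Steps.fwd (nat_lit 10240) (Steps.bwd (nat_lit 4) (Steps.bwd (nat_lit 7) (Steps.fwd (nat_lit 8192) (Steps.bwd (nat_lit 5) (Steps.fwd (nat_lit 6144) (Steps.bwd (nat_lit 5) (Steps.fwd (nat_lit 6144) (Steps.fwd (nat_lit 8192) (Steps.fwd (nat_lit 16384) (Steps.fwd (nat_lit 8192) (Steps.fwd (nat_lit 6144) (Steps.fwd (nat_lit 10240) (Steps.fwd (nat_lit 6144) (Steps.fwd (nat_lit 10240) (Steps.fwd (nat_lit 8192) (Steps.bwd (nat_lit 8) (Steps.fwd (nat_lit 8192) (Steps.bwd (nat_lit 5) Steps.nil))))))))))))))))))))))))))) (nat_lit 54)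 (nat_lit 18),
  Rule.mk (nat_lit 0) (nat_lit 128) (Steps.bwd (nat_lit 5) (Steps.bwd (nat_lit 2) (Steps.bwd (nat_lit 1) (Steps.bwd (nat_lit 2) (Steps.bwd (nat_lit 3) (Steps.bwd (nat_lit 5) (Steps.bwd (nat_lit 3) (Steps.bwd (nat_lit 1) (Steps.bwd (nat_lit 3) Steps.nil))))))))) (nat_lit 18) (nat_lit 7),
  Rule.mk (nat_lit 0) (nat_lit 50) (Steps.bwd (nat_lit 5) (Steps.bwd (nat_lit 0) (Steps.bwd (nat_lit 6) Steps.nil))) (nat_lit 56) (nat_lit 0),
  Rule.mk (nat_lit 0) (nat_lit 50) (Steps.fwd (nat_lit 6144) (Steps.bwd (nat_lit 0) (Steps.bwd (nat_lit 3) Steps.nil))) (nat_lit 56) (nat_lit 0),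
  Rule.mk (nat_lit 0) (nat_lit 50) (Steps.bwd (nat_lit 7) (Steps.bwd (nat_lit 0) (Steps.bwd (nat_lit 8) Steps.nil))) (nat_lit 56) (nat_lit 0),
  Rule.mk (nat_lit 0) (nat_lit 50) (Steps.bwd (nat_lit 1) (Steps.bwd (nat_lit 0) (Steps.fwd (nat_lit 2048) Steps.nil))) (nat_lit 56) (nat_lit 0),
  Rule.mk (nat_lit 0) (nat_lit 50) (Steps.fwd (nat_lit 10240) (Steps.bwd (nat_lit 0) (Steps.fwd (nat_lit 12288) Steps.nil))) (nat_lit 56) (nat_lit 0),
  Rule.mk (nat_lit 0) (nat_lit 50) (Steps.bwd (nat_lit 6) (Steps.bwd (nat_lit 0) (Steps.fwd (nat_lit 12288) Steps.nil))) (nat_lit 56) (nat_lit 0),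
  Rule.mk (nat_lit 0) (nat_lit 50) (Steps.fwd (nat_lit 10240) (Steps.bwd (nat_lit 0) (Steps.bwd (nat_lit 5) Steps.nil))) (nat_lit 56) (nat_lit 0),
  Rule.mk (nat_lit 5) (nat_lit 50) (Steps.bwd (nat_lit 0) (Steps.bwd (nat_lit 6) (Steps.fwd (nat_lit 0) Steps.nil))) (nat_lit 56) (nat_lit 0),
  Rule.mk (nat_lit 5) (nat_lit 50) (Steps.bwd (nat_lit 0) (Steps.fwd (nat_lit 10240) (Steps.fwd (nat_lit 0) Steps.nil))) (nat_lit 56) (nat_lit 0),
  Rule.mk (nat_lit 6) (nat_lit 50) (Steps.bwd (nat_lit 0) (Steps.bwd (nat_lit 5) (Steps.fwd (nat_lit 0) Steps.nil))) (nat_lit 56) (nat_lit 0),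
  Rule.mk (nat_lit 4) (nat_lit 115) (Steps.bwd (nat_lit 3) (Steps.fwd (nat_lit 2048) (Steps.bwd (nat_lit 3) (Steps.fwd (nat_lit 2048) (Steps.fwd (nat_lit 8192) (Steps.bwd (nat_lit 3) (Steps.bwd (nat_lit 1) (Steps.fwd (nat_lit 6144) Steps.nil)))))))) (nat_lit 42) (nat_lit 5),
  Rule.mk (nat_lit 6) (nat_lit 362) (Steps.fwd (nat_lit 8192) (Steps.fwd (nat_lit 16384) (Steps.bwd (nat_lit 4) (Steps.fwd (nat_lit 12288) (Steps.fwd (nat_lit 6144) (Steps.fwd (nat_lit 12288) (Steps.bwd (nat_lit 3) (Steps.bwd (nat_lit 4) (Steps.bwd (nat_lit 8) (Steps.fwd (nat_lit 8192) (Steps.fwd (nat_lit 6144) (Steps.fwd (nat_lit 10240) (Steps.fwd (nat_lit 6144) (Steps.fwd (nat_lit 10240) (Steps.fwd (nat_lit 8192) (Steps.bwd (nat_lit 8) (Steps.fwd (nat_lit 8192) (Steps.bwd (nat_lit 5) (Steps.fwd (nat_lit 6144) (Steps.bwd (nat_lit 5) (Steps.bwd (nat_lit 3) (Steps.bwd (nat_lit 4) (Steps.fwd (nat_lit 16384) (Steps.bwd (nat_lit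 4) (Steps.fwd (nat_lit 6144) (Steps.fwd (nat_lit 10240) (Steps.fwd (nat_lit 6144) Steps.nil))))))))))))))))))))))))))) (nat_lit 55) (nat_lit 12),
  Rule.mk (nat_lit 6) (nat_lit 115) (Steps.bwd (nat_lit 3) (Steps.bwd (nat_lit 2) (Steps.fwd (nat_lit 2048) (Steps.bwd (nat_lit 2) (Steps.fwd (nat_lit 10240) (Steps.bwd (nat_lit 3) (Steps.fwd (nat_lit 2048) (Steps.fwd (nat_lit 6144) Steps.nil)))))))) (nat_lit 19) (nat_lit 6),
  Rule.mk (nat_lit 5) (nat_lit 154) (Steps.fwd (nat_lit 6144) (Steps.bwd (nat_lit 2) (Steps.bwd (nat_lit 6) (Steps.bwd (nat_lit 3) (Steps.bwd (nat_lit 2) (Steps.fwd (nat_lit 2048) (Steps.bwd (nat_lit 3) (Steps.bwd (nat_lit 2) (Steps.bwd (nat_lit 1) (Steps.fwd (nat_lit 6144) (Steps.bwd (nat_lit 2) Steps.nil))))))))))) (nat_lit 21) (nat_lit 3),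
  Rule.mk (nat_lit 3) (nat_lit 115) (Steps.fwd (nat_lit 2048) (Steps.fwd (nat_lit 6144) (Steps.bwd (nat_lit 5) (Steps.fwd (nat_lit 4096) (Steps.fwd (nat_lit 2048) (Steps.fwd (nat_lit 4096) (Steps.fwd (nat_lit 6144) (Steps.fwd (nat_lit 12288) Steps.nil)))))))) (nat_lit 18) (nat_lit 5),
  Rule.mk (nat_lit 5) (nat_lit 115) (Steps.fwd (nat_lit 4096) (Steps.fwd (nat_lit 2048) (Steps.fwd (nat_lit 4096) (Steps.fwd (nat_lit 6144) (Steps.bwd (nat_lit 5) (Steps.fwd (nat_lit 6144) (Steps.fwd (nat_lit 2048) (Steps.bwd (nat_lit 3) Steps.nil)))))))) (nat_lit 18) (nat_lit 8),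
  Rule.mk (nat_lit 5) (nat_lit 128) (Steps.fwd (nat_lit 8192) (Steps.bwd (nat_lit 5) (Steps.bwd (nat_lit 4) (Steps.bwd (nat_lit 5) (Steps.bwd (nat_lit 4) (Steps.bwd (nat_lit 5) (Steps.fwd (nat_lit 8192) (Steps.bwd (nat_lit 5) (Steps.bwd (nat_lit 4) Steps.nil))))))))) (nat_lit 50) (nat_lit 0),
  Rule.mk (nat_lit 6) (nat_lit 50) (Steps.fwd (nat_lit 4096) (Steps.bwd (nat_lit 5) (Steps.fwd (nat_lit 4096) Steps.nil))) (nat_lit 16) (nat_lit 0),
  Rule.mk (nat_lit 5) (nat_lit 154) (Steps.fwd (nat_lit 6144) (Steps.bwd (nat_lit 2) (Steps.bwd (nat_lit 6) (Steps.bwd (nat_lit 3) (Steps.bwd (nat_lit 2) (Steps.fwd (nat_lit 2048) (Steps.fwd (nat_lit 6144) (Steps.bwd (nat_lit 2) (Steps.fwd (nat_lit 2048) (Steps.bwd (nat_lit 3) (Steps.bwd (nat_lit 2) Steps.nil))))))))))) (nat_lit 21) (nat_lit 3),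
  Rule.mk (nat_lit 6) (nat_lit 154) (Steps.bwd (nat_lit 2) (Steps.fwd (nat_lit 6144) (Steps.bwd (nat_lit 1) (Steps.fwd (nat_lit 4096) (Steps.bwd (nat_lit 3) (Steps.fwd (nat_lit 2048) (Steps.fwd (nat_lit 4096) (Steps.bwd (nat_lit 3) (Steps.bwd (nat_lit 5) (Steps.fwd (nat_lit 4096) (Steps.fwd (nat_lit 6144) Steps.nil))))))))))) (nat_lit 20) (nat_lit 10),
  Rule.mk (nat_lit 5) (nat_lit 50) (Steps.fwd (nat_lit 14336) (Steps.bwd (nat_lit 6) (Steps.fwd (nat_lit 16384) Steps.nil))) (nat_lit 30) (nat_lit 2),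
  Rule.mk (nat_lit 5) (nat_lit 154) (Steps.fwd (nat_lit 6144) (Steps.bwd (nat_lit 2) (Steps.bwd (nat_lit 6) (Steps.bwd (nat_lit 3) (Steps.fwd (nat_lit 4096) (Steps.fwd (nat_lit 2048) (Steps.bwd (nat_lit 3) (Steps.bwd (nat_lit 2) (Steps.bwd (nat_lit 1) (Steps.bwd (nat_lit 3) (Steps.bwd (nat_lit 2) Steps.nil))))))))))) (nat_lit 21) (nat_lit 3),
  Rule.mk (nat_lit 6) (nat_lit 50) (Steps.fwd (nat_lit 14336) (Steps.bwd (nat_lit 5) (Steps.fwd (nat_lit 16384) Steps.nil))) (nat_lit 31) (nat_lit 3)]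
noncomputable def R_13 : List (Rule) := [Rule.mk (nat_lit 6) (nat_lit 128) (Steps.bwd (nat_lit 4) (Steps.fwd (nat_lit 10240) (Steps.bwd (nat_lit 4) (Steps.fwd (nat_lit 10240) (Steps.fwd (nat_lit 8192) (Steps.bwd (nat_lit 6) (Steps.fwd (nat_lit 8192) (Steps.bwd (nat_lit 6) (Steps.fwd (nat_lit 8192) Steps.nil))))))))) (nat_lit 51) (nat_lit 1),
  Rule.mk (nat_lit 6) (nat_lit 154) (Steps.fwd (nat_lit 4096) (Steps.fwd (nat_lit 6144) (Steps.fwd (nat_lit 2048) (Steps.bwd (nat_lit 2) (Steps.bwd (nat_lit 3) (Steps.fwd (nat_lit 2048) (Steps.bwd (nat_lit 2) (Steps.fwd (nat_lit 6144) (Steps.bwd (nat_lit 5) (Steps.fwd (nat_lit 4096) (Steps.bwd (nat_lit 3) Steps.nil))))))))))) (nat_lit 20) (nat_lit 10),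
  Rule.mk (nat_lit 5) (nat_lit 50) (Steps.fwd (nat_lit 16384) (Steps.bwd (nat_lit 6) (Steps.fwd (nat_lit 14336) Steps.nil))) (nat_lit 31) (nat_lit 1),
  Rule.mk (nat_lit 6) (nat_lit 115) (Steps.bwd (nat_lit 3) (Steps.bwd (nat_lit 2) (Steps.bwd (nat_lit 1) (Steps.bwd (nat_lit 2) (Steps.bwd (nat_lit 6) (Steps.bwd (nat_lit 3) (Steps.fwd (nat_lit 2048) (Steps.bwd (nat_lit 3) Steps.nil)))))))) (nat_lit 19) (nat_lit 6),
  Rule.mk (nat_lit 5) (nat_lit 154) (Steps.bwd (nat_lit 2) (Steps.fwd (nat_lit 6144) (Steps.bwd (nat_lit 6) (Steps.bwd (nat_lit 2) (Steps.fwd (nat_lit 6144) (Steps.bwd (nat_lit 1) (Steps.fwd (nat_lit 4096) (Steps.bwd (nat_lit 3) (Steps.bwd (nat_lit 1) (Steps.fwd (nat_lit 4096) (Steps.fwd (nat_lit 6144) Steps.nil))))))))))) (nat_lit 20) (nat_lit 7),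
  Rule.mk (nat_lit 6) (nat_lit 128) (Steps.fwd (nat_lit 8192) (Steps.bwd (nat_lit 6) (Steps.bwd (nat_lit 4) (Steps.fwd (nat_lit 10240) (Steps.fwd (nat_lit 8192) (Steps.bwd (nat_lit 6) (Steps.fwd (nat_lit 8192) (Steps.fwd (nat_lit 10240) (Steps.fwd (nat_lit 8192) Steps.nil))))))))) (nat_lit 51) (nat_lit 1),
  Rule.mk (nat_lit 3) (nat_lit 154) (Steps.fwd (nat_lit 2048) (Steps.bwd (nat_lit 2) (Steps.fwd (nat_lit 6144) (Steps.fwd (nat_lit 2048) (Steps.bwd (nat_lit 2) (Steps.fwd (nat_lit 6144) (Steps.bwd (nat_lit 5) (Steps.bwd (nat_lit 2) (Steps.bwd (nat_lit 3) (Steps.fwd (nat_lit 10240) (Steps.fwd (nat_lit 4096) Steps.nil))))))))))) (nat_lit 20) (nat_lit 0),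
  Rule.mk (nat_lit 6) (nat_lit 310) (Steps.fwd (nat_lit 6144) (Steps.fwd (nat_lit 8192) (Steps.fwd (nat_lit 10240) (Steps.bwd (nat_lit 3) (Steps.fwd (nat_lit 8192) (Steps.fwd (nat_lit 10240) (Steps.bwd (nat_lit 3) (Steps.bwd (nat_lit 4) (Steps.fwd (nat_lit 10240) (Steps.fwd (nat_lit 6144) (Steps.bwd (nat_lit 4) (Steps.bwd (nat_lit 6) (Steps.fwd (nat_lit 6144) (Steps.fwd (nat_lit 8192) (Steps.bwd (nat_lit 6) (Steps.fwd (nat_lit 6144) (Steps.bwd (nat_lit 4) (Steps.bwd (nat_lit 6) (Steps.bwd (nat_lit 3) (Steps.fwd (nat_lit 8192) (Steps.bwd (nat_lit 6) (Steps.fwd (nat_lit 6144) (Steps.fwd (nat_lit 8192) Steps.nil))))))))))))))))))))))) (nat_lit 53) (nat_lit 2),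
  Rule.mk (nat_lit 3) (nat_lit 115) (Steps.fwd (nat_lit 12288) (Steps.fwd (nat_lit 6144) (Steps.bwd (nat_lit 1) (Steps.fwd (nat_lit 6144) (Steps.bwd (nat_lit 5) (Steps.fwd (nat_lit 4096) (Steps.bwd (nat_lit 1) (Steps.fwd (nat_lit 4096) Steps.nil)))))))) (nat_lit 18) (nat_lit 3),
  Rule.mk (nat_lit 3) (nat_lit 76) (Steps.fwd (nat_lit 16384) (Steps.fwd (nat_lit 4096) (Steps.bwd (nat_lit 3) (Steps.bwd (nat_lit 7) (Steps.fwd (nat_lit 4096) Steps.nil))))) (nat_lit 32) (nat_lit 2),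
  Rule.mk (nat_lit 5) (nat_lit 154) (Steps.fwd (nat_lit 6144) (Steps.bwd (nat_lit 2) (Steps.bwd (nat_lit 6) (Steps.bwd (nat_lit 3) (Steps.fwd (nat_lit 4096) (Steps.fwd (nat_lit 2048) (Steps.fwd (nat_lit 6144) (Steps.fwd (nat_lit 4096) (Steps.bwd (nat_lit 1) (Steps.bwd (nat_lit 3) (Steps.bwd (nat_lit 2) Steps.nil))))))))))) (nat_lit 21) (nat_lit 3),
  Rule.mk (nat_lit 6) (nat_lit 154) (Steps.fwd (nat_lit 6144) (Steps.bwd (nat_lit 2) (Steps.bwd (nat_lit 1) (Steps.bwd (nat_lit 3) (Steps.fwd (nat_lit 4096) (Steps.fwd (nat_lit 2048) (Steps.bwd (nat_lit 3) (Steps.fwd (nat_lit 4096) (Steps.bwd (nat_lit 5) (Steps.bwd (nat_lit 3) (Steps.bwd (nat_lit 2) Steps.nil))))))))))) (nat_lit 21) (nat_lit 6),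
  Rule.mk (nat_lit 5) (nat_lit 50) (Steps.fwd (nat_lit 14336) (Steps.bwd (nat_lit 6) (Steps.bwd (nat_lit 7) Steps.nil))) (nat_lit 30) (nat_lit 2),
  Rule.mk (nat_lit 3) (nat_lit 102) (Steps.bwd (nat_lit 1) (Steps.bwd (nat_lit 3) (Steps.fwd (nat_lit 2048) (Steps.fwd (nat_lit 6144) (Steps.bwd (nat_lit 1) (Steps.bwd (nat_lit 3) (Steps.bwd (nat_lit 1) Steps.nil))))))) (nat_lit 10) (nat_lit 0),
  Rule.mk (nat_lit 4) (nat_lit 115) (Steps.fwd (nat_lit 6144) (Steps.fwd (nat_lit 2048) (Steps.fwd (nat_lit 6144) (Steps.fwd (nat_lit 8192) (Steps.bwd (nat_lit 3) (Steps.bwd (nat_lit 1) (Steps.bwd (nat_lit 3) (Steps.bwd (nat_lit 1) Steps.nil)))))))) (nat_lit 42) (nat_lit 1),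
  Rule.mk (nat_lit 6) (nat_lit 115) (Steps.bwd (nat_lit 3) (Steps.bwd (nat_lit 2) (Steps.bwd (nat_lit 1) (Steps.bwd (nat_lit 2) (Steps.fwd (nat_lit 10240) (Steps.bwd (nat_lit 3) (Steps.bwd (nat_lit 1) (Steps.bwd (nat_lit 3) Steps.nil)))))))) (nat_lit 19) (nat_lit 6),
  Rule.mk (nat_lit 4) (nat_lit 115) (Steps.bwd (nat_lit 1) (Steps.bwd (nat_lit 3) (Steps.bwd (nat_lit 2) (Steps.bwd (nat_lit 3) (Steps.bwd (nat_lit 2) (Steps.bwd (nat_lit 1) (Steps.bwd (nat_lit 4) (Steps.fwd (nat_lit 4096) Steps.nil)))))))) (nat_lit 40) (nat_lit 3),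
  Rule.mk (nat_lit 1) (nat_lit 115) (Steps.bwd (nat_lit 2) (Steps.fwd (nat_lit 6144) (Steps.bwd (nat_lit 2) (Steps.bwd (nat_lit 3) (Steps.fwd (nat_lit 2048) (Steps.fwd (nat_lit 8192) (Steps.bwd (nat_lit 2) (Steps.fwd (nat_lit 8192) Steps.nil)))))))) (nat_lit 41) (nat_lit 1),
  Rule.mk (nat_lit 6) (nat_lit 154) (Steps.bwd (nat_lit 2) (Steps.fwd (nat_lit 6144) (Steps.fwd (nat_lit 2048) (Steps.fwd (nat_lit 4096) (Steps.bwd (nat_lit 3) (Steps.fwd (nat_lit 2048) (Steps.bwd (nat_lit 2) (Steps.fwd (nat_lit 6144) (Steps.bwd (nat_lit 5) (Steps.fwd (nat_lit 4096) (Steps.fwd (nat_lit 6144) Steps.nil))))))))))) (nat_lit 20) (nat_lit 10),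
  Rule.mk (nat_lit 3) (nat_lit 115) (Steps.bwd (nat_lit 6) (Steps.bwd (nat_lit 3) (Steps.fwd (nat_lit 4096) (Steps.fwd (nat_lit 2048) (Steps.fwd (nat_lit 4096) (Steps.fwd (nat_lit 10240) (Steps.bwd (nat_lit 3) (Steps.bwd (nat_lit 1) Steps.nil)))))))) (nat_lit 19) (nat_lit 5),
  Rule.mk (nat_lit 5) (nat_lit 115) (Steps.bwd (nat_lit 3) (Steps.fwd (nat_lit 2048) (Steps.fwd (nat_lit 6144) (Steps.bwd (nat_lit 5) (Steps.fwd (nat_lit 4096) (Steps.fwd (nat_lit 2048) (Steps.bwd (nat_lit 2) (Steps.bwd (nat_lit 3) Steps.nil)))))))) (nat_lit 18) (nat_lit 4),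
  Rule.mk (nat_lit 6) (nat_lit 115) (Steps.bwd (nat_lit 3) (Steps.fwd (nat_lit 4096) (Steps.fwd (nat_lit 2048) (Steps.fwd (nat_lit 4096) (Steps.bwd (nat_lit 6) (Steps.fwd (nat_lit 6144) (Steps.bwd (nat_lit 1) (Steps.fwd (nat_lit 6144) Steps.nil)))))))) (nat_lit 19) (nat_lit 6),
  Rule.mk (nat_lit 1) (nat_lit 115) (Steps.bwd (nat_lit 2) (Steps.bwd (nat_lit 3) (Steps.fwd (nat_lit 12288) (Steps.fwd (nat_lit 6144) (Steps.bwd (nat_lit 1) (Steps.bwd (nat_lit 3) (Steps.bwd (nat_lit 5) (Steps.bwd (nat_lit 2) Steps.nil)))))))) (nat_lit 18) (nat_lit 1),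
  Rule.mk (nat_lit 4) (nat_lit 115) (Steps.bwd (nat_lit 2) (Steps.bwd (nat_lit 4) (Steps.fwd (nat_lit 2048) (Steps.bwd (nat_lit 3) (Steps.bwd (nat_lit 2) (Steps.fwd (nat_lit 6144) (Steps.bwd (nat_lit 2) (Steps.bwd (nat_lit 1) Steps.nil)))))))) (nat_lit 40) (nat_lit 1),
  Rule.mk (nat_lit 3) (nat_lit 76) (Steps.bwd (nat_lit 4) (Steps.bwd (nat_lit 3) (Steps.fwd (nat_lit 8192) (Steps.bwd (nat_lit 3) (Steps.fwd (nat_lit 8192) Steps.nil))))) (nat_lit 36) (nat_lit 1),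
  Rule.mk (nat_lit 5) (nat_lit 310) (Steps.bwd (nat_lit 4) (Steps.bwd (nat_lit 3) (Steps.bwd (nat_lit 5) (Steps.fwd (nat_lit 8192) (Steps.fwd (nat_lit 6144) (Steps.bwd (nat_lit 5) (Steps.fwd (nat_lit 8192) (Steps.bwd (nat_lit 3) (Steps.fwd (nat_lit 12288) (Steps.fwd (nat_lit 8192) (Steps.fwd (nat_lit 6144) (Steps.bwd (nat_lit 5) (Steps.bwd (nat_lit 4) (Steps.bwd (nat_lit 3) (Steps.fwd (nat_lit 12288) (Steps.bwd (nat_lit 4) (Steps.bwd (nat_lit 3) (Steps.bwd (nat_lit 5) (Steps.fwd (nat_lit 8192) (Steps.bwd (nat_lit 3) (Steps.bwd (nat_lit 5) (Steps.fwd (nat_lit 8192) (Steps.bwd (nat_lit 3) Steps.nil))))))))))))))))))))))) (nat_lit 52) (nat_lit 2),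
  Rule.mk (nat_lit 3) (nat_lit 102) (Steps.bwd (nat_lit 2) (Steps.fwd (nat_lit 6144) (Steps.fwd (nat_lit 4096) (Steps.fwd (nat_lit 6144) (Steps.fwd (nat_lit 4096) (Steps.fwd (nat_lit 6144) (Steps.fwd (nat_lit 4096) Steps.nil))))))) (nat_lit 12) (nat_lit 0),
  Rule.mk (nat_lit 1) (nat_lit 115) (Steps.bwd (nat_lit 2) (Steps.fwd (nat_lit 6144) (Steps.fwd (nat_lit 12288) (Steps.fwd (nat_lit 6144) (Steps.bwd (nat_lit 1) (Steps.bwd (nat_lit 3) (Steps.bwd (nat_lit 5) (Steps.fwd (nat_lit 4096) Steps.nil)))))))) (nat_lit 18) (nat_lit 1),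
  Rule.mk (nat_lit 4) (nat_lit 115) (Steps.bwd (nat_lit 2) (Steps.bwd (nat_lit 4) (Steps.bwd (nat_lit 1) (Steps.bwd (nat_lit 3) (Steps.fwd (nat_lit 4096) (Steps.fwd (nat_lit 6144) (Steps.bwd (nat_lit 2) (Steps.fwd (nat_lit 2048) Steps.nil)))))))) (nat_lit 40) (nat_lit 1),
  Rule.mk (nat_lit 3) (nat_lit 102) (Steps.bwd (nat_lit 1) (Steps.fwd (nat_lit 6144) (Steps.fwd (nat_lit 2048) (Steps.bwd (nat_lit 3) (Steps.bwd (nat_lit 1) (Steps.fwd (nat_lit 6144) (Steps.fwd (nat_lit 2048) Steps.nil))))))) (nat_lit 10) (nat_lit 0),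
  Rule.mk (nat_lit 5) (nat_lit 115) (Steps.fwd (nat_lit 6144) (Steps.bwd (nat_lit 1) (Steps.bwd (nat_lit 3) (Steps.fwd (nat_lit 12288) (Steps.bwd (nat_lit 2) (Steps.bwd (nat_lit 1) (Steps.bwd (nat_lit 2) (Steps.bwd (nat_lit 3) Steps.nil)))))))) (nat_lit 18) (nat_lit 4),
  Rule.mk (nat_lit 4) (nat_lit 115) (Steps.bwd (nat_lit 2) (Steps.fwd (nat_lit 8192) (Steps.fwd (nat_lit 2048) (Steps.bwd (nat_lit 3) (Steps.bwd (nat_lit 2) (Steps.bwd (nat_lit 3) (Steps.fwd (nat_lit 4096) (Steps.fwd (nat_lit 2048) Steps.nil)))))))) (nat_lit 40) (nat_lit 1),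
  Rule.mk (nat_lit 7) (nat_lit 76) (Steps.bwd (nat_lit 3) (Steps.fwd (nat_lit 16384) (Steps.fwd (nat_lit 6144) (Steps.bwd (nat_lit 7) (Steps.bwd (nat_lit 3) Steps.nil))))) (nat_lit 26) (nat_lit 0),
  Rule.mk (nat_lit 8) (nat_lit 76) (Steps.bwd (nat_lit 3) (Steps.fwd (nat_lit 14336) (Steps.bwd (nat_lit 3) (Steps.fwd (nat_lit 14336) (Steps.bwd (nat_lit 3) Steps.nil))))) (nat_lit 27) (nat_lit 1),
  Rule.mk (nat_lit 1) (nat_lit 154) (Steps.bwd (nat_lit 3) (Steps.fwd (nat_lit 2048) (Steps.bwd (nat_lit 2) (Steps.bwd (nat_lit 3) (Steps.fwd (nat_lit 2048) (Steps.fwd (nat_lit 4096) (Steps.fwd (nat_lit 6144) (Steps.fwd (nat_lit 14336) (Steps.bwd (nat_lit 1) (Steps.bwd (nat_lit 3) (Steps.bwd (nat_lit 7) Steps.nil))))))))))) (nat_lit 28) (nat_lit 11),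
  Rule.mk (nat_lit 6) (nat_lit 50) (Steps.fwd (nat_lit 16384) (Steps.fwd (nat_lit 12288) (Steps.bwd (nat_lit 8) Steps.nil))) (nat_lit 30) (nat_lit 0),
  Rule.mk (nat_lit 5) (nat_lit 115) (Steps.bwd (nat_lit 3) (Steps.fwd (nat_lit 2048) (Steps.bwd (nat_lit 3) (Steps.fwd (nat_lit 12288) (Steps.bwd (nat_lit 2) (Steps.bwd (nat_lit 1) (Steps.bwd (nat_lit 2) (Steps.fwd (nat_lit 6144) Steps.nil)))))))) (nat_lit 18) (nat_lit 4),
  Rule.mk (nat_lit 6) (nat_lit 154) (Steps.bwd (nat_lit 3) (Steps.fwd (nat_lit 4096) (Steps.fwd (nat_lit 2048) (Steps.bwd (nat_lit 3) (Steps.fwd (nat_lit 4096) (Steps.bwd (nat_lit 1) (Steps.bwd (nat_lit 3) (Steps.fwd (nat_lit 4096) (Steps.bwd (nat_lit 5) (Steps.fwd (nat_lit 6144) (Steps.bwd (nat_lit 2) Steps.nil))))))))))) (nat_lit 21) (nat_lit 6),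
  Rule.mk (nat_lit 7) (nat_lit 154) (Steps.bwd (nat_lit 3) (Steps.fwd (nat_lit 4096) (Steps.fwd (nat_lit 2048) (Steps.bwd (nat_lit 3) (Steps.fwd (nat_lit 4096) (Steps.bwd (nat_lit 1) (Steps.bwd (nat_lit 3) (Steps.bwd (nat_lit 1) (Steps.fwd (nat_lit 14336) (Steps.fwd (nat_lit 6144) (Steps.bwd (nat_lit 1) Steps.nil))))))))))) (nat_lit 29) (nat_lit 6),
  Rule.mk (nat_lit 2) (nat_lit 115) (Steps.bwd (nat_lit 1) (Steps.fwd (nat_lit 4096) (Steps.bwd (nat_lit 3) (Steps.fwd (nat_lit 12288) (Steps.fwd (nat_lit 6144) (Steps.fwd (nat_lit 2048) (Steps.bwd (nat_lit 3) (Steps.fwd (nat_lit 12288) Steps.nil)))))))) (nat_lit 18) (nat_lit 0),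
  Rule.mk (nat_lit 2) (nat_lit 76) (Steps.bwd (nat_lit 3) (Steps.fwd (nat_lit 16384) (Steps.fwd (nat_lit 4096) (Steps.bwd (nat_lit 3) (Steps.fwd (nat_lit 16384) Steps.nil))))) (nat_lit 32) (nat_lit 1),
  Rule.mk (nat_lit 1) (nat_lit 102) (Steps.bwd (nat_lit 3) (Steps.fwd (nat_lit 2048) (Steps.fwd (nat_lit 6144) (Steps.fwd (nat_lit 2048) (Steps.fwd (nat_lit 6144) (Steps.bwd (nat_lit 1) (Steps.bwd (nat_lit 3) Steps.nil))))))) (nat_lit 10) (nat_lit 1),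
  Rule.mk (nat_lit 5) (nat_lit 115) (Steps.bwd (nat_lit 3) (Steps.fwd (nat_lit 2048) (Steps.fwd (nat_lit 6144) (Steps.fwd (nat_lit 12288) (Steps.fwd (nat_lit 4096) (Steps.bwd (nat_lit 1) (Steps.fwd (nat_lit 4096) (Steps.fwd (nat_lit 6144) Steps.nil)))))))) (nat_lit 18) (nat_lit 4),
  Rule.mk (nat_lit 4) (nat_lit 115) (Steps.bwd (nat_lit 1) (Steps.bwd (nat_lit 3) (Steps.bwd (nat_lit 2) (Steps.fwd (nat_lit 6144) (Steps.bwd (nat_lit 2) (Steps.bwd (nat_lit 1) (Steps.bwd (nat_lit 4) (Steps.bwd (nat_lit 2) Steps.nil)))))))) (nat_lit 40) (nat_lit 3),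
  Rule.mk (nat_lit 2) (nat_lit 115) (Steps.bwd (nat_lit 3) (Steps.fwd (nat_lit 4096) (Steps.fwd (nat_lit 2048) (Steps.fwd (nat_lit 8192) (Steps.fwd (nat_lit 4096) (Steps.bwd (nat_lit 4) (Steps.bwd (nat_lit 1) (Steps.fwd (nat_lit 6144) Steps.nil)))))))) (nat_lit 40) (nat_lit 6),
  Rule.mk (nat_lit 1) (nat_lit 115) (Steps.bwd (nat_lit 3) (Steps.bwd (nat_lit 1) (Steps.bwd (nat_lit 4) (Steps.fwd (nat_lit 6144) (Steps.fwd (nat_lit 2048) (Steps.bwd (nat_lit 3) (Steps.bwd (nat_lit 4) (Steps.fwd (nat_lit 6144) Steps.nil)))))))) (nat_lit 42) (nat_lit 7),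
  Rule.mk (nat_lit 1) (nat_lit 115) (Steps.bwd (nat_lit 3) (Steps.bwd (nat_lit 1) (Steps.fwd (nat_lit 8192) (Steps.fwd (nat_lit 6144) (Steps.fwd (nat_lit 2048) (Steps.fwd (nat_lit 6144) (Steps.fwd (nat_lit 8192) (Steps.fwd (nat_lit 6144) Steps.nil)))))))) (nat_lit 42) (nat_lit 7),
  Rule.mk (nat_lit 1) (nat_lit 115) (Steps.bwd (nat_lit 3) (Steps.bwd (nat_lit 1) (Steps.bwd (nat_lit 4) (Steps.fwd (nat_lit 6144) (Steps.fwd (nat_lit 2048) (Steps.fwd (nat_lit 6144) (Steps.bwd (nat_lit 4) (Steps.fwd (nat_lit 6144) Steps.nil)))))))) (nat_lit 42) (nat_lit 7),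
  Rule.mk (nat_lit 2) (nat_lit 115) (Steps.bwd (nat_lit 3) (Steps.fwd (nat_lit 4096) (Steps.bwd (nat_lit 1) (Steps.bwd (nat_lit 4) (Steps.bwd (nat_lit 2) (Steps.fwd (nat_lit 8192) (Steps.fwd (nat_lit 2048) (Steps.fwd (nat_lit 6144) Steps.nil)))))))) (nat_lit 40) (nat_lit 6),
  Rule.mk (nat_lit 3) (nat_lit 115) (Steps.bwd (nat_lit 1) (Steps.bwd (nat_lit 3) (Steps.bwd (nat_lit 1) (Steps.bwd (nat_lit 4) (Steps.fwd (nat_lit 6144) (Steps.bwd (nat_lit 1) (Steps.fwd (nat_lit 6144) (Steps.fwd (nat_lit 8192) Steps.nil)))))))) (nat_lit 42) (nat_lit 6),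
  Rule.mk (nat_lit 3) (nat_lit 115) (Steps.bwd (nat_lit 1) (Steps.bwd (nat_lit 3) (Steps.bwd (nat_lit 1) (Steps.bwd (nat_lit 4) (Steps.fwd (nat_lit 6144) (Steps.fwd (nat_lit 2048) (Steps.bwd (nat_lit 3) (Steps.fwd (nat_lit 8192) Steps.nil)))))))) (nat_lit 42) (nat_lit 6),
  Rule.mk (nat_lit 2) (nat_lit 115) (Steps.fwd (nat_lit 6144) (Steps.fwd (nat_lit 4096) (Steps.fwd (nat_lit 2048) (Steps.bwd (nat_lit 4) (Steps.fwd (nat_lit 4096) (Steps.fwd (nat_lit 8192) (Steps.fwd (nat_lit 2048) (Steps.bwd (nat_lit 3) Steps.nil)))))))) (nat_lit 40) (nat_lit 6),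
  Rule.mk (nat_lit 4) (nat_lit 76) (Steps.bwd (nat_lit 3) (Steps.bwd (nat_lit 4) (Steps.fwd (nat_lit 6144) (Steps.bwd (nat_lit 4) (Steps.fwd (nat_lit 6144) Steps.nil))))) (nat_lit 36) (nat_lit 0),
  Rule.mk (nat_lit 3) (nat_lit 102) (Steps.bwd (nat_lit 2) (Steps.bwd (nat_lit 3) (Steps.bwd (nat_lit 2) (Steps.bwd (nat_lit 3) (Steps.bwd (nat_lit 2) (Steps.fwd (nat_lit 6144) (Steps.fwd (nat_lit 4096) Steps.nil))))))) (nat_lit 12) (nat_lit 0),
  Rule.mk (nat_lit 4) (nat_lit 115) (Steps.bwd (nat_lit 2) (Steps.fwd (nat_lit 8192) (Steps.fwd (nat_lit 2048) (Steps.bwd (nat_lit 3) (Steps.fwd (nat_lit 4096) (Steps.fwd (nat_lit 6144) (Steps.fwd (nat_lit 4096) (Steps.fwd (nat_lit 2048) Steps.nil)))))))) (nat_lit 40) (nat_lit 1),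
  Rule.mk (nat_lit 3) (nat_lit 115) (Steps.bwd (nat_lit 1) (Steps.fwd (nat_lit 6144) (Steps.fwd (nat_lit 2048) (Steps.bwd (nat_lit 4) (Steps.bwd (nat_lit 3) (Steps.fwd (nat_lit 2048) (Steps.fwd (nat_lit 6144) (Steps.fwd (nat_lit 8192) Steps.nil)))))))) (nat_lit 42) (nat_lit 6),
  Rule.mk (nat_lit 2) (nat_lit 115) (Steps.fwd (nat_lit 6144) (Steps.bwd (nat_lit 2) (Steps.bwd (nat_lit 1) (Steps.bwd (nat_lit 4) (Steps.bwd (nat_lit 2) (Steps.fwd (nat_lit 8192) (Steps.fwd (nat_lit 2048) (Steps.bwd (nat_lit 3) Steps.nil)))))))) (nat_lit 40) (nat_lit 6),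
  Rule.mk (nat_lit 1) (nat_lit 115) (Steps.bwd (nat_lit 3) (Steps.fwd (nat_lit 4096) (Steps.bwd (nat_lit 3) (Steps.fwd (nat_lit 4096) (Steps.bwd (nat_lit 1) (Steps.fwd (nat_lit 8192) (Steps.fwd (nat_lit 4096) (Steps.bwd (nat_lit 4) Steps.nil)))))))) (nat_lit 40) (nat_lit 4),
  Rule.mk (nat_lit 3) (nat_lit 76) (Steps.bwd (nat_lit 7) (Steps.bwd (nat_lit 2) (Steps.fwd (nat_lit 6144) (Steps.bwd (nat_lit 7) (Steps.bwd (nat_lit 2) Steps.nil))))) (nat_lit 32) (nat_lit 2),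
  Rule.mk (nat_lit 3) (nat_lit 76) (Steps.fwd (nat_lit 16384) (Steps.bwd (nat_lit 2) (Steps.fwd (nat_lit 6144) (Steps.bwd (nat_lit 7) (Steps.fwd (nat_lit 4096) Steps.nil))))) (nat_lit 32) (nat_lit 2),
  Rule.mk (nat_lit 3) (nat_lit 102) (Steps.bwd (nat_lit 2) (Steps.bwd (nat_lit 3) (Steps.fwd (nat_lit 4096) (Steps.fwd (nat_lit 6144) (Steps.bwd (nat_lit 2) (Steps.fwd (nat_lit 6144) (Steps.fwd (nat_lit 4096) Steps.nil))))))) (nat_lit 12) (nat_lit 0),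
  Rule.mk (nat_lit 8) (nat_lit 76) (Steps.bwd (nat_lit 3) (Steps.fwd (nat_lit 4096) (Steps.bwd (nat_lit 8) (Steps.bwd (nat_lit 3) (Steps.bwd (nat_lit 2) Steps.nil))))) (nat_lit 33) (nat_lit 1),
  Rule.mk (nat_lit 3) (nat_lit 76) (Steps.fwd (nat_lit 16384) (Steps.fwd (nat_lit 6144) (Steps.fwd (nat_lit 16384) (Steps.fwd (nat_lit 6144) (Steps.fwd (nat_lit 16384) Steps.nil))))) (nat_lit 26) (nat_lit 1),
  Rule.mk (nat_lit 3) (nat_lit 76) (Steps.fwd (nat_lit 16384) (Steps.fwd (nat_lit 4096) (Steps.bwd (nat_lit 3) (Steps.fwd (nat_lit 16384) (Steps.fwd (nat_lit 4096) Steps.nil))))) (nat_lit 32) (nat_lit 2)]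
noncomputable def R_14 : List (Rule) := [Rule.mk (nat_lit 3) (nat_lit 154) (Steps.fwd (nat_lit 2048) (Steps.fwd (nat_lit 4096) (Steps.bwd (nat_lit 3) (Steps.bwd (nat_lit 2) (Steps.bwd (nat_lit 1) (Steps.bwd (nat_lit 3) (Steps.fwd (nat_lit 2048) (Steps.bwd (nat_lit 2) (Steps.bwd (nat_lit 3) (Steps.bwd (nat_lit 1) (Steps.fwd (nat_lit 4096) Steps.nil))))))))))) (nat_lit 14) (nat_lit 6),
  Rule.mk (nat_lit 3) (nat_lit 154) (Steps.fwd (nat_lit 2048) (Steps.fwd (nat_lit 4096) (Steps.fwd (nat_lit 6144) (Steps.fwd (nat_lit 2048) (Steps.fwd (nat_lit 4096) (Steps.bwd (nat_lit 3) (Steps.fwd (nat_lit 4096) (Steps.fwd (nat_lit 2048) (Steps.fwd (nat_lit 6144) (Steps.bwd (nat_lit 1) (Steps.bwd (nat_lit 2) Steps.nil))))))))))) (nat_lit 14) (nat_lit 3),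
  Rule.mk (nat_lit 3) (nat_lit 154) (Steps.bwd (nat_lit 6) (Steps.fwd (nat_lit 4096) (Steps.fwd (nat_lit 6144) (Steps.fwd (nat_lit 2048) (Steps.fwd (nat_lit 4096) (Steps.bwd (nat_lit 3) (Steps.fwd (nat_lit 2048) (Steps.bwd (nat_lit 2) (Steps.bwd (nat_lit 3) (Steps.bwd (nat_lit 5) (Steps.bwd (nat_lit 2) Steps.nil))))))))))) (nat_lit 20) (nat_lit 9),
  Rule.mk (nat_lit 3) (nat_lit 154) (Steps.fwd (nat_lit 4096) (Steps.bwd (nat_lit 6) (Steps.bwd (nat_lit 3) (Steps.bwd (nat_lit 2) (Steps.bwd (nat_lit 1) (Steps.bwd (nat_lit 3) (Steps.fwd (nat_lit 4096) (Steps.fwd (nat_lit 2048) (Steps.fwd (nat_lit 6144) (Steps.bwd (nat_lit 2) (Steps.fwd (nat_lit 12288) Steps.nil))))))))))) (nat_lit 21) (nat_lit 4),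
  Rule.mk (nat_lit 3) (nat_lit 115) (Steps.fwd (nat_lit 12288) (Steps.fwd (nat_lit 6144) (Steps.bwd (nat_lit 1) (Steps.bwd (nat_lit 3) (Steps.bwd (nat_lit 5) (Steps.bwd (nat_lit 2) (Steps.fwd (nat_lit 2048) (Steps.bwd (nat_lit 2) Steps.nil)))))))) (nat_lit 18) (nat_lit 3),
  Rule.mk (nat_lit 3) (nat_lit 115) (Steps.fwd (nat_lit 10240) (Steps.bwd (nat_lit 3) (Steps.bwd (nat_lit 2) (Steps.fwd (nat_lit 2048) (Steps.bwd (nat_lit 2) (Steps.fwd (nat_lit 10240) (Steps.bwd (nat_lit 3) (Steps.bwd (nat_lit 1) Steps.nil)))))))) (nat_lit 19) (nat_lit 5),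
  Rule.mk (nat_lit 3) (nat_lit 115) (Steps.fwd (nat_lit 4096) (Steps.bwd (nat_lit 1) (Steps.bwd (nat_lit 2) (Steps.fwd (nat_lit 10240) (Steps.bwd (nat_lit 3) (Steps.fwd (nat_lit 2048) (Steps.fwd (nat_lit 6144) (Steps.fwd (nat_lit 10240) Steps.nil)))))))) (nat_lit 19) (nat_lit 7),
  Rule.mk (nat_lit 3) (nat_lit 115) (Steps.fwd (nat_lit 10240) (Steps.fwd (nat_lit 6144) (Steps.fwd (nat_lit 4096) (Steps.fwd (nat_lit 2048) (Steps.bwd (nat_lit 2) (Steps.fwd (nat_lit 10240) (Steps.fwd (nat_lit 6144) (Steps.bwd (nat_lit 1) Steps.nil)))))))) (nat_lit 19) (nat_lit 5),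
  Rule.mk (nat_lit 3) (nat_lit 102) (Steps.fwd (nat_lit 2048) (Steps.fwd (nat_lit 6144) (Steps.bwd (nat_lit 1) (Steps.fwd (nat_lit 6144) (Steps.fwd (nat_lit 2048) (Steps.bwd (nat_lit 3) (Steps.bwd (nat_lit 1) Steps.nil))))))) (nat_lit 10) (nat_lit 0),
  Rule.mk (nat_lit 1) (nat_lit 115) (Steps.bwd (nat_lit 2) (Steps.fwd (nat_lit 6144) (Steps.bwd (nat_lit 5) (Steps.fwd (nat_lit 6144) (Steps.bwd (nat_lit 1) (Steps.fwd (nat_lit 6144) (Steps.bwd (nat_lit 5) (Steps.bwd (nat_lit 2) Steps.nil)))))))) (nat_lit 18) (nat_lit 1),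
  Rule.mk (nat_lit 1) (nat_lit 50) (Steps.fwd (nat_lit 16384) (Steps.bwd (nat_lit 1) (Steps.fwd (nat_lit 14336) Steps.nil))) (nat_lit 22) (nat_lit 1),
  Rule.mk (nat_lit 3) (nat_lit 115) (Steps.bwd (nat_lit 2) (Steps.bwd (nat_lit 1) (Steps.bwd (nat_lit 2) (Steps.bwd (nat_lit 6) (Steps.fwd (nat_lit 6144) (Steps.bwd (nat_lit 1) (Steps.fwd (nat_lit 6144) (Steps.fwd (nat_lit 10240) Steps.nil)))))))) (nat_lit 19) (nat_lit 7),
  Rule.mk (nat_lit 3) (nat_lit 76) (Steps.fwd (nat_lit 16384) (Steps.fwd (nat_lit 4096) (Steps.bwd (nat_lit 3) (Steps.bwd (nat_lit 7) (Steps.bwd (nat_lit 2) Steps.nil))))) (nat_lit 32) (nat_lit 2),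
  Rule.mk (nat_lit 1) (nat_lit 115) (Steps.bwd (nat_lit 3) (Steps.fwd (nat_lit 12288) (Steps.bwd (nat_lit 2) (Steps.fwd (nat_lit 2048) (Steps.bwd (nat_lit 2) (Steps.fwd (nat_lit 6144) (Steps.fwd (nat_lit 12288) (Steps.fwd (nat_lit 6144) Steps.nil)))))))) (nat_lit 18) (nat_lit 6),
  Rule.mk (nat_lit 1) (nat_lit 115) (Steps.fwd (nat_lit 6144) (Steps.bwd (nat_lit 5) (Steps.bwd (nat_lit 2) (Steps.bwd (nat_lit 1) (Steps.fwd (nat_lit 4096) (Steps.fwd (nat_lit 6144) (Steps.fwd (nat_lit 12288) (Steps.bwd (nat_lit 3) Steps.nil)))))))) (nat_lit 18) (nat_lit 6),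
  Rule.mk (nat_lit 1) (nat_lit 115) (Steps.fwd (nat_lit 4096) (Steps.bwd (nat_lit 3) (Steps.fwd (nat_lit 12288) (Steps.fwd (nat_lit 6144) (Steps.fwd (nat_lit 2048) (Steps.fwd (nat_lit 6144) (Steps.bwd (nat_lit 5) (Steps.fwd (nat_lit 4096) Steps.nil)))))))) (nat_lit 18) (nat_lit 1),
  Rule.mk (nat_lit 1) (nat_lit 102) (Steps.fwd (nat_lit 6144) (Steps.fwd (nat_lit 2048) (Steps.bwd (nat_lit 3) (Steps.fwd (nat_lit 2048) (Steps.fwd (nat_lit 6144) (Steps.fwd (nat_lit 2048) (Steps.bwd (nat_lit 3) Steps.nil))))))) (nat_lit 10) (nat_lit 1),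
  Rule.mk (nat_lit 3) (nat_lit 115) (Steps.bwd (nat_lit 5) (Steps.fwd (nat_lit 4096) (Steps.bwd (nat_lit 1) (Steps.bwd (nat_lit 2) (Steps.fwd (nat_lit 6144) (Steps.bwd (nat_lit 5) (Steps.fwd (nat_lit 6144) (Steps.bwd (nat_lit 1) Steps.nil)))))))) (nat_lit 18) (nat_lit 7),
  Rule.mk (nat_lit 3) (nat_lit 154) (Steps.bwd (nat_lit 8) (Steps.fwd (nat_lit 2048) (Steps.fwd (nat_lit 6144) (Steps.fwd (nat_lit 16384) (Steps.fwd (nat_lit 2048) (Steps.fwd (nat_lit 6144) (Steps.bwd (nat_lit 1) (Steps.bwd (nat_lit 2) (Steps.fwd (nat_lit 6144) (Steps.fwd (nat_lit 2048) (Steps.fwd (nat_lit 4096) Steps.nil))))))))))) (nat_lit 28) (nat_lit 6),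
  Rule.mk (nat_lit 2) (nat_lit 154) (Steps.bwd (nat_lit 1) (Steps.fwd (nat_lit 6144) (Steps.bwd (nat_lit 1) (Steps.fwd (nat_lit 4096) (Steps.bwd (nat_lit 3) (Steps.fwd (nat_lit 2048) (Steps.bwd (nat_lit 2) (Steps.fwd (nat_lit 6144) (Steps.bwd (nat_lit 1) (Steps.bwd (nat_lit 2) (Steps.fwd (nat_lit 6144) Steps.nil))))))))))) (nat_lit 14) (nat_lit 10),
  Rule.mk (nat_lit 8) (nat_lit 154) (Steps.bwd (nat_lit 1) (Steps.fwd (nat_lit 6144) (Steps.bwd (nat_lit 7) (Steps.bwd (nat_lit 1) (Steps.bwd (nat_lit 3) (Steps.bwd (nat_lit 1) (Steps.bwd (nat_lit 2) (Steps.fwd (nat_lit 6144) (Steps.bwd (nat_lit 1) (Steps.bwd (nat_lit 2) (Steps.fwd (nat_lit 6144) Steps.nil))))))))))) (nat_lit 28) (nat_lit 7),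
  Rule.mk (nat_lit 3) (nat_lit 102) (Steps.bwd (nat_lit 1) (Steps.fwd (nat_lit 6144) (Steps.bwd (nat_lit 1) (Steps.fwd (nat_lit 6144) (Steps.bwd (nat_lit 1) (Steps.fwd (nat_lit 6144) (Steps.bwd (nat_lit 1) Steps.nil))))))) (nat_lit 10) (nat_lit 0),
  Rule.mk (nat_lit 1) (nat_lit 154) (Steps.bwd (nat_lit 3) (Steps.bwd (nat_lit 1) (Steps.fwd (nat_lit 4096) (Steps.fwd (nat_lit 6144) (Steps.bwd (nat_lit 1) (Steps.fwd (nat_lit 4096) (Steps.bwd (nat_lit 3) (Steps.bwd (nat_lit 1) (Steps.fwd (nat_lit 4096) (Steps.bwd (nat_lit 3) (Steps.bwd (nat_lit 2) Steps.nil))))))))))) (nat_lit 14) (nat_lit 11),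
  Rule.mk (nat_lit 6) (nat_lit 115) (Steps.bwd (nat_lit 3) (Steps.bwd (nat_lit 2) (Steps.fwd (nat_lit 2048) (Steps.fwd (nat_lit 4096) (Steps.fwd (nat_lit 10240) (Steps.fwd (nat_lit 6144) (Steps.fwd (nat_lit 2048) (Steps.fwd (nat_lit 6144) Steps.nil)))))))) (nat_lit 19) (nat_lit 6),
  Rule.mk (nat_lit 3) (nat_lit 76) (Steps.bwd (nat_lit 8) (Steps.bwd (nat_lit 3) (Steps.fwd (nat_lit 14336) (Steps.fwd (nat_lit 6144) (Steps.fwd (nat_lit 14336) Steps.nil))))) (nat_lit 27) (nat_lit 0),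
  Rule.mk (nat_lit 3) (nat_lit 115) (Steps.bwd (nat_lit 5) (Steps.bwd (nat_lit 3) (Steps.fwd (nat_lit 2048) (Steps.fwd (nat_lit 6144) (Steps.fwd (nat_lit 12288) (Steps.bwd (nat_lit 2) (Steps.bwd (nat_lit 1) (Steps.fwd (nat_lit 4096) Steps.nil)))))))) (nat_lit 18) (nat_lit 3),
  Rule.mk (nat_lit 3) (nat_lit 102) (Steps.bwd (nat_lit 2) (Steps.fwd (nat_lit 6144) (Steps.bwd (nat_lit 2) (Steps.fwd (nat_lit 6144) (Steps.fwd (nat_lit 4096) (Steps.fwd (nat_lit 6144) (Steps.bwd (nat_lit 2) Steps.nil))))))) (nat_lit 12) (nat_lit 0),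
  Rule.mk (nat_lit 3) (nat_lit 115) (Steps.bwd (nat_lit 5) (Steps.fwd (nat_lit 6144) (Steps.fwd (nat_lit 2048) (Steps.bwd (nat_lit 3) (Steps.fwd (nat_lit 12288) (Steps.bwd (nat_lit 2) (Steps.fwd (nat_lit 2048) (Steps.fwd (nat_lit 4096) Steps.nil)))))))) (nat_lit 18) (nat_lit 3),
  Rule.mk (nat_lit 6) (nat_lit 115) (Steps.bwd (nat_lit 3) (Steps.fwd (nat_lit 4096) (Steps.fwd (nat_lit 2048) (Steps.bwd (nat_lit 2) (Steps.bwd (nat_lit 6) (Steps.fwd (nat_lit 6144) (Steps.bwd (nat_lit 1) (Steps.bwd (nat_lit 3) Steps.nil)))))))) (nat_lit 19) (nat_lit 6),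
  Rule.mk (nat_lit 3) (nat_lit 154) (Steps.bwd (nat_lit 6) (Steps.fwd (nat_lit 4096) (Steps.bwd (nat_lit 3) (Steps.bwd (nat_lit 1) (Steps.bwd (nat_lit 2) (Steps.fwd (nat_lit 6144) (Steps.bwd (nat_lit 1) (Steps.bwd (nat_lit 2) (Steps.fwd (nat_lit 6144) (Steps.fwd (nat_lit 12288) (Steps.bwd (nat_lit 2) Steps.nil))))))))))) (nat_lit 20) (nat_lit 9),
  Rule.mk (nat_lit 3) (nat_lit 154) (Steps.bwd (nat_lit 1) (Steps.fwd (nat_lit 4096) (Steps.fwd (nat_lit 6144) (Steps.bwd (nat_lit 5) (Steps.bwd (nat_lit 2) (Steps.fwd (nat_lit 6144) (Steps.fwd (nat_lit 10240) (Steps.bwd (nat_lit 2) (Steps.fwd (nat_lit 6144) (Steps.fwd (nat_lit 2048) (Steps.fwd (nat_lit 4096) Steps.nil))))))))))) (nat_lit 20) (nat_lit 3),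
  Rule.mk (nat_lit 1) (nat_lit 154) (Steps.bwd (nat_lit 3) (Steps.bwd (nat_lit 1) (Steps.bwd (nat_lit 2) (Steps.fwd (nat_lit 6144) (Steps.fwd (nat_lit 2048) (Steps.fwd (nat_lit 4096) (Steps.bwd (nat_lit 3) (Steps.bwd (nat_lit 1) (Steps.fwd (nat_lit 4096) (Steps.fwd (nat_lit 6144) (Steps.fwd (nat_lit 4096) Steps.nil))))))))))) (nat_lit 14) (nat_lit 11),
  Rule.mk (nat_lit 1) (nat_lit 115) (Steps.bwd (nat_lit 2) (Steps.bwd (nat_lit 3) (Steps.fwd (nat_lit 12288) (Steps.fwd (nat_lit 6144) (Steps.fwd (nat_lit 2048) (Steps.fwd (nat_lit 6144) (Steps.fwd (nat_lit 12288) (Steps.fwd (nat_lit 4096) Steps.nil)))))))) (nat_lit 18) (nat_lit 1),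
  Rule.mk (nat_lit 3) (nat_lit 76) (Steps.bwd (nat_lit 7) (Steps.bwd (nat_lit 2) (Steps.bwd (nat_lit 3) (Steps.bwd (nat_lit 7) (Steps.fwd (nat_lit 4096) Steps.nil))))) (nat_lit 32) (nat_lit 2),
  Rule.mk (nat_lit 3) (nat_lit 115) (Steps.bwd (nat_lit 1) (Steps.bwd (nat_lit 4) (Steps.bwd (nat_lit 3) (Steps.bwd (nat_lit 1) (Steps.bwd (nat_lit 3) (Steps.fwd (nat_lit 8192) (Steps.bwd (nat_lit 3) (Steps.fwd (nat_lit 2048) Steps.nil)))))))) (nat_lit 42) (nat_lit 8),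
  Rule.mk (nat_lit 3) (nat_lit 115) (Steps.fwd (nat_lit 4096) (Steps.bwd (nat_lit 3) (Steps.fwd (nat_lit 4096) (Steps.bwd (nat_lit 1) (Steps.bwd (nat_lit 4) (Steps.fwd (nat_lit 4096) (Steps.fwd (nat_lit 8192) (Steps.bwd (nat_lit 1) Steps.nil)))))))) (nat_lit 40) (nat_lit 5),
  Rule.mk (nat_lit 3) (nat_lit 115) (Steps.bwd (nat_lit 5) (Steps.bwd (nat_lit 2) (Steps.bwd (nat_lit 1) (Steps.bwd (nat_lit 2) (Steps.bwd (nat_lit 3) (Steps.bwd (nat_lit 5) (Steps.bwd (nat_lit 3) (Steps.bwd (nat_lit 1) Steps.nil)))))))) (nat_lit 18) (nat_lit 7),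
  Rule.mk (nat_lit 3) (nat_lit 115) (Steps.bwd (nat_lit 2) (Steps.fwd (nat_lit 6144) (Steps.bwd (nat_lit 2) (Steps.bwd (nat_lit 1) (Steps.bwd (nat_lit 4) (Steps.fwd (nat_lit 4096) (Steps.fwd (nat_lit 8192) (Steps.fwd (nat_lit 2048) Steps.nil)))))))) (nat_lit 40) (nat_lit 5),
  Rule.mk (nat_lit 3) (nat_lit 115) (Steps.bwd (nat_lit 6) (Steps.fwd (nat_lit 6144) (Steps.bwd (nat_lit 2) (Steps.fwd (nat_lit 2048) (Steps.bwd (nat_lit 2) (Steps.bwd (nat_lit 6) (Steps.fwd (nat_lit 6144) (Steps.bwd (nat_lit 1) Steps.nil)))))))) (nat_lit 19) (nat_lit 5),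
  Rule.mk (nat_lit 1) (nat_lit 102) (Steps.bwd (nat_lit 3) (Steps.bwd (nat_lit 1) (Steps.bwd (nat_lit 3) (Steps.fwd (nat_lit 2048) (Steps.bwd (nat_lit 3) (Steps.bwd (nat_lit 1) (Steps.bwd (nat_lit 3) Steps.nil))))))) (nat_lit 10) (nat_lit 1),
  Rule.mk (nat_lit 6) (nat_lit 154) (Steps.bwd (nat_lit 2) (Steps.fwd (nat_lit 6144) (Steps.fwd (nat_lit 2048) (Steps.fwd (nat_lit 4096) (Steps.fwd (nat_lit 6144) (Steps.bwd (nat_lit 1) (Steps.fwd (nat_lit 4096) (Steps.fwd (nat_lit 6144) (Steps.bwd (nat_lit 5) (Steps.fwd (nat_lit 4096) (Steps.bwd (nat_lit 3) Steps.nil))))))))))) (nat_lit 20) (nat_lit 10),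
  Rule.mk (nat_lit 5) (nat_lit 115) (Steps.fwd (nat_lit 4096) (Steps.fwd (nat_lit 2048) (Steps.fwd (nat_lit 4096) (Steps.fwd (nat_lit 6144) (Steps.bwd (nat_lit 5) (Steps.bwd (nat_lit 3) (Steps.bwd (nat_lit 1) (Steps.bwd (nat_lit 3) Steps.nil)))))))) (nat_lit 18) (nat_lit 8),
  Rule.mk (nat_lit 5) (nat_lit 154) (Steps.fwd (nat_lit 4096) (Steps.bwd (nat_lit 3) (Steps.bwd (nat_lit 6) (Steps.bwd (nat_lit 2) (Steps.bwd (nat_lit 3) (Steps.bwd (nat_lit 1) (Steps.bwd (nat_lit 2) (Steps.fwd (nat_lit 6144) (Steps.fwd (nat_lit 2048) (Steps.fwd (nat_lit 4096) (Steps.bwd (nat_lit 3) Steps.nil))))))))))) (nat_lit 20) (nat_lit 7),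
  Rule.mk (nat_lit 1) (nat_lit 154) (Steps.bwd (nat_lit 2) (Steps.fwd (nat_lit 6144) (Steps.bwd (nat_lit 2) (Steps.bwd (nat_lit 1) (Steps.bwd (nat_lit 3) (Steps.bwd (nat_lit 1) (Steps.bwd (nat_lit 2) (Steps.fwd (nat_lit 6144) (Steps.bwd (nat_lit 1) (Steps.bwd (nat_lit 2) (Steps.fwd (nat_lit 6144) Steps.nil))))))))))) (nat_lit 14) (nat_lit 7),
  Rule.mk (nat_lit 5) (nat_lit 115) (Steps.bwd (nat_lit 3) (Steps.fwd (nat_lit 2048) (Steps.fwd (nat_lit 6144) (Steps.bwd (nat_lit 5) (Steps.bwd (nat_lit 2) (Steps.fwd (nat_lit 2048) (Steps.fwd (nat_lit 4096) (Steps.bwd (nat_lit 3) Steps.nil)))))))) (nat_lit 18) (nat_lit 4),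
  Rule.mk (nat_lit 1) (nat_lit 115) (Steps.bwd (nat_lit 3) (Steps.bwd (nat_lit 1) (Steps.bwd (nat_lit 4) (Steps.bwd (nat_lit 3) (Steps.bwd (nat_lit 1) (Steps.bwd (nat_lit 3) (Steps.fwd (nat_lit 8192) (Steps.bwd (nat_lit 3) Steps.nil)))))))) (nat_lit 42) (nat_lit 7),
  Rule.mk (nat_lit 1) (nat_lit 115) (Steps.fwd (nat_lit 4096) (Steps.bwd (nat_lit 3) (Steps.bwd (nat_lit 5) (Steps.fwd (nat_lit 6144) (Steps.fwd (nat_lit 2048) (Steps.bwd (nat_lit 3) (Steps.bwd (nat_lit 5) (Steps.bwd (nat_lit 2) Steps.nil)))))))) (nat_lit 18) (nat_lit 1),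
  Rule.mk (nat_lit 3) (nat_lit 115) (Steps.bwd (nat_lit 6) (Steps.bwd (nat_lit 3) (Steps.bwd (nat_lit 2) (Steps.bwd (nat_lit 1) (Steps.bwd (nat_lit 2) (Steps.bwd (nat_lit 6) (Steps.bwd (nat_lit 3) (Steps.bwd (nat_lit 1) Steps.nil)))))))) (nat_lit 19) (nat_lit 5),
  Rule.mk (nat_lit 3) (nat_lit 115) (Steps.bwd (nat_lit 2) (Steps.fwd (nat_lit 6144) (Steps.fwd (nat_lit 4096) (Steps.fwd (nat_lit 2048) (Steps.bwd (nat_lit 4) (Steps.bwd (nat_lit 2) (Steps.fwd (nat_lit 8192) (Steps.bwd (nat_lit 1) Steps.nil)))))))) (nat_lit 40) (nat_lit 5),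
  Rule.mk (nat_lit 3) (nat_lit 115) (Steps.bwd (nat_lit 5) (Steps.bwd (nat_lit 2) (Steps.bwd (nat_lit 1) (Steps.fwd (nat_lit 4096) (Steps.bwd (nat_lit 3) (Steps.fwd (nat_lit 12288) (Steps.fwd (nat_lit 6144) (Steps.bwd (nat_lit 1) Steps.nil)))))))) (nat_lit 18) (nat_lit 7),
  Rule.mk (nat_lit 5) (nat_lit 115) (Steps.bwd (nat_lit 3) (Steps.bwd (nat_lit 1) (Steps.fwd (nat_lit 6144) (Steps.fwd (nat_lit 12288) (Steps.fwd (nat_lit 4096) (Steps.bwd (nat_lit 1) (Steps.fwd (nat_lit 4096) (Steps.bwd (nat_lit 3) Steps.nil)))))))) (nat_lit 18) (nat_lit 4),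
  Rule.mk (nat_lit 2) (nat_lit 154) (Steps.bwd (nat_lit 3) (Steps.bwd (nat_lit 6) (Steps.fwd (nat_lit 4096) (Steps.fwd (nat_lit 6144) (Steps.fwd (nat_lit 2048) (Steps.fwd (nat_lit 4096) (Steps.bwd (nat_lit 3) (Steps.bwd (nat_lit 1) (Steps.fwd (nat_lit 4096) (Steps.bwd (nat_lit 3) (Steps.bwd (nat_lit 5) Steps.nil))))))))))) (nat_lit 20) (nat_lit 8),
  Rule.mk (nat_lit 2) (nat_lit 115) (Steps.bwd (nat_lit 3) (Steps.fwd (nat_lit 4096) (Steps.bwd (nat_lit 1) (Steps.bwd (nat_lit 4) (Steps.fwd (nat_lit 4096) (Steps.fwd (nat_lit 8192) (Steps.bwd (nat_lit 1) (Steps.bwd (nat_lit 3) Steps.nil)))))))) (nat_lit 40) (nat_lit 6),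
  Rule.mk (nat_lit 3) (nat_lit 115) (Steps.bwd (nat_lit 1) (Steps.bwd (nat_lit 3) (Steps.fwd (nat_lit 12288) (Steps.fwd (nat_lit 4096) (Steps.fwd (nat_lit 2048) (Steps.bwd (nat_lit 2) (Steps.bwd (nat_lit 3) (Steps.bwd (nat_lit 5) Steps.nil)))))))) (nat_lit 18) (nat_lit 5),
  Rule.mk (nat_lit 6) (nat_lit 115) (Steps.bwd (nat_lit 3) (Steps.fwd (nat_lit 4096) (Steps.bwd (nat_lit 1) (Steps.fwd (nat_lit 4096) (Steps.bwd (nat_lit 6) (Steps.bwd (nat_lit 3) (Steps.fwd (nat_lit 2048) (Steps.bwd (nat_lit 3) Steps.nil)))))))) (nat_lit 19) (nat_lit 6),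
  Rule.mk (nat_lit 5) (nat_lit 154) (Steps.bwd (nat_lit 3) (Steps.fwd (nat_lit 4096) (Steps.bwd (nat_lit 6) (Steps.fwd (nat_lit 6144) (Steps.bwd (nat_lit 2) (Steps.bwd (nat_lit 1) (Steps.bwd (nat_lit 3) (Steps.fwd (nat_lit 4096) (Steps.fwd (nat_lit 2048) (Steps.fwd (nat_lit 6144) (Steps.fwd (nat_lit 4096) Steps.nil))))))))))) (nat_lit 21) (nat_lit 3),
  Rule.mk (nat_lit 3) (nat_lit 115) (Steps.bwd (nat_lit 1) (Steps.fwd (nat_lit 6144) (Steps.bwd (nat_lit 5) (Steps.fwd (nat_lit 4096) (Steps.fwd (nat_lit 2048) (Steps.fwd (nat_lit 4096) (Steps.bwd (nat_lit 3) (Steps.bwd (nat_lit 5) Steps.nil)))))))) (nat_lit 18) (nat_lit 5),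
  Rule.mk (nat_lit 5) (nat_lit 115) (Steps.bwd (nat_lit 2) (Steps.bwd (nat_lit 1) (Steps.fwd (nat_lit 4096) (Steps.bwd (nat_lit 3) (Steps.bwd (nat_lit 5) (Steps.fwd (nat_lit 6144) (Steps.bwd (nat_lit 1) (Steps.bwd (nat_lit 3) Steps.nil)))))))) (nat_lit 18) (nat_lit 8),
  Rule.mk (nat_lit 2) (nat_lit 115) (Steps.bwd (nat_lit 1) (Steps.bwd (nat_lit 2) (Steps.fwd (nat_lit 6144) (Steps.bwd (nat_lit 5) (Steps.fwd (nat_lit 6144) (Steps.fwd (nat_lit 2048) (Steps.fwd (nat_lit 6144) (Steps.fwd (nat_lit 12288) Steps.nil)))))))) (nat_lit 18) (nat_lit 0),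
  Rule.mk (nat_lit 3) (nat_lit 115) (Steps.bwd (nat_lit 5) (Steps.fwd (nat_lit 4096) (Steps.fwd (nat_lit 2048) (Steps.fwd (nat_lit 4096) (Steps.fwd (nat_lit 6144) (Steps.fwd (nat_lit 12288) (Steps.bwd (nat_lit 3) (Steps.bwd (nat_lit 1) Steps.nil)))))))) (nat_lit 18) (nat_lit 7),
  Rule.mk (nat_lit 1) (nat_lit 102) (Steps.bwd (nat_lit 3) (Steps.bwd (nat_lit 1) (Steps.bwd (nat_lit 3) (Steps.bwd (nat_lit 1) (Steps.bwd (nat_lit 3) (Steps.bwd (nat_lit 1) (Steps.bwd (nat_lit 3) Steps.nil))))))) (nat_lit 10) (nat_lit 1),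
  Rule.mk (nat_lit 5) (nat_lit 115) (Steps.bwd (nat_lit 3) (Steps.fwd (nat_lit 2048) (Steps.bwd (nat_lit 3) (Steps.bwd (nat_lit 5) (Steps.fwd (nat_lit 4096) (Steps.bwd (nat_lit 1) (Steps.fwd (nat_lit 4096) (Steps.bwd (nat_lit 3) Steps.nil)))))))) (nat_lit 18) (nat_lit 4),
  Rule.mk (nat_lit 3) (nat_lit 115) (Steps.bwd (nat_lit 1) (Steps.fwd (nat_lit 6144) (Steps.fwd (nat_lit 12288) (Steps.fwd (nat_lit 4096) (Steps.fwd (nat_lit 2048) (Steps.bwd (nat_lit 2) (Steps.fwd (nat_lit 6144) (Steps.bwd (nat_lit 5) Steps.nil)))))))) (nat_lit 18) (nat_lit 5),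
  Rule.mk (nat_lit 2) (nat_lit 115) (Steps.bwd (nat_lit 1) (Steps.bwd (nat_lit 2) (Steps.fwd (nat_lit 10240) (Steps.fwd (nat_lit 6144) (Steps.fwd (nat_lit 2048) (Steps.fwd (nat_lit 6144) (Steps.fwd (nat_lit 10240) (Steps.bwd (nat_lit 3) Steps.nil)))))))) (nat_lit 19) (nat_lit 8)]
noncomputable def R_15 : List (Rule) := [Rule.mk (nat_lit 6) (nat_lit 115) (Steps.fwd (nat_lit 6144) (Steps.fwd (nat_lit 2048) (Steps.fwd (nat_lit 6144) (Steps.bwd (nat_lit 6) (Steps.fwd (nat_lit 6144) (Steps.fwd (nat_lit 4096) (Steps.fwd (nat_lit 2048) (Steps.fwd (nat_lit 4096) Steps.nil)))))))) (nat_lit 19) (nat_lit 2),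
  Rule.mk (nat_lit 8) (nat_lit 154) (Steps.bwd (nat_lit 3) (Steps.fwd (nat_lit 2048) (Steps.bwd (nat_lit 7) (Steps.bwd (nat_lit 3) (Steps.fwd (nat_lit 4096) (Steps.fwd (nat_lit 2048) (Steps.fwd (nat_lit 6144) (Steps.fwd (nat_lit 4096) (Steps.fwd (nat_lit 2048) (Steps.fwd (nat_lit 6144) (Steps.fwd (nat_lit 2048) Steps.nil))))))))))) (nat_lit 29) (nat_lit 3),
  Rule.mk (nat_lit 8) (nat_lit 76) (Steps.bwd (nat_lit 3) (Steps.fwd (nat_lit 14336) (Steps.fwd (nat_lit 6144) (Steps.bwd (nat_lit 8) (Steps.fwd (nat_lit 6144) Steps.nil))))) (nat_lit 27) (nat_lit 1),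
  Rule.mk (nat_lit 1) (nat_lit 102) (Steps.bwd (nat_lit 3) (Steps.bwd (nat_lit 1) (Steps.bwd (nat_lit 3) (Steps.bwd (nat_lit 1) (Steps.fwd (nat_lit 6144) (Steps.bwd (nat_lit 1) (Steps.fwd (nat_lit 6144) Steps.nil))))))) (nat_lit 10) (nat_lit 1),
  Rule.mk (nat_lit 7) (nat_lit 76) (Steps.bwd (nat_lit 2) (Steps.fwd (nat_lit 6144) (Steps.fwd (nat_lit 16384) (Steps.bwd (nat_lit 2) (Steps.bwd (nat_lit 3) Steps.nil))))) (nat_lit 32) (nat_lit 0),
  Rule.mk (nat_lit 1) (nat_lit 154) (Steps.bwd (nat_lit 2) (Steps.fwd (nat_lit 6144) (Steps.bwd (nat_lit 1) (Steps.bwd (nat_lit 2) (Steps.bwd (nat_lit 3) (Steps.fwd (nat_lit 12288) (Steps.fwd (nat_lit 4096) (Steps.bwd (nat_lit 3) (Steps.bwd (nat_lit 6) (Steps.bwd (nat_lit 2) (Steps.fwd (nat_lit 6144) Steps.nil))))))))))) (nat_lit 20) (nat_lit 1),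
  Rule.mk (nat_lit 1) (nat_lit 154) (Steps.bwd (nat_lit 2) (Steps.bwd (nat_lit 3) (Steps.fwd (nat_lit 4096) (Steps.fwd (nat_lit 2048) (Steps.fwd (nat_lit 6144) (Steps.bwd (nat_lit 1) (Steps.bwd (nat_lit 2) (Steps.fwd (nat_lit 6144) (Steps.bwd (nat_lit 1) (Steps.bwd (nat_lit 2) (Steps.bwd (nat_lit 3) Steps.nil))))))))))) (nat_lit 14) (nat_lit 7),
  Rule.mk (nat_lit 3) (nat_lit 115) (Steps.bwd (nat_lit 5) (Steps.bwd (nat_lit 2) (Steps.bwd (nat_lit 1) (Steps.fwd (nat_lit 4096) (Steps.fwd (nat_lit 6144) (Steps.bwd (nat_lit 5) (Steps.bwd (nat_lit 3) (Steps.bwd (nat_lit 1) Steps.nil)))))))) (nat_lit 18) (nat_lit 7),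
  Rule.mk (nat_lit 1) (nat_lit 102) (Steps.bwd (nat_lit 3) (Steps.fwd (nat_lit 2048) (Steps.fwd (nat_lit 6144) (Steps.bwd (nat_lit 1) (Steps.bwd (nat_lit 3) (Steps.bwd (nat_lit 1) (Steps.fwd (nat_lit 6144) Steps.nil))))))) (nat_lit 10) (nat_lit 1),
  Rule.mk (nat_lit 1) (nat_lit 102) (Steps.bwd (nat_lit 3) (Steps.bwd (nat_lit 1) (Steps.fwd (nat_lit 6144) (Steps.bwd (nat_lit 1) (Steps.bwd (nat_lit 3) (Steps.bwd (nat_lit 1) (Steps.bwd (nat_lit 3) Steps.nil))))))) (nat_lit 10) (nat_lit 1),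
  Rule.mk (nat_lit 6) (nat_lit 115) (Steps.bwd (nat_lit 3) (Steps.fwd (nat_lit 4096) (Steps.bwd (nat_lit 1) (Steps.fwd (nat_lit 4096) (Steps.fwd (nat_lit 10240) (Steps.fwd (nat_lit 6144) (Steps.fwd (nat_lit 2048) (Steps.fwd (nat_lit 6144) Steps.nil)))))))) (nat_lit 19) (nat_lit 6),
  Rule.mk (nat_lit 3) (nat_lit 115) (Steps.bwd (nat_lit 5) (Steps.bwd (nat_lit 2) (Steps.bwd (nat_lit 1) (Steps.bwd (nat_lit 2) (Steps.bwd (nat_lit 3) (Steps.fwd (nat_lit 12288) (Steps.bwd (nat_lit 3) (Steps.bwd (nat_lit 1) Steps.nil)))))))) (nat_lit 18) (nat_lit 7),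
  Rule.mk (nat_lit 2) (nat_lit 115) (Steps.bwd (nat_lit 1) (Steps.fwd (nat_lit 4096) (Steps.fwd (nat_lit 6144) (Steps.fwd (nat_lit 12288) (Steps.fwd (nat_lit 6144) (Steps.bwd (nat_lit 1) (Steps.fwd (nat_lit 6144) (Steps.fwd (nat_lit 12288) Steps.nil)))))))) (nat_lit 18) (nat_lit 0),
  Rule.mk (nat_lit 3) (nat_lit 102) (Steps.bwd (nat_lit 1) (Steps.bwd (nat_lit 3) (Steps.fwd (nat_lit 2048) (Steps.bwd (nat_lit 3) (Steps.bwd (nat_lit 1) (Steps.bwd (nat_lit 3) (Steps.bwd (nat_lit 1) Steps.nil))))))) (nat_lit 10) (nat_lit 0),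
  Rule.mk (nat_lit 5) (nat_lit 115) (Steps.bwd (nat_lit 2) (Steps.bwd (nat_lit 1) (Steps.bwd (nat_lit 2) (Steps.fwd (nat_lit 6144) (Steps.fwd (nat_lit 12288) (Steps.bwd (nat_lit 3) (Steps.bwd (nat_lit 1) (Steps.bwd (nat_lit 3) Steps.nil)))))))) (nat_lit 18) (nat_lit 8),
  Rule.mk (nat_lit 1) (nat_lit 154) (Steps.bwd (nat_lit 3) (Steps.bwd (nat_lit 1) (Steps.bwd (nat_lit 2) (Steps.bwd (nat_lit 3) (Steps.bwd (nat_lit 1) (Steps.bwd (nat_lit 2) (Steps.bwd (nat_lit 3) (Steps.bwd (nat_lit 8) (Steps.bwd (nat_lit 1) (Steps.bwd (nat_lit 3) (Steps.bwd (nat_lit 7) Steps.nil))))))))))) (nat_lit 28) (nat_lit 11),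
  Rule.mk (nat_lit 7) (nat_lit 154) (Steps.bwd (nat_lit 3) (Steps.fwd (nat_lit 4096) (Steps.fwd (nat_lit 2048) (Steps.bwd (nat_lit 3) (Steps.fwd (nat_lit 4096) (Steps.bwd (nat_lit 1) (Steps.bwd (nat_lit 3) (Steps.bwd (nat_lit 1) (Steps.bwd (nat_lit 8) (Steps.fwd (nat_lit 6144) (Steps.fwd (nat_lit 2048) Steps.nil))))))))))) (nat_lit 29) (nat_lit 6),
  Rule.mk (nat_lit 3) (nat_lit 102) (Steps.bwd (nat_lit 1) (Steps.fwd (nat_lit 6144) (Steps.fwd (nat_lit 2048) (Steps.fwd (nat_lit 6144) (Steps.fwd (nat_lit 2048) (Steps.bwd (nat_lit 3) (Steps.fwd (nat_lit 2048) Steps.nil))))))) (nat_lit 10) (nat_lit 0),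
  Rule.mk (nat_lit 2) (nat_lit 115) (Steps.bwd (nat_lit 1) (Steps.fwd (nat_lit 4096) (Steps.fwd (nat_lit 10240) (Steps.bwd (nat_lit 3) (Steps.bwd (nat_lit 1) (Steps.bwd (nat_lit 3) (Steps.bwd (nat_lit 6) (Steps.bwd (nat_lit 3) Steps.nil)))))))) (nat_lit 19) (nat_lit 8),
  Rule.mk (nat_lit 6) (nat_lit 154) (Steps.fwd (nat_lit 4096) (Steps.fwd (nat_lit 6144) (Steps.bwd (nat_lit 1) (Steps.fwd (nat_lit 4096) (Steps.fwd (nat_lit 6144) (Steps.fwd (nat_lit 2048) (Steps.fwd (nat_lit 4096) (Steps.bwd (nat_lit 3) (Steps.fwd (nat_lit 12288) (Steps.fwd (nat_lit 4096) (Steps.fwd (nat_lit 6144) Steps.nil))))))))))) (nat_lit 20) (nat_lit 10),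
  Rule.mk (nat_lit 1) (nat_lit 154) (Steps.bwd (nat_lit 2) (Steps.bwd (nat_lit 3) (Steps.fwd (nat_lit 4096) (Steps.fwd (nat_lit 2048) (Steps.fwd (nat_lit 6144) (Steps.fwd (nat_lit 2048) (Steps.bwd (nat_lit 2) (Steps.fwd (nat_lit 6144) (Steps.bwd (nat_lit 1) (Steps.bwd (nat_lit 2) (Steps.fwd (nat_lit 6144) Steps.nil))))))))))) (nat_lit 14) (nat_lit 7),
  Rule.mk (nat_lit 3) (nat_lit 154) (Steps.bwd (nat_lit 5) (Steps.bwd (nat_lit 2) (Steps.bwd (nat_lit 3) (Steps.bwd (nat_lit 6) (Steps.bwd (nat_lit 2) (Steps.bwd (nat_lit 3) (Steps.bwd (nat_lit 1) (Steps.bwd (nat_lit 2) (Steps.bwd (nat_lit 3) (Steps.fwd (nat_lit 2048) (Steps.fwd (nat_lit 4096) Steps.nil))))))))))) (nat_lit 20) (nat_lit 6),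
  Rule.mk (nat_lit 3) (nat_lit 154) (Steps.bwd (nat_lit 6) (Steps.fwd (nat_lit 4096) (Steps.fwd (nat_lit 6144) (Steps.fwd (nat_lit 2048) (Steps.fwd (nat_lit 4096) (Steps.fwd (nat_lit 6144) (Steps.bwd (nat_lit 1) (Steps.fwd (nat_lit 4096) (Steps.fwd (nat_lit 6144) (Steps.bwd (nat_lit 5) (Steps.fwd (nat_lit 4096) Steps.nil))))))))))) (nat_lit 20) (nat_lit 9),
  Rule.mk (nat_lit 6) (nat_lit 115) (Steps.bwd (nat_lit 3) (Steps.bwd (nat_lit 1) (Steps.bwd (nat_lit 3) (Steps.bwd (nat_lit 6) (Steps.bwd (nat_lit 3) (Steps.bwd (nat_lit 2) (Steps.fwd (nat_lit 2048) (Steps.bwd (nat_lit 2) Steps.nil)))))))) (nat_lit 19) (nat_lit 2),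
  Rule.mk (nat_lit 1) (nat_lit 154) (Steps.bwd (nat_lit 3) (Steps.bwd (nat_lit 2) (Steps.bwd (nat_lit 1) (Steps.fwd (nat_lit 6144) (Steps.bwd (nat_lit 2) (Steps.bwd (nat_lit 5) (Steps.bwd (nat_lit 3) (Steps.bwd (nat_lit 2) (Steps.bwd (nat_lit 6) (Steps.fwd (nat_lit 6144) (Steps.bwd (nat_lit 2) Steps.nil))))))))))) (nat_lit 21) (nat_lit 9),
  Rule.mk (nat_lit 2) (nat_lit 154) (Steps.bwd (nat_lit 1) (Steps.fwd (nat_lit 6144) (Steps.fwd (nat_lit 4096) (Steps.fwd (nat_lit 12288) (Steps.bwd (nat_lit 3) (Steps.bwd (nat_lit 2) (Steps.bwd (nat_lit 6) (Steps.fwd (nat_lit 6144) (Steps.bwd (nat_lit 2) (Steps.bwd (nat_lit 1) (Steps.bwd (nat_lit 3) Steps.nil))))))))))) (nat_lit 21) (nat_lit 11),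
  Rule.mk (nat_lit 3) (nat_lit 102) (Steps.bwd (nat_lit 2) (Steps.bwd (nat_lit 3) (Steps.bwd (nat_lit 2) (Steps.fwd (nat_lit 6144) (Steps.bwd (nat_lit 2) (Steps.fwd (nat_lit 6144) (Steps.fwd (nat_lit 4096) Steps.nil))))))) (nat_lit 12) (nat_lit 0),
  Rule.mk (nat_lit 5) (nat_lit 154) (Steps.bwd (nat_lit 3) (Steps.fwd (nat_lit 4096) (Steps.bwd (nat_lit 6) (Steps.fwd (nat_lit 6144) (Steps.bwd (nat_lit 2) (Steps.fwd (nat_lit 2048) (Steps.fwd (nat_lit 6144) (Steps.bwd (nat_lit 2) (Steps.bwd (nat_lit 1) (Steps.bwd (nat_lit 3) (Steps.bwd (nat_lit 2) Steps.nil))))))))))) (nat_lit 21) (nat_lit 3),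
  Rule.mk (nat_lit 2) (nat_lit 115) (Steps.bwd (nat_lit 1) (Steps.bwd (nat_lit 2) (Steps.bwd (nat_lit 6) (Steps.bwd (nat_lit 3) (Steps.bwd (nat_lit 1) (Steps.bwd (nat_lit 3) (Steps.bwd (nat_lit 6) (Steps.bwd (nat_lit 3) Steps.nil)))))))) (nat_lit 19) (nat_lit 8),
  Rule.mk (nat_lit 6) (nat_lit 154) (Steps.fwd (nat_lit 4096) (Steps.fwd (nat_lit 6144) (Steps.bwd (nat_lit 1) (Steps.fwd (nat_lit 4096) (Steps.fwd (nat_lit 6144) (Steps.bwd (nat_lit 1) (Steps.fwd (nat_lit 4096) (Steps.bwd (nat_lit 3) (Steps.fwd (nat_lit 12288) (Steps.bwd (nat_lit 2) (Steps.bwd (nat_lit 3) Steps.nil))))))))))) (nat_lit 20) (nat_lit 10),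
  Rule.mk (nat_lit 3) (nat_lit 154) (Steps.bwd (nat_lit 6) (Steps.fwd (nat_lit 4096) (Steps.bwd (nat_lit 3) (Steps.fwd (nat_lit 2048) (Steps.bwd (nat_lit 2) (Steps.bwd (nat_lit 3) (Steps.bwd (nat_lit 1) (Steps.fwd (nat_lit 4096) (Steps.bwd (nat_lit 3) (Steps.bwd (nat_lit 5) (Steps.bwd (nat_lit 2) Steps.nil))))))))))) (nat_lit 20) (nat_lit 9),
  Rule.mk (nat_lit 1) (nat_lit 115) (Steps.bwd (nat_lit 3) (Steps.fwd (nat_lit 12288) (Steps.fwd (nat_lit 4096) (Steps.bwd (nat_lit 1) (Steps.fwd (nat_lit 4096) (Steps.bwd (nat_lit 3) (Steps.bwd (nat_lit 5) (Steps.fwd (nat_lit 6144) Steps.nil)))))))) (nat_lit 18) (nat_lit 6),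
  Rule.mk (nat_lit 5) (nat_lit 115) (Steps.bwd (nat_lit 3) (Steps.bwd (nat_lit 1) (Steps.bwd (nat_lit 3) (Steps.fwd (nat_lit 12288) (Steps.bwd (nat_lit 2) (Steps.fwd (nat_lit 2048) (Steps.bwd (nat_lit 2) (Steps.fwd (nat_lit 6144) Steps.nil)))))))) (nat_lit 18) (nat_lit 4),
  Rule.mk (nat_lit 5) (nat_lit 154) (Steps.bwd (nat_lit 3) (Steps.fwd (nat_lit 4096) (Steps.fwd (nat_lit 10240) (Steps.bwd (nat_lit 3) (Steps.fwd (nat_lit 4096) (Steps.bwd (nat_lit 1) (Steps.fwd (nat_lit 6144) (Steps.fwd (nat_lit 4096) (Steps.fwd (nat_lit 2048) (Steps.fwd (nat_lit 6144) (Steps.fwd (nat_lit 4096) Steps.nil))))))))))) (nat_lit 21) (nat_lit 3),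
  Rule.mk (nat_lit 8) (nat_lit 50) (Steps.fwd (nat_lit 10240) (Steps.bwd (nat_lit 7) (Steps.bwd (nat_lit 5) Steps.nil))) (nat_lit 30) (nat_lit 3),
  Rule.mk (nat_lit 5) (nat_lit 115) (Steps.bwd (nat_lit 3) (Steps.fwd (nat_lit 2048) (Steps.bwd (nat_lit 3) (Steps.fwd (nat_lit 12288) (Steps.fwd (nat_lit 4096) (Steps.fwd (nat_lit 2048) (Steps.fwd (nat_lit 4096) (Steps.fwd (nat_lit 6144) Steps.nil)))))))) (nat_lit 18) (nat_lit 4),
  Rule.mk (nat_lit 1) (nat_lit 102) (Steps.bwd (nat_lit 3) (Steps.fwd (nat_lit 2048) (Steps.fwd (nat_lit 6144) (Steps.bwd (nat_lit 1) (Steps.bwd (nat_lit 3) (Steps.fwd (nat_lit 2048) (Steps.bwd (nat_lit 3) Steps.nil))))))) (nat_lit 10) (nat_lit 1),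
  Rule.mk (nat_lit 1) (nat_lit 115) (Steps.bwd (nat_lit 3) (Steps.bwd (nat_lit 5) (Steps.fwd (nat_lit 4096) (Steps.bwd (nat_lit 1) (Steps.fwd (nat_lit 4096) (Steps.bwd (nat_lit 3) (Steps.bwd (nat_lit 5) (Steps.bwd (nat_lit 3) Steps.nil)))))))) (nat_lit 18) (nat_lit 6),
  Rule.mk (nat_lit 6) (nat_lit 115) (Steps.bwd (nat_lit 3) (Steps.fwd (nat_lit 4096) (Steps.bwd (nat_lit 1) (Steps.fwd (nat_lit 4096) (Steps.fwd (nat_lit 10240) (Steps.bwd (nat_lit 3) (Steps.fwd (nat_lit 2048) (Steps.bwd (nat_lit 3) Steps.nil)))))))) (nat_lit 19) (nat_lit 6),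
  Rule.mk (nat_lit 3) (nat_lit 115) (Steps.bwd (nat_lit 6) (Steps.fwd (nat_lit 6144) (Steps.fwd (nat_lit 4096) (Steps.bwd (nat_lit 1) (Steps.bwd (nat_lit 2) (Steps.bwd (nat_lit 6) (Steps.bwd (nat_lit 3) (Steps.bwd (nat_lit 1) Steps.nil)))))))) (nat_lit 19) (nat_lit 5),
  Rule.mk (nat_lit 3) (nat_lit 76) (Steps.bwd (nat_lit 2) (Steps.fwd (nat_lit 14336) (Steps.bwd (nat_lit 3) (Steps.fwd (nat_lit 4096) (Steps.bwd (nat_lit 8) Steps.nil))))) (nat_lit 33) (nat_lit 2),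
  Rule.mk (nat_lit 3) (nat_lit 115) (Steps.bwd (nat_lit 1) (Steps.fwd (nat_lit 6144) (Steps.bwd (nat_lit 5) (Steps.fwd (nat_lit 4096) (Steps.fwd (nat_lit 2048) (Steps.fwd (nat_lit 4096) (Steps.fwd (nat_lit 6144) (Steps.fwd (nat_lit 12288) Steps.nil)))))))) (nat_lit 18) (nat_lit 5),
  Rule.mk (nat_lit 2) (nat_lit 115) (Steps.bwd (nat_lit 1) (Steps.bwd (nat_lit 2) (Steps.bwd (nat_lit 3) (Steps.fwd (nat_lit 12288) (Steps.bwd (nat_lit 3) (Steps.fwd (nat_lit 2048) (Steps.fwd (nat_lit 6144) (Steps.fwd (nat_lit 12288) Steps.nil)))))))) (nat_lit 18) (nat_lit 0),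
  Rule.mk (nat_lit 6) (nat_lit 115) (Steps.fwd (nat_lit 6144) (Steps.bwd (nat_lit 2) (Steps.bwd (nat_lit 1) (Steps.bwd (nat_lit 2) (Steps.fwd (nat_lit 10240) (Steps.fwd (nat_lit 6144) (Steps.bwd (nat_lit 1) (Steps.fwd (nat_lit 6144) Steps.nil)))))))) (nat_lit 19) (nat_lit 6),
  Rule.mk (nat_lit 2) (nat_lit 115) (Steps.bwd (nat_lit 1) (Steps.bwd (nat_lit 2) (Steps.fwd (nat_lit 6144) (Steps.bwd (nat_lit 5) (Steps.bwd (nat_lit 3) (Steps.bwd (nat_lit 1) (Steps.bwd (nat_lit 3) (Steps.fwd (nat_lit 12288) Steps.nil)))))))) (nat_lit 18) (nat_lit 0),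
  Rule.mk (nat_lit 3) (nat_lit 154) (Steps.bwd (nat_lit 1) (Steps.bwd (nat_lit 2) (Steps.fwd (nat_lit 6144) (Steps.fwd (nat_lit 4096) (Steps.fwd (nat_lit 2048) (Steps.bwd (nat_lit 3) (Steps.bwd (nat_lit 1) (Steps.fwd (nat_lit 4096) (Steps.fwd (nat_lit 6144) (Steps.fwd (nat_lit 2048) (Steps.bwd (nat_lit 2) Steps.nil))))))))))) (nat_lit 14) (nat_lit 6),
  Rule.mk (nat_lit 6) (nat_lit 115) (Steps.fwd (nat_lit 6144) (Steps.bwd (nat_lit 2) (Steps.fwd (nat_lit 2048) (Steps.bwd (nat_lit 2) (Steps.bwd (nat_lit 6) (Steps.bwd (nat_lit 3) (Steps.fwd (nat_lit 2048) (Steps.fwd (nat_lit 6144) Steps.nil)))))))) (nat_lit 19) (nat_lit 6),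
  Rule.mk (nat_lit 1) (nat_lit 115) (Steps.bwd (nat_lit 2) (Steps.fwd (nat_lit 10240) (Steps.fwd (nat_lit 6144) (Steps.fwd (nat_lit 2048) (Steps.fwd (nat_lit 6144) (Steps.bwd (nat_lit 6) (Steps.bwd (nat_lit 3) (Steps.fwd (nat_lit 4096) Steps.nil)))))))) (nat_lit 19) (nat_lit 0),
  Rule.mk (nat_lit 3) (nat_lit 115) (Steps.bwd (nat_lit 1) (Steps.bwd (nat_lit 3) (Steps.fwd (nat_lit 12288) (Steps.bwd (nat_lit 2) (Steps.fwd (nat_lit 2048) (Steps.fwd (nat_lit 4096) (Steps.fwd (nat_lit 6144) (Steps.bwd (nat_lit 5) Steps.nil)))))))) (nat_lit 18) (nat_lit 5),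
  Rule.mk (nat_lit 2) (nat_lit 115) (Steps.bwd (nat_lit 1) (Steps.bwd (nat_lit 2) (Steps.fwd (nat_lit 6144) (Steps.fwd (nat_lit 12288) (Steps.fwd (nat_lit 6144) (Steps.bwd (nat_lit 1) (Steps.fwd (nat_lit 6144) (Steps.bwd (nat_lit 5) Steps.nil)))))))) (nat_lit 18) (nat_lit 0),
  Rule.mk (nat_lit 6) (nat_lit 115) (Steps.fwd (nat_lit 6144) (Steps.bwd (nat_lit 2) (Steps.bwd (nat_lit 1) (Steps.bwd (nat_lit 2) (Steps.bwd (nat_lit 6) (Steps.fwd (nat_lit 6144) (Steps.bwd (nat_lit 1) (Steps.bwd (nat_lit 3) Steps.nil)))))))) (nat_lit 19) (nat_lit 6),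
  Rule.mk (nat_lit 5) (nat_lit 115) (Steps.fwd (nat_lit 6144) (Steps.fwd (nat_lit 2048) (Steps.bwd (nat_lit 3) (Steps.bwd (nat_lit 5) (Steps.fwd (nat_lit 4096) (Steps.fwd (nat_lit 2048) (Steps.fwd (nat_lit 4096) (Steps.bwd (nat_lit 3) Steps.nil)))))))) (nat_lit 18) (nat_lit 4),
  Rule.mk (nat_lit 2) (nat_lit 50) (Steps.fwd (nat_lit 12288) (Steps.fwd (nat_lit 4096) (Steps.bwd (nat_lit 6) Steps.nil))) (nat_lit 16) (nat_lit 1),
  Rule.mk (nat_lit 1) (nat_lit 115) (Steps.bwd (nat_lit 3) (Steps.fwd (nat_lit 12288) (Steps.fwd (nat_lit 4096) (Steps.fwd (nat_lit 2048) (Steps.fwd (nat_lit 4096) (Steps.bwd (nat_lit 3) (Steps.fwd (nat_lit 12288) (Steps.bwd (nat_lit 3) Steps.nil)))))))) (nat_lit 18) (nat_lit 6),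
  Rule.mk (nat_lit 5) (nat_lit 154) (Steps.fwd (nat_lit 4096) (Steps.bwd (nat_lit 3) (Steps.fwd (nat_lit 10240) (Steps.fwd (nat_lit 4096) (Steps.bwd (nat_lit 3) (Steps.bwd (nat_lit 1) (Steps.fwd (nat_lit 4096) (Steps.bwd (nat_lit 3) (Steps.fwd (nat_lit 2048) (Steps.bwd (nat_lit 2) (Steps.fwd (nat_lit 6144) Steps.nil))))))))))) (nat_lit 20) (nat_lit 7),
  Rule.mk (nat_lit 3) (nat_lit 115) (Steps.bwd (nat_lit 1) (Steps.bwd (nat_lit 3) (Steps.fwd (nat_lit 12288) (Steps.bwd (nat_lit 2) (Steps.fwd (nat_lit 2048) (Steps.bwd (nat_lit 2) (Steps.fwd (nat_lit 6144) (Steps.fwd (nat_lit 12288) Steps.nil)))))))) (nat_lit 18) (nat_lit 5),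
  Rule.mk (nat_lit 1) (nat_lit 154) (Steps.bwd (nat_lit 3) (Steps.bwd (nat_lit 1) (Steps.fwd (nat_lit 4096) (Steps.fwd (nat_lit 6144) (Steps.bwd (nat_lit 1) (Steps.bwd (nat_lit 2) (Steps.fwd (nat_lit 6144) (Steps.bwd (nat_lit 1) (Steps.fwd (nat_lit 4096) (Steps.bwd (nat_lit 3) (Steps.fwd (nat_lit 4096) Steps.nil))))))))))) (nat_lit 14) (nat_lit 11),
  Rule.mk (nat_lit 6) (nat_lit 115) (Steps.fwd (nat_lit 6144) (Steps.bwd (nat_lit 2) (Steps.fwd (nat_lit 2048) (Steps.bwd (nat_lit 2) (Steps.bwd (nat_lit 6) (Steps.fwd (nat_lit 6144) (Steps.bwd (nat_lit 1) (Steps.bwd (nat_lit 3) Steps.nil)))))))) (nat_lit 19) (nat_lit 6),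
  Rule.mk (nat_lit 2) (nat_lit 115) (Steps.bwd (nat_lit 1) (Steps.fwd (nat_lit 4096) (Steps.bwd (nat_lit 3) (Steps.fwd (nat_lit 12288) (Steps.fwd (nat_lit 6144) (Steps.bwd (nat_lit 1) (Steps.fwd (nat_lit 6144) (Steps.bwd (nat_lit 5) Steps.nil)))))))) (nat_lit 18) (nat_lit 0),
  Rule.mk (nat_lit 4) (nat_lit 50) (Steps.bwd (nat_lit 1) (Steps.bwd (nat_lit 4) (Steps.fwd (nat_lit 2048) Steps.nil))) (nat_lit 38) (nat_lit 1),
  Rule.mk (nat_lit 3) (nat_lit 102) (Steps.bwd (nat_lit 1) (Steps.fwd (nat_lit 6144) (Steps.fwd (nat_lit 2048) (Steps.fwd (nat_lit 6144) (Steps.bwd (nat_lit 1) (Steps.bwd (nat_lit 3) (Steps.bwd (nat_lit 1) Steps.nil))))))) (nat_lit 10) (nat_lit 0),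
  Rule.mk (nat_lit 4) (nat_lit 115) (Steps.bwd (nat_lit 2) (Steps.fwd (nat_lit 8192) (Steps.bwd (nat_lit 1) (Steps.bwd (nat_lit 3) (Steps.fwd (nat_lit 4096) (Steps.fwd (nat_lit 6144) (Steps.fwd (nat_lit 4096) (Steps.bwd (nat_lit 1) Steps.nil)))))))) (nat_lit 40) (nat_lit 1),
  Rule.mk (nat_lit 3) (nat_lit 102) (Steps.bwd (nat_lit 1) (Steps.fwd (nat_lit 6144) (Steps.fwd (nat_lit 2048) (Steps.fwd (nat_lit 6144) (Steps.fwd (nat_lit 2048) (Steps.fwd (nat_lit 6144) (Steps.bwd (nat_lit 1) Steps.nil))))))) (nat_lit 10) (nat_lit 0),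
  Rule.mk (nat_lit 4) (nat_lit 76) (Steps.bwd (nat_lit 3) (Steps.bwd (nat_lit 4) (Steps.bwd (nat_lit 3) (Steps.fwd (nat_lit 8192) (Steps.bwd (nat_lit 3) Steps.nil))))) (nat_lit 36) (nat_lit 0)]
noncomputable def R_16 : List (Rule) := [Rule.mk (nat_lit 2) (nat_lit 115) (Steps.bwd (nat_lit 3) (Steps.fwd (nat_lit 4096) (Steps.fwd (nat_lit 2048) (Steps.bwd (nat_lit 4) (Steps.fwd (nat_lit 4096) (Steps.fwd (nat_lit 8192) (Steps.bwd (nat_lit 1) (Steps.bwd (nat_lit 3) Steps.nil)))))))) (nat_lit 40) (nat_lit 6),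
  Rule.mk (nat_lit 2) (nat_lit 115) (Steps.bwd (nat_lit 1) (Steps.fwd (nat_lit 8192) (Steps.fwd (nat_lit 4096) (Steps.fwd (nat_lit 8192) (Steps.fwd (nat_lit 2048) (Steps.fwd (nat_lit 6144) (Steps.fwd (nat_lit 4096) (Steps.bwd (nat_lit 3) Steps.nil)))))))) (nat_lit 40) (nat_lit 8),
  Rule.mk (nat_lit 3) (nat_lit 76) (Steps.bwd (nat_lit 4) (Steps.fwd (nat_lit 6144) (Steps.bwd (nat_lit 4) (Steps.bwd (nat_lit 3) (Steps.fwd (nat_lit 8192) Steps.nil))))) (nat_lit 36) (nat_lit 1),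
  Rule.mk (nat_lit 3) (nat_lit 115) (Steps.bwd (nat_lit 2) (Steps.fwd (nat_lit 6144) (Steps.fwd (nat_lit 4096) (Steps.bwd (nat_lit 1) (Steps.bwd (nat_lit 4) (Steps.bwd (nat_lit 2) (Steps.fwd (nat_lit 8192) (Steps.fwd (nat_lit 2048) Steps.nil)))))))) (nat_lit 40) (nat_lit 5),
  Rule.mk (nat_lit 3) (nat_lit 115) (Steps.bwd (nat_lit 1) (Steps.fwd (nat_lit 6144) (Steps.bwd (nat_lit 1) (Steps.bwd (nat_lit 4) (Steps.fwd (nat_lit 6144) (Steps.fwd (nat_lit 2048) (Steps.fwd (nat_lit 6144) (Steps.fwd (nat_lit 8192) Steps.nil)))))))) (nat_lit 42) (nat_lit 6),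
  Rule.mk (nat_lit 2) (nat_lit 115) (Steps.bwd (nat_lit 3) (Steps.bwd (nat_lit 2) (Steps.bwd (nat_lit 1) (Steps.bwd (nat_lit 4) (Steps.fwd (nat_lit 4096) (Steps.fwd (nat_lit 8192) (Steps.fwd (nat_lit 2048) (Steps.bwd (nat_lit 3) Steps.nil)))))))) (nat_lit 40) (nat_lit 6),
  Rule.mk (nat_lit 4) (nat_lit 76) (Steps.bwd (nat_lit 3) (Steps.bwd (nat_lit 4) (Steps.fwd (nat_lit 6144) (Steps.bwd (nat_lit 4) (Steps.bwd (nat_lit 3) Steps.nil))))) (nat_lit 36) (nat_lit 0),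
  Rule.mk (nat_lit 1) (nat_lit 115) (Steps.bwd (nat_lit 3) (Steps.bwd (nat_lit 1) (Steps.bwd (nat_lit 4) (Steps.bwd (nat_lit 3) (Steps.fwd (nat_lit 2048) (Steps.bwd (nat_lit 3) (Steps.fwd (nat_lit 8192) (Steps.bwd (nat_lit 3) Steps.nil)))))))) (nat_lit 42) (nat_lit 7),
  Rule.mk (nat_lit 4) (nat_lit 76) (Steps.bwd (nat_lit 3) (Steps.bwd (nat_lit 4) (Steps.bwd (nat_lit 3) (Steps.bwd (nat_lit 4) (Steps.fwd (nat_lit 6144) Steps.nil))))) (nat_lit 36) (nat_lit 0),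
  Rule.mk (nat_lit 3) (nat_lit 102) (Steps.bwd (nat_lit 1) (Steps.bwd (nat_lit 3) (Steps.fwd (nat_lit 2048) (Steps.bwd (nat_lit 3) (Steps.bwd (nat_lit 1) (Steps.fwd (nat_lit 6144) (Steps.bwd (nat_lit 1) Steps.nil))))))) (nat_lit 10) (nat_lit 0),
  Rule.mk (nat_lit 2) (nat_lit 154) (Steps.bwd (nat_lit 1) (Steps.bwd (nat_lit 3) (Steps.fwd (nat_lit 2048) (Steps.fwd (nat_lit 4096) (Steps.fwd (nat_lit 6144) (Steps.fwd (nat_lit 4096) (Steps.bwd (nat_lit 1) (Steps.fwd (nat_lit 6144) (Steps.fwd (nat_lit 4096) (Steps.bwd (nat_lit 1) (Steps.bwd (nat_lit 3) Steps.nil))))))))))) (nat_lit 15) (nat_lit 11),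
  Rule.mk (nat_lit 3) (nat_lit 102) (Steps.bwd (nat_lit 1) (Steps.bwd (nat_lit 3) (Steps.fwd (nat_lit 2048) (Steps.fwd (nat_lit 6144) (Steps.fwd (nat_lit 2048) (Steps.fwd (nat_lit 6144) (Steps.bwd (nat_lit 1) Steps.nil))))))) (nat_lit 10) (nat_lit 0),
  Rule.mk (nat_lit 2) (nat_lit 154) (Steps.bwd (nat_lit 1) (Steps.bwd (nat_lit 3) (Steps.fwd (nat_lit 2048) (Steps.bwd (nat_lit 2) (Steps.fwd (nat_lit 6144) (Steps.bwd (nat_lit 2) (Steps.fwd (nat_lit 2048) (Steps.fwd (nat_lit 6144) (Steps.fwd (nat_lit 4096) (Steps.bwd (nat_lit 1) (Steps.bwd (nat_lit 3) Steps.nil))))))))))) (nat_lit 15) (nat_lit 11),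
  Rule.mk (nat_lit 1) (nat_lit 115) (Steps.bwd (nat_lit 3) (Steps.fwd (nat_lit 4096) (Steps.bwd (nat_lit 3) (Steps.fwd (nat_lit 4096) (Steps.bwd (nat_lit 1) (Steps.fwd (nat_lit 8192) (Steps.bwd (nat_lit 2) (Steps.bwd (nat_lit 4) Steps.nil)))))))) (nat_lit 40) (nat_lit 4),
  Rule.mk (nat_lit 3) (nat_lit 115) (Steps.bwd (nat_lit 1) (Steps.fwd (nat_lit 8192) (Steps.bwd (nat_lit 2) (Steps.bwd (nat_lit 4) (Steps.fwd (nat_lit 2048) (Steps.fwd (nat_lit 4096) (Steps.fwd (nat_lit 6144) (Steps.bwd (nat_lit 2) Steps.nil)))))))) (nat_lit 41) (nat_lit 5),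
  Rule.mk (nat_lit 2) (nat_lit 154) (Steps.bwd (nat_lit 1) (Steps.bwd (nat_lit 3) (Steps.fwd (nat_lit 2048) (Steps.fwd (nat_lit 4096) (Steps.fwd (nat_lit 6144) (Steps.fwd (nat_lit 2048) (Steps.fwd (nat_lit 4096) (Steps.fwd (nat_lit 6144) (Steps.bwd (nat_lit 1) (Steps.bwd (nat_lit 2) (Steps.bwd (nat_lit 3) Steps.nil))))))))))) (nat_lit 14) (nat_lit 10),
  Rule.mk (nat_lit 1) (nat_lit 102) (Steps.bwd (nat_lit 3) (Steps.fwd (nat_lit 2048) (Steps.bwd (nat_lit 3) (Steps.bwd (nat_lit 1) (Steps.bwd (nat_lit 3) (Steps.fwd (nat_lit 2048) (Steps.fwd (nat_lit 6144) Steps.nil))))))) (nat_lit 10) (nat_lit 1),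
  Rule.mk (nat_lit 3) (nat_lit 115) (Steps.bwd (nat_lit 2) (Steps.bwd (nat_lit 3) (Steps.fwd (nat_lit 4096) (Steps.fwd (nat_lit 2048) (Steps.bwd (nat_lit 4) (Steps.fwd (nat_lit 4096) (Steps.fwd (nat_lit 8192) (Steps.bwd (nat_lit 1) Steps.nil)))))))) (nat_lit 40) (nat_lit 5),
  Rule.mk (nat_lit 3) (nat_lit 154) (Steps.bwd (nat_lit 6) (Steps.fwd (nat_lit 4096) (Steps.fwd (nat_lit 6144) (Steps.bwd (nat_lit 1) (Steps.fwd (nat_lit 4096) (Steps.fwd (nat_lit 6144) (Steps.fwd (nat_lit 2048) (Steps.bwd (nat_lit 2) (Steps.bwd (nat_lit 3) (Steps.bwd (nat_lit 5) (Steps.fwd (nat_lit 4096) Steps.nil))))))))))) (nat_lit 20) (nat_lit 9),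
  Rule.mk (nat_lit 4) (nat_lit 128) (Steps.bwd (nat_lit 5) (Steps.bwd (nat_lit 4) (Steps.bwd (nat_lit 5) (Steps.bwd (nat_lit 4) (Steps.bwd (nat_lit 5) (Steps.fwd (nat_lit 8192) (Steps.fwd (nat_lit 12288) (Steps.fwd (nat_lit 8192) (Steps.bwd (nat_lit 5) Steps.nil))))))))) (nat_lit 50) (nat_lit 1),
  Rule.mk (nat_lit 4) (nat_lit 128) (Steps.bwd (nat_lit 5) (Steps.bwd (nat_lit 4) (Steps.bwd (nat_lit 5) (Steps.bwd (nat_lit 4) (Steps.bwd (nat_lit 5) (Steps.fwd (nat_lit 8192) (Steps.bwd (nat_lit 5) (Steps.fwd (nat_lit 8192) (Steps.bwd (nat_lit 5) Steps.nil))))))))) (nat_lit 50) (nat_lit 1),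
  Rule.mk (nat_lit 4) (nat_lit 128) (Steps.bwd (nat_lit 6) (Steps.bwd (nat_lit 4) (Steps.fwd (nat_lit 10240) (Steps.bwd (nat_lit 4) (Steps.fwd (nat_lit 10240) (Steps.fwd (nat_lit 8192) (Steps.bwd (nat_lit 6) (Steps.fwd (nat_lit 8192) (Steps.bwd (nat_lit 6) Steps.nil))))))))) (nat_lit 51) (nat_lit 0),
  Rule.mk (nat_lit 3) (nat_lit 154) (Steps.bwd (nat_lit 6) (Steps.fwd (nat_lit 4096) (Steps.fwd (nat_lit 6144) (Steps.fwd (nat_lit 2048) (Steps.fwd (nat_lit 4096) (Steps.bwd (nat_lit 3) (Steps.bwd (nat_lit 1) (Steps.fwd (nat_lit 4096) (Steps.bwd (nat_lit 3) (Steps.bwd (nat_lit 5) (Steps.fwd (nat_lit 4096) Steps.nil))))))))))) (nat_lit 20) (nat_lit 9),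
  Rule.mk (nat_lit 3) (nat_lit 154) (Steps.bwd (nat_lit 2) (Steps.bwd (nat_lit 6) (Steps.bwd (nat_lit 3) (Steps.fwd (nat_lit 4096) (Steps.fwd (nat_lit 2048) (Steps.bwd (nat_lit 3) (Steps.fwd (nat_lit 4096) (Steps.bwd (nat_lit 1) (Steps.bwd (nat_lit 3) (Steps.bwd (nat_lit 2) (Steps.bwd (nat_lit 5) Steps.nil))))))))))) (nat_lit 21) (nat_lit 4),
  Rule.mk (nat_lit 4) (nat_lit 128) (Steps.bwd (nat_lit 6) (Steps.fwd (nat_lit 8192) (Steps.fwd (nat_lit 10240) (Steps.bwd (nat_lit 4) (Steps.fwd (nat_lit 10240) (Steps.fwd (nat_lit 8192) (Steps.fwd (nat_lit 10240) (Steps.bwd (nat_lit 4) (Steps.bwd (nat_lit 6) Steps.nil))))))))) (nat_lit 51) (nat_lit 0),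
  Rule.mk (nat_lit 3) (nat_lit 154) (Steps.bwd (nat_lit 6) (Steps.fwd (nat_lit 4096) (Steps.fwd (nat_lit 6144) (Steps.fwd (nat_lit 2048) (Steps.fwd (nat_lit 4096) (Steps.fwd (nat_lit 6144) (Steps.bwd (nat_lit 1) (Steps.bwd (nat_lit 2) (Steps.fwd (nat_lit 6144) (Steps.bwd (nat_lit 5) (Steps.bwd (nat_lit 2) Steps.nil))))))))))) (nat_lit 20) (nat_lit 9),
  Rule.mk (nat_lit 3) (nat_lit 154) (Steps.bwd (nat_lit 6) (Steps.bwd (nat_lit 2) (Steps.fwd (nat_lit 6144) (Steps.fwd (nat_lit 2048) (Steps.bwd (nat_lit 2) (Steps.bwd (nat_lit 3) (Steps.bwd (nat_lit 1) (Steps.fwd (nat_lit 4096) (Steps.bwd (nat_lit 3) (Steps.fwd (nat_lit 12288) (Steps.fwd (nat_lit 4096) Steps.nil))))))))))) (nat_lit 20) (nat_lit 9),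
  Rule.mk (nat_lit 3) (nat_lit 115) (Steps.bwd (nat_lit 1) (Steps.fwd (nat_lit 6144) (Steps.bwd (nat_lit 6) (Steps.fwd (nat_lit 6144) (Steps.bwd (nat_lit 2) (Steps.fwd (nat_lit 2048) (Steps.fwd (nat_lit 4096) (Steps.bwd (nat_lit 6) Steps.nil)))))))) (nat_lit 19) (nat_lit 3),
  Rule.mk (nat_lit 3) (nat_lit 115) (Steps.bwd (nat_lit 2) (Steps.bwd (nat_lit 1) (Steps.fwd (nat_lit 4096) (Steps.bwd (nat_lit 6) (Steps.fwd (nat_lit 6144) (Steps.bwd (nat_lit 1) (Steps.fwd (nat_lit 6144) (Steps.bwd (nat_lit 6) Steps.nil)))))))) (nat_lit 19) (nat_lit 7),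
  Rule.mk (nat_lit 3) (nat_lit 154) (Steps.bwd (nat_lit 6) (Steps.bwd (nat_lit 2) (Steps.fwd (nat_lit 6144) (Steps.fwd (nat_lit 2048) (Steps.fwd (nat_lit 4096) (Steps.fwd (nat_lit 6144) (Steps.fwd (nat_lit 2048) (Steps.fwd (nat_lit 4096) (Steps.bwd (nat_lit 3) (Steps.bwd (nat_lit 5) (Steps.fwd (nat_lit 4096) Steps.nil))))))))))) (nat_lit 20) (nat_lit 9),
  Rule.mk (nat_lit 1) (nat_lit 115) (Steps.fwd (nat_lit 4096) (Steps.bwd (nat_lit 6) (Steps.bwd (nat_lit 3) (Steps.fwd (nat_lit 2048) (Steps.fwd (nat_lit 6144) (Steps.bwd (nat_lit 6) (Steps.bwd (nat_lit 3) (Steps.bwd (nat_lit 2) Steps.nil)))))))) (nat_lit 19) (nat_lit 0),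
  Rule.mk (nat_lit 3) (nat_lit 154) (Steps.fwd (nat_lit 10240) (Steps.fwd (nat_lit 4096) (Steps.fwd (nat_lit 6144) (Steps.bwd (nat_lit 1) (Steps.bwd (nat_lit 2) (Steps.bwd (nat_lit 3) (Steps.bwd (nat_lit 1) (Steps.bwd (nat_lit 2) (Steps.bwd (nat_lit 3) (Steps.fwd (nat_lit 12288) (Steps.bwd (nat_lit 2) Steps.nil))))))))))) (nat_lit 20) (nat_lit 9),
  Rule.mk (nat_lit 6) (nat_lit 115) (Steps.bwd (nat_lit 3) (Steps.fwd (nat_lit 2048) (Steps.bwd (nat_lit 3) (Steps.fwd (nat_lit 10240) (Steps.fwd (nat_lit 6144) (Steps.fwd (nat_lit 4096) (Steps.bwd (nat_lit 1) (Steps.bwd (nat_lit 2) Steps.nil)))))))) (nat_lit 19) (nat_lit 2),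
  Rule.mk (nat_lit 1) (nat_lit 115) (Steps.bwd (nat_lit 3) (Steps.bwd (nat_lit 5) (Steps.bwd (nat_lit 2) (Steps.bwd (nat_lit 1) (Steps.fwd (nat_lit 4096) (Steps.bwd (nat_lit 3) (Steps.bwd (nat_lit 5) (Steps.fwd (nat_lit 6144) Steps.nil)))))))) (nat_lit 18) (nat_lit 6),
  Rule.mk (nat_lit 5) (nat_lit 115) (Steps.bwd (nat_lit 2) (Steps.fwd (nat_lit 2048) (Steps.fwd (nat_lit 4096) (Steps.bwd (nat_lit 3) (Steps.fwd (nat_lit 12288) (Steps.bwd (nat_lit 3) (Steps.fwd (nat_lit 2048) (Steps.fwd (nat_lit 6144) Steps.nil)))))))) (nat_lit 18) (nat_lit 8),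
  Rule.mk (nat_lit 1) (nat_lit 115) (Steps.bwd (nat_lit 2) (Steps.bwd (nat_lit 3) (Steps.bwd (nat_lit 5) (Steps.bwd (nat_lit 3) (Steps.bwd (nat_lit 1) (Steps.bwd (nat_lit 3) (Steps.bwd (nat_lit 5) (Steps.fwd (nat_lit 4096) Steps.nil)))))))) (nat_lit 18) (nat_lit 1),
  Rule.mk (nat_lit 5) (nat_lit 50) (Steps.fwd (nat_lit 4096) (Steps.fwd (nat_lit 10240) (Steps.fwd (nat_lit 4096) Steps.nil))) (nat_lit 16) (nat_lit 2),
  Rule.mk (nat_lit 6) (nat_lit 115) (Steps.bwd (nat_lit 3) (Steps.bwd (nat_lit 2) (Steps.fwd (nat_lit 2048) (Steps.fwd (nat_lit 4096) (Steps.bwd (nat_lit 6) (Steps.fwd (nat_lit 6144) (Steps.fwd (nat_lit 2048) (Steps.fwd (nat_lit 6144) Steps.nil)))))))) (nat_lit 19) (nat_lit 6),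
  Rule.mk (nat_lit 1) (nat_lit 115) (Steps.bwd (nat_lit 3) (Steps.fwd (nat_lit 12288) (Steps.fwd (nat_lit 4096) (Steps.bwd (nat_lit 1) (Steps.fwd (nat_lit 4096) (Steps.bwd (nat_lit 3) (Steps.fwd (nat_lit 12288) (Steps.bwd (nat_lit 3) Steps.nil)))))))) (nat_lit 18) (nat_lit 6),
  Rule.mk (nat_lit 1) (nat_lit 115) (Steps.fwd (nat_lit 4096) (Steps.bwd (nat_lit 6) (Steps.bwd (nat_lit 3) (Steps.bwd (nat_lit 1) (Steps.bwd (nat_lit 3) (Steps.bwd (nat_lit 6) (Steps.fwd (nat_lit 6144) (Steps.fwd (nat_lit 4096) Steps.nil)))))))) (nat_lit 19) (nat_lit 0),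
  Rule.mk (nat_lit 1) (nat_lit 115) (Steps.bwd (nat_lit 3) (Steps.fwd (nat_lit 4096) (Steps.fwd (nat_lit 6144) (Steps.fwd (nat_lit 4096) (Steps.bwd (nat_lit 1) (Steps.fwd (nat_lit 8192) (Steps.bwd (nat_lit 2) (Steps.fwd (nat_lit 8192) Steps.nil)))))))) (nat_lit 40) (nat_lit 4),
  Rule.mk (nat_lit 0) (nat_lit 128) (Steps.fwd (nat_lit 2048) (Steps.fwd (nat_lit 6144) (Steps.fwd (nat_lit 2048) (Steps.bwd (nat_lit 4) (Steps.bwd (nat_lit 3) (Steps.bwd (nat_lit 1) (Steps.fwd (nat_lit 6144) (Steps.bwd (nat_lit 4) (Steps.bwd (nat_lit 3) Steps.nil))))))))) (nat_lit 42) (nat_lit 6),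
  Rule.mk (nat_lit 0) (nat_lit 50) (Steps.fwd (nat_lit 12288) (Steps.bwd (nat_lit 0) (Steps.bwd (nat_lit 6) Steps.nil))) (nat_lit 56) (nat_lit 0),
  Rule.mk (nat_lit 0) (nat_lit 50) (Steps.bwd (nat_lit 5) (Steps.bwd (nat_lit 0) (Steps.fwd (nat_lit 10240) Steps.nil))) (nat_lit 56) (nat_lit 0),
  Rule.mk (nat_lit 0) (nat_lit 167) (Steps.fwd (nat_lit 12288) (Steps.fwd (nat_lit 4096) (Steps.fwd (nat_lit 6144) (Steps.bwd (nat_lit 6) (Steps.fwd (nat_lit 4096) (Steps.fwd (nat_lit 6144) (Steps.bwd (nat_lit 1) (Steps.bwd (nat_lit 2) (Steps.fwd (nat_lit 6144) (Steps.fwd (nat_lit 2048) (Steps.fwd (nat_lit 4096) (Steps.fwd (nat_lit 6144) Steps.nil)))))))))))) (nat_lit 20) (nat_lit 6),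
  Rule.mk (nat_lit 1) (nat_lit 115) (Steps.fwd (nat_lit 4096) (Steps.bwd (nat_lit 3) (Steps.bwd (nat_lit 5) (Steps.bwd (nat_lit 3) (Steps.bwd (nat_lit 1) (Steps.fwd (nat_lit 6144) (Steps.fwd (nat_lit 12288) (Steps.bwd (nat_lit 2) Steps.nil)))))))) (nat_lit 18) (nat_lit 1),
  Rule.mk (nat_lit 1) (nat_lit 115) (Steps.bwd (nat_lit 4) (Steps.bwd (nat_lit 2) (Steps.bwd (nat_lit 4) (Steps.bwd (nat_lit 1) (Steps.fwd (nat_lit 4096) (Steps.bwd (nat_lit 3) (Steps.fwd (nat_lit 4096) (Steps.fwd (nat_lit 6144) Steps.nil)))))))) (nat_lit 41) (nat_lit 6),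
  Rule.mk (nat_lit 0) (nat_lit 323) (Steps.bwd (nat_lit 3) (Steps.bwd (nat_lit 4) (Steps.bwd (nat_lit 6) (Steps.fwd (nat_lit 6144) (Steps.fwd (nat_lit 8192) (Steps.bwd (nat_lit 6) (Steps.bwd (nat_lit 3) (Steps.fwd (nat_lit 8192) (Steps.bwd (nat_lit 6) (Steps.fwd (nat_lit 6144) (Steps.bwd (nat_lit 4) (Steps.bwd (nat_lit 6) (Steps.bwd (nat_lit 3) (Steps.fwd (nat_lit 8192) (Steps.fwd (nat_lit 10240) (Steps.fwd (nat_lit 6144) (Steps.fwd (nat_lit 8192) (Steps.fwd (nat_lit 10240) (Steps.bwd (nat_lit 3) (Steps.bwd (nat_lit 4) (Steps.bwd (nat_lit 6) (Steps.fwd (nat_lit 6144) (Steps.fwd (nat_lit 8192) (Steps.bwd (nat_lit 6) Steps.nil)))))))))))))))))))))))) (nat_lit 53) (nat_lit 2),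
  Rule.mk (nat_lit 0) (nat_lit 63) (Steps.bwd (nat_lit 0) (Steps.bwd (nat_lit 4) (Steps.fwd (nat_lit 0) (Steps.bwd (nat_lit 4) Steps.nil)))) (nat_lit 56) (nat_lit 0),
  Rule.mk (nat_lit 0) (nat_lit 63) (Steps.bwd (nat_lit 0) (Steps.fwd (nat_lit 8192) (Steps.fwd (nat_lit 0) (Steps.bwd (nat_lit 4) Steps.nil)))) (nat_lit 56) (nat_lit 0),
  Rule.mk (nat_lit 0) (nat_lit 63) (Steps.bwd (nat_lit 3) (Steps.fwd (nat_lit 0) (Steps.fwd (nat_lit 6144) (Steps.fwd (nat_lit 0) Steps.nil)))) (nat_lit 56) (nat_lit 0),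
  Rule.mk (nat_lit 0) (nat_lit 50) (Steps.fwd (nat_lit 10240) (Steps.fwd (nat_lit 0) (Steps.fwd (nat_lit 12288) Steps.nil))) (nat_lit 56) (nat_lit 0),
  Rule.mk (nat_lit 0) (nat_lit 63) (Steps.fwd (nat_lit 2048) (Steps.fwd (nat_lit 0) (Steps.fwd (nat_lit 2048) (Steps.fwd (nat_lit 0) Steps.nil)))) (nat_lit 56) (nat_lit 0),
  Rule.mk (nat_lit 0) (nat_lit 63) (Steps.bwd (nat_lit 0) (Steps.fwd (nat_lit 8192) (Steps.fwd (nat_lit 0) (Steps.fwd (nat_lit 8192) Steps.nil)))) (nat_lit 56) (nat_lit 0),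
  Rule.mk (nat_lit 0) (nat_lit 50) (Steps.fwd (nat_lit 8192) (Steps.fwd (nat_lit 0) (Steps.fwd (nat_lit 8192) Steps.nil))) (nat_lit 56) (nat_lit 0),
  Rule.mk (nat_lit 0) (nat_lit 63) (Steps.fwd (nat_lit 2048) (Steps.bwd (nat_lit 0) (Steps.fwd (nat_lit 2048) (Steps.fwd (nat_lit 0) Steps.nil)))) (nat_lit 56) (nat_lit 0),
  Rule.mk (nat_lit 0) (nat_lit 63) (Steps.bwd (nat_lit 0) (Steps.bwd (nat_lit 6) (Steps.fwd (nat_lit 0) (Steps.bwd (nat_lit 5) Steps.nil)))) (nat_lit 56) (nat_lit 0),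
  Rule.mk (nat_lit 0) (nat_lit 63) (Steps.bwd (nat_lit 0) (Steps.bwd (nat_lit 2) (Steps.fwd (nat_lit 0) (Steps.bwd (nat_lit 2) Steps.nil)))) (nat_lit 56) (nat_lit 0),
  Rule.mk (nat_lit 0) (nat_lit 63) (Steps.bwd (nat_lit 4) (Steps.bwd (nat_lit 0) (Steps.bwd (nat_lit 4) (Steps.fwd (nat_lit 0) Steps.nil)))) (nat_lit 56) (nat_lit 0),
  Rule.mk (nat_lit 0) (nat_lit 50) (Steps.fwd (nat_lit 8192) (Steps.bwd (nat_lit 0) (Steps.bwd (nat_lit 4) Steps.nil))) (nat_lit 56) (nat_lit 0),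
  Rule.mk (nat_lit 0) (nat_lit 63) (Steps.bwd (nat_lit 5) (Steps.bwd (nat_lit 0) (Steps.bwd (nat_lit 6) (Steps.fwd (nat_lit 0) Steps.nil)))) (nat_lit 56) (nat_lit 0),
  Rule.mk (nat_lit 0) (nat_lit 63) (Steps.bwd (nat_lit 0) (Steps.fwd (nat_lit 2048) (Steps.fwd (nat_lit 0) (Steps.bwd (nat_lit 1) Steps.nil)))) (nat_lit 56) (nat_lit 0),
  Rule.mk (nat_lit 0) (nat_lit 63) (Steps.bwd (nat_lit 0) (Steps.fwd (nat_lit 6144) (Steps.fwd (nat_lit 0) (Steps.fwd (nat_lit 6144) Steps.nil)))) (nat_lit 56) (nat_lit 0),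
  Rule.mk (nat_lit 1) (nat_lit 115) (Steps.bwd (nat_lit 3) (Steps.fwd (nat_lit 2048) (Steps.bwd (nat_lit 4) (Steps.fwd (nat_lit 6144) (Steps.bwd (nat_lit 1) (Steps.bwd (nat_lit 3) (Steps.fwd (nat_lit 8192) (Steps.fwd (nat_lit 6144) Steps.nil)))))))) (nat_lit 42) (nat_lit 7)]
noncomputable def R_17 : List (Rule) := [Rule.mk (nat_lit 2) (nat_lit 115) (Steps.bwd (nat_lit 3) (Steps.bwd (nat_lit 2) (Steps.bwd (nat_lit 1) (Steps.bwd (nat_lit 4) (Steps.fwd (nat_lit 4096) (Steps.fwd (nat_lit 8192) (Steps.bwd (nat_lit 1) (Steps.fwd (nat_lit 6144) Steps.nil)))))))) (nat_lit 40) (nat_lit 6),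
  Rule.mk (nat_lit 1) (nat_lit 115) (Steps.bwd (nat_lit 3) (Steps.bwd (nat_lit 1) (Steps.bwd (nat_lit 4) (Steps.bwd (nat_lit 3) (Steps.fwd (nat_lit 2048) (Steps.bwd (nat_lit 3) (Steps.fwd (nat_lit 8192) (Steps.fwd (nat_lit 6144) Steps.nil)))))))) (nat_lit 42) (nat_lit 7),
  Rule.mk (nat_lit 3) (nat_lit 115) (Steps.bwd (nat_lit 1) (Steps.bwd (nat_lit 3) (Steps.fwd (nat_lit 2048) (Steps.bwd (nat_lit 4) (Steps.fwd (nat_lit 6144) (Steps.fwd (nat_lit 2048) (Steps.bwd (nat_lit 3) (Steps.fwd (nat_lit 8192) Steps.nil)))))))) (nat_lit 42) (nat_lit 6),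
  Rule.mk (nat_lit 3) (nat_lit 115) (Steps.bwd (nat_lit 2) (Steps.fwd (nat_lit 6144) (Steps.bwd (nat_lit 2) (Steps.bwd (nat_lit 1) (Steps.bwd (nat_lit 4) (Steps.bwd (nat_lit 2) (Steps.fwd (nat_lit 8192) (Steps.fwd (nat_lit 2048) Steps.nil)))))))) (nat_lit 40) (nat_lit 5),
  Rule.mk (nat_lit 1) (nat_lit 115) (Steps.fwd (nat_lit 6144) (Steps.bwd (nat_lit 1) (Steps.bwd (nat_lit 4) (Steps.fwd (nat_lit 6144) (Steps.bwd (nat_lit 1) (Steps.bwd (nat_lit 3) (Steps.fwd (nat_lit 8192) (Steps.bwd (nat_lit 3) Steps.nil)))))))) (nat_lit 42) (nat_lit 7),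
  Rule.mk (nat_lit 3) (nat_lit 102) (Steps.bwd (nat_lit 2) (Steps.bwd (nat_lit 3) (Steps.bwd (nat_lit 2) (Steps.bwd (nat_lit 3) (Steps.bwd (nat_lit 2) (Steps.fwd (nat_lit 6144) (Steps.bwd (nat_lit 2) Steps.nil))))))) (nat_lit 12) (nat_lit 0),
  Rule.mk (nat_lit 3) (nat_lit 115) (Steps.bwd (nat_lit 1) (Steps.fwd (nat_lit 6144) (Steps.bwd (nat_lit 1) (Steps.bwd (nat_lit 4) (Steps.bwd (nat_lit 3) (Steps.bwd (nat_lit 1) (Steps.bwd (nat_lit 3) (Steps.fwd (nat_lit 8192) Steps.nil)))))))) (nat_lit 42) (nat_lit 6),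
  Rule.mk (nat_lit 3) (nat_lit 115) (Steps.bwd (nat_lit 2) (Steps.fwd (nat_lit 6144) (Steps.bwd (nat_lit 2) (Steps.bwd (nat_lit 1) (Steps.bwd (nat_lit 4) (Steps.fwd (nat_lit 4096) (Steps.fwd (nat_lit 8192) (Steps.bwd (nat_lit 1) Steps.nil)))))))) (nat_lit 40) (nat_lit 5),
  Rule.mk (nat_lit 2) (nat_lit 115) (Steps.bwd (nat_lit 3) (Steps.fwd (nat_lit 4096) (Steps.fwd (nat_lit 2048) (Steps.bwd (nat_lit 4) (Steps.bwd (nat_lit 2) (Steps.fwd (nat_lit 8192) (Steps.bwd (nat_lit 1) (Steps.fwd (nat_lit 6144) Steps.nil)))))))) (nat_lit 40) (nat_lit 6),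
  Rule.mk (nat_lit 3) (nat_lit 102) (Steps.bwd (nat_lit 2) (Steps.fwd (nat_lit 6144) (Steps.bwd (nat_lit 2) (Steps.fwd (nat_lit 6144) (Steps.fwd (nat_lit 4096) (Steps.bwd (nat_lit 3) (Steps.bwd (nat_lit 2) Steps.nil))))))) (nat_lit 12) (nat_lit 0),
  Rule.mk (nat_lit 3) (nat_lit 115) (Steps.bwd (nat_lit 1) (Steps.fwd (nat_lit 6144) (Steps.bwd (nat_lit 1) (Steps.bwd (nat_lit 4) (Steps.bwd (nat_lit 3) (Steps.fwd (nat_lit 2048) (Steps.fwd (nat_lit 6144) (Steps.fwd (nat_lit 8192) Steps.nil)))))))) (nat_lit 42) (nat_lit 6),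
  Rule.mk (nat_lit 2) (nat_lit 115) (Steps.fwd (nat_lit 6144) (Steps.bwd (nat_lit 2) (Steps.bwd (nat_lit 1) (Steps.bwd (nat_lit 4) (Steps.fwd (nat_lit 4096) (Steps.fwd (nat_lit 8192) (Steps.bwd (nat_lit 1) (Steps.bwd (nat_lit 3) Steps.nil)))))))) (nat_lit 40) (nat_lit 6),
  Rule.mk (nat_lit 3) (nat_lit 115) (Steps.bwd (nat_lit 1) (Steps.fwd (nat_lit 6144) (Steps.fwd (nat_lit 2048) (Steps.fwd (nat_lit 8192) (Steps.bwd (nat_lit 3) (Steps.bwd (nat_lit 1) (Steps.bwd (nat_lit 3) (Steps.bwd (nat_lit 4) Steps.nil)))))))) (nat_lit 42) (nat_lit 6),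
  Rule.mk (nat_lit 3) (nat_lit 115) (Steps.bwd (nat_lit 1) (Steps.bwd (nat_lit 3) (Steps.fwd (nat_lit 2048) (Steps.fwd (nat_lit 8192) (Steps.fwd (nat_lit 6144) (Steps.bwd (nat_lit 1) (Steps.bwd (nat_lit 3) (Steps.fwd (nat_lit 8192) Steps.nil)))))))) (nat_lit 42) (nat_lit 6),
  Rule.mk (nat_lit 3) (nat_lit 76) (Steps.fwd (nat_lit 16384) (Steps.bwd (nat_lit 2) (Steps.bwd (nat_lit 3) (Steps.bwd (nat_lit 7) (Steps.fwd (nat_lit 4096) Steps.nil))))) (nat_lit 32) (nat_lit 2),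
  Rule.mk (nat_lit 4) (nat_lit 128) (Steps.bwd (nat_lit 3) (Steps.bwd (nat_lit 2) (Steps.fwd (nat_lit 6144) (Steps.bwd (nat_lit 4) (Steps.bwd (nat_lit 1) (Steps.bwd (nat_lit 3) (Steps.bwd (nat_lit 2) (Steps.fwd (nat_lit 6144) (Steps.bwd (nat_lit 1) Steps.nil))))))))) (nat_lit 44) (nat_lit 1),
  Rule.mk (nat_lit 4) (nat_lit 115) (Steps.bwd (nat_lit 3) (Steps.bwd (nat_lit 1) (Steps.fwd (nat_lit 6144) (Steps.fwd (nat_lit 8192) (Steps.fwd (nat_lit 6144) (Steps.bwd (nat_lit 1) (Steps.bwd (nat_lit 3) (Steps.fwd (nat_lit 2048) Steps.nil)))))))) (nat_lit 42) (nat_lit 1),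
  Rule.mk (nat_lit 3) (nat_lit 128) (Steps.bwd (nat_lit 4) (Steps.bwd (nat_lit 1) (Steps.bwd (nat_lit 3) (Steps.fwd (nat_lit 4096) (Steps.bwd (nat_lit 3) (Steps.fwd (nat_lit 2048) (Steps.bwd (nat_lit 4) (Steps.bwd (nat_lit 3) (Steps.fwd (nat_lit 4096) Steps.nil))))))))) (nat_lit 44) (nat_lit 4),
  Rule.mk (nat_lit 3) (nat_lit 76) (Steps.fwd (nat_lit 16384) (Steps.fwd (nat_lit 6144) (Steps.fwd (nat_lit 16384) (Steps.bwd (nat_lit 3) (Steps.fwd (nat_lit 16384) Steps.nil))))) (nat_lit 26) (nat_lit 1),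
  Rule.mk (nat_lit 3) (nat_lit 115) (Steps.bwd (nat_lit 1) (Steps.bwd (nat_lit 3) (Steps.fwd (nat_lit 2048) (Steps.fwd (nat_lit 8192) (Steps.bwd (nat_lit 3) (Steps.fwd (nat_lit 2048) (Steps.bwd (nat_lit 3) (Steps.bwd (nat_lit 4) Steps.nil)))))))) (nat_lit 42) (nat_lit 6),
  Rule.mk (nat_lit 4) (nat_lit 115) (Steps.fwd (nat_lit 4096) (Steps.bwd (nat_lit 4) (Steps.bwd (nat_lit 1) (Steps.fwd (nat_lit 6144) (Steps.bwd (nat_lit 2) (Steps.fwd (nat_lit 6144) (Steps.bwd (nat_lit 2) (Steps.fwd (nat_lit 2048) Steps.nil)))))))) (nat_lit 40) (nat_lit 1),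
  Rule.mk (nat_lit 7) (nat_lit 76) (Steps.bwd (nat_lit 3) (Steps.fwd (nat_lit 16384) (Steps.bwd (nat_lit 3) (Steps.fwd (nat_lit 16384) (Steps.bwd (nat_lit 3) Steps.nil))))) (nat_lit 26) (nat_lit 0),
  Rule.mk (nat_lit 1) (nat_lit 154) (Steps.bwd (nat_lit 3) (Steps.fwd (nat_lit 2048) (Steps.fwd (nat_lit 4096) (Steps.bwd (nat_lit 3) (Steps.bwd (nat_lit 1) (Steps.bwd (nat_lit 2) (Steps.fwd (nat_lit 6144) (Steps.fwd (nat_lit 2048) (Steps.bwd (nat_lit 2) (Steps.bwd (nat_lit 3) (Steps.bwd (nat_lit 2) Steps.nil))))))))))) (nat_lit 14) (nat_lit 11),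
  Rule.mk (nat_lit 3) (nat_lit 102) (Steps.bwd (nat_lit 1) (Steps.fwd (nat_lit 6144) (Steps.fwd (nat_lit 2048) (Steps.fwd (nat_lit 6144) (Steps.bwd (nat_lit 1) (Steps.fwd (nat_lit 6144) (Steps.bwd (nat_lit 1) Steps.nil))))))) (nat_lit 10) (nat_lit 0),
  Rule.mk (nat_lit 3) (nat_lit 154) (Steps.bwd (nat_lit 1) (Steps.fwd (nat_lit 4096) (Steps.fwd (nat_lit 6144) (Steps.fwd (nat_lit 2048) (Steps.bwd (nat_lit 2) (Steps.fwd (nat_lit 6144) (Steps.fwd (nat_lit 2048) (Steps.bwd (nat_lit 2) (Steps.bwd (nat_lit 3) (Steps.fwd (nat_lit 4096) (Steps.bwd (nat_lit 1) Steps.nil))))))))))) (nat_lit 14) (nat_lit 0),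
  Rule.mk (nat_lit 3) (nat_lit 102) (Steps.bwd (nat_lit 1) (Steps.fwd (nat_lit 6144) (Steps.bwd (nat_lit 1) (Steps.fwd (nat_lit 6144) (Steps.bwd (nat_lit 1) (Steps.fwd (nat_lit 6144) (Steps.fwd (nat_lit 2048) Steps.nil))))))) (nat_lit 10) (nat_lit 0),
  Rule.mk (nat_lit 8) (nat_lit 76) (Steps.bwd (nat_lit 3) (Steps.bwd (nat_lit 8) (Steps.fwd (nat_lit 6144) (Steps.bwd (nat_lit 8) (Steps.bwd (nat_lit 3) Steps.nil))))) (nat_lit 27) (nat_lit 1),
  Rule.mk (nat_lit 1) (nat_lit 154) (Steps.bwd (nat_lit 3) (Steps.fwd (nat_lit 2048) (Steps.fwd (nat_lit 4096) (Steps.bwd (nat_lit 3) (Steps.bwd (nat_lit 1) (Steps.bwd (nat_lit 2) (Steps.bwd (nat_lit 3) (Steps.bwd (nat_lit 1) (Steps.fwd (nat_lit 4096) (Steps.fwd (nat_lit 6144) (Steps.fwd (nat_lit 4096) Steps.nil))))))))))) (nat_lit 14) (nat_lit 11),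
  Rule.mk (nat_lit 8) (nat_lit 50) (Steps.fwd (nat_lit 2048) (Steps.bwd (nat_lit 7) (Steps.bwd (nat_lit 1) Steps.nil))) (nat_lit 22) (nat_lit 0),
  Rule.mk (nat_lit 1) (nat_lit 154) (Steps.bwd (nat_lit 2) (Steps.bwd (nat_lit 3) (Steps.fwd (nat_lit 2048) (Steps.fwd (nat_lit 4096) (Steps.bwd (nat_lit 3) (Steps.fwd (nat_lit 4096) (Steps.bwd (nat_lit 1) (Steps.bwd (nat_lit 3) (Steps.bwd (nat_lit 1) (Steps.fwd (nat_lit 4096) (Steps.bwd (nat_lit 3) Steps.nil))))))))))) (nat_lit 14) (nat_lit 4),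
  Rule.mk (nat_lit 4) (nat_lit 115) (Steps.bwd (nat_lit 2) (Steps.bwd (nat_lit 4) (Steps.bwd (nat_lit 1) (Steps.fwd (nat_lit 4096) (Steps.bwd (nat_lit 3) (Steps.bwd (nat_lit 2) (Steps.bwd (nat_lit 3) (Steps.fwd (nat_lit 2048) Steps.nil)))))))) (nat_lit 41) (nat_lit 7),
  Rule.mk (nat_lit 2) (nat_lit 154) (Steps.bwd (nat_lit 1) (Steps.bwd (nat_lit 3) (Steps.fwd (nat_lit 2048) (Steps.bwd (nat_lit 8) (Steps.fwd (nat_lit 6144) (Steps.bwd (nat_lit 1) (Steps.bwd (nat_lit 7) (Steps.fwd (nat_lit 6144) (Steps.fwd (nat_lit 4096) (Steps.bwd (nat_lit 1) (Steps.bwd (nat_lit 3) Steps.nil))))))))))) (nat_lit 29) (nat_lit 11),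
  Rule.mk (nat_lit 4) (nat_lit 115) (Steps.bwd (nat_lit 2) (Steps.bwd (nat_lit 4) (Steps.fwd (nat_lit 2048) (Steps.bwd (nat_lit 3) (Steps.bwd (nat_lit 2) (Steps.fwd (nat_lit 6144) (Steps.fwd (nat_lit 4096) (Steps.bwd (nat_lit 1) Steps.nil)))))))) (nat_lit 40) (nat_lit 1),
  Rule.mk (nat_lit 1) (nat_lit 115) (Steps.bwd (nat_lit 2) (Steps.fwd (nat_lit 6144) (Steps.fwd (nat_lit 4096) (Steps.fwd (nat_lit 6144) (Steps.bwd (nat_lit 1) (Steps.bwd (nat_lit 4) (Steps.fwd (nat_lit 4096) (Steps.bwd (nat_lit 4) Steps.nil)))))))) (nat_lit 41) (nat_lit 1),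
  Rule.mk (nat_lit 1) (nat_lit 154) (Steps.bwd (nat_lit 2) (Steps.fwd (nat_lit 6144) (Steps.bwd (nat_lit 1) (Steps.fwd (nat_lit 4096) (Steps.bwd (nat_lit 3) (Steps.fwd (nat_lit 2048) (Steps.fwd (nat_lit 4096) (Steps.bwd (nat_lit 3) (Steps.fwd (nat_lit 4096) (Steps.bwd (nat_lit 1) (Steps.bwd (nat_lit 3) Steps.nil))))))))))) (nat_lit 14) (nat_lit 1),
  Rule.mk (nat_lit 4) (nat_lit 115) (Steps.bwd (nat_lit 3) (Steps.fwd (nat_lit 2048) (Steps.fwd (nat_lit 6144) (Steps.fwd (nat_lit 2048) (Steps.fwd (nat_lit 8192) (Steps.fwd (nat_lit 6144) (Steps.bwd (nat_lit 1) (Steps.fwd (nat_lit 6144) Steps.nil)))))))) (nat_lit 42) (nat_lit 5),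
  Rule.mk (nat_lit 7) (nat_lit 76) (Steps.bwd (nat_lit 3) (Steps.fwd (nat_lit 16384) (Steps.fwd (nat_lit 6144) (Steps.bwd (nat_lit 7) (Steps.fwd (nat_lit 6144) Steps.nil))))) (nat_lit 26) (nat_lit 0),
  Rule.mk (nat_lit 4) (nat_lit 115) (Steps.bwd (nat_lit 2) (Steps.fwd (nat_lit 8192) (Steps.fwd (nat_lit 2048) (Steps.bwd (nat_lit 3) (Steps.fwd (nat_lit 4096) (Steps.fwd (nat_lit 6144) (Steps.bwd (nat_lit 2) (Steps.fwd (nat_lit 2048) Steps.nil)))))))) (nat_lit 40) (nat_lit 1),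
  Rule.mk (nat_lit 1) (nat_lit 154) (Steps.bwd (nat_lit 8) (Steps.bwd (nat_lit 3) (Steps.bwd (nat_lit 1) (Steps.bwd (nat_lit 7) (Steps.bwd (nat_lit 3) (Steps.bwd (nat_lit 2) (Steps.bwd (nat_lit 1) (Steps.bwd (nat_lit 3) (Steps.bwd (nat_lit 2) (Steps.bwd (nat_lit 1) (Steps.bwd (nat_lit 3) Steps.nil))))))))))) (nat_lit 29) (nat_lit 2),
  Rule.mk (nat_lit 3) (nat_lit 115) (Steps.bwd (nat_lit 2) (Steps.fwd (nat_lit 6144) (Steps.bwd (nat_lit 2) (Steps.fwd (nat_lit 2048) (Steps.bwd (nat_lit 4) (Steps.bwd (nat_lit 2) (Steps.fwd (nat_lit 8192) (Steps.bwd (nat_lit 1) Steps.nil)))))))) (nat_lit 40) (nat_lit 5),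
  Rule.mk (nat_lit 8) (nat_lit 154) (Steps.fwd (nat_lit 2048) (Steps.bwd (nat_lit 3) (Steps.bwd (nat_lit 7) (Steps.fwd (nat_lit 2048) (Steps.bwd (nat_lit 3) (Steps.fwd (nat_lit 2048) (Steps.bwd (nat_lit 2) (Steps.fwd (nat_lit 6144) (Steps.bwd (nat_lit 1) (Steps.fwd (nat_lit 4096) (Steps.bwd (nat_lit 3) Steps.nil))))))))))) (nat_lit 28) (nat_lit 7),
  Rule.mk (nat_lit 3) (nat_lit 102) (Steps.bwd (nat_lit 1) (Steps.fwd (nat_lit 6144) (Steps.fwd (nat_lit 2048) (Steps.bwd (nat_lit 3) (Steps.bwd (nat_lit 1) (Steps.bwd (nat_lit 3) (Steps.fwd (nat_lit 2048) Steps.nil))))))) (nat_lit 10) (nat_lit 0),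
  Rule.mk (nat_lit 3) (nat_lit 115) (Steps.bwd (nat_lit 2) (Steps.fwd (nat_lit 6144) (Steps.fwd (nat_lit 4096) (Steps.fwd (nat_lit 2048) (Steps.bwd (nat_lit 4) (Steps.fwd (nat_lit 4096) (Steps.fwd (nat_lit 8192) (Steps.bwd (nat_lit 1) Steps.nil)))))))) (nat_lit 40) (nat_lit 5),
  Rule.mk (nat_lit 1) (nat_lit 154) (Steps.bwd (nat_lit 2) (Steps.fwd (nat_lit 6144) (Steps.fwd (nat_lit 4096) (Steps.fwd (nat_lit 2048) (Steps.bwd (nat_lit 3) (Steps.fwd (nat_lit 2048) (Steps.fwd (nat_lit 4096) (Steps.fwd (nat_lit 6144) (Steps.fwd (nat_lit 2048) (Steps.fwd (nat_lit 4096) (Steps.bwd (nat_lit 3) Steps.nil))))))))))) (nat_lit 14) (nat_lit 7),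
  Rule.mk (nat_lit 8) (nat_lit 76) (Steps.bwd (nat_lit 3) (Steps.bwd (nat_lit 2) (Steps.fwd (nat_lit 14336) (Steps.bwd (nat_lit 3) (Steps.bwd (nat_lit 2) Steps.nil))))) (nat_lit 33) (nat_lit 1),
  Rule.mk (nat_lit 4) (nat_lit 115) (Steps.bwd (nat_lit 1) (Steps.bwd (nat_lit 3) (Steps.bwd (nat_lit 2) (Steps.bwd (nat_lit 3) (Steps.bwd (nat_lit 2) (Steps.fwd (nat_lit 2048) (Steps.fwd (nat_lit 8192) (Steps.fwd (nat_lit 4096) Steps.nil)))))))) (nat_lit 40) (nat_lit 3),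
  Rule.mk (nat_lit 4) (nat_lit 115) (Steps.fwd (nat_lit 2048) (Steps.fwd (nat_lit 4096) (Steps.bwd (nat_lit 3) (Steps.bwd (nat_lit 2) (Steps.bwd (nat_lit 3) (Steps.bwd (nat_lit 1) (Steps.bwd (nat_lit 4) (Steps.bwd (nat_lit 2) Steps.nil)))))))) (nat_lit 41) (nat_lit 0),
  Rule.mk (nat_lit 4) (nat_lit 128) (Steps.bwd (nat_lit 3) (Steps.bwd (nat_lit 2) (Steps.bwd (nat_lit 3) (Steps.fwd (nat_lit 8192) (Steps.bwd (nat_lit 1) (Steps.bwd (nat_lit 3) (Steps.fwd (nat_lit 4096) (Steps.bwd (nat_lit 3) (Steps.bwd (nat_lit 1) Steps.nil))))))))) (nat_lit 44) (nat_lit 1),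
  Rule.mk (nat_lit 3) (nat_lit 102) (Steps.bwd (nat_lit 1) (Steps.bwd (nat_lit 3) (Steps.bwd (nat_lit 1) (Steps.bwd (nat_lit 3) (Steps.fwd (nat_lit 2048) (Steps.fwd (nat_lit 6144) (Steps.bwd (nat_lit 1) Steps.nil))))))) (nat_lit 10) (nat_lit 0),
  Rule.mk (nat_lit 4) (nat_lit 115) (Steps.bwd (nat_lit 3) (Steps.fwd (nat_lit 2048) (Steps.fwd (nat_lit 6144) (Steps.bwd (nat_lit 1) (Steps.fwd (nat_lit 8192) (Steps.fwd (nat_lit 6144) (Steps.fwd (nat_lit 2048) (Steps.fwd (nat_lit 6144) Steps.nil)))))))) (nat_lit 42) (nat_lit 5),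
  Rule.mk (nat_lit 3) (nat_lit 102) (Steps.bwd (nat_lit 2) (Steps.bwd (nat_lit 3) (Steps.fwd (nat_lit 4096) (Steps.bwd (nat_lit 3) (Steps.bwd (nat_lit 2) (Steps.bwd (nat_lit 3) (Steps.bwd (nat_lit 2) Steps.nil))))))) (nat_lit 12) (nat_lit 0),
  Rule.mk (nat_lit 4) (nat_lit 115) (Steps.bwd (nat_lit 2) (Steps.fwd (nat_lit 8192) (Steps.bwd (nat_lit 1) (Steps.bwd (nat_lit 3) (Steps.fwd (nat_lit 4096) (Steps.bwd (nat_lit 3) (Steps.fwd (nat_lit 4096) (Steps.fwd (nat_lit 2048) Steps.nil)))))))) (nat_lit 40) (nat_lit 1),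
  Rule.mk (nat_lit 3) (nat_lit 102) (Steps.fwd (nat_lit 2048) (Steps.bwd (nat_lit 3) (Steps.bwd (nat_lit 1) (Steps.bwd (nat_lit 3) (Steps.fwd (nat_lit 2048) (Steps.bwd (nat_lit 3) (Steps.bwd (nat_lit 1) Steps.nil))))))) (nat_lit 10) (nat_lit 0),
  Rule.mk (nat_lit 4) (nat_lit 115) (Steps.bwd (nat_lit 3) (Steps.fwd (nat_lit 2048) (Steps.fwd (nat_lit 6144) (Steps.fwd (nat_lit 2048) (Steps.fwd (nat_lit 8192) (Steps.fwd (nat_lit 6144) (Steps.fwd (nat_lit 2048) (Steps.fwd (nat_lit 6144) Steps.nil)))))))) (nat_lit 42) (nat_lit 5),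
  Rule.mk (nat_lit 4) (nat_lit 115) (Steps.bwd (nat_lit 2) (Steps.fwd (nat_lit 8192) (Steps.fwd (nat_lit 2048) (Steps.bwd (nat_lit 3) (Steps.bwd (nat_lit 2) (Steps.bwd (nat_lit 3) (Steps.bwd (nat_lit 2) (Steps.fwd (nat_lit 2048) Steps.nil)))))))) (nat_lit 40) (nat_lit 1),
  Rule.mk (nat_lit 2) (nat_lit 115) (Steps.bwd (nat_lit 1) (Steps.fwd (nat_lit 8192) (Steps.bwd (nat_lit 2) (Steps.fwd (nat_lit 8192) (Steps.bwd (nat_lit 1) (Steps.bwd (nat_lit 3) (Steps.fwd (nat_lit 4096) (Steps.bwd (nat_lit 3) Steps.nil)))))))) (nat_lit 40) (nat_lit 8),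
  Rule.mk (nat_lit 3) (nat_lit 115) (Steps.bwd (nat_lit 1) (Steps.fwd (nat_lit 8192) (Steps.bwd (nat_lit 2) (Steps.fwd (nat_lit 8192) (Steps.bwd (nat_lit 1) (Steps.bwd (nat_lit 2) (Steps.bwd (nat_lit 3) (Steps.bwd (nat_lit 2) Steps.nil)))))))) (nat_lit 41) (nat_lit 5),
  Rule.mk (nat_lit 3) (nat_lit 102) (Steps.bwd (nat_lit 2) (Steps.bwd (nat_lit 3) (Steps.fwd (nat_lit 4096) (Steps.fwd (nat_lit 6144) (Steps.fwd (nat_lit 4096) (Steps.bwd (nat_lit 3) (Steps.fwd (nat_lit 4096) Steps.nil))))))) (nat_lit 12) (nat_lit 0),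
  Rule.mk (nat_lit 3) (nat_lit 102) (Steps.bwd (nat_lit 2) (Steps.fwd (nat_lit 6144) (Steps.fwd (nat_lit 4096) (Steps.fwd (nat_lit 6144) (Steps.bwd (nat_lit 2) (Steps.bwd (nat_lit 3) (Steps.bwd (nat_lit 2) Steps.nil))))))) (nat_lit 12) (nat_lit 0),
  Rule.mk (nat_lit 3) (nat_lit 115) (Steps.bwd (nat_lit 2) (Steps.fwd (nat_lit 6144) (Steps.bwd (nat_lit 2) (Steps.fwd (nat_lit 2048) (Steps.bwd (nat_lit 4) (Steps.fwd (nat_lit 4096) (Steps.fwd (nat_lit 8192) (Steps.bwd (nat_lit 1) Steps.nil)))))))) (nat_lit 40) (nat_lit 5),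
  Rule.mk (nat_lit 4) (nat_lit 76) (Steps.bwd (nat_lit 3) (Steps.bwd (nat_lit 4) (Steps.fwd (nat_lit 6144) (Steps.fwd (nat_lit 8192) (Steps.bwd (nat_lit 3) Steps.nil))))) (nat_lit 36) (nat_lit 0),
  Rule.mk (nat_lit 2) (nat_lit 102) (Steps.bwd (nat_lit 3) (Steps.fwd (nat_lit 4096) (Steps.fwd (nat_lit 6144) (Steps.bwd (nat_lit 2) (Steps.bwd (nat_lit 3) (Steps.bwd (nat_lit 2) (Steps.bwd (nat_lit 3) Steps.nil))))))) (nat_lit 12) (nat_lit 1),
  Rule.mk (nat_lit 3) (nat_lit 102) (Steps.bwd (nat_lit 1) (Steps.fwd (nat_lit 6144) (Steps.bwd (nat_lit 1) (Steps.bwd (nat_lit 3) (Steps.bwd (nat_lit 1) (Steps.fwd (nat_lit 6144) (Steps.bwd (nat_lit 1) Steps.nil))))))) (nat_lit 10) (nat_lit 0),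
  Rule.mk (nat_lit 1) (nat_lit 102) (Steps.bwd (nat_lit 3) (Steps.bwd (nat_lit 1) (Steps.fwd (nat_lit 6144) (Steps.fwd (nat_lit 2048) (Steps.bwd (nat_lit 3) (Steps.bwd (nat_lit 1) (Steps.bwd (nat_lit 3) Steps.nil))))))) (nat_lit 10) (nat_lit 1)]
noncomputable def R_18 : List (Rule) := [Rule.mk (nat_lit 3) (nat_lit 102) (Steps.bwd (nat_lit 2) (Steps.bwd (nat_lit 3) (Steps.fwd (nat_lit 4096) (Steps.fwd (nat_lit 6144) (Steps.fwd (nat_lit 4096) (Steps.bwd (nat_lit 3) (Steps.bwd (nat_lit 2) Steps.nil))))))) (nat_lit 12) (nat_lit 0),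
  Rule.mk (nat_lit 1) (nat_lit 154) (Steps.bwd (nat_lit 2) (Steps.bwd (nat_lit 3) (Steps.fwd (nat_lit 4096) (Steps.fwd (nat_lit 2048) (Steps.fwd (nat_lit 6144) (Steps.fwd (nat_lit 2048) (Steps.fwd (nat_lit 4096) (Steps.fwd (nat_lit 6144) (Steps.fwd (nat_lit 2048) (Steps.fwd (nat_lit 4096) (Steps.bwd (nat_lit 3) Steps.nil))))))))))) (nat_lit 14) (nat_lit 7),
  Rule.mk (nat_lit 4) (nat_lit 115) (Steps.bwd (nat_lit 2) (Steps.bwd (nat_lit 4) (Steps.bwd (nat_lit 1) (Steps.bwd (nat_lit 3) (Steps.bwd (nat_lit 2) (Steps.bwd (nat_lit 3) (Steps.fwd (nat_lit 4096) (Steps.bwd (nat_lit 1) Steps.nil)))))))) (nat_lit 40) (nat_lit 1),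
  Rule.mk (nat_lit 3) (nat_lit 102) (Steps.bwd (nat_lit 2) (Steps.fwd (nat_lit 6144) (Steps.fwd (nat_lit 4096) (Steps.bwd (nat_lit 3) (Steps.bwd (nat_lit 2) (Steps.fwd (nat_lit 6144) (Steps.fwd (nat_lit 4096) Steps.nil))))))) (nat_lit 12) (nat_lit 0),
  Rule.mk (nat_lit 4) (nat_lit 115) (Steps.bwd (nat_lit 2) (Steps.fwd (nat_lit 8192) (Steps.bwd (nat_lit 1) (Steps.fwd (nat_lit 6144) (Steps.fwd (nat_lit 4096) (Steps.fwd (nat_lit 6144) (Steps.bwd (nat_lit 2) (Steps.fwd (nat_lit 2048) Steps.nil)))))))) (nat_lit 40) (nat_lit 1),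
  Rule.mk (nat_lit 3) (nat_lit 102) (Steps.bwd (nat_lit 1) (Steps.fwd (nat_lit 6144) (Steps.fwd (nat_lit 2048) (Steps.bwd (nat_lit 3) (Steps.fwd (nat_lit 2048) (Steps.fwd (nat_lit 6144) (Steps.fwd (nat_lit 2048) Steps.nil))))))) (nat_lit 10) (nat_lit 0),
  Rule.mk (nat_lit 4) (nat_lit 115) (Steps.bwd (nat_lit 2) (Steps.fwd (nat_lit 8192) (Steps.fwd (nat_lit 2048) (Steps.fwd (nat_lit 6144) (Steps.bwd (nat_lit 2) (Steps.bwd (nat_lit 3) (Steps.fwd (nat_lit 4096) (Steps.fwd (nat_lit 2048) Steps.nil)))))))) (nat_lit 40) (nat_lit 1),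
  Rule.mk (nat_lit 2) (nat_lit 115) (Steps.bwd (nat_lit 1) (Steps.fwd (nat_lit 8192) (Steps.fwd (nat_lit 4096) (Steps.bwd (nat_lit 4) (Steps.bwd (nat_lit 1) (Steps.fwd (nat_lit 6144) (Steps.fwd (nat_lit 4096) (Steps.bwd (nat_lit 3) Steps.nil)))))))) (nat_lit 40) (nat_lit 8),
  Rule.mk (nat_lit 3) (nat_lit 154) (Steps.bwd (nat_lit 1) (Steps.bwd (nat_lit 8) (Steps.fwd (nat_lit 6144) (Steps.fwd (nat_lit 2048) (Steps.fwd (nat_lit 16384) (Steps.fwd (nat_lit 6144) (Steps.bwd (nat_lit 2) (Steps.bwd (nat_lit 1) (Steps.bwd (nat_lit 3) (Steps.fwd (nat_lit 4096) (Steps.bwd (nat_lit 1) Steps.nil))))))))))) (nat_lit 29) (nat_lit 1),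
  Rule.mk (nat_lit 4) (nat_lit 115) (Steps.bwd (nat_lit 2) (Steps.fwd (nat_lit 8192) (Steps.bwd (nat_lit 1) (Steps.fwd (nat_lit 6144) (Steps.bwd (nat_lit 2) (Steps.bwd (nat_lit 3) (Steps.bwd (nat_lit 2) (Steps.fwd (nat_lit 2048) Steps.nil)))))))) (nat_lit 40) (nat_lit 1),
  Rule.mk (nat_lit 2) (nat_lit 76) (Steps.bwd (nat_lit 3) (Steps.bwd (nat_lit 7) (Steps.bwd (nat_lit 2) (Steps.bwd (nat_lit 3) (Steps.fwd (nat_lit 16384) Steps.nil))))) (nat_lit 32) (nat_lit 1),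
  Rule.mk (nat_lit 3) (nat_lit 154) (Steps.bwd (nat_lit 6) (Steps.bwd (nat_lit 2) (Steps.fwd (nat_lit 6144) (Steps.fwd (nat_lit 2048) (Steps.fwd (nat_lit 4096) (Steps.bwd (nat_lit 3) (Steps.bwd (nat_lit 1) (Steps.fwd (nat_lit 4096) (Steps.bwd (nat_lit 3) (Steps.fwd (nat_lit 12288) (Steps.fwd (nat_lit 4096) Steps.nil))))))))))) (nat_lit 20) (nat_lit 9),
  Rule.mk (nat_lit 3) (nat_lit 154) (Steps.bwd (nat_lit 6) (Steps.bwd (nat_lit 2) (Steps.bwd (nat_lit 3) (Steps.bwd (nat_lit 1) (Steps.bwd (nat_lit 2) (Steps.bwd (nat_lit 3) (Steps.bwd (nat_lit 1) (Steps.fwd (nat_lit 4096) (Steps.fwd (nat_lit 6144) (Steps.fwd (nat_lit 12288) (Steps.fwd (nat_lit 4096) Steps.nil))))))))))) (nat_lit 20) (nat_lit 9),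
  Rule.mk (nat_lit 3) (nat_lit 102) (Steps.bwd (nat_lit 2) (Steps.fwd (nat_lit 6144) (Steps.bwd (nat_lit 2) (Steps.fwd (nat_lit 6144) (Steps.bwd (nat_lit 2) (Steps.fwd (nat_lit 6144) (Steps.bwd (nat_lit 2) Steps.nil))))))) (nat_lit 12) (nat_lit 0),
  Rule.mk (nat_lit 5) (nat_lit 362) (Steps.bwd (nat_lit 3) (Steps.bwd (nat_lit 5) (Steps.bwd (nat_lit 3) (Steps.bwd (nat_lit 4) (Steps.fwd (nat_lit 16384) (Steps.bwd (nat_lit 4) (Steps.fwd (nat_lit 6144) (Steps.fwd (nat_lit 10240) (Steps.fwd (nat_lit 6144) (Steps.fwd (nat_lit 10240) (Steps.bwd (nat_lit 4) (Steps.bwd (nat_lit 7) (Steps.bwd (nat_lit 4) (Steps.fwd (nat_lit 12288) (Steps.fwd (nat_lit 6144) (Steps.fwd (nat_lit 12288) (Steps.fwd (nat_lit 6144) (Steps.fwd (nat_lit 8192) (Steps.fwd (nat_lit 14336) (Steps.fwd (nat_lit 8192) (Steps.fwd (nat_lit 6144) (Steps.bwd (nat_lit 6) (Steps.fwd (nat_lit 6144) (Steps.fwd (nat_lit 10240) (Steps.fwd (nat_lit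 8192) (Steps.fwd (nat_lit 14336) (Steps.fwd (nat_lit 8192) Steps.nil))))))))))))))))))))))))))) (nat_lit 55) (nat_lit 2),
  Rule.mk (nat_lit 0) (nat_lit 167) (Steps.fwd (nat_lit 4096) (Steps.bwd (nat_lit 3) (Steps.fwd (nat_lit 12288) (Steps.fwd (nat_lit 4096) (Steps.fwd (nat_lit 6144) (Steps.fwd (nat_lit 10240) (Steps.bwd (nat_lit 2) (Steps.bwd (nat_lit 3) (Steps.bwd (nat_lit 1) (Steps.fwd (nat_lit 4096) (Steps.fwd (nat_lit 6144) (Steps.bwd (nat_lit 1) Steps.nil)))))))))))) (nat_lit 20) (nat_lit 4),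
  Rule.mk (nat_lit 5) (nat_lit 115) (Steps.fwd (nat_lit 6144) (Steps.fwd (nat_lit 2048) (Steps.bwd (nat_lit 3) (Steps.bwd (nat_lit 5) (Steps.fwd (nat_lit 4096) (Steps.fwd (nat_lit 2048) (Steps.fwd (nat_lit 4096) (Steps.fwd (nat_lit 6144) Steps.nil)))))))) (nat_lit 18) (nat_lit 4),
  Rule.mk (nat_lit 5) (nat_lit 115) (Steps.fwd (nat_lit 4096) (Steps.bwd (nat_lit 1) (Steps.bwd (nat_lit 2) (Steps.bwd (nat_lit 3) (Steps.bwd (nat_lit 5) (Steps.bwd (nat_lit 3) (Steps.bwd (nat_lit 1) (Steps.bwd (nat_lit 3) Steps.nil)))))))) (nat_lit 18) (nat_lit 8),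
  Rule.mk (nat_lit 0) (nat_lit 167) (Steps.bwd (nat_lit 5) (Steps.fwd (nat_lit 6144) (Steps.bwd (nat_lit 2) (Steps.fwd (nat_lit 10240) (Steps.fwd (nat_lit 6144) (Steps.fwd (nat_lit 4096) (Steps.fwd (nat_lit 2048) (Steps.fwd (nat_lit 6144) (Steps.bwd (nat_lit 2) (Steps.bwd (nat_lit 1) (Steps.bwd (nat_lit 3) (Steps.bwd (nat_lit 2) Steps.nil)))))))))))) (nat_lit 21) (nat_lit 2),
  Rule.mk (nat_lit 0) (nat_lit 375) (Steps.bwd (nat_lit 5) (Steps.bwd (nat_lit 3) (Steps.bwd (nat_lit 5) (Steps.bwd (nat_lit 3) (Steps.bwd (nat_lit 4) (Steps.bwd (nat_lit 7) (Steps.bwd (nat_lit 4) (Steps.fwd (nat_lit 6144) (Steps.fwd (nat_lit 10240) (Steps.bwd (nat_lit 3) (Steps.bwd (nat_lit 6) (Steps.bwd (nat_lit 4) (Steps.fwd (nat_lit 14336) (Steps.fwd (nat_lit 8192) (Steps.fwd (nat_lit 12288) (Steps.fwd (nat_lit 6144) (Steps.bwd (nat_lit 5) (Steps.fwd (nat_lit 6144) (Steps.fwd (nat_lit 8192) (Steps.fwd (nat_lit 14336)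 (Steps.fwd (nat_lit 8192) (Steps.fwd (nat_lit 6144) (Steps.fwd (nat_lit 10240) (Steps.fwd (nat_lit 6144) (Steps.fwd (nat_lit 10240) (Steps.fwd (nat_lit 8192) (Steps.bwd (nat_lit 7) (Steps.bwd (nat_lit 4) Steps.nil)))))))))))))))))))))))))))) (nat_lit 54) (nat_lit 2),
  Rule.mk (nat_lit 0) (nat_lit 128) (Steps.bwd (nat_lit 5) (Steps.fwd (nat_lit 6144) (Steps.bwd (nat_lit 1) (Steps.bwd (nat_lit 3) (Steps.bwd (nat_lit 5) (Steps.bwd (nat_lit 2) (Steps.bwd (nat_lit 1) (Steps.fwd (nat_lit 4096) (Steps.fwd (nat_lit 6144) Steps.nil))))))))) (nat_lit 18) (nat_lit 3),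
  Rule.mk (nat_lit 6) (nat_lit 154) (Steps.fwd (nat_lit 4096) (Steps.bwd (nat_lit 3) (Steps.fwd (nat_lit 2048) (Steps.fwd (nat_lit 4096) (Steps.fwd (nat_lit 6144) (Steps.bwd (nat_lit 1) (Steps.bwd (nat_lit 2) (Steps.bwd (nat_lit 3) (Steps.bwd (nat_lit 5) (Steps.bwd (nat_lit 2) (Steps.fwd (nat_lit 6144) Steps.nil))))))))))) (nat_lit 20) (nat_lit 10),
  Rule.mk (nat_lit 5) (nat_lit 362) (Steps.bwd (nat_lit 3) (Steps.bwd (nat_lit 5) (Steps.bwd (nat_lit 3) (Steps.fwd (nat_lit 8192) (Steps.fwd (nat_lit 14336) (Steps.fwd (nat_lit 8192) (Steps.fwd (nat_lit 6144) (Steps.bwd (nat_lit 6) (Steps.fwd (nat_lit 6144) (Steps.bwd (nat_lit 6) (Steps.bwd (nat_lit 4) (Steps.fwd (nat_lit 16384) (Steps.bwd (nat_lit 4) (Steps.bwd (nat_lit 5) (Steps.fwd (nat_lit 6144) (Steps.bwd (nat_lit 5) (Steps.fwd (nat_lit 6144) (Steps.fwd (nat_lit 8192) (Steps.bwd (nat_lit 7) (Steps.fwd (nat_lit 8192) (Steps.bwd (nat_lit 3) (Steps.bwd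 (nat_lit 6) (Steps.fwd (nat_lit 6144) (Steps.fwd (nat_lit 10240) (Steps.fwd (nat_lit 8192) (Steps.bwd (nat_lit 8) (Steps.fwd (nat_lit 8192) Steps.nil))))))))))))))))))))))))))) (nat_lit 54) (nat_lit 17),
  Rule.mk (nat_lit 6) (nat_lit 362) (Steps.bwd (nat_lit 4) (Steps.bwd (nat_lit 7) (Steps.fwd (nat_lit 8192) (Steps.bwd (nat_lit 5) (Steps.bwd (nat_lit 3) (Steps.fwd (nat_lit 12288) (Steps.bwd (nat_lit 3) (Steps.bwd (nat_lit 4) (Steps.fwd (nat_lit 16384) (Steps.bwd (nat_lit 4) (Steps.fwd (nat_lit 6144) (Steps.fwd (nat_lit 10240) (Steps.fwd (nat_lit 6144) (Steps.fwd (nat_lit 10240) (Steps.bwd (nat_lit 4) (Steps.bwd (nat_lit 8) (Steps.bwd (nat_lit 4) (Steps.bwd (nat_lit 5) (Steps.bwd (nat_lit 3) (Steps.bwd (nat_lit 5) (Steps.fwd (nat_lit 6144) (Steps.fwd (nat_lit 8192) (Steps.bwd (nat_lit 8) (Steps.fwd (nat_lit 8192) (Steps.bwd (nat_lit 3) (Steps.fwd (nat_lit 10240) (Steps.fwd (nat_lit 6144) Steps.nil)))))))))))))))))))))))))))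 (nat_lit 54) (nat_lit 27),
  Rule.mk (nat_lit 6) (nat_lit 362) (Steps.bwd (nat_lit 3) (Steps.fwd (nat_lit 10240) (Steps.bwd (nat_lit 4) (Steps.bwd (nat_lit 7) (Steps.fwd (nat_lit 8192) (Steps.bwd (nat_lit 5) (Steps.bwd (nat_lit 3) (Steps.bwd (nat_lit 5) (Steps.bwd (nat_lit 3) (Steps.fwd (nat_lit 8192) (Steps.fwd (nat_lit 14336) (Steps.fwd (nat_lit 8192) (Steps.fwd (nat_lit 6144) (Steps.bwd (nat_lit 6) (Steps.fwd (nat_lit 6144) (Steps.bwd (nat_lit 6) (Steps.bwd (nat_lit 4) (Steps.bwd (nat_lit 8) (Steps.bwd (nat_lit 4) (Steps.fwd (nat_lit 12288) (Steps.fwd (nat_lit 6144) (Steps.bwd (nat_lit 5) (Steps.bwd (nat_lit 3) (Steps.fwd (nat_lit 8192) (Steps.fwd (nat_lit 16384) (Steps.fwd (nat_lit 8192) (Steps.fwd (nat_lit 6144) Steps.nil))))))))))))))))))))))))))) (nat_lit 55) (nat_lit 10),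
  Rule.mk (nat_lit 6) (nat_lit 115) (Steps.fwd (nat_lit 6144) (Steps.fwd (nat_lit 4096) (Steps.fwd (nat_lit 2048) (Steps.fwd (nat_lit 4096) (Steps.bwd (nat_lit 6) (Steps.bwd (nat_lit 3) (Steps.fwd (nat_lit 2048) (Steps.fwd (nat_lit 6144) Steps.nil)))))))) (nat_lit 19) (nat_lit 6),
  Rule.mk (nat_lit 5) (nat_lit 154) (Steps.fwd (nat_lit 6144) (Steps.fwd (nat_lit 4096) (Steps.bwd (nat_lit 6) (Steps.bwd (nat_lit 3) (Steps.bwd (nat_lit 2) (Steps.bwd (nat_lit 1) (Steps.bwd (nat_lit 3) (Steps.fwd (nat_lit 4096) (Steps.bwd (nat_lit 1) (Steps.bwd (nat_lit 3) (Steps.fwd (nat_lit 4096) Steps.nil))))))))))) (nat_lit 21) (nat_lit 3),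
  Rule.mk (nat_lit 6) (nat_lit 362) (Steps.fwd (nat_lit 6144) (Steps.bwd (nat_lit 6) (Steps.bwd (nat_lit 4) (Steps.fwd (nat_lit 14336) (Steps.bwd (nat_lit 4) (Steps.bwd (nat_lit 5) (Steps.fwd (nat_lit 6144) (Steps.fwd (nat_lit 12288) (Steps.fwd (nat_lit 6144) (Steps.fwd (nat_lit 8192) (Steps.bwd (nat_lit 8) (Steps.bwd (nat_lit 4) (Steps.fwd (nat_lit 6144) (Steps.bwd (nat_lit 6) (Steps.fwd (nat_lit 6144) (Steps.bwd (nat_lit 6) (Steps.fwd (nat_lit 8192) (Steps.fwd (nat_lit 16384) (Steps.bwd (nat_lit 4) (Steps.bwd (nat_lit 5) (Steps.bwd (nat_lit 3) (Steps.bwd (nat_lit 5) (Steps.fwd (nat_lit 6144) (Steps.fwd (nat_lit 8192) (Steps.bwd (nat_lit 7) (Steps.fwd (nat_lit 8192) (Steps.bwd (nat_lit 3) Steps.nil))))))))))))))))))))))))))) (nat_lit 54) (nat_lit 11),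
  Rule.mk (nat_lit 0) (nat_lit 128) (Steps.fwd (nat_lit 6144) (Steps.fwd (nat_lit 4096) (Steps.fwd (nat_lit 2048) (Steps.fwd (nat_lit 4096) (Steps.bwd (nat_lit 6) (Steps.fwd (nat_lit 6144) (Steps.fwd (nat_lit 2048) (Steps.bwd (nat_lit 3) (Steps.bwd (nat_lit 6) Steps.nil))))))))) (nat_lit 19) (nat_lit 6),
  Rule.mk (nat_lit 0) (nat_lit 50) (Steps.bwd (nat_lit 7) (Steps.bwd (nat_lit 0) (Steps.fwd (nat_lit 14336) Steps.nil))) (nat_lit 56) (nat_lit 0),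
  Rule.mk (nat_lit 0) (nat_lit 50) (Steps.bwd (nat_lit 4) (Steps.fwd (nat_lit 0) (Steps.bwd (nat_lit 4) Steps.nil))) (nat_lit 56) (nat_lit 0),
  Rule.mk (nat_lit 0) (nat_lit 63) (Steps.bwd (nat_lit 0) (Steps.fwd (nat_lit 4096) (Steps.fwd (nat_lit 0) (Steps.fwd (nat_lit 4096) Steps.nil)))) (nat_lit 56) (nat_lit 0),
  Rule.mk (nat_lit 6) (nat_lit 50) (Steps.bwd (nat_lit 0) (Steps.fwd (nat_lit 12288) (Steps.fwd (nat_lit 0) Steps.nil))) (nat_lit 56) (nat_lit 0),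
  Rule.mk (nat_lit 0) (nat_lit 50) (Steps.fwd (nat_lit 4096) (Steps.bwd (nat_lit 0) (Steps.bwd (nat_lit 2) Steps.nil))) (nat_lit 56) (nat_lit 0),
  Rule.mk (nat_lit 0) (nat_lit 50) (Steps.fwd (nat_lit 8192) (Steps.bwd (nat_lit 0) (Steps.fwd (nat_lit 8192) Steps.nil))) (nat_lit 56) (nat_lit 0),
  Rule.mk (nat_lit 0) (nat_lit 50) (Steps.bwd (nat_lit 8) (Steps.bwd (nat_lit 0) (Steps.bwd (nat_lit 7) Steps.nil))) (nat_lit 56) (nat_lit 0),
  Rule.mk (nat_lit 0) (nat_lit 63) (Steps.bwd (nat_lit 8) (Steps.fwd (nat_lit 0) (Steps.fwd (nat_lit 16384) (Steps.fwd (nat_lit 0) Steps.nil)))) (nat_lit 56) (nat_lit 0),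
  Rule.mk (nat_lit 0) (nat_lit 63) (Steps.fwd (nat_lit 6144) (Steps.bwd (nat_lit 0) (Steps.fwd (nat_lit 6144) (Steps.fwd (nat_lit 0) Steps.nil)))) (nat_lit 56) (nat_lit 0),
  Rule.mk (nat_lit 0) (nat_lit 50) (Steps.fwd (nat_lit 12288) (Steps.bwd (nat_lit 0) (Steps.fwd (nat_lit 10240) Steps.nil))) (nat_lit 56) (nat_lit 0),
  Rule.mk (nat_lit 0) (nat_lit 63) (Steps.bwd (nat_lit 0) (Steps.bwd (nat_lit 3) (Steps.bwd (nat_lit 0) (Steps.fwd (nat_lit 6144) Steps.nil)))) (nat_lit 56) (nat_lit 0),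
  Rule.mk (nat_lit 0) (nat_lit 50) (Steps.fwd (nat_lit 16384) (Steps.bwd (nat_lit 0) (Steps.bwd (nat_lit 8) Steps.nil))) (nat_lit 56) (nat_lit 0),
  Rule.mk (nat_lit 0) (nat_lit 63) (Steps.bwd (nat_lit 0) (Steps.fwd (nat_lit 6144) (Steps.bwd (nat_lit 0) (Steps.fwd (nat_lit 6144) Steps.nil)))) (nat_lit 56) (nat_lit 0),
  Rule.mk (nat_lit 0) (nat_lit 63) (Steps.bwd (nat_lit 0) (Steps.fwd (nat_lit 2048) (Steps.fwd (nat_lit 0) (Steps.fwd (nat_lit 2048) Steps.nil)))) (nat_lit 56) (nat_lit 0),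
  Rule.mk (nat_lit 0) (nat_lit 63) (Steps.bwd (nat_lit 5) (Steps.bwd (nat_lit 0) (Steps.fwd (nat_lit 10240) (Steps.fwd (nat_lit 0) Steps.nil)))) (nat_lit 56) (nat_lit 0),
  Rule.mk (nat_lit 0) (nat_lit 63) (Steps.bwd (nat_lit 2) (Steps.bwd (nat_lit 0) (Steps.bwd (nat_lit 2) (Steps.fwd (nat_lit 0) Steps.nil)))) (nat_lit 56) (nat_lit 0),
  Rule.mk (nat_lit 0) (nat_lit 63) (Steps.bwd (nat_lit 8) (Steps.bwd (nat_lit 0) (Steps.bwd (nat_lit 7) (Steps.fwd (nat_lit 0) Steps.nil)))) (nat_lit 56) (nat_lit 0),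
  Rule.mk (nat_lit 0) (nat_lit 63) (Steps.bwd (nat_lit 1) (Steps.fwd (nat_lit 0) (Steps.fwd (nat_lit 2048) (Steps.fwd (nat_lit 0) Steps.nil)))) (nat_lit 56) (nat_lit 0),
  Rule.mk (nat_lit 0) (nat_lit 63) (Steps.fwd (nat_lit 10240) (Steps.bwd (nat_lit 0) (Steps.fwd (nat_lit 12288) (Steps.fwd (nat_lit 0) Steps.nil)))) (nat_lit 56) (nat_lit 0),
  Rule.mk (nat_lit 0) (nat_lit 63) (Steps.fwd (nat_lit 16384) (Steps.bwd (nat_lit 0) (Steps.bwd (nat_lit 8) (Steps.fwd (nat_lit 0) Steps.nil)))) (nat_lit 56) (nat_lit 0),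
  Rule.mk (nat_lit 0) (nat_lit 63) (Steps.fwd (nat_lit 12288) (Steps.bwd (nat_lit 0) (Steps.fwd (nat_lit 10240) (Steps.fwd (nat_lit 0) Steps.nil)))) (nat_lit 56) (nat_lit 0),
  Rule.mk (nat_lit 0) (nat_lit 63) (Steps.bwd (nat_lit 0) (Steps.fwd (nat_lit 12288) (Steps.bwd (nat_lit 0) (Steps.bwd (nat_lit 6) Steps.nil)))) (nat_lit 56) (nat_lit 0),
  Rule.mk (nat_lit 0) (nat_lit 63) (Steps.bwd (nat_lit 0) (Steps.bwd (nat_lit 2) (Steps.fwd (nat_lit 0) (Steps.fwd (nat_lit 4096) Steps.nil)))) (nat_lit 56) (nat_lit 0),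
  Rule.mk (nat_lit 0) (nat_lit 63) (Steps.fwd (nat_lit 14336) (Steps.bwd (nat_lit 0) (Steps.bwd (nat_lit 7) (Steps.fwd (nat_lit 0) Steps.nil)))) (nat_lit 56) (nat_lit 0),
  Rule.mk (nat_lit 0) (nat_lit 63) (Steps.bwd (nat_lit 7) (Steps.bwd (nat_lit 0) (Steps.bwd (nat_lit 8) (Steps.fwd (nat_lit 0) Steps.nil)))) (nat_lit 56) (nat_lit 0),
  Rule.mk (nat_lit 8) (nat_lit 362) (Steps.bwd (nat_lit 4) (Steps.fwd (nat_lit 6144) (Steps.bwd (nat_lit 6) (Steps.fwd (nat_lit 6144) (Steps.fwd (nat_lit 10240) (Steps.fwd (nat_lit 8192) (Steps.bwd (nat_lit 8) (Steps.bwd (nat_lit 4) (Steps.bwd (nat_lit 5) (Steps.bwd (nat_lit 3) (Steps.bwd (nat_lit 5) (Steps.fwd (nat_lit 6144) (Steps.fwd (nat_lit 8192) (Steps.fwd (nat_lit 16384) (Steps.bwd (nat_lit 4) (Steps.bwd (nat_lit 3) (Steps.fwd (nat_lit 10240) (Steps.bwd (nat_lit 3) (Steps.fwd (nat_lit 10240) (Steps.fwd (nat_lit 8192) (Steps.bwd (nat_lit 7) (Steps.bwd (nat_lit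 4) (Steps.fwd (nat_lit 12288) (Steps.fwd (nat_lit 6144) (Steps.fwd (nat_lit 12288) (Steps.bwd (nat_lit 3) (Steps.fwd (nat_lit 8192) Steps.nil))))))))))))))))))))))))))) (nat_lit 55) (nat_lit 21),
  Rule.mk (nat_lit 7) (nat_lit 362) (Steps.bwd (nat_lit 4) (Steps.fwd (nat_lit 12288) (Steps.fwd (nat_lit 6144) (Steps.fwd (nat_lit 12288) (Steps.fwd (nat_lit 6144) (Steps.fwd (nat_lit 8192) (Steps.bwd (nat_lit 8) (Steps.bwd (nat_lit 4) (Steps.bwd (nat_lit 3) (Steps.bwd (nat_lit 6) (Steps.fwd (nat_lit 6144) (Steps.bwd (nat_lit 6) (Steps.bwd (nat_lit 4) (Steps.bwd (nat_lit 8) (Steps.bwd (nat_lit 4) (Steps.bwd (nat_lit 5) (Steps.bwd (nat_lit 3) (Steps.bwd (nat_lit 5) (Steps.fwd (nat_lit 6144) (Steps.fwd (nat_lit 8192) (Steps.bwd (nat_lit 7) (Steps.bwd (nat_lit 4) (Steps.fwd (nat_lit 6144) (Steps.fwd (nat_lit 10240) (Steps.bwd (nat_lit 3) (Steps.bwd (nat_lit 6) (Steps.fwd (nat_lit 8192) Steps.nil)))))))))))))))))))))))))))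 (nat_lit 55) (nat_lit 14),
  Rule.mk (nat_lit 7) (nat_lit 50) (Steps.fwd (nat_lit 4096) (Steps.bwd (nat_lit 7) (Steps.fwd (nat_lit 4096) Steps.nil))) (nat_lit 24) (nat_lit 0),
  Rule.mk (nat_lit 8) (nat_lit 362) (Steps.bwd (nat_lit 4) (Steps.fwd (nat_lit 12288) (Steps.bwd (nat_lit 3) (Steps.bwd (nat_lit 5) (Steps.bwd (nat_lit 3) (Steps.fwd (nat_lit 8192) (Steps.bwd (nat_lit 7) (Steps.bwd (nat_lit 4) (Steps.fwd (nat_lit 6144) (Steps.fwd (nat_lit 10240) (Steps.bwd (nat_lit 3) (Steps.bwd (nat_lit 6) (Steps.fwd (nat_lit 8192) (Steps.fwd (nat_lit 16384) (Steps.bwd (nat_lit 4) (Steps.bwd (nat_lit 5) (Steps.fwd (nat_lit 6144) (Steps.bwd (nat_lit 5) (Steps.fwd (nat_lit 6144) (Steps.fwd (nat_lit 8192) (Steps.fwd (nat_lit 14336) (Steps.bwd (nat_lit 4) (Steps.bwd (nat_lit 3) (Steps.fwd (nat_lit 10240) (Steps.fwd (nat_lit 6144) (Steps.fwd (nat_lit 10240) (Steps.fwd (nat_lit 8192) Steps.nil)))))))))))))))))))))))))))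 (nat_lit 55) (nat_lit 0),
  Rule.mk (nat_lit 7) (nat_lit 50) (Steps.fwd (nat_lit 2048) (Steps.bwd (nat_lit 8) (Steps.bwd (nat_lit 1) Steps.nil))) (nat_lit 22) (nat_lit 2),
  Rule.mk (nat_lit 0) (nat_lit 206) (Steps.bwd (nat_lit 2) (Steps.bwd (nat_lit 4) (Steps.fwd (nat_lit 16384) (Steps.bwd (nat_lit 2) (Steps.fwd (nat_lit 8192) (Steps.bwd (nat_lit 7) (Steps.bwd (nat_lit 2) (Steps.bwd (nat_lit 4) (Steps.fwd (nat_lit 16384) (Steps.bwd (nat_lit 2) (Steps.fwd (nat_lit 8192) (Steps.bwd (nat_lit 7) (Steps.bwd (nat_lit 2) (Steps.bwd (nat_lit 4) (Steps.fwd (nat_lit 16384) Steps.nil))))))))))))))) (nat_lit 46) (nat_lit 0),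
  Rule.mk (nat_lit 0) (nat_lit 128) (Steps.bwd (nat_lit 1) (Steps.bwd (nat_lit 4) (Steps.fwd (nat_lit 6144) (Steps.fwd (nat_lit 2048) (Steps.bwd (nat_lit 3) (Steps.fwd (nat_lit 8192) (Steps.fwd (nat_lit 6144) (Steps.bwd (nat_lit 1) (Steps.bwd (nat_lit 3) Steps.nil))))))))) (nat_lit 42) (nat_lit 8),
  Rule.mk (nat_lit 0) (nat_lit 141) (Steps.bwd (nat_lit 4) (Steps.bwd (nat_lit 5) (Steps.fwd (nat_lit 8192) (Steps.bwd (nat_lit 5) (Steps.fwd (nat_lit 8192) (Steps.bwd (nat_lit 5) (Steps.bwd (nat_lit 4) (Steps.bwd (nat_lit 5) (Steps.fwd (nat_lit 8192) (Steps.bwd (nat_lit 5) Steps.nil)))))))))) (nat_lit 50) (nat_lit 0),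
  Rule.mk (nat_lit 7) (nat_lit 362) (Steps.bwd (nat_lit 4) (Steps.fwd (nat_lit 6144) (Steps.bwd (nat_lit 6) (Steps.bwd (nat_lit 3) (Steps.fwd (nat_lit 10240) (Steps.fwd (nat_lit 8192) (Steps.fwd (nat_lit 14336) (Steps.bwd (nat_lit 4) (Steps.fwd (nat_lit 12288) (Steps.bwd (nat_lit 3) (Steps.fwd (nat_lit 12288) (Steps.fwd (nat_lit 6144) (Steps.fwd (nat_lit 8192) (Steps.bwd (nat_lit 8) (Steps.fwd (nat_lit 8192) (Steps.fwd (nat_lit 6144) (Steps.bwd (nat_lit 6) (Steps.bwd (nat_lit 3) (Steps.bwd (nat_lit 6) (Steps.fwd (nat_lit 8192) (Steps.bwd (nat_lit 7) (Steps.bwd (nat_lit 4) (Steps.fwd (nat_lit 12288) (Steps.fwd (nat_lit 6144) (Steps.fwd (nat_lit 12288) (Steps.fwd (nat_lit 6144) (Steps.fwd (nat_lit 8192) Steps.nil))))))))))))))))))))))))))) (nat_lit 54) (nat_lit 8),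
  Rule.mk (nat_lit 0) (nat_lit 375) (Steps.bwd (nat_lit 4) (Steps.bwd (nat_lit 3) (Steps.bwd (nat_lit 6) (Steps.bwd (nat_lit 3) (Steps.bwd (nat_lit 6) (Steps.fwd (nat_lit 8192) (Steps.fwd (nat_lit 14336) (Steps.bwd (nat_lit 4) (Steps.fwd (nat_lit 12288) (Steps.fwd (nat_lit 6144) (Steps.fwd (nat_lit 12288) (Steps.bwd (nat_lit 3) (Steps.fwd (nat_lit 8192) (Steps.fwd (nat_lit 14336) (Steps.fwd (nat_lit 8192) (Steps.bwd (nat_lit 3) (Steps.fwd (nat_lit 10240) (Steps.fwd (nat_lit 6144) (Steps.fwd (nat_lit 10240) (Steps.bwd (nat_lit 4) (Steps.bwd (nat_lit 7) (Steps.fwd (nat_lit 8192) (Steps.bwd (nat_lit 5) (Steps.bwd (nat_lit 3) (Steps.fwd (nat_lit 12288) (Steps.bwd (nat_lit 3) (Steps.fwd (nat_lit 8192) (Steps.fwd (nat_lit 16384) Steps.nil)))))))))))))))))))))))))))) (nat_lit 54) (nat_lit 8)]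
noncomputable def R : List (List (Rule)) := [R_0, R_1, R_2, R_3, R_4, R_5, R_6, R_7, R_8, R_9, R_10, R_11, R_12, R_13, R_14, R_15, R_16, R_17, R_18]
def LW : List Word := [[], [0], [2], [4], [10], [6], [7], [8], [9], [0], [1], [2], [3], [4], [5], [10], [11], [6], [7]]
def par : Par := ⟨11, 5, 16, 27, 2047, 65535, 134217727⟩
theorem hpar : par.ok := by decide
theorem hR0_0 : lall (R) (fun l => lall l (ruleOK rels LW par)) = true := by decide +kernel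
theorem hR0 : lall (R) (fun l => lall l (ruleOK rels LW par)) = true := hR0_0
theorem hR : RulesOK rels LW par R := rulesOK_of rfl hR0
def cols : List (ℕ × ℕ) := [(2048, 1), (4096, 2), (6144, 3), (8192, 4), (10240, 6), (14336, 8)]
theorem hcols : lall cols (colOK rels LW par) = true := by decide +kernel
noncomputable def JS0 : List ℕ := [nat_lit 0x192000007000a000000992801200a001800800600a004991c0d8000c92008004800800200b0010020c9200003464800399280000010039918006064000006324193002201200899280c001800a644000190c00a6480040170008024010009325001800864202c00132219080a9910c820500006410220053211904098000002645002000cc8800800499100086410246410009904081904c80044c800073200100008000006002000190000864001e6400031908012641002000cc7e038c7c6400031900c7c030c7c640005003001464000218f80698f4c7e00931f98f40618f400c005004001400600631e80b31e0014c78024c78008001800400600600418f00518ec00e63b01200300218f001263b01063a00318e80398e801063900c63800418e00298e0c6e010002637002001400c004002801800800631b80331b0004c6c008c6a00431a801,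
  nat_lit 0x4cd265b06600000f1968190094cbc65a062000001996418000c04665905e00032f803401c00b004002400c65a001996417197801800a0038014cb265805a00400419a000665705866832e997000265605600101280041500000180a404865532a02832a8010cae66432a0273298090ca60040040060020008ca6098ca4002329005329194412800cca600532f194412194004465000a652011194003193c04464f00a650327004327193c04065a00d8064cb201e00e996400008c02e65800e8070cb001700c1964c9c0003268223268078c9a00400264d001994800c0050068024006004326821001800801c0070040008c9800004064b001192c0f192cc9405000a004326804802801232919280f992402a64903c00600081d,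
  nat_lit 0x3c009000c00267209e04b34119c827000806467109a00101799c00a99ccce800f02319c0139a0008e66f09867901319e4cf000f33919bc00412c02c675012009c04801700919b82519c00120070030030ce066d00004933619bc01a01300699bccd812000a66d33584701b8034cd411800467101900e8cd411400a03b33484401419f0cd010ccdc03733384200100c8ccc104030668333040002801ccca0fc00a66400800100999e01f000001c0f401e66e010807003401b00b805401000333103c002803001c01e007199ccc4661076662001009000066005803000899801d0010cca65f07201e00e807804402101380ac046006002997c1c003ccc600c331998000200432f03733000840080000028360018084058026017809404c02d01619740040d4cc266d32e034,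
  nat_lit 0xd0e0623430603438178d5405b02e016c0c26860c668702e9a18049a180b806302f018c0b605c34306234301800d205f034817c0c06860c268802f9a14301a140a605402901500a40533428613428148d08180d0a05c0318188d460540289a102f812409404934d809c03468500104b0029a2002200e0081a200306840bc01801300ac04602100c1a0c000174d04017011807c04601734105802b9a1cd02170d0201334005b02181200860410069a0cd000010b4682006801800400a34119fc000164cfc681005001c01468133f0580290038cfa118cfc045023801000015c00604433e8010cf8158d1800433d8540040010cf401c00e00433c80533c99e012800006803501a00dccf46790010553440104cee15000868b33b04000180f4cea14c06002e0179a08d020270141a1c00e00533a85200019d000800333a05133d99f0096001339850,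
  nat_lit 0x348813c09c05c027012c09e6910c46910271a40301a4406803b358010008204d34806c34880ccd20024d2003201700d005c02f0191a40311a400b604102181040b005b34805f3490168d1e024d1e6a701100a40440243539a3c359a3cd4c68e01268f02b8140d5e04801d1a94d1c1a8d1e04c02201040880520261a3c2f9a4409668e01268e017809804e02601600bcd1c190d1c02e346860347012008603501a1a9005a68d0ce68f03101780b86b03578154d1c1a4d1a0543468093468180d1a024d1c0610301ac80a66ac02b1a34341a300aa68c01268c02f9a30049a340c00503549aa80ac0593460673458160d16024d1605e345809000800cd160fcd140033450053451a24128000d1405c02b81540a40500288663449aa40f26b635c02181086b703e9ad8d4e0563449a20329a1c00068700a68702c9a1c049a1c0c606702f819c0c4063343864,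
  nat_lit 0x9a70d5601734d87a0009a84d360bcd3c04534d0060019a6cd341e4d3800334d04c0001a70d3210cd4469a34c8780009a78d341dcd4069902200434c81434c8008d32078d32698028001360023cdca0ac3729b6cd7e6980ec69701c1a5c0f00e4d346970ea00134b81100000cc0001d0d7209b37082b0dc26dd35e1a5cd2c1cc05c698001800800c0050039a5c390000d2c00434c00d0d3269600007134a8014d2a1c0d2c6b7041821010e6b10151a54379a500526b036a9acc05602a34a00e3499ac01146b034980c34a00b0d6409335900b005e6930dc69235981fcd666920186923598224d6669201869235a00b806002e01a9ad0d2417cd246b33488093491ae00b86bd0201ad4d646910da69235b9a44301a44d6c04702f011c0926b634886b,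
  nat_lit 0x3571ab41280100c66ad0a60033651ae403a6ad10e00635e1ab022001003e6ab08600e00e1aa8431ae8d521f40066ba3548850048078d500fcd6a6a70080030009a9c3d9ae8d506a60500030039a98188080d5e6a50606b10099a90080044d46210d4a01d351883001003cd461000206a2008007001002cd706a20fe6a83508820060028d4a0003528028018204d486a000000040082000026b53548020d3e1fc0046a234f07e3511a743e806800469d0f80020001a702d8000d3a09403069c34d87b0000058d3614c03069c34d828,
  nat_lit 0xdb26ea3600000d822440006c102801fcd7e24000205036003f3698004d7c14cd7c6bd04a0333721af4479afcdba6bd0a800536e9af0201afc0886bb00c6be35d004000000cd782380066bb35c8440139af0d7023400a6b710400101d9adc1f8000d6c09407400235b08c0001ad4088000da46b51160733611ad42e001000c6b509c03935b9ad01f000800a6b307200535908a35b1b38d6422400003535888801b1ad0d621380026b235804d0000004d5e0540040333578440008194d600fcd60001357053,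
  nat_lit 0x3cdb66df01380080026f10021b7c02801114c6f20019b98528024002074dac0000380470000090daa29004401101000080000170209bb051800404802337100f807603d00b0a2017000004601701201340b26f614202500100fc07603901c005405e28004c00102409f0120000dd427807801101d8000d9c00b00d00884e80d80706dc00e804803400a36689c3679bb0d9a26cd980673660103679b2c4200040086cb07200936508a0009b28088008d986d40021b284d1b94d946c91320030021b20030008d8e010d980000009b20022260002000363803cd9625c00204336284e362016cd88078dba00400480f006e6cd007000c01600c3620960220114086006002800c0826de021811cdc225405403301a80e800e00236d9b6806a02701309400f80800820040018004db46d901a009804424c0146c901980e000a00001f1b6c080042006092,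
  nat_lit 0xb3760843770040dd82c00046fe37583e37a9ba845000400a6ea0620133748840009ba40a001401c0480091ba4560024de06e80866e80009b9c3f1bb4dcc2080000033768aa0019ba0dca0ccdd06e40fa00301900d41066e415e6f10589b8c57000cdc40940040af37103f3771b84021c100be05d02a00480840013708ad3711b84dc00f807c0123780000dc02b00e601203801c4e2c71303d9b805580041526df1546f200780d80026df0486e736f9b784280cc01e703034819405002636f0a937a8028dde27807e002028814803e00d00580f0541bbc00206811e03c000012c4f0138004043021010403c6ec01e0a7,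
  nat_lit 0x30089c2003a70f01680b8e023181bc71f38005c06e9d20e6e09b049826ce6c0300030014e0031405401c00d803ce0600e3801bfc62003401e70500b9c2c05200037f0c30000370e1a14c00800737e8b037e8034df8308df800b37d81e000036005430400000437d0c006b83581aa73f389813006a6fa17e00c00c1cf815073f0509be40002f800200804001fcdf02f400600137c9c94dee2f000c07a01901f4dec2ec0020030020004dec2e80146fa0109c9810207e37b1bd45c800400607b0179c7cdea6f417000b0050020dec00203d00bc0860540189bd05b8004e5608b0270130df200a37a0b637a0014de62d40ee02c02001440b402300a1bd800e0053798b437a8054de61e00086fd3790b337a8074de2040df86f002200400a1bc0271bcc0286ef1646f73770140001bbc08404302301e00f271900a0048de22c400600b3768aa,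
  nat_lit 0xd000471611273038b1c5447800c0040440248130e3e01d3900d2001000408672901d00e0e4c0301a2002000011446810c09e09003001dc14406502a0114e240001a071238e008404404a0208100e2233c00401a38883a00d9c40451c400287100207163878110010018e2409002901581440533890028006338e2073538709b0019cd4e1a0c0e1c0733860103879c2c421c2c00e70b03c00738508a0009c28089c28e7270c00180046681b00740100099c4004204a3848cc0001c2010c0460431c2000032c00070905c9cd8e0e32800272b38384e3838110e9e0b73a7811016e7071920b807383981ca707000010ce0c32000201700d006c1562bc00001501409e0038014e081e00020033818303810380e040400000043838c7,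
  nat_lit 0xe58000038000395824cebc0833b802001020a63af024ce5638ce56001008003411a08f0481ca8711cace5405001802639b027413c7760689ca87080101b272907400b06a1ca01f0014ee6727072085043023c0f073d0071cace4e38003a72c3938010e4c37c1da00a3928de3929ca803205b02f803ce4a000010007c00a37404201e0020018e4a01239581680307293920dc069035013c09c3ac81b001a7231b6725393005c01a7220a000400080744681fc0de74c3b40188e8805802b1c9c01c7211b401c0101cb00da0440071c800023641800b205702ac1480620071c7c6c0000e400040031c7865000018871e07477708904442200d5030000ce3c35c05e00b38f03401b002ce3a10c00200638e07e0299c78e36234e3871a10404f398810806a0360038028e3435801200238d0024e3235401600938c0d43940024e2e34c000034001877,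
  nat_lit 0x3a181a01240ba05a007c02c73f1e8005008805c02873e1e60020020034e8a0b50850278ec606903b1cf8791cf40ae0563d202640ac05739e8f13a105042841433d201540ac73c1e00010061d6812e05402a9cec7780000167593d08258eb200b0000ee0041d001647773d184e0e7c73a1da05d02f9cec00273a1be73b3bf83a4f1c08902f9ce8761cec0ae75802e1ce4759cec1820b33bc9ce45e1ce827479f0841e782667391d47393df063cf727381d200139d04247400000087400ea0033a180a010a79305382a4e6e39c01c76c39b04700000140880c800c0e539a8310101cd008800000403d11e00400a1ccc271cd801e73216403d3a29dc40f802839c8010e643980000dd055829813409b0021cc47283740027301a60170009cbc72037800c72f05e0083981cb84c825c00272d00a00200081d,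
  nat_lit 0x4875d3a885b00280f0f3c0c33c30244ea241400600504b027cea041000809304d0274e9e3cc0007593ae0274e9c13c026012008808c01c7510019d38819d3c00674d20476401b80a400a74d06c0833be82e019e75f0021d3480800402801100780380160093a69000019d40e980c00280083a58770001d6c19611f05a032ceb60001fe0230149d4802674a1fc7543a99d247e82e414c7870a8854029e7563a48fc0008064e90138ea074711475103a81c813878605382e0e8e3ec00475003b0050e8e15802a74e3a30fa0020058e8c14c02674504a0113a601c00da09604c9dd0e8e00300080007c8004e9c0da3a61d107c00080067430860103a10820018018e840fc00474104a74706603382087a203c1db0e823dce820163af82800ee76b3a00f63a082100fc07b39f8f5,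
  nat_lit 0xeee0303b3114033019c1107843c09da401a7662260040031d94891d900167640200093b188400004682fc00a3b202608c8024ec60033b10563b3000cec2100ec60043b00053b01d7c12800402e0160098050024028001111000002c88006400275d05e76d3ae9d704f80641540b63ee051c28c7dd0bc85d800200021e0000a09e400840373b91dcceb64382e87dc3ec85042e20373ad10d0479dd0ed40213ad024001000ceb22240440203ac03f3b31d5c12801000c75721801d00d9d586f003000075606800002b9de40ce09b3c80298eb442c0ac77803382ec19a7563aa90a3ab00502587c43aa9090001d7822c0133aa8560099d5002000001204006b83540840393b1008802c01521000801e8450f5476600f0070ea641cea40053aa0024ea80053a9106,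
  nat_lit 0x77e3be00140081940011de8940030efa0080cd1e0402277a3bc9270c720703d681f0c9864800077824c81f420a088efe77824a7770071ddc04a0703cc1950021ddc921dd80047760127790c51dd8210008eea1f40001920ca1de40100073bc06243107763ba92340c86340080023ba1220c30000ee61e40007740520010c58630eea0040019dd03081863b90000909dc50241e20f187890241853b89200c51dcc0007723b88240009dc902818b3b911f3b8203905a1d3416a03830277023c7700c5a04c3c080e0c085fcede038ede81241887890628120c51dbc8f1dc80127ed0528298f1876f00111d03c9e781020b705b030cf1676e2380033c39db4269db009476c03c02100c8060f521083d2000ced846ced600204a02441280023b591a0200000ed404c0000703ca8208f560b50601e0c8c81bcf2807e06e83b8efa76923000500300a815c7a80a580c4ed245cfa41293bd80c4ed04580347713b3915,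
  nat_lit 0x278c00c003c02000f00c1e3000c7892780033c580400127943c58014f104ecf100000380013c480540187943c91e24f0e0002747863c4003400c00d3c41e18830000f0c0440381ae0d786b8f240040059e189c9e180027883c6004002278527079200d06b835801c00e9e4402c0010001e149b800034a7850720143c7806cf1e7880008010f0a4d8f180040060004010000004000401800d0031350038000f0e00a009068c02478626878300001c0021e0801200100100040127822660043c100200000010058020f084c800e78400a069034c1a40058000989e180000073c2804c0280130051300030014efe0003bf001401078525e0013c30024f0c0113c18010efa4b800277f3be8153bf9df00a0000ef8044f0477d3be12d0000004014782003802432c1970031e04ef84b000277e3be0773bf1dec088000ef605033077c3bd8750000050efc006002865c00e77c2560120099e1033a00b0051df8ef64a831e0023bd800c32a0053bd129,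
  nat_lit 0xf340453cd0050029e8c02a7a3001800800279a29002a3cd1e642d9e6806079900c0010019eac04801500a1e880267ab0151e64a38040f5a7980860010141e5c191e7401600c0059e640080013cb9463d580bc0100023cb14500000a000630405e79b3ca83e3cb801cf282c80007ab0121e54002510f567983c98780000010f242a8f2802c3c9054000007cf2214cf4a7923c88b03c9870909e21d120a1fc49224743fa1c043684f3c88000a19e4838279000c78f0e09e3c029e3cf201c101680b8f4a02c0dd86e405200028402601406e437002b0149e9005878f0001e38a09e3837e78e0020103cb00a404e0290020000f1c50000200200093f3c680000e1e34f2400b00300140047923c600009f1e2cf2278d0019e34f2278b0907913c58140048000088000f1478e3c78088f360243cd93d,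
  nat_lit 0x2f00000345580680003dc1553e1000801055000c0022a600200095201680000045440000033ea01680ca1eb43d093849887a0321f600b400500095000080000060173de80bc05402b29e0023d8804001c7a704c7a60071e98029eb0f4a094026029009804800a7b00009e94a700ecf4a7a42240023d28000f807a429a03a3e0801c0007a42980063e21e903f0044f461f40220143d6806403c00000f0064f5a00f3d514b00d8058f5801300100000027a33d6006003a5280020103d500e0f4202000203a3d008f3d41e7c020044f3e2080047ad3d7012cf3e020f3c04b3cf0050019f00f3c3e803679d04a00000081243b21db0239efc0880460ea9e74a49e7400679d00a79d3ce0253cf00d8f3826402c7ba3cd83f,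
  nat_lit 0x112e22b44b8000b2881cf960043e507ecf907c72c8009003802000a0033e487e8f8e58cf8c88c122a230f8c0304127ca002800c0080010011f18b11f140027c50e07c60ffa23c4a688a0fb87d8f8a038f88887114a21cf88030f8a88b11588b916488d0fe9f10b09f0d11e2544479f0c061f1040088f123a21c3ec1f73e19603e122204508883e100c3e122404a08903e100c44a0008a900180045491260022a425b00281d0af225000a0032b6001037001512057d11a0052a48aa0021facaf01a00085744ae0033f195c443800d11c56d158002034956442000910e56c4ac00103215a12b80003e65451087e100001acfc000203081ccfbe0060039f1d10a8a54410004ac9f803e888212609211000000f8a2004928a24411f8c0d2560f740012ae01d000953,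
  nat_lit 0x18034fa20c801a7d0104000002809cb71f4400a7d30080038fb27cf2da0063e9807c0187ce1780013e79f4002e7ce0107d73e68040000014b60084fca0010001f30b580004307cc0fc7e33e780000027cc2d47cd0009f8c4447cc2d27d23e588200e1f30f961e40000193e583200b1f30f961ec0007da3e58530061f30f961e40027cc008802cf965a00027d13e582f3e70864f940180067cb3e50793e6000cf941300007cc3e48433e71f28f921e00027cc3e50773e61f24088000f920504227ca3e48751021f400180040029f2c0047ca2ce0051079f400060043e50004f92598f900003e4070,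
  nat_lit 0x4807ed3f21700008920fca0fc0240013f18053f19f8812804448c7e20a60050131f881880d4ff07e10607fa0161f800800a8fbe2100627e03ef8c00028008fbc0780007dd1147eb3fc1f741a000c0567dc10c0263ed87d0028098fb61100040263ed0333f79f643e800cfe87d910a0243ec0250018050fc40173ec16f00f0058fae35046e7e13eb07900108a8fac0fcfba7d50080030151f94fba7d515e00f3ea0040051f84fa83e80040133e988f0099f4802000804e7d20fc7dc3e8882,
  nat_lit 0x68290089fecfe85e80140093f98420051fc841000c0027f216a2590009fc4230000fe41f44b07f13f80790008958fe00c808c05d4119fc4fe05e44a67f03f787b0009fd900c8213f78080008974fde0fc0167ee04a81f01980000047ee2f002f01680a80507f6003005404e8200299fb8bb80f40a47ed0a60013f602500220240780393fd804800600b006200cfd85d809e0353f584712c814007a03c001000c04e0250040014fd65d407e03d40400ec002002013009000e0043f51743f79fe008e8123f5000100a03801a9fdc01c5cc0507ea0008128fd25c8ff88103f400512820500500253f41710008928fd21f8fe80013f38413f39f983e807448c7e60640021211f983f1fdc4847e50020003f207d,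
  nat_lit 0x80088051f400440200440401550082c000083240183e414a01900622c00080440107e000014d00413809e80340112d022010c0c483001300940aa053028013900460902a02f019013c0a202d01620c40c806140118114120b500217005006040004600189e90001f805427a3ff8410009ff83e8004008006400807c0aa027010a0300367fe3002774051ff4b800044d27fe0fc7ff0009ff0209ff0ff61f400a2673fd84102e017803c80901180980860460240060ff65fc006266419a018ff45f90628053fc87b00c005cff05f40127ff3fc03f3ff9fdc1280080127fb0011fdcbe1fe00047f60a67f63fa8253fc002001281c028a050082042417099cfea5ec0042663fa053,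
  nat_lit 0xa05902805502c81302800140981104b0aa814086705121a45442a1003a05102663502881340912d00f807812e098432a19852e298000204d02463007e830000000502462c07e040043020d04800140918a409a0490222d4042835028a051022624006002000800d026299409a044c40a690c209c4310a5d02481030e812150025d0bc85f147a040c3204525a945490203c06204053c92d1622494528295407985409206102061000801140783e409206101c07903080d028003421203418a0400e880c020811405884001803901605401880a11480c038a0283c00080c080906080e404084000801501013801480711400140381100001a906c81f01900dc0e283e03981dd08260c0d4809403040,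
  nat_lit 0x1005001c0b606a034a1600cc02641ca098ca00b10728250f201541ba09420a0dd0481f40f4070431000904864c00c824411832419008d06a83200f8ae003e8233242c344382e91042b600f2088c5015004400e413a08804002001e8210a8003002a0804c803001c81f07e82440f02500a003503c0e800400340e84d00720890382c801081b028002008206c22000103881f32200200880c405e81a32000e03e00cc05a81931e002003a0642220710301f504882603181890be05c018804504400240c18e00720fc01a81840b978000802902e21401a81e40b0fa40da05d02c1e40e2021414802102c2b001481a40a88b00020590280cc00200840a08c,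
  nat_lit 0x1a83b41b17d011026d1060b2445a1a808e84500ea0e506c68507400941a87c006001d06811906a09705a02dd0f806841a1a000280305c28674198bd42b01b00d00674190bc419800c01486541899f00d21545b687a4188ca42a82250ea8784180bc00a80610a687841796a002000c128879054026012a005418a0e505e67802286342820e505c67400400000c8b7003283c00c0000ce00610f009200120b4cd824010a876000a0b0cd000905882b11e090060018c0c806200620accc8b552ca2f74ae0b2459084a415998418a0c90545f50ea02741d00210541fd06082e41488b00020a90500cc00282e41408c000a0a9050055054827028001413811442010808883200b800504e65d05082741312d00a802c01405d03081880b6056000209d04c6590a22bc41f209d04c65400202c413053,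
  nat_lit 0x8aa42605c45f03c516a0b844e800400084a35200004322251540d144402150946a015e84b4250854250c1d09404009204842507b02ca1990920a00860424240fd025012108e3910fc07e45080c508e69c00a02f42308501380c108a2210a48564220ae004210c12807000684310600c001a108d321090821f400802842084400ca13d08010d08402441f84200821100f008c045a205104052024217507e69400802701e80f107c6400488aa026011107a63c0d206606e807107a69001a01c41e04400100710760cd08883a0fa00b00ea0e81780690720950a402d013809813e88705b029814601341c9a3001009413c096051004907068800200241b87b,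
  nat_lit 0x5802c51700c7433805c00085f372017000217c02803401c8bc05322a51940ef42f9b8017a1c800005443784502981540ac8db00280750ce01c02b21f90f86dc1b60024330fd434819c00006800f1b603381d80e80e5432806802a00303a22291086d403201400103901cc0eb45e0330da00540028c0366860000038c190384138894000800000885d0089b200180391640cc06783a810a000362897464831916200342a80041066c000200b00500050a82e90a600042c80490ba0984480204d7802400e856001001000285235c0c742921449680080020bb44f02881fe101060a2b018c85135a00007522b413209804d827914a0b442a214cd622f50a6850068000428a13c3f00001d084f0748c3428213c0980040048a6060030c1c00e205f02f518484f356002428a13c46000400484e154007426884000a1340a001000484e0022134d5023000884c05e84e425825,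
  nat_lit 0x87643b84f068234245e82b41568bc19d21c4e0001d19c87007400306821bc1f21b866e86e03c86e000003c01c00037e00900421bd0dc86d37c8c800121b026005800086b08600000b83d06383151880e146923502328e943600050d46f51e686d43503400021ad0d21f800012443483a09821a90d24b4004003031a23c13a8b019e8cf826a12f4349bc43580210d21e000886c43403043380210ce04001286610800205d21981d000416e86502a86843208a432a19008a19816c8640f000305ba18c59a19016486237600004e826400486204c09c00882500028610ac8b0430a18042825801c86543321f008c87b4301ba000a2c10c00c40000b142f8aa,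
  nat_lit 0x2480024501c844f00040e80f800071c24c89e01f01580a88a300100040048a302a00f4e3002800c0000038044e2800c0020751040000380030000139102710092046064011008689a02481351000000011c3001a44c1d68e7082012809287f384881010a1fcc2001002287e09a88100f21f45922210f805000612e43e08c43f84ad0f604001a87a022003442a1e81c80690f22290f690043c89b00124250f02cd104877108001002a1dc2700490ec22800287602200343b80580288760108f943ea1d44c800d0f687407e87843980400023c90f013423812607823481ae0d5069034002e0154391c1000000800a0134388f5,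
  nat_lit 0x91448a011889f004a27c08228913c04400289e02805900e051000a89e0ac12044fa27442800800889c07e00144d82506f23c41c08c1038805827c89b3a000009e005029289a33a00a00300312823721b98dd113473d13237344c81049c802000e005479037d1e089939c8b1082a2603c01452028971668961b5a25808228512a21000e06002e017912a62424006844a04c45d22d512610c00206544907e09800251222340c489010400002fa490e6803402288f16a00e00a22382d805802600145a81ac3d00480000b202582c4e622cc0d48d305ea35c00000f00481580b000b39600e00422a515410a08483251ac7291460013920420001c7,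
  nat_lit 0x45c004031494c0b185801088b33bc01745a00044c801400001116211503b81d00002f00028b0086022021e07803a1dd001000115e1130881dc00104dd26002145e858007008946e022115c76c26613709ca4e51bc08a043a2b4ed000800c8ad09c00d4560144560e691580400028ab022001455804001e8af2d60fd485a3f01b239c1cea5843380104550000eca2a516001000900411608a93b08ab45522a40048a83ae0000b9a2b426a51c2e614509fa4a825412909622c00028a73ac8ac00600340008a63aa8a7002801114e8a604c01200722942a04bd1588a408000945182500000082461d40020cf069032418e8ee48083b923c8a94511d4451228c00a0064509d3090048d23611e08d846928493845180051427482d88a445088b00022891401f800016445004e0c5a28514004c00200207323e51f88fe1c20e0d29c18a4501d1,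
  nat_lit 0x23300788ca308004017232426a36d190050168906092a48c1f692148f0000f3000000490d04f2438f280092e88c606202a46281106383b81d81b1002000400e01601ba35d18a79006a8c4114007006a4041708c415895c04ea30c2180052008c20fc18448023044682c91802092968c1460043461801517e6980e200145f03200122f441000000c1460a084f82780830391e3003231c04614a4a1854d28a8bc3c400349ea2ec4600252868ba0ee00005282851e004f02aa35d1ba78414e0ac00222e91725e428000045c0d30a5000d1700bc04a00345b80545ba2d812a3c414a0a345ba2d8f0052c0028b50a8017000a2d002852031c18b0b605b51da8ec45a1df,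
  nat_lit 0x42889570a50f907ca3e83e48e2002a39120c08f04982b11c27c42c40e6073809000e004470800051a3800048e003c00046f814000237c2a003f47885152ac9583e0000001804802093949b842c16a0b305a2378f7801534a3e11f00f7c1680b346e9ee061853d1b81f018a14f46d90200723780a803301881a00cc8db3da0c9036a368c8a4680d68d922a1d8034a3609680011da03d4748138f600340088d71368d800223585980500088d50208d546a011001003d2260c30c1060c3628d43d68d50d9234c4d801036e8d21668d54c12344dd800000691e05603fcf500111c88d00748d3472a33c0f239519c050000004005834c1c07a400a1a64668aa01ea3300882d01701770b9257c3480030001e8000001c1a00040009e7,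
  nat_lit 0x7261d1f017001618147b97003581a82d09794bd808403c8f73fe00500323d83da3ed1fa8f52fa40300d23d07e806017c92c02781401c81c60c080200088f43fc9990ea07442fe982003800d1e67f52500b50e807393381b4001a3c8d8a3dd1ec00d00423cc0028f1270016479a3c91e28f03f88f100400191e28f03541b2000a3bc1785d00028ee0a61a60da87152f897b478000d1dc7ec2f093d07903682dc0034769fa0d5004d1da0bc02c8f247609900280411d60fd2e400e475005001a3a412800400890601380980500df06e1f9000000d20a0644cf07483461a23f00030c9a5d82e894108003fd1ce7dc01216d47305c000017c0067d80ba05c0c1a5ec30a0014732394fa863c0048e42281840b805bc2e40a905400091c87d11fa03c01a80d014e0014719f34be00051c622415e8e347109f,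
  nat_lit 0x1f2009a4380286d801090e110004487a4347d034800890c0a6004485804000000817c9490fa87d83f01c841c0030e7a75040e9d2490813121483521604c48487c063031d29001f489001c0069093fe00f00880140049084181c6000241c9680000040f14a906813441bf4d820b002055c26896b09c04b809c9063dc0000c1242023861431c18f07d844c006906482a0a005801d2083500340054818750e5800d20404d2b210e4e6862c3140fa481a4090487043921ca0faa6441f2902480a0805482a81f60f707c240520081c0020060e5206000240401222000417747f102000000c26c1354b8a6002d00a140a000035a47481640c207881d1fa81000000109a04d426e0e107005ed01a3f00048fc02000047d81100080112340804e8101080640240400000181bd23290e01d00e026e10d08523e900801481240820384c821610947ca00,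
  nat_lit 0x3e0005492914498000d248391250171093050413209b05f02f12b400449221b0b205f830e18405b256000692343415249d01480aa95700124890c804124c9220681eb005248419a55400e9200029b521d281416a95600300112403d12421420a085a087c237000a47d0c06680ae05649c040d23e91e42e001002a7f409800123e0061a691e003003017c0c207925a523885800200005802cc32e9aa4d6867d0aa53d29009e01900bc05c92909c84f123600042891b00180200129f5115058d23484c00091a02800049227d909248c45a4340af04e80e606548ca1100185c82b215b4c4a62c0c491842091b02fa45c5aa4700c291620407500324581787a800c91500e00100124501f887400a91300a91348902548c004122e9184891aa003006c032917488a0f090804d22015138c013487807,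
  nat_lit 0x181000a4f44ca6c527a93c11e001000050432c9c24dd26d02f68903280a0049253408494e4a7825c2de93b00022349d866c30617f0c005b427c93a44400449d0144de065432e1ed0f7805402093a442000001801127493924400249ca4e06a007c01c9372fa9bc005a4d87e80602d21684d7864c32800100022000124f001c00a49a9934dd002126800938093549988d00424c841001126c01100fa4c857a7ac03e9310a802249ca4c04c801c03292f1f407b00d24b829a4c925a0100000024be844830e9ae0c426c10f80052f809e04f84cc34892c43c0114dd24ac2e000000810211e00649aa4a827004005092918402449408a00107e04649f54b002f801292843a0fc07f88683fa99b00224a124e87001a928493028,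
  nat_lit 0x3700ba54c2a27e402e9521101dc00a254402820000c95105e228003254003837000c94f00a9504a70254ab862c32218f4bb823c00494e4621bb11a287049c1f34c6000d29a8c022411e0b405953160024a622f047000d2982254120014a584006b252d29427c00200307b26c440620610588491700000040f509c04d828a07903d22d00188404221fd0fe26b01a894845800007b2524b803d1324a30130080c40800c4a3a2b4bf002928c34c40a00a4a28e40008008210122514096d44c213454000000841d33099e09702f017e8a4000106026011809298d4a1a280db853c3709d80d506a129094344e948006250869a73528c9410269c1002a5040385d000a9400a694149f8254b982f01aa97b054029800693f44c1f74f9084143496d052800927c8942021020ac028c14800149e986,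
  nat_lit 0x277000a96b08296b4b507d4bca5e803096f4b51cc51b80652d222d33a0174b40434b780612ce6982e296c4b308d0dc00392cc1312e69684b28420f180292c800401496310403c01ca58c2a06f52e69620800044b6a5841fa79c06896000a00100205dc3c01ea50527dc3a08ec0000030bb27ed3c61a402980e91d00103581af0e9876432a1744af23901206492ba11c01c1924ae0460ed07a43ce17607100a12d095c4700114b4256c86278005295a1c80db071268d33c0ee00a00192b48dc46223211188881e00eb4ad25646180712c202a006a57000895846c10900b00512ba0e94ac255d1aa57402695b00125591a000401a98346600000688b463803143aa1f51b28082bc15a4aa232003003c0200164aa20f,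
  nat_lit 0x1b500226104405ec00898300a9834c102500029dc554a7515085d82ea00248ea77001a6044485480029801321854c025fc47800800221b53e29f829a14c0a4a4600080004342b15430b0457e2bd48aa2d10d88ed35e0b54d826e43089ed4be80012200012fc0044bf851028a1754be24300da5f008843c3381e70f4870809c01b4be24253e29ed4f42b00b2053403697b48213b0a305093b214c00d25e920001931a9814bf25e51f80f930c98500ca5e07a811004001f4be25dd1f000400e0e40738adc56a2b353ca3d00000181c69b509584b42140fb47800507126600fe08509ba5d486809026e97408e04809ba5cc2301a80269730a81d0009a5c803806402697100c1c1009a5c002a5cd2de0952e404701f80152de0d84b40054b704405580152da0cc04c0054b61a6,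
  nat_lit 0x28cc3e6a3a52228f146c00400025200100313769b7037858837a07d4dda6bd3389440509ab4cd83a00b81453343080129ac4cc83902826604504282162be1480a3c03a01c4cc250002266804499e4cb9794cd267532c1ed52201a4ca91450e006932837800000951289e004a8bd32623000a1f44c9030038a64408a890452a4010d88543e200300024f000802934a04d4d104cc26a05b4d2815932093800a06a4c784e004015131c2c80dc98d02800454c134446ca43521005131a9343ac1ff523931952c01200a26312607dd32298b0ea030009a6287227993cea96269083931e0114c524b16600393123f539600c4c412d00080153ea1990cea65c08499a49400000227d13faa1c0f4286c3c89240069f306526f419ea304c3248005085530a11c53e0044c282f,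
  nat_lit 0x4cf0e5d33a02533c40f2160e696063971cb26752d267881c99d01299e210acc965a403200103533a96533c4204ce8604cf1210950474232918483e99d4aa99f5840ecc7683b3584920133c18934444b59f912889844e23ba6852c269c8ec9a00129a1224a6803026847a63d01dd0edd6104484d02574d08f493401813423e81f50fc87d4b131e8a68031a6847ce9a00129a123812b48da4ad5978f993409593444935b593196d64d0257a68431a69c95c9a00129a1248a68004a68486c45e22d917091c4904d02564d090d53401813423931cf0ef877eb0f21a26812aa6847249a00129a1254129c90e4a71c78e453401913424712678e195de3b7238a6852a26848e09a00c09a2230a6843005842c0a9a15188a40420224d1253000268c04e9a94d09794d126a13401ed34a0244cf97d15f808133c4503aa0204ce8de,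
  nat_lit 0x13200024c681e4c6a6300a0a5176056b1962f5d75c19f4c6a63134000800098b03c98d0b585a82ee21f0bb85e53161b400098b02898c5702ed8afa32c5e6ae9d49698b4ce98d1f48ff96744051fe0fed63898c4cc98b1d5ac7876a4fe1f30ead3169953163aa4c50094c50ea47583aa2228ea875298a0d4000216a62d322da977859b2d32f8177a4294c5262531a62c84298a0c098c24b931c90c47a23c2d2531698931cb221f5acbc8d846e5aca63530a6408c0b565abae049224924c78644c8ac887a0b2123691b08be9904c09941e70f3c7a43e85962d5d32697d33049725d1250984481216a65d2ba6687703b01d893249524cc4cc86d4cf2e089c44e127113756e699d4b699f273ae109d24eb26f12d533c9793484b44ce8094cf139533a02533c44b23a929c9504a627226752ca67889499d0c099e1ec8edc76a4445a3912533a97533c3d84ce8604cf12b8958b271ec8f687ae99d4b899f1cc8eed622b7f24e922d33c96d34848a4ce860,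
  nat_lit 0x4cba8e132c02532e18a19b89c849424751ba6593b265c312996012997112890033018b0c2862132c9d40029a64cb8154d326580a268d32c04400299f4cb0774cfa65408a67132a0500009984ca8154cb265408800021a9a64d410a5e6162068a5615e086000049944e89954ca264c5500003009a24d417f0f907bd4cc1fd51900053249cc000a3100226f0a6af14aac33b2b52f2037e0004c8a720e080013229b464ebc72b28ce4ae0bc20fe80053229c53249914c8039516288c25012709404ac0029904e0000095001137865177a58619a1571776aaa000263d3728ac00098f4da14a5dd1604664be25df04a800298f4d89904c7a638550494322a3b52106883020014c726b00006013249a82fcbb12b38cc0ae4bb308e800131a9a42340024c6870,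
  nat_lit 0x13222a11550a9c5f42fd57aa6413ea6445409900129911888b9858cac414e8a7d32095932410a157ab285b82da12326453aa65c48a9900c0991084264004a64422ea3f520041020a1074c806a4c906a8438a8c111884422c9914f69920d4a6443026484802530d6a99c3521a84c8a604c9a86455029255c0a404ac9924f899350c26483026543529940c0995129aa784a824f0d486a132897132c0f011807543aea75098a6542fa6581de99501299605e82f0180a2051603b932a96532ea410c5063431418905e265805a65d4809960c099709604a1482a4009c28fd32c9ed330ae91972bf961033d186a65c33a674618996012997573a65830265c5deae11790bcd5c8ae64cb27a4cb8bb932c02532e28b148aad85402ad176a6593ca65c5149960129971830c145f23011440a2532c1a9330165164093049e277116265d3c26744569960c09970b1a65804a65d47213e09fa8e82c21624cb277,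
  nat_lit 0x4c88c786342c71652bbc53899001499118ea640302644658b0e1898c5863a31c4c82824c90c6064e32658a8c906d49910d89971b4a64004a64462c9900129915798b4d5d22c41608c553209dd322af24c80094c88ccc660b161800b815e29900da99119926403026446c6b2e1ad0d4069c3314c800b4c90cb86bab291abac9c6c89914bc9971b1a64004a6446589900129911582b605b42fa5880cad320a053222af4c80094c8abf45f6ac814a2b2855c99050299157e264004a6446bab2818aac1862eafb4c82804c90ca86aab231b00d786029914aa997180264004a6446509900129915632b0050e28a1568c9d3209fd322ac54c80094c88bd05e62f617c0a955889900da991179a6403026445f4af61898d0d60c2f24c827e4c90d1068eb191a6ac6c6309914aa99718ba64004a64468499001299157b8be85eeaf21878d05320989322af64c8009,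
  nat_lit 0x4c7833931c02531e0b852d836c1a00ce066a63830a6403ee98f012990574aba15601f10f787d931ea1532212c110aafc6c42390c7a64031a65831c98f01299153484181ea0f809404a93209e1322a684c80094c885fc48c23357389f54ce9905029910bf264004a6443121710b905dc2f617d4c82844c90d6168237f5a68de46969914f49971a5264004a6446ac9900129915748ac85aa34e1a30d55320a0d322ae84c80094c88c846402cd57a2ba95ce9904a8991190264030264468833e5948ce066e31f4c825c4c90da06ce3715a28ddd6309910da99758ba6403026446cc9900c099118e8c8865232a5950d9532095532231c4c80094c88aac558ae25760b146369904c2991155264030264562230e5920cf95be2a94c80634c92ca46b635d1af8da46669914b0997199264004a64564e9900c099114f2b6056434219b2c993209f932229d4c8060,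
  nat_lit 0x97654ba5d43025d8264a8f54daa5c29aa964baa5d4bb898d2ec1812ee2a857f8ab85622af13125d92f25e42de9780c09790eb88c95ac2360f405b92f0a192f41cc0e58741572aba0eb25e52ca5ec1c6b1b17a8c2d64c1c54bd25c4c007112f20252f60dc53a83e54ea0dd070a5e834a5ec1b697a0c097b0e708b159e22756683692f4a292f81c00df2ac038a1ca0e6a5ed30a5f552cb245830b1c592ab14be2894bf05a82c81610b205a152a97d0be97e0b4a5f404a5f836e28313a09cd5c61684bea5a4bf06d92fa0252fcaac0dfaaa8370aa80daa5f53ba61437697e012980078a9a81a40cf066032d2fe1b53021c913f2b6c4ca26307826014426083701b455206c95541c84c0a874c1848850e2491b9091848e9824b4983090a60804a60d50a12d53e04914f01204c12624c2891053e29d5760a603c698450c98753f261830261c25812a0a3a9f8272a7d4c32824c7080931a02531c28c14f0a8d5daab5100a63530a63c19e2b515baca8650aed4c7285,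
  nat_lit 0x25c42f42ee10b086044c17a4b8a8e4b885e52e00252e213709b057028413f0bc25c12ca5c428a33c13b0a344ee1454b8a5e4b985112e00252e015c19d09d45162740ae25c132a5c02b696f0129700a0850027413d0ab85692dea352e010c54c848553410b08625c03225c021696f0c097008f2d3067435a16f04292de9792e011d4b78094b7847152a10754b047423896f4b296f55e866d57619f0d12af52de17d2deabc4b70094b7866968e3331e48c1157696e50696f0cca5b804a5b83301970cf066d56e1984b72594b7aa8054c2aa1a08ae958696e4be97456125b43025b953c96d0c096e0b6aa942c014354e2a752da02d2deaba0ff88346022ad0b625b805a5bd57296e0c096f55eaaec366ab90d6aae12dc9552e41a94b88094b906cd572aba0d086883509715189730920a7445022a56c8acd2e4a2d2e61234b90094ba88152e81812ea2b05820ac45762b910225d132a5d953022656a8cc455a2ac4baa54,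
  nat_lit 0x40009730e097453b924d4e497301897455b15cca2cc3153a83a92e6a452e811555b978d56c114089a5cd4825d0266abe0a2aaf425e1334ba2844ba04c92e61812e81c858c2c444ceb11098a5cd47a5d038e9730129730e307115c01c00e387192e6a112ecb1e4b98604b9887c45c22c18208f043e9734c097310f25c804a5cd636af910d086443421d4b92764b987a854628d1a90a303d49734a89750f4a5c83025cd5ba9720c09730f387083861c80e1ab712e49792e6ab5558848956013855aa5cc35a5cd56897201297356b2c8c5582af1562acd2e4a012e6ad54b90604b92b5036e1ba0d9ab4d5a89720d69730b7094c49c35f162053d2e417d2f014e4b88094b905b12e20252e413409a84e827e1650b5a5c544a5c82669710c097255709cc4e0baa13704c92e29752e4aad4b88604b9052028e16109d84d955897101697209d8bc045021a10c04ed2e49812e813a4b8809,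
  nat_lit 0x32ac0024bd2a864500012ed4b000c01ca98bfe00e2732a52f68035860a90c0600c2742a364e002c97200a54400827380289caa84b40009616a942e580249ea72193800860caa0301801c9f0a7cb1600661a15a64180189a4a7992000527929d6490011864a70bee00327029b27a8008958a68be80016129512c380009e2a640005f364c18158684f227893709b4001647325cc084f926c135c9564a900017cd93060561a13c94c2b140025495860012a458300084854b964000211f52c57e000a5f8ab15ec00297c2ac57b000001ca883bc00000352a0ed00025d94a29dc0009754bb03a01d60ea074a5d94983b0aec589267a9d41d29754ba292,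
  nat_lit 0x15c6022561295565008958aa54c1402262c2a865800849e0a74a46020640aaf002002153189c03e52d55ccc100f949d4d997003cc5f5325e600f13e4e432e403a4e3001aa257080755b2aacb5001c62915a650807099055498c01b270a9a2f5006ca14a958ac01a637aa96410004b2455591c0002c7a9d000006153164002ec7a00baad2d08058b0657000a56400a9535562a9802aaa3556ad300aab3d55801586c0146232aa2f80051882aa0c140132871c86248048abaaa4bd0012619aa865700449e055192c00225faa7,
  nat_lit 0x1760066af19620012da95501496d40005d1576000018aa62da80c194c03055a01e2d300bcae6ae801459b01796015c8028b3202e2baab82c080b5582bb4020ad1016ab70a200b02865715f802c2a462301631f55b2c04056ae4005ab565d00a8a8ca5d5d602a567aab2d280a98e6568b1402a2c82b42c500a4b1cac4b0c028392aea0142b655598b4050623566cc5013986d4eb32c04cac99a20252e829457680955b0aacc4802565b2a86618090c3cac4c5602356063701116f54c97d00444e35484e101081d,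
  nat_lit 0x64801c95332100e159195c07054cc9e037392cf501c3398aa995c06e62f390d0001b2c00062c7806cb0b2be53001a81d0bd80d82ce5702d00360b395c58180d95f0aad65403657daab2e000d8b70ad196e03539258501b2b031d00d8ae8a94af003556062d01a98195218100687242ee0360b8951005971406ccbc57ecb301a96295f2c1806aaf5556ccf01614414eac0006aae2556ca501a809154abd006aae552ab0d01aabd15580ad8ea034301abd65a80d4b96a7998203465c29d,
  nat_lit 0x60701eabc5a000f165caacc0c03b58acf501dac030780f4a9b3bc078ac969c03b591aab67780f16016b4078ac0b7c03c5785b301e2bc0c680f4306b1162003d586ac32cf80f958333c07e019552b0f01f9522ec80fca9ad0807cb1400c2b52e780f961173c07a71cb9803d2a6ccc01e01c58b80f4a9062407817c2a2cfe01e15732f80ed611958076ac19d403c673ac133700ed5e3418074ac96260002a402d01caa6,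
  nat_lit 0x6760222bc319810ce4991008407169e0432a41c702106c1632cf008654967e00a2a4b3c00195259f810ca917f0086b08bf404203802b01faa6671010d593448088725a060462ae61c022abc2e781155e007c070a98b9c04338eb390219525b0810d660aad64c0432a466302198d954340c084b000cc0413921a90000658ae0018080a9966a0402a46470201535aa00fd656aacc8403e39264301e9c7,
  nat_lit 0x2918000a4601200000b98c00a264c5bb8760000b4c3aca4a002a9243ce00052291a043817c0b4a4c522ad25c71aed726a4e522ad100000054889a948ab846908085488b41496b9035c00dc06c0330f0a91167a91039eb6d6a800243c41e1521ace5222de8ce466000a2db039ca430dea425b61aad6d8a42018a430f3803006c00b0ec0765484b35482b77337addd48203148405002a805002600a0f2a90566290839a026346ade83b21df520acb521005cca464e3260094398a41594a4100b194407ca40592a410ef2dfcd180210e7073d480b216c20112a4b510101526940085602d280465496a40262a4b580149525a880b4a92d0c062548bd00315806550192bc02580c4e4b49407ab1ccc203c03a6780222bc,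
  nat_lit 0x8048a5306400752907d00129514a40fd4a8a5104aa5100da9440280054a00940000190000c100b294149e43000001c527853006a94149e1e4004a50530003149e24149c00a527001000a95149c0bd4a2208526806001a93949a1e549e00352684c000293d49810d4a2a4d526078000a93d49a1dd49ea4c02200052601410029354981d40020000078040034a5b0f529356d294c3fca5b00ca9683d2a4c5b2a4b02e9aa40baa4b5b00010f1a95c028013001a92c000b5c000b8135d2e040005943c2a5500929503e400052491a0f8a94c0220120098045498a495ac00f525a9216aa92c010009527076800600252427b01298c8032002523ad4,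
  nat_lit 0x36ea6453187900000040ac0806b93718f4a7806db9c9c9acb480db298d6da994002a630fca6353107d00088bd4c41f94cc00153104153129843e802445aa6108200a001a984262988006a6006600d001a97cd3297d4bc1f54c002752f034001809d4ba0cd4c0a7352e04200180714b80bd4be01c52d806534a96812800c03ea5a10c01a52c87d52d80694b213000401a52c033533295c3e80094d6a5710a01852b025000a9a94c001052b08753229543e88154aca55050000001299c408a5510000352da9543f2950018a54002a5a52987d,
  nat_lit 0x40d8a7111e04053c80414f4a7c000a9c57181a14e2a700f2a720000005554a7031200302f80f94eca701f000b537882007a9dd4de1f800400853703253b29b43e800848aa6d1f400453602554200094d814d4d8a6b04a001120a9ac1f80ac482a6a0a623f5f09bc0ea8ddb3b89dcdb8e4c025e2d6d4e6a725352e200400294d29a846604d54200c14d2b8400004c02580c14d0b8009603300000094d0b7c00023d027aa0d5045e447aa7153385c00029bd4cc40800023b0058a511ca9994ca1e54cc0005a6138c9ccdb83bc1de9ba074904b01b0470a655bc1b853329943c8000370a650821bd53329943d80000020225ba0010dd2990478080038a7100c804000e0015322dc,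
  nat_lit 0x1e953e8860f3a9f94fa16c0001e553e8fa0f22dd8a6c75e6f7b84cfc6e056d79b2c16e00100029f57580004c4a7d0fc2635632a2002801502c015c0ac00200029f57500084b8a7d1f402b12e29f029800c002a7c00aa7c53d825001095d4f623c00604d0222a814f6ba409eaa755f2ab94f45e1588a82007aa794f2ba000a00c0282ad54f2b9c096a780fa00300501300a0a785cc00b01faae40aea77058abf54f812409ca76056002039a9d819001d4ea1f4002a7753a83f53ba9d01280054e809400007053d83203729d14e61ec00206c539853020810152a03d01a00054e6b940e8a7353907901900f156a0735392e400001c14e20c80dca7253887b,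
  nat_lit 0x1809951814d544a8b04a00701f2b4c138a8b2f4041140aa283f01395121f400203201889e00180e80f6ace54419001daadc138ad05439785728121564acc5432f3001028d50c10406ea850fa002552aa141faa955080940480a15420530182a0c12815156ca85000aa0d792a0d5041f4000269541086133823d506001000009d53802a02a013d504bc4002a83002008d532bc150208c540805000aa00128000114000182ad054029fc3d807950000104529fc120010002a8055b81880c60640108081526a7f5de26f568aa4d524a7e5dca7f000ab5012202601281980c806055aa9f976898c0bca7d08c26f53f29f42d80004daa7d1f426c0519c4cf0ce0c3d01e79bea51b28cadec00200053eaec,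
  nat_lit 0xa9f14e02e954aa9e5f8019014aabc01ca9d5f6b02551aa70860010532a9c0fcaaf14baa6c46aa8953420956803455982480cea9e54d2fa001000d5322d451c00654c1020018a315301f801028c54b841001aa583e8171596a98000aa597caa5952a1f400028754a88614382ad52c0010000141586053030017552abe154000100102a952a1595280a754a00500c82ed5fca9554a2f7144aa515261ec004a950252bf152615803428654908f0038a4552423c004a9104a02b55500b405e0830420214084ab6022aa457b008d5ec0b4022aa40820285520000009aa3d7a8000038009549823155a0115e8a9b574aa384f800551eaa50132a38482a8d51a1f554a02654683f,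
  nat_lit 0xabe0102ac41400d406eab11f400256c2ac047816555e0100042c755788656b2ab841000c0a4aae064057556882559804156a0da556b000010b015583e809eaab04a04b06b0018002aab5feaab555025001aab40d0b1e5550560258aed5520fc0aa2b955408f004003008604256e019c0e4aed0432b11550bf80020025538b515380fd54c1180042a655303201eaa943e800962e0d20302a94c8032d57e03c56a2a917aaaac004aa4002aa455187d00280f95a4b135518ac5548a755442355860000012dd000800006cad055e00f15800435faab85852a80d3000d60ea9f082ab854f082,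
  nat_lit 0x104ac1104afe56088203f2b040200084c0ac111eaf95600040012b195801f958cabf0fa00112eaafc20801957c1f5582abe04a00255f02500001315ea9a809a2e10a8b924ff6e814029ff5cd6d6e2bf2fa957cabd60a25855eaaf03d80004acabc11e25355eaaf03c807558ec7a70b0505cece9b745b994fa856c5f28949578c115d825255d8010258b515762180302d555d0410382ae43eac141980ce045abf4104ae303181a00caab96062c7032aae0c88000004ab70f2003162aadc432bb858cab600206155a87d0050030036030045822156ac0858408855a046000000c07003f020810808804b02680f5568c040082cf06eab31566bdd64aacb55907b,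
  nat_lit 0x967eacf0fcb3f56707d0010a4959c1041acacd0fa001567ab341fab3d598094004acc04a00006f83653783a061acaf73c207dd48ea94153a2cbc25e060f2b31596c20518acb56507b0678a2959423d598ad25650b0006ab244500095f4ac9118ace5640840018031590054014ac7114ac9030ab1c4d80040a8ac6060acc562884004ab1445000158a0440b8ac956289900080115883e8002ae756203a000abb958613409400056188857581580da06a57983b167a0ee079ad01586c1c000ac406a835958432800004956104e022010407e03e03a026d62009e068034d584c1801400b561041,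
  nat_lit 0x65712b803f2b7c012adf002ae156f07d56f0004114b2107483b01eab5c626aef01184081fab30056002d5bac480e807303c01e80fc00a56e31100400295b611c000adf56d05b00000195be23d5b6ada56c8285a6ac6810800356cb1056c00055b000400000118504b825a12e185000587800061030a5bf84e8272b851910c855b0ad761c3086569fcd9923211902b5d5acc355b63255bd84d426832156b30c0002b681ea09e59130b56b2b54128004004ad51f4ad55a483802240e05a4ab5517ab5413ab205a8ab505e2b5463e15273e05e460c30556a30a5698c0c25612a0958c0d5a6c24006b4c56a07e00680395a6105696ad20fa00214f2b482083915a21f4004b4556883f5a2ab4012800852aad011e0dc567825,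
  nat_lit 0xaee04a000042abb81882040fe07e05881616380005773190a500015dc14c034afb5808d286963510a82bb98c002000001611a01357b2c3c000aed57b2bc0008c5c08809b59c829803a01157aabb18b2bb8024aec160aef57aabac0f2bd55d405000600e5758150062ba80a2bb15e6aea0f0002009aba459abb95d021000200557404e0062b9c4500055ce044002ae800584f9712be55d8ae957304000100115ca3e800aae40080115742b902000095c6094000ae40030d3000800807803d5712e600184c9606b0257099d00080155c20e807031f5c985442a6b951990cc55d0ae2570b155732b855c04b42641335c9854429eb9118e8c5c01cae5570314,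
  nat_lit 0xb115892f042e0afa6400185862bec000afa1fcafb5d3806c03aafa1d6001001032024a1270b485155f4c7d5f4000581ac3003cb3a59981a98f0028012b0057d800c002af935c0c257cabe0968004000b675d7857825811e08f8310182af863a0dd06c835c1ac0d4066826012aafe57eabe18e00015f2002001abdd1f80001beaf7074b8708b8490242b595aa82dc168af90002bdd8d80015f2af70fc000059abdc1d2d0d5f0af7026000000822c11008907f04001ba0cb5a12bdd8d0008014af715401057b0840012d055ec0f95f2af51140010022bd418801d5e8210000af402808d57aabd0012bd8004af334c0005790820012ce55e40c400c0885788775c904c40020035789791a72bc95e03f5718af4579abc95e053566a00257782f,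
  nat_lit 0x584000b181fa01d01b000400ab0f065addd726c9801000101f08f00280000782796520375ef2fb8344be7000800192ac38020b0a02000c5848840010319612054010b08114b0a5872c203c000d60e044002b6a58384e0012c180a001160c04401800005d84005c800161831d60a00205db2400280056cc2640060001bb92d5ec064d7be17f0bf00c1602000646002001801400eb0022cb030032bfcc8802d60aaff1f400157f0250012c142a215f57f2e00038080044bb557e9fc001ac5804cb0257e97a0032bf04100017600276441540ab056d6f80fd00c80055f6c84002afb57d07900c80702e2afb57d17a,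
  nat_lit 0x6e80280805501d000a025a9e0258025580390010b3d2a80410052b00a780256725701f400901a2a55d18020074720046007564b34003044595ae30012b39548b3b004009195037000eb3958cb3a003ac002100195804a000a0352ac10b00200c94c8110008af167000356403f001abc06b000807456974200101d15c5cf800c07a55423e00201d1c859880056000ec000ac034e37f5a7ac5000000a004accd65eca4014d2f0fc3cad21a9067a7bd51eacf58492a4992489264922495eb2f57488a43de9c903796bb5da3ab4e589b280b4800166ac9c0440000b312d5e380096368182c600100ab27,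
  nat_lit 0x14b00c87416084c0030b5955214600b81c0338061580138030af16940175601d400b0134ab012402cb0007e015564b4d00a04995483e002a06f2aaba700a2d81520098026ac81e60120369515ab0049590160026ac175401402b1540b0804c0a4a6567e01356010c0090118aa00f4024b0167c0115601c50082d18ab2fc8022136550bb9008064996048401e07431e00e0982c40988034e383c001ab462a80e1006ace0aa838401803a53a030005ac0,
  nat_lit 0x617007ca987bc03cb1d88001d580c3c00e2b002c8071776cbd6ea01b39205800f83bd97052004272432e02038e0930102bc026807d59022c03eaf008801e56403f00fab20a380780a6a516e4020564bf9010038154060803e0e054e0e000f2b00be00741b657009601e072b2e09680756c6b100cc01c096b2d5bc0079600f3c03a04b53218500e9535e78070106a6830401b0381ae00d9570eb80695e0754032ac98620185b995e,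
  nat_lit 0x18c001e5640dd00e9c91fc007041e57005c020580bdb00fab2088008158035803e7240c0026580bd2013ac000e042c04ccc82120265780075e7009598869004c0fe53c1a401283fd4e8001792024662c380122f394eaf14046af0210022560baa01081d0368084214cc03bc0215ff2a706d00800e876c03e17a2a214c00f01c01e007d6001cc03cac07d801d0352c405180795e028403a0742b401c032a9402e808177ccbc7b801f052296,
  nat_lit 0x80000a322884e0165d6844c21abe308633608583ec046255135b6d97cebac00a8051b902917e2269933efe87f6bfbd372ff07f72695338fe77e38a344c6cd40284256440908482240216af899a305401e55c2da00e38e06100a2c05d4804d59083403255c07201858022800bab009000815e008c03eac97d201f58012c0102b05f7807ce484b4044ac17de02139219d010ac20c080800e316404215f54ac030101c7027008d600238044ac0104021392058011ac004780895806a004208b588010088808599af7c040ac989c02058403e00fac0,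
  nat_lit 0x6b4002c7d1fa00000401163e00018820d1ba427b147800594606615d0ad9bded0487200012c8131208009854d0047c0010b984364780002e01d42de1720be86003041cd627073c0081fd105b3f631000c3fc22c3d8002635b3e0f480043f404c12e0001141f60da801047823f10b808591c017616879d9e85a58441b400188ec3f811b5f59ce61f00099148183660016410020d8800190e3f590cc56044085c0a41970cb06640021b30d7b3c00001ec8806cc006c6210ac5e00107e593895000243867600500001112ea3604b402414b09cdb7c004129b3a64a093d92600364a10ac854429672bda013108083e41e001324c848ce184200162c00220e000049c3f449ac9121a90d97da1115f3844000624a647b370c8000989e10082c00112412d,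
  nat_lit 0x4b01470722d055c2a466680e852e8b01638a8c4fa00a16a24805bedf5665809dc2293e4a10c24502d2026412f015865400cc8413508a028ec200a2b4700080241eb7fd2542a200137e120cdf001e0a05a332b000219068645a000115c098070000228408001657b2700000741eb2b00002004662030018964428938004ca964eca3000895063800002e0f4422c8310431a433c19f63987d800224c650b45003800045093c002c7310a01e0000840e5800194a4b594a0010e6327130800089acec00001807a21b00131b1a188640021ed02601600001463406503240041090855906c81688196001b1f5a18650004c7b132192000883c96821000022988a1ae001080d8e6068033b0fc33c1990c8342,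
  nat_lit 0x301c0040032438a6c12e003603b5c2408015810076242800980cd6d80a0006028e400038952722c915781e59da2ac03c311c01a00f62338545968ea15980cc536ce307a806180ad69c482b715f005d808d64000c39040123988a16902eb011ac30e02ae1672380a500de071601b5764f07dd8060046010fe0b630198023f580600560001361f32c8492020110087c3e8c006ac0010ee872c3920a30fb07d17fed540d621864b32017fc3ac3b809766809fc4ae25661daff9aa00102cabfd09a06823b8224526cd81488a488d24680032ff5a9814986815b0ae05748ca0055fe3525fd800d7f8bfb00011f586815d6a247c619b0c82b6463001afe8cb8584000bf9026001231b36006847d23f11fd86cd417f0000231335c528cd72310001a791859ac29266b91a0086bf769c06915ea39057a0695b023d0138749a6831400005032e1e200b87a03ce0a712782f83c2c7c0d834c648b1f43fa2020ffb1f996a26000a08d9940d2c25812b00008058fed28400c7d0ed80043761bc0a384b9a481f00002118bc0010ed343,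
  nat_lit 0x200b983c101840c2860e806014b0701285f8314c9e014b07173801184ec1b11602860d08262a05b00fac6360d1e00c486358320fd83018d60c0050c5305c12b284424cbb00e305c56001003ac1608818400db0541985b4030c140820a614182183c206c12a0985828d9405a22965489204a62606098ef01287f03f625960919d0008010002d900020072468a2050c27d13a027c2ce153608b63000b20005015a608362002b1ec0b2158607b610e7889444c00460787f607001181c00981a0016068010003034008493011853000ac0d6c0c0c001000c9222a9013000d81845c90605f0a70084922002605ae3605000181439000048f24812440482a62470001af923454ace814f122800cc096bc14660530216a85d82eac4b24a021828ac0960435d,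
  nat_lit 0x30d09426242a214f9aaa3e5619b6e61a12289165972459228942c336da00200007ad6ab2983d0234130337c4c4c33000b6c61909844c428d0358adc4c6c326d60030f7b3d45742b613130c5b530dc0744bc13130c1b480f046c23566eb0bcceb0c801403e13030b97407b43e21fd019b0b973b0b4062c2d00402861d30b03f00098561f400002800021201380983e61ef02530b8010c2a6d0c3761630a42d86618ea27e61930a47c31d4038c2808800200c309c2180c815a09e04f88804441de6148014006c276ce19d63a02bd96421f11087758500040013099b3005199802e6133094bc3094058c2500e00261830901fb0903b221d0f403cc3e41da61203761187643e223c0f887658463a804ccc966407658440b0000c2304e32498422ec00ac2e112009184215984002461000760f808583e015842c2f60f889,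
  nat_lit 0x3ac3c08201d61eb0f086000003ac3c0a601d61eb0f014000587ac5000e30f03d0005c90c3c05ec3f25e30ec0312e1878c3b050c3d72430ec1a0000976c3a0664bb61db0e818801402200361e00040043e061db7a6233598c34d5261d00c0000f6da9eed86a80f747bc0006f2d5133614e9d34d5e1f58005872de001800b61f8fc988600e000b0e5bb8fa00080010010fb1872c386ecc402539aa5abcc386ea0001f4b56ca38d5a1f38f98004dd1ab66582d31681a9c3db61d30ddb98014008c360e0d553179710b86d4b1ec30dd86cdc801200061a87061e357ccc4d4c61a8e961a8f59a9259a6a40f547aec356e2c356ad17f5a92c341d2c3b71c1945d1e5196ab0f918681bd8683eb61c000d86e3e66199d861a125cc9a51174635607cec336e0c347159270bd049c715925d866325868d5430417acbd049b71530cdb7b0d07ccd5628cb5447be3e261986e,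
  nat_lit 0x1031301280058e0c5900e3130c480098b2c4b0fcc5962507d6278008030c6c6251be00cb1243eb15402ec53000314c02ec556fac526240000006c4c6f8003634b15002ac475cec48627311826000c01ac45086c486273110d331398861f588e4b96218066243108020004016c420fc009620882623b104410004008c4110a00962000400031003e92cd886c4006000200230fc55001187c2118844af61f04c000391187a10dc9ac4061e87800030f98781dc000e4961e02f25bb0f58780a187a00062912d9878dec03ac3d61e028,
  nat_lit 0x1a00262f04162f31743e8009cfec5d088046275b170193178002c5c0a6c5c62d82500213958b623c006c8e63c80f18b621c00ac7c62d04400180f98b210c01603b62c08663d315c3e801c9e6c571f4c7662b00400100018ac1ec00600662b03173f31c58aa0c18e603462a010019314c423155cf6c53106032629804003000405ac7f62987f635b1484131a18a400000080104000058fac6d015b1443f80098ccc500fcc6662787d001011189e0c804cc4e0fa00263031381fb18189a09400603e62688f,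
  nat_lit 0x194698de0fc094ea763705363900098dc150064003636853636b1b012b1c1d4cc6c0a800127f31ac203269d4ac6a13ee93636b1a85800018d6c6909a001748b1a445808c002c6900ac69634025011143d8d023d8e000263400602080098ce14c008e936338406373a458cc01990c4fe63289f63680098ca6998fe002632041632318c3eb1ac9eec6308403b746b188190008002c6200cc6263082500093bd8c20fc004c6363083a277318d8c00f98c8e8363008900113b18be2218c200262f844,
  nat_lit 0x3f000329410a043019001407ce2008c045022001005c02f020813dc380bc00006603400d0066003016b8603580ac05403b00100c00c607870a08004081fc01600900201680ba05f03681a1c201c00e407865b002400605702a813c08804370602c01e81f401200700101580a804e02180fdc1005402c07665a001c00205702d01700c601970200263f00000a8ca3700ca366480018f8c7d6fe47766231fc000c7b6fcc7d00131ec1f8160004c7a0a6c7a63c82500102318f23e80de08c63c05364c80058f014d8f0c7704a047043b1dc29b1e4004c7711001400131d81fb1d98ea09400650f63a88863e14318e82b98f800263a1a664c00098e60058e6c720fac7a757b1c8210174a34c71082c7300131c41fb244004c700a6c70637825,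
  nat_lit 0x19381f4946c9b64d079000928d93410405a0b7676326d934bdc944c9a64c90c000328004ecea64c85664f809005607103901d00060040038009932e5400407503b81e40f402464f002193800164c39424c326192e16c00600100001cc0ea07703ab30d9d249764bb93000b39193e01d660824001326192c14d930c9504a00124832543f00019281f491ec9564a17000c92459283e804e011662004c0b40000128091c900d800ccb513e034002824c46b2bc006ca913cc9600032ec4f0034004004000803800c00372207e03f81bc07800e022800c038e40004c9a003008804608265e8031c780280e006e03880f4078043000b8e01f810000001964838d015002c04a06c03701c400403c718cb800080f04781d8000c9d71603901f800408200202980140dce2805a0010200000080001016b89,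
  nat_lit 0x1265b01ec008cab0ac02600232a817b2fc010caa0a8005654825687836da20f092bd80bcacaca973acd801a818c00cca9048043655b2a0448005952ca707e55b01515dde10d0d068b41994ee70002cbb65308c00132b00de02f026000594ce6c048ca665287502500a41400a504b80fd972ca57340060043294550118aaa001001b294bcb2b994cca41fa05701501a994cca4732005001328c2a000194409400000465103165182ac1520a305080a00caca2730003002b29801800d01c00e4120ce60553289cb80219fa0c80553284c833e19600310443280fe003001ecfa054327d740008952c9f0fc00164f07d64f800595000d652002593ce5894eca264e9700000014066cf165382400180059382d494c00164d902,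
  nat_lit 0x220ce03c01400ee08a661b3080000480263ab66f8001980d0001658c65d8001a584df26f1375d501b4000cb967c000046022c0c209104902fc17a0ba03201a5d4b3e40b409b65c32dcc480109c8006004001cb10cb77504e600080081f20f2079b4a196ee9c050cb60284e47299f09c9e4df270000596ce981eccb665a87526f8004024d2707983d01eacb574a4dc726bdd5c9c4de26f8000010e900020007921dc9ef25fc7269375d196559f0cb565a32cdd10034000cb208200565b00e41540a405132cd964e8400e00600232cc0000bd03380fc0cc0796593a005e019807c06503b806597ccb5002800d964e7d96801565909b00100399620c19680116581bb65a00c19602c8014caf02800065833340a405904f828014403101732c9cf000996ecae154cb0015b2b858000809ccad09acb565608a000b2b995823000ecab108001655814,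
  nat_lit 0x74023b3940565072841425dd1699aa011b08d0464000ccc665bb900000800880459a85ad7a1b354024031014b32c000cca770cca283b3280f000199205004c02801396fcb78f462da3325db9408046cd8010941c004cc935c11400033207e8000a0ccc9000b52822a114089a3c6650010b6a0692cfbcd599acc776c00066993ed090068a02e7134e39c8a065046633b5001000c9ee4f86a30444220d442d3bcc598ced00084f427a93e006acdf036b315d9818c08001800b93f49fc4ff662bb2000b3100893d1cca82e73313c89e20016623b127e33119864b49e0d3c0000004024ccc00ab30dd8000001c1060eacc7007826da04cc232001e013b4f020ed3b798b308000ebc00001a06b83619822f40320d8035035d98067c01ee6434b1a54e8af362d18001d70001980cfa03233ecf50000184cbe09c04d025338d97e002663823997ceb59d006d03a02e81760bd026013409e04b65f3ac270b38997a1ed98600165e013,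
  nat_lit 0x19be00367d0329a0605066f3c402501440ac05866ebc3293012406603467b1751ed003701c00059baf09a8e04666e88301b00d19b8234bae034019810ca5004166e302000337004cced2e1004c024cec78200066e35a0a3802b01300959b6f00006cef7ad1718bb65d80133369dfb371a3ccda136002051336418005825ecd837602766b884004b35c45000d9ae04400000500180199ae5e400800566b07b011b3ad9aa0a013603166a01300100c5a58cea66a20f68a80b99a601c00401f6690fa67333440234380f0d0c03a80a00740b7668bbe66fb47c112d1e6682f500016dd9bccd800814599b2ef4b6ccdd00cb554a1850b285333dde00019bc123424cdd6ab9424028015006b35199ceecb72cdb00c00b8a1600966690d2e0804001ccd52d4000999ad6ca14000666075,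
  nat_lit 0x201e67788c00000719dc1dc03c00167703300280059da0040ce05168a3e0cbe0f802f4b3b5e58008a72d890aa3640bcccec794d097c1362c2aed8c29d33b1e48004006d1469cb3acc814d9b0c03968280eda08d03675bc8001000d9d40c0068ce910805169d00ac052007676b3d19d23f0002ce8028cfe674b3a03db3a4000ce71a6002018339c4280159f8ce611e00b00600399dcce70008084002ce76773399e394dc01ece52fa01f010b3c4002004673002401400c6763395e3041001cce41a600200033e002a0145e4cf8673338c580004006ce207c000671b3840a80099eace111605902d01499c4ce15f8001001000c002ce078a52f670337c3d80059c205d027b37c2b0008a52cdf07e00166f025,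
  nat_lit 0xfa369bb4c40d207169ab409e9be8db5e17a6d715880e2d017a4002001b4002e0005a0201c00f809c0f20cc05cb55dab0d007a206e05b82d8176cff6c40000369579ab20bf0608315a0a00d00833fde834c1a00cff16000368c3464102cff13400e010b3fc42801cac0cfe07ed132af33f44f80d99f8094000003016b4e817a13009904d5e78008058d370420405a36cfb79cd23024b3e83e0010010cfa05e02a01033e42980819f00100160f009104a016e0b867c3bd0018050a94d4f67b8bd0000008026d4e67b02b00233f40d001567b19300480319ea0c8022cf40fa00067e33fc69b3eda0c02a69083a0008003679bcd00580019e411809201a67918400100699e213400201a6780150720458048d0167c80499facf0798019677811,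
  nat_lit 0x6b1358db481000a83469a28f6c1ae00b68991402a01480ce0656898080008189a2410002a011005802401a0066891292c5b451a221e4000d120020031ae2db70bdb6e50fb44400600468984ec13ad107a404a036b43cb8007404005469a82c9ace0c00058020002d0f7b4585687b4382e000c0040086a3b4398800140020046b3830420c10e0790480288d0e7b20cb6b635c01aa09604b84d5a1af600060046b4b6bc2e61486d884041a8d6f686bd70018321a180f800cd6d6858156b23428450008174d0a1540c068488403b0329a12611abad081140030008040024019021827c1500a96aeb421eb02dda0e21000057568708f0028021a0c2c0000d07682815001000da0a22da0ed5f6af03001a60800170098048d08682bd509398400060046822f7000800da061ec10e06c035b6d02fe17e6d91855f4a0010003d4,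
  nat_lit 0x16b5a80105aea04269288c6a18101a482cdbc065c0558001a4862c000011055be3695806002400e00600700d4d237c80000283535f1812da8610307f83f5b240f16960004000d227c400205234881fb4a81ded906ca03941c810d6913e100200141741460a3864031cd217c00a30cd8460304d202f0d2100182e028814508b0608284d5c0443481ef8008110d1f09a08568f08a00081dc0f007968f0fe6ab01f5a3a37800ed2068e831000004088004004803301a00fc07c04968e3b7000346c09004768d85100084a5ab404568d02c04d3619a5a02c68d19f6cb843db3400468d1cc0033469a320c800006c028d58048b591baa1a00cfb76cc90fd20008001ef0001fa009e04e82b5ab6d5a68bbdd7e83760346dd72c48251a2cf480160290160181a820b36b280080060db68b3dc0138250b08d7a68a8bd04883841b60da68a18f,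
  nat_lit 0x18011a721ec3360da69c0e400034e00180100cf85242901457de00000a34fc03601a020015008a04369e34ddf734fdb661106a780e0084d3b69b3ed04f0029a6a1f000800569a87901f000008800c00203f69a000045014004802c1480a36a1b4c80000027d8d330c586d82780220103509a62fada6202069805b6988625be41420a035e003cd307d400269801400100140080386983e96b400dda5e645bdc0346970fd0010011a5c1ec31c05869687501980c806a0b5696972001b5eda580fc134d7b69588f02b34a8128004286d2c00200f400ed2a77a0ad6a70134010d291e61416950005b42da007db675a52fa013e1a56940c26a380fc0801650aa055433cd287ce03801e80fc2aa1566ee3769a4ef9804a039024012c0fc072693be5001011c092d4a693104,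
  nat_lit 0x71840901000116a90035a92fedc1a0006a48880e10001a9210000200000c0055c341dc70c0709fd0055a96001001359408604502535a5a900007f2d480dd86f02cc1650240119a8efe00020046a403f01f0009a8e015a900060098049a8ef0c20410b0828410d346930780348006d47000bf7069c099c561f60fa87d0002d467ecd45001351c00ad4700135149c0750012d450a802d004b510038005a8ed431f40056a10040058010006d436a117800001b8000fd40d60006a08890003509a8801700987403200697e800201285982f019c0ea00b9a808e40080056a00797038009a7e45001800069f12d00000240a05382b019e007b509a7a0000013f300100100060140098049a82d3c7e4d3c00534ec810000004d3d053b5f001a01069dbf1001b4ec08b5080dc0706b604b02560dd69dbf0000001000600569d179,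
  nat_lit 0x92802daa61c00160fa003b5500000012f2354e070000bc85e5007001c010d583501a69aacd5381a5e30068019aac6996aab54a060000bde5f0005b568012d5934d1a65aa6d528165ee00535640126986a93546053554d34d56000b548d2ad513b0dd03551fe605ad50812d5434bc0b92b902d34a9a4daa0a402206b441940a9a9f02400cf5142a20cd063029349353e04353cd2d02d40fc0b4d2c6976a71606e89a8d03902c6a7b750779ab8fa302a6a7c070001a3e04c7f48131a3cd20d4f80d02649a9e6a172f572f20001a9f014bc6f563ce3d28bac5d7000353e023d2909b03e069b53e018020bb40086aa3559b860016a7c0200097a1eb685b7ad97a0bced4f8020fe7b04251eb0d4e8005e60feb8d5c705d90013539ff82b8000d4d0e00ad057b66cbd0d9b0570009a9aff8bacf4a4003d18ba45d10003531d89745c5a1f17181774006d4c7fa0ab6a6b52dfe1749c62e300fc9770004d4b604d4c6bb01780be69e6d982a5a96a21e967247aa3655a94b45e967407ab83c9a944900000010fe875,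
  nat_lit 0x201c0a0be44e6cf9907480d5ab9064002d5e6ae0156af356c0a0005ab60440066bc6bbb5bc03201a3069831adcd5c6adc186b6356dab44b40000016bb0085ade01c2ff97f8028d6b6ad417000b571ab41ddab8d590220016ac814000413907f28f6254a493df04f6b241635ab565ab03f400704a4bbca198812853f8412dab1055ab2d58028d59000b5bc03ed700109818c0a01600ab561c1b55c028d5703c6ae6ac355c968002086812941b092505177822355c3b1aa5ab0d571fa004823c6c6510c27943c4ee080d57828d586ab8140008009ac80150033574bf65fc0048021aaf04daac0076ab01e000b561aac1ddab0d550220006aa8143543559aaa1d4bd2f5e853bda8bec5f56abb55a093578d4ad5f6ab8008bead5682213082a2289eced558000002fa17d4022d61005b56cd486a36aeb5560817cc00a0046ab801c22a00c6aa40f,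
  nat_lit 0x2e00100eaaf6bc0001ae4b1003601d00a805805602e00000ac02d0a805ad840140001b0802a01580aa14b60c052d816b280000420246bfc2801035f5b2c0406c880f804ed6484e0386c6b655af8020002b595ac9098dae0006b2075000009c08b5f8002d6284a006003b639b160386b1b589ac309004400d00635c803401b000358211805c03002e30b9860c32d616b042200c8069b1e0336c38001ac2d8222e61730c18640840070000005ac1084002d616c400d9b0802f3119890080d90003420000000800c0096b20090050d7f83e0026bc35783bb5e1aba04400200201e9850c2602f0173609b0a6c86aec1e00eb5700a0005ac0d5c0eed606ad811001b56c0a0025af461901335d003ad5c6adc1d00ab5b405661a01b0004000d5a3ea0006c280bc060d806ba0069ab5071b08d5b6ad0fd01fb571ab604dab8d5d73808e9cda23530f986407e03e6adc1b6ae8001b0861c30e88d0466e6d7371845ab9068066d5d6ae013,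
  nat_lit 0x6d580015901e40e0dc06e09964cb427113800080ba05c02942d1378004ca04b40540025780210022bc6d5801d603a8c00cd882a80200032c000f00215e09ac00ed812bc0270042b002700255e0130010ac8c9e0076d12c4325801c03aa64048007578d800032b23230014030a5c046005560069002006caa3638008ac8c8c00300ba976d6000c05a5780cc00300d956011800daf2a7c0b6003016154012000c0510b1afa00300dab66bd8009af2b11afe0026c042b0110005afa54403a00100d15e,
  nat_lit 0x7c300a008d519f000262932a8003007aa6865804805caba1900116f0a940150045cb6a7dfc6010146802e193b3801e09665666f0070a454bc2c401c07f5869300073b08ab005c01c17f65efea0068a1000d0c4cf200c75d95100109f001667757401b00585ad51826c01401b654fdd00489e961bb000102806566680038a294c805400e195536fd30030a0161baf800a08665665e0020a24a88030008e41546fd600189f561bae4004eaf5526610008a0cae196800028352c00784ea5d92f0fd675886140dcdbe00b3f40f2c7997f0062c31827813b802a1309a78dbbf65d6d0c00ac05702b016000005402c012e17b6a801e07e6e381ec00005502bc2e,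
  nat_lit 0x3a58099c0ca500302b700140421d9f7c002eec2b47e40000adc0110e803802354c9ae011b7ccad29c80440a100443a4f70088d105722f8021342a973e48010342021872e6801037a954800431a01f33cc381518081dc6abd20402072e29f89d807cd2ea5201e00104ec378ac000031857800001d54c83500037715b0000038a993aa00103a806e1b37ec03407f2ac0046f9806404f0d51e80197679563f500240530d0fca00814c95e3f5001dda0a5d38a002051aa38ec0004316ad91f800076a1560068051530025bb20140d4c33,
  nat_lit 0x81f0094a9408404a7808788c4012836003b0fe02c0253b643c80a009a21a56c02801554c95901306ccaa0024028a9a05c0252a47e50121af56323840060b600fc3e3b80090aea1800470fe58800f6ff809c1b70f402e02054d00f013c40cadc95404c69b2a28680129a654ca23c04a6a152901b0129524f8009c364550ec60272ba88101343c94bc09804f0e32b69700131ad54bc03004c7588790f501438180010c816a0270c4a9a05e009c23ea6a1ae0270512c3402009c3bf0d202602680515b,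
  nat_lit 0x82d8060a9413c03454a22801a2a505100d1528220068a91e70036574f0c01b2ba78800d95d894806ca91e3003857609a01e2a505400f1523c8807caec12c03e54a2480202a503001015281b8084a94120044548f0e0232bb107011952824008ca91fc404710e56c77b01115d493803435a5790f600e0a195e45280903e656a05e0242a50360129524048094d84a5cfda025034aa0816809206c56d3ac025035434,
  nat_lit 0xe1b709b8482e3f28a1a0010003848b48000ec50f454443fcedc76f00544c8792891442a208811dc4000e1189677170e0005c2475900138462538461d2aae54f2a3e1d0757708a9170d1dc22052308751d60eaee108930e8924442dc3ee105a2000009383c0480021ed23186b387a001d921ed23c8769d70eba0007074488772ab556127587f1db4000e0e88e76d003b84800c755708383a2343da50aab2540437ce9ce0f7073730040001c1a9b5c290d455ac391c1a3a61fea6d8710009c1a491c1800070600900043814d7263536c37ce9c00088a74d86f29b61ec7653b30001c171121eeabd546a7f21e8762706382e21b84e23aabc52fa9821a67417061207061d9a1eeaa78679cf8e7ee0b2c0e0c8662ab54eea7687b1d95c17109c1877f88bc98219273839cb82e20b8321a4ab155a29ba22c77e705c407061d9a1ee9ed8679cf8e7ee0b2c0e0c862487d406a0487b1d95c161bdc18778887aa12182730398b82cb01e5402e5762620182a479f00c15d,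
  nat_lit 0xe20012388002b8a5c4e0002cf1489a51564aba4142091380a0e0010084547e7b8f4004e1e711c5300638740005d21f617b4820fbd26fc522e88fac7de547000b874012e1c8a201f7183884014e1b5c254780d9679ede33d19d800400ae1b8a0e2670e0001fc252189e33919f94ae0625d52ea0000003138002e2600993d206ebc000477570c08f008385c128009c42e170fce2170b07d0011dbdc2c0c8016e150fa00270db8541fb86dc2809400476970a08f002b84c128005c2ae130fce1570907d000b8483e8000ec6e1911e7617093844141d8dc26e122180003b1b848299d8dc26e1205076470a384c86138000000170f384c2b4069ec634f1bebff4a22001709c4d,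
  nat_lit 0x27b17170fa00a38ec02c01700d0064a445160010005c5d164f5ce2e7168b50009eb1c5a218a2601e01b008ca74001716c583d4b8b5c5816dff6004718010dc58e640007a67158fa3d2810400200071594c000393dc561f9c58e2b0fa5b681a00fdc9ae2b38a00101db8a819000c06c7a828db8a88200e1c7e01428bb8a4fe0021c5ee5128cb8a0278004060ffb29e806003801e718803801ee288ae0322898025c5ce278ac001714389c3f38a1c4c1f4000e3f0fa02c7133894140001c7ce25064e3e71338943d8005c5201901738942b000c058e251f400b712025000b8edc580087eb056711800dc46015c46e2204a001000388c02400528593906d115400c02671083f,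
  nat_lit 0xb90c0a80557200ca720c55954f2ca594c54cf84e40884e4102a00fa044e3f8cae5f026011204ae3f8cb05e2f141dc0800040008001c7f19000000301cb94c04e02601297720b203c027c6300239e00d8e5d71f17e3dd3971c7a1edcd004371e11501dc1d0c1e61102a802000ce3c8c460c83997e20d05f631c8011c77185ce6e3c71d10c00f157a03a03c0209ed00cce3b002000dc7518000c00571c87c735b8e9c7016c002000001013e0e460e30798ca2f800800804c03138dc1238d80c0e3600a04d73438d87d0009c6a095c7e01271e803ca4652f013009000ae3671ac5e0239eb1cce00171a17e7320001c661ec00001d73245d721002000ee35002149ca520220100005c6517008a60202d38c9c6316dc88e6571889f0011ebdc622180167b071804129001000740232a28005c61168f5ae307179708030105ca804d717b99,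
  nat_lit 0x1c9ae4c04a000728393029b939c9ae4c0505532aa800dc9ae4c100e4b000392c008000fd47e90423a4dd280863f99fc8002e4b8d87ea8be2b963087f23f88001c951acfdee9974c0230fd800072546a2ac155dc960007250df0009f84fc408303c3a2c0f47eb813b9280011a5c9255702801440a05577248ea8b94bce302000724c033f7c61d68f1a6404201c000e498d119f9772bb95351a44063929c9310c0007f08c0cba234080940539260346055e11620023924920004000e7202e0160afa3911cab5d008800dc90019c8e0007238050001f34f9ce8974401b80df0332b9b921c8f19c0b2054819b91dc8c5340020007228060003930f9e572722ae90048011c8a40800200072581700930662d11692330005c8ae440fce43001b90c00800000c1f4006e4372107981301100b0e437211be7208001c82005c827bd73b8195cee7bd7208ea,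
  nat_lit 0x2ee91730053748b97c12800000458704082400ff09c8ea003404b97847818dcba094afa57a02bb999cba62c0a8e6572e10c401805dcb65f47d23c21e04198c25092000b96e3a01a012f0620020005cb6e5a8e65db83b41e800c0110098005cb51c800805472d03f72fba05cb2015d02e5804a00072c993c0f607c03d167e388019002e5711e05172b02531e199e17e66a3371935cac003002c703351928c96e55001001000c0078de65c2ba15ce160e54000800c0111b809c04f81bc2bdca71b400404e2b09595ca4b9801ee590061591ca20ac0020030071fe1ca2bc8098e500fa00372ab9403f393c012e4f002e5472707d001b955c9c0c8008e4d0fa001004958807ce4d5fe03e726004,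
  nat_lit 0x409bb941b0ee442b8009cd06280bee69733bfc41e8130096e9542b0001cced6e3d8b448dc3a79cceb450600bf76802f9040002733c7f748b9a1cccb5503204d0273a7103e0007332e58d7ccd23ca045733124000a015dbe0d37702149ccd1f81731ac56f47a1ccb1f6328b698d23b31ccab450031939a0c68101080700039963e202000ae6c736a031ccce65818e66401c65564719a404a029ccb106368b208ca0001ccd00d004ed40643b5508e00073347b8eecd1236c0b37331244183b54190ed440439a1ccd1e9006ecf0618310178ec8001399a3c82f1054ecf06182edd8e001732c787628001cc81c016d1b5971c655cc900233cb748cabb3dcc8494002e68003b9a9cc8b81d991d65774681cc8031ccce670361699cc6b7cbed0842f297a0bd70a0001398e3b81440dae630003988bf398c0080ad036b989e1987613867b00a8078032002731476733003403e01d00c0005cc23a800806773083f,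
  nat_lit 0xc010e751f400a73a0042cf1674b4462b8611a2c0a0e74914000002801dd52e732fc005739825000803d0a50ff7398bd007827813b085739362006c2140b6ea273916a75a81d0bb20097391720010011082ec37392e600c9a3c07403b73897802aba8c0ae5ae2d80349dcc830002b9c9ce3225ce4e7173805b00b21140b4ea400739e0004e7191083d06f3bb5ddc82d00139c1ffb9dc000e6f4dae7673b803d04401b7408009cdf21d052eaf0373ac107000073747b41b0361dce0d94230009cdd219cfc000736a6d73e8061cfe81b0028010004e6d90a842028ba6c0a083a00039b24220e01a60d106820a001ee6c20200100039ac380001ce200a4303a7dd3ce7573a483004211908a0d600cb9fdd0081f40f39adcd520902ae7900939e103ae6a734c81000a165dda0d9773206dcd32000011ef56a47300945950ac04f74c013907a0007341ae41f3b901b0ee54068001cd0ff501600b7388031026000734129,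
  nat_lit 0x3a20006ac9d480027431517698011d16570020004560039001802cad3a10006af1d0c0025640840008034af21c8000e832a2872023bab9d5e0484260001cf600173e0019d052423bb365a31b815c0ce047232f8e9374a873939cdce4e73a54526d7c6e12a443815c0d4645b7c779d34e7c73d48f000b9f1cf4055cf8e7902800173c811004001dcfe00673e8005cf3239d28e7973c01373db9f0080ea7754010508a84674a3a4dcf1234002e7a73c01573d39dc0a0001cee0450dae7873b81373c39e40ee87e43fbc4c20c105788a1b1cef2300000017890414208f10435a1940eaebf73c314000b9e9cf01ddcf4e7702200073b81444039e1cee1d4064eab02917b1cf03cc00469e0713bd81c85f473c10573e80510990e073bc8b00903681845e573b17888081a1d5c00b73b19a,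
  nat_lit 0x180012b27588009600050002ac816a00075715102180e006e03b0013cf4260f4475749501d00050e031c00000f0220220022b001180115e0054006ac9d3800358000f0012b201b0005d30551d5200000e95c019974cbba5cf27b93ea2c92a9a39527dceb4bf73e52f9d08e596025296948e2c71552367531fd79b8019d6ce98928022000abc00a000159018400001f58806008ea23111a04f0233ac5d64002093bcd1d3124c0988607990005d62eb0022bada4904940008631faeaf022811c004f330930494248915e5c8a044fa274002f3208f3cae48ba6000ab0003e00456001f0022bc74b000d59004400ab0002400456003f0018040aa02380060172a8e860022bc,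
  nat_lit 0x1310089537a2804163bcfc01e0751aa00e096ac646a8034254a5c1c800d77429506300301bea69e3c00b7872c6240002de2255612e00a7889c806480248f6abc8f6008064951082002161003800eac9e540063928b000283f56222b80080ff52c11300201ce1bbc14006f2f6560d50013c0d4b0424004f045860b9000bc8d5784200000b758800005ba29c27001745522a51500b793a0b691c2eae92ee50727d301cbac1aa65d369d4aea4752ba929b54cb60d5319c9ae50727d26175b237001bc824e3b380cc87a4403b81dbe07909b00081e6f1e93613509b04d40020f20788344101269144000078a3378e040610848224212e8e444c83ab51c65684d98b91394be25ef2f2811408c00a7a28006410b8e918004c2672640c4015032c949757492725b92a976e5860ab9dd820e3fa5ab8c9c674915ce482dd8e00c0228026415391902c989032e2e938e3c71d38edce4c14734ba529a54d0742d33e958dc1959135e2e04e32f797b4bc60430220021e8725c07e040003bd0826c1377a221c90e2ed4036c96,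
  nat_lit 0x20c0252a61060122c2081808c0ea3c0044f412b88f101084014b8424042f2f93e0e501004255783a004054a20202079995a8788080288ad0c2201f7b2c9e001980c03ccce1e201d56449800e1c9458806cc1657116201a2fb29787b00681e4a90c22019047ac37980060a84cae1dc017076a9708c8068a98464032b08048018560f4000b822995a32002c11352e11900b2c20aa805415c56918401408b2c637c8051db6aa0df401303629d042804a2baabe2bc01103695c,
  nat_lit 0x1202037095ac407300e1f3928de820370684a27c800dcab853c06cb082f60357ceaaf47b00d1f18a589e003402f29c02f00cca450b0e5403204c95a8e200c9e22558e5c03236c2a539300c624927800650c0184a129080bd59463005c7251c402d39095c47180b0deaa5e30602c04729d39280ac136a5413202a38729a38d00a5e12a642ba02c2a6f70015ac70a580a8154cad1fc0290aca967b580a4ab8550050b08026f66013bc495ea3f404c14f005ca00540098a64abce44025786951,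
  nat_lit 0x29e0453925620234598e425dc08a6a453218a0012c20c20005f88abdf540442ae0360212a63298118328ad00620453279c8002c4b4089284c9c0435648f302113854c80d9f2e0423204a5320010431eac62520405808f201f98ed6205d807e57404c08101fb3306680f81e4a68ad403e8aaca43af00f4d30ac4eac03c58075801dab22be80e80ea3b807257e52864d01c84a153bd9c07064a55264401b8490ae19ac0740ba86e66901c82ed4cbddc072b082960387d3aaf,
  nat_lit 0x23a60530beab3392814827b2a4af00515785710282b23af013c0ea49809c752528763027035ce4474809a0e893e0e80264469579d8c096f562b80f802681d7de8134ab86a4098b0832804b7eb80e654008409a0fa52a68202603e0a8999409854ccc404b047ca700700455315d0094b1cf0004957877e0242b02bd011ce4a43408c57d52c0ed02301d7d5012563863c0900e2656fae0241570cd011d61006df0c0460794a60960118e84a68f040457b9ac6,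
  nat_lit 0x47780041f852c7740331532c401956000a40c6a9a36c0637feaaf4980188edeb192600613b62972b18184184a8c0620c203015fe5603e00be57641805e7b615c3f08178320a5238205e2ae58402eab002184d80b873354318102e1573c0017cd60ad23de05e8f1aa700315940bacccab805c56493f02d9b814bc6dc0b717f5831cd02d1aba5495840b2af23940580e5a9a49e015ce985441540025640e300081d48780001be00995600102a2a604d01516003fc0a60df0294aa,
  nat_lit 0x96903c9d356325880f0738532fde03c15019580102440789144b109881dcf30a68f940767ce15102003e40ecccc0ea0e0011160a5804c40e8f9055f21a039be6803b2801d20745651f5039c0324fc0680e47240cc6fd03888365786780e254c0e019e002c70e5705280de140656541037bf58aac02c0dc5743fe06d03a5160364028ae05500d813e52a13b035beb94d05180d4fa15326f703607d61b80283f806b8d94ad0f281aca986740d4b1c1b200658071e00284ea1bc018008724ec00030fc15c,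
  nat_lit 0x21b0432c236a821958167c10a7262fc0878154a406d8218aa0720acc0855780612b202119925d81065592b86c7041957109820ca99af41090279486c0041abc2c8020a060abc2f208458417604181d4b18209fa605194096304085c94bc75c102b1ce340812a671804015d8f5820ce16accf1a0823a7aa42fd0205600030ba608066296f03f9d28a883980ff19c8581a903f15d8f401fa39329240207d8f32a7023968c0f8cccb4607b5606c503d1c9,
  nat_lit 0x48841192039485b6045ab002d8228b5455a4760893c329607a022642529242408881b2a411e021c0e837c10efe886e18104347814d045c10eaf022e0865601cc04295237e82102b6558ec80895845d00442bc00384b0114cc82d808903a17e04595794d1f3c116b0810664f0453332e48225591f2c11007532c087318a97018813d5306bc10c07500c0857fc2968f8021963951c10a54904a0857db95e4fd8210e4e5720940733920bb043957,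
  nat_lit 0xe9209438e74304a1530948254ee2acc4c009403a7e404a483960c97c1267439525ea0492bc8d782460f2abd39c0903efa944000248a9c9b0122b1c0866080484a1303023d5949a012255cff209058404c2fe023e50a66811c7f52a220c0472c20e60004a981d83940000cc4a601d0231531f8c11f0395825f30472c04dd02364aa5713320000b2004e1d0208118a9811812e03797b2590608116074b2608b11e2b42c802295846901127243620890b9c9f,
  nat_lit 0x40f01387264ba09b0ea95c8508270e485c4138ac0f6c09b81b49f0ac027958426c13a72650809d58e07335d8271991fb81367264fe09b2ae80804d2c201d9958132cc53940984012c480b0122072aa648009890f4a430b825d60078413057657a09883095a92e0268aba6fc13268d52f21a04d1573a50265611864132147013cb33be826e42cb04bd209a58000d2f502659927781312332b921804c2c7069825d591c9412c5481540958e5aaf,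
  nat_lit 0x81c029ce4a7b814c1c32a32a50531de159a17014a82b54e6260522b294e0296130aa029a0a4942b2c14f828c0ec2fc148666657269052ac7360829030929cf640a3392a150511ed16309041465481e20a22f32a92de0290476a745460a303b289051c2a14c87e814654c02a0a28289540f00008aec1100026c365725b00041041332d000e09f54c80104f89714f042413c7b095229204e81d3c9827561169413857401009b0f81543db026a49ab10f8209d0ecaa7,
  nat_lit 0x1efc166b0804c68c059b3334802c80e201016927f93c68b059ac000a9a90164cc4ffe0b103b24e058ac03dd82c8a9c9ec162b1c0d867305ab3332a02d1594a60166724c9e0b35800f30592b22fa82ca17927812c5ef058b332f902c15817c015e0765b00af2a72e60572c744b02b55e00790e40ac6632b805609b55980d10700ab8384b633902a95821081520754280a8959951509029cd7ca640061c9053cb4a5aa0b815124d93c62a053ab0,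
  nat_lit 0xc340a68702a887a8294e4cc1014a55e6040a458409e35f828d994a0c144074c140aa56060805481d36b82b563a2b4158af02520ab5648b1056c295634b2415e1ee2aa7d8057ac20c902d0abc378166b1cc060b357809f30002c998c8a016218f55322b0598b1a549828164af02d60b42af0db059ac742382d04fe5541c20b394e32c87182c8e4a0b4168b08de60b3581085059ac711202c8e4a86c1622202b928205a157,
  nat_lit 0x1fa014854c2780a35647e505115d3f182840e4470144724d0e0a25648d505081d45682a0a9a2b414eb0816e0a6580117052ab24540290e488fc14c0761c20a758e66c0542c044e02a0a9cc1c14eb1cd140a65607b70529c934982995e051c14e55c5c60a65841c8000abc990800046ab180fc0a654c7e8053153954829563820cc9e0a666724f052ab24070298a9cae014ab1e6580a5150956,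
  nat_lit 0xec209856084604b81d872026963cba413455d0560992ba82b04c1c786a8268e489b81380751520a458407e382028d994c7814472413c0a214415586d8284e49fbc14254e57e0a058e11e0512c757e82845b0544e1e0a22ae06a9a5828599a3f0140ac84f80a22bb3430508a0cae1fa014254e56e0a058e6ad0512bc0349a50142cc8cde0a457926f0519c99688294aba058148b08cf40a35792b30522c7,
  nat_lit 0x9760284aba064140b08d980a056091504f9c90f80280abcc9814055ce4009f57889504f01d9af827caba3f013cb08e0809d03a22304f2bc111827558051013854868209b03a88704e15339e026d584c0813855d0a409b58468104d1c916a8268ae873013272413a09a2a433404c81d1488268ae9d08136b1d1da09a56075d04c81d0fe82655e09f013057434a0992ae84a04c953,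
  nat_lit 0x1688150aec4480ea72463e07c2a633a03e15211481ece48b8010a07454e08503a33d04515d10c8224e48d4011254c3d608858e16f045957994022cab9e80114b0056408f2a7313049957428024961456813a55c33009c58e311051ac288a028cab835414a55ce680a456076105215348a028d5e06ec144ac8e820a13933830509579b982816124c413eb025da09f2ae81904f2c2,
  nat_lit 0xa52802a88c56da0c009586a97a1d0024a93898010ab52b945000450e4adaf8400eabe58d4a2004152aa5801d614a5a89e0082a55a6003aaf0ae527000e549a0600658215ca27801a86056ea6200555ba97a4c8014a95508008b0158d448002152a8f000d56aa66890003a4a15b6af800956cb1a88a002a4995b5db8005564b1176e000559294a8bcfb54fc0019f4d4f186b3e953d00027db5235dd51055612f14fa00053c82853c80014fb2ee7d954d71533fd9fd41a0005075a14d0b6ea56067d00029f4b5fab40d59accd06400341e6e6b851c32db79f6cba54c00015352e68395c36985722bf547706600ec1d80eb072843c08e8dd4f740a1f329937ccd3cc005476ad9b64da555afa0bcb89f2b29aab155dab251c81001d204402242861440e94cea9db68a4d7c08ad854f2000d1d5b2ed7fad1b49a7cd2de2a404c2ae1de028157,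
  nat_lit 0x5080004549bde001558151ab8800556ab12ae4000557a99ab831bda3200068cb1beae141c5574bda2d0010a9516c00a54a8b20082a5451004152a2a8024a938f0010acf58d457004952aa6802159ca5e8b00092a54b5004952a2c0024a951280134502b6d680042b14ae514801254a96e00aa2595ba278028a933c0012ac6589450004952a56802689c56dab800858a95ca21002689c56da0e00855ea97a210020a951640114482b74ac00495264e80216285468ae009a2215b,
  nat_lit 0x289e0062a5454003d13cadb0f800cadd52d447003152a2a801e88a56d86200656e297a25801ca92fe0010ad452d44c0041526e7001d5aa5458f0008567297a278020a955b800ead658944500415260e801d59ca5e87c0072a4d680032b28a8d0c800d4432b743a003952637001958c572860006a2315ba1f0018a9301c00aac758942b002d0d8add728008abc2a342f002152a15801286456dbfe00501e2a7a12801286e56dae200355b294a14000e85456dbe000301ca9e,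
  nat_lit 0x52cc01054ab4800759095ca7f8020a9320000eb6852f4f800395270680196c8b1a9e2006a5395ba52801ca9343000cb155894ef00352a8add3e000c5498be0055b0ac4a7500169e056ebfc0045ac2c6a4d0010a953a800949d2b6e7c001ad596253900094f12b6dae001ad494b539c0074952b6d960012d4d4bd37c00454acd20015a62c66d280056a2571b220005a5a99af780b9b434d3166536ac9c02b737538a5f517400454a8aa0052a545a002952ab980115c65468960052a5459002952,
  nat_lit 0x2956007a5395ba54801e94a56ebba00659515ca4d8018a9323800ab202b94a90029526708011654a5294a004a4c15b6a7800d64ab119de00300229ea51800a92856d9ba0015922c66780001644a5d9aa43daddb1498a2c56bb5c4d6edeecc71ab8d1ada42174c015dae0ea272d59769c2289a9131998d0c6a644d28260527d910c69633b196a42288a705971cb2ea16b78159d2c0606aab552bd8d48a72092aa3acb065756d991149c97f4c1001152a878014a952f800a54ab14004597151a5b0014a952f400a54aa120062a54b8003d424adb02400cb2852d4b2003152a5c801e96056d918006593a97a82801ca9561c010b6e5294b00041526be001d640545a4000858ea97,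
  nat_lit 0x29b00092a4d0d0042d454cd34401254a97c009a6795b60f802168454696c0082a54be004152b2d801d682b1299a0082a54ce004952b3f8021696b1a9920082a54bc004d31cadb048010b3a5334b7004d2b4adb258010b3a52f4c6004152680001d6865729540082a54bd004d310add2b00154c02b74b2005152b2d802566a54695e0092a55c80042cc96252c00114bd2b74a300495264c0021650a5e9660092a4db60042cd0a8d284010549b56007593151,
  nat_lit 0xa6a8010a9535400a54a9880052a54c4003952]
theorem S0_c : blocks (facts 11 5 16 27 2047 65535 134217727 13 8191 11 2047 A R 32) 32 JS0 1845 = true := by decide +kernel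
theorem S0 : On (Step.{u} rels LW par A) 1845 6389 :=
  steps_of_blocks hpar hR S0_c (by decide +kernel)
theorem D0_c : allB (defOK 11 16 27 2047 134217727 1841 A K) 13 2 = true := by decide +kernel
theorem D0 : On (fun r => defOK par.W par.WL par.E par.mW par.mE 1841 A K r = true) 256 1920 :=
  On.of_allB D0_c
noncomputable def JW0 : List ℕ := [nat_lit 0x8a72296bdc22988a52f9fbd0af52be76f5a8a4628b8c42309799afbf8c3230a8c3efba796a318bf0231abee2fdbbe52356bf623418c16fd5be4a33e8d3a340bf1e2b579763228c76324bf162ab796e3198c7231e8bdefd1be6233a8cf23358ac6fcfbe6a3328cda3348cbefd68d8afe18d8235ebf2629f799e3238c9a3288cae2937972fca8c9e330beaa35abe5a3578d6234b8a6efdcbe723488d7234abf0a3518d9afe38d863648c86339bf96fe08da236abf32fdebf9efe28db236ebfa6372bf923708dd23768de637dbf9a37a8dd637ebfaa3808e0a3848e1a388,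
  nat_lit 0xbce15ae88d2f5b88c6f548ba62ecbdd2fb38b962ee8bc62febdb2fb68bd63025485510be5555c8a1a285bef62eabdea2fa8b7e2ef8c1a301bdca2fc8b3e303542550fbe4e2258a0e2848b022babddafa78af22b98afe2f8bdaafb78af62af869d539be654f18a3228ebe962b6bde22b28a9e2b8be8e2acbda22a88a9a2aebcb221dbe6ef588a4228f8c5a2cd797afbebf063128b9e354be3a33bbf66347beba352be423448d3e3468c522dd797efcb8c3632c8b0afa9bd72fa68b1afa08b162cabdba2c88b1ef9e870554dbe5d5668a2228a8a922a0bd7a2a28a56fa1,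
  nat_lit 0x87a21e154f5547872ef12bca155e886555dbd361438bcafb5bd8afb28bd2fac54a5590be3d5a689fa2808b5a2d0bd822d28b3afadbc09581be46f568a0a2818b562dabd9a2d88b7a2e0b582c8cbd76d3a88da238b569bf9bdbdca5893a250bec62e2bd922c98b922e1bc7d4bf539e17c86f21c2bc754c1ae894da86f61bebc6a222bd454f0888213b87ed4ef88baf5788b222abc42f4b8861567886a14275d5addbd7edd888ea23976c5a80bdc5e43894a25187321c654b61c4872a1c3bc82f40aec220188161bf55155b888caf5988c222b8835562bd415a7bd3213a,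
  nat_lit 0x5506208565d546bcf14c587594d8547e145bc9613c875620bae820ed877613f54ca203ae22178bcf615454c5534ae9a200bcd94ff771dad5bdd5ccf895225675eec6ebdb5d17892a24c53494b552ce0e583a14d483ad4e153360ec83a54e4b71adcebdeedde8976257766da4bbdcedda894e24dbb9d4dfadca11c84794d5537550a52c54c354154e57556cdebdded3e896225ab619a89bdaed3c8922247866a196adaa17e8656198bc2af0e531d4b98652f1353e553a88a2224889af55b6c1e39bde5e49897225b77d6d46bda6ddc8916246bceef26ade21ea8812199,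
  nat_lit 0xa7cfb6ae8cf65617986086d2f1953ae13886e213d86de1baae494b886e613ebcd54a9adb14bdbcca1fc87e54b752954c2bccd4c4bc2618e52ae16e8642147864e1a4529d4db864614bb5d6c60a911d94b5c9d65b595af1a949d6d75c9d6963b18e524418e8637ebd56b898e6233dad36b79ae0b6898d0793add97932dd6764dafbbd86dd488ee23cb5dda7daa11d95765ad5c7665a4faa52d83760dd5baf619062325904642990c695590923b5a82b0d2c4775bd9d67901e42b74edd00808f9954b2908610984107dd085aec692661b586187f9542adba1ecbcde1fd,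
  nat_lit 0x97909454f2920617185b876a1de533e1448772146876551a5346ed0bc9214ab5c2c8abd8dd0d88fa23d5491513532e0e4bb3d5268381515ae5aed1bb3952abba550152be11d5411527849550753dd4fd847d52bb6b1d2fbd9de3b8912243759acbea919d5f758dd64b579c01a941cbd7589d686f0aca52345bc06f19ae16d71b60249db586d7abd47236d00746ad3bb3f1d187582cb8aa19d5e7566d5d7572cbcaa5acf27561d5a6f81be4234dbdd6f8ac46b2eecb22309bf66fd190d7299c5d726dca4b3f5ca1b621a3abd95c9f89022420970f8c5398f3560f5840,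
  nat_lit 0x724d9dc746ed3f7475d1976d9a61a9f2d7e76cddb4b611a6ca9dacf476c9db86a49a8b2395a8e6a32c4b69c6c492369a836a19a84b4d99d17456d3d7472d380ad1005adad21d60b182e088d0935318f78616585a52ea18dade94bc8672155867e1a252b54fc86754feb6fed90aaa2dae78a1da97861dd7a961e16b66ad58b652dcb239dca978cdc12774de372379b55b735b6b77edba57929e4878f6dd77852d4aa9fadaf784ddb5b67dd39a9d1df277bddb97532d532389d0b752da8574c9d3424adbf774b6c4ab6d1ad1795addd7951e510781051ade547760ed82f,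
  nat_lit 0x6c65b1a2382c716c71a456c15b1623d9b0b6c5194b7445d037451d16b4cad394bb4ff952c948560cd8340a3d001533291e619586677b1de5a8f9de8b66ddc977aedc4ab99e2578a5dc5b709e342401d0778c9ad978c6dc82375b59b7319f57845ab57962ddf7955e457611a79a991d807609d7fb5a9a77a9bad79765dd79afad94823d593f642d94a6921947245da3fb0d5a44787d8b3794addb7935e504025014adce7d460d98350b1504a52c104c61a18677699c47aa6ad7f754dda87559c3da929d13754ad596db1b6422edb626da1b6a70fdb6723a1af97121c13,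
  nat_lit 0x513cfcba43d47e51f1480a3d0fac51c290951b946c07f8f91533a924610d84450d02d30e8c20750853dd07e0265a9141c35c85722098d013a44a921527149b0e55052a452927528d48f508d0bb534291661b186b0b68ffaadbe91a60c98314dd50e9565948761558560c0101b547a92260e98394cd4f83ae8547961758510eb0f89ae2691c612d83fa2f8fd2ae9d4896191863b63dc10a8f1daa7709dc8b635c0bab61ca3770ddc4b0759f023359e967c99f46b699ef2359ad26b59ad8b44abd07331cce7276d15b5a5b13a999d7c75ddd7eb59db0fa9b1cd175d9d78,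
  nat_lit 0x7621af3aa89d8175ced6d761daffab81d90b5cdd8f63898da2352bd363798dcb19d8d92365af86b7dafc06f41ecaa141cb5d8576277f98bfa932d8277f1df9af6993b04aabe464f2be764098fa04018f863f990071e5cad2321aae717d8f5afe597423dd9056445976b1159380186c42b101a7e69318fd022ac376949a5063158cf23b18d4af1abcfb6059c1a8e9dac768ddae75c19b9aa29d6cb58dd6a6826c2f2391a32679da3166dd9d9245ac12676ac1576959e3791add5b749e44b6f2c9a78f9e3a78f2dd10804204aa542065dc577250003484ff8259a3253fd,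
  nat_lit 0xa2cc41d09a43194f693dc0a802a2a91c2a45c917230e9cfed51ee91f525d49a0790f663d8cf649d6cf604f7cfee52b27cc617d862118904053a904260dd838a211072ae4cf4961398500c48fc7adb4f6d60b58304dfd0af5290f3b616185709f8ff252a8f4f6119845a34903a529a7d661a586a07ac398a94c2585cc172f63ad930053abe564c993464dd97c056abfbafc997e73fed2b2445b747401945af5d8f0230d8e963c98f4b17992f0339ae66ba9ae56ba597b02ddaeeb18daed62458b423398a9af1d8b0b6e58c9a9e9dadb6d9e206dc9b6f22e9b63b132c91,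
  nat_lit 0x714315aa1c1cd5d917637239c77a95acf37229c886f7dbec014dbcb6fa5a7f6f9acb501e2ca26fa1a516efdbda2349bc1b2bebceb2aacb12385bdcb2bac146fc2cb60479b086fcabe66fbdbeb0405bfa6fcd9017259c65a902cf7722ecf07266d04aa41cbcb42ecfab38dc56236dc5271618ab7181c5523d1acf71799777701a5da971dab76eed8b76f9a59aa31cc976e9dbc687da3822fda3368d9a35690ac302301a3e68f2c33b3e58ad7269c9e7271ca0096c272aa5c22f5dd1773a31c41e4fec420a3113fc9d28f363cc0f349d34f3209b8f8fadecff460f183e,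
  nat_lit 0x7629b51ab79d0fb5b9d8e6cb5b4422f5b3f6d09afd6d4ec822319b546d598dd7366d2c7335d0cb4ced141364fdf532947f61298490aed0c9ae5e91861518534d0cfae52b8f43611d84809e502e53d9030613d852b675d25a979de977bad8a77c6d42aa3adaa7849dbd751dd482315c53752ac32749ed45232db0a74b1a3409104b9a94438d5cb572e6f15bcc0371bca6f21ae4b299bd20316ca96f25aec6c95b3c2342c70b1fd8b16d6dbcf0579b496ff99356ff5bd005b1b836ffd97fafa5942249993e63cd944b435cb3aa02cf6b429cbeb3a9caa23a5ca87166c16,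
  nat_lit 0x7889b9baa22da6b6ede216e76c99237db776e8ac900b402d4a9fc24d5d7175bb686c96a939df377d9df8b535d3e0159d3d7501a67750dd4e0149c6fb556c3e62658ae238d8a8af158aab49ad31235dd0ab4b99d574c5d3a045dc1b74a5c1874dad4904aec6a748dc1e6ea1baa24a9b756e8da307815ac5aa7ada77819e017826c58a9a9e17b6c9e1c6b2ec5b2371ace6acda95077c30aa9d430c5d45752a2043864bdc2fb4e1287e4afd02d51d1476a42d4724de909808c430d4cce8770d48217aaa43565e157794dbd132a439484a4454827631b4baa81d7db5bed6c,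
  nat_lit 0x6a45c220445c20b31dc197072cc9047dc24b319c1f6a61a9a2331a8fb135a94b0f5a620142c3a6991a6669a5a6b0181a6e6996c3f731999baa91cc17245cc4b4419aca9c1d12b43ad3466c59412406c1367499d40acc316a9dc3185d517534e082934be04bc4e0687f130d0035236919524148e9f211e3486121c9f2d21aa1e509708b022e4df2876089068caa6c2265dd977811467b39d48f79474d1cb0be0266a9642fa5cd572978a9e2703a9d3cb705c147771dd8033dcf97769c1767158ef23999e0674ec177731dd00529b7c7739b7e772ed93057db827751b84,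
  nat_lit 0x76859cdab6ad78768ad7d653595b03d995e63febf1afbd956046abec64f5958691d95c021ec43694da7a69cd95501bda6fb105a74780987daa71d9d77f5e00b691893a9e1d91b6dde1d149852aa9bc52c5d3174b10d01fb10d843ca3e100a48a675e3cfe7d548a922c501830908a452d50113ee0b182c8a8fc2ca5c7171b14851fc3cf504d9efd1ca116863ba92c45c5c99728b239c360541c2170d1b7f70cecd5053dc3170d5b85b376cd203adc4570edc15b35dc390375aef70e9c167309995aa09cc0b43dcbf1090428a9f442a5d5d75a72519c7a952cf57241c89,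
  nat_lit 0x6ccdb3401aec796cc5a756c42c6d03e5b096c36bf06c1db020432c6b6c3195973b9c4faa9ad21735dcc573c6d28a9c9d0e73d6d351068427a9b440d5d1d74a0dd838a0de038c4ba900b4fc029d073c59fa2f53ef0a40294a8f42965c5d71a1518413ab9c43d5edd7ab7835bafaa61e24b6e9d6b7789dde0305d51776ecdab659e2c0355cb7b701c4373a5d082305d06b4bd8d3b665de10611b7d7755a29779de2f054ac88773da01786ac50a9a1e0bb6cdd9f783ec54ab72dab781ed7cb1eac8122f1b3eb1f99df6ac2c532329aaf6acac1a152c5d8a9945da5d05742,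
  nat_lit 0xa3084e6aa2c4315d99768a3a0fab523291751bd48b0f88ff0526291d52594930f704f4a8ec4f65c597180f6c3ed4fc8509a2f13e10a68ffe525291b5245492511cfc8a45548851f548a14c8670ab644215ea17aa7216bc0aa49ca2b3bacfb67dda2605dac2b67e5a28b07d9fe05759fa67e1a0067b19e522f99e8679ac1bb171a2502edc44b362cdb71059fd0326c68b365c42720188ba989c7cb3bdc7a71fd8b8ab89cc8720dcca645190e231ebd2644191262f58d623118d5af118d2114c5d7a99c4a75d11743b45dcd4ab91cd07359ccb6c7db2f01f6c776cc1a7b,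
  nat_lit 0x512c3a11348297a3bd44c50f84ef07041ca50e943c07f433e5008341a320287a32828aaa4c28c5dc176fa3c42a70e88298a3b9450a398fa907001c2a3c94560ca032ca90c3405c8171f0c9c1f10a14335508140f4bc02f709202434bac24a091c31ca9ac24f5d1974808f4240aa7c2425df177b08fd0dc09243744b753720bfc494a20c4984e143044e1c46ea9cc3815d4174f07990395286925528949f07bd03f5282923527549e06fc220aa9c4995e11783087cf7e119c1f54cc9330a0f0f81a44d486a44290c4c1507151e9478a42a90d0eac2ad4fcc4f7a3013f6,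
  nat_lit 0x6bdd96a02c6c696badb0007a4332aa0c3345d8175f70b2ccd056dc2570adb910bd03d7a9342995c9d72aaf7d91806758f9646991c72bed030441c0872c1987b3b5c730655ab6719d91d65e598505dd988653ebffaff598003e2bfaaf89982b0e5a2100eac366959a5aaf358ca01458c6aef98ccaf2d8c002898bbaee98c26849a140671a0db095a10b085a02041d9fb6811a0666f99c203019bab0359bc66d2c0b02199af669d9b3b5ed9a3a969d9cb589d9eb042c1923619e1676d9deb6a6c9ea921e0a77dddafa3ac3b34ffc4305111441a3b42710d6c42b5115448,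
  nat_lit 0xa2342820a1020f4cfc2860a044e5aa442895db576e0b78f523d28f4e9d54f4c0848303a9042145c7571e084446d500c530501540e488cf513d8a7d748ad21f0940252a9542545cc57327131c500641c0cb386be0712dcfd03f9b7a737d96f63dec010459989afd998671d1c7002d9c6e71ad9c961e987e0279876aeed87461e5894012988eaefd88c0f94506a9ec5085d597586dc5c2e03fdc26b33db8d09e861aaa8c1c95e0177f16b82b7ab842765ec97b16385966059195fafcd9626581969053196c64cebf5b469d042355b767405913b19596502a5ae7b189af4,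
  nat_lit 0xbb27ab3dacff5474a75c5148fa609a0255a3cd4519f0841410582a59f19216078c322a9743245cdd73a14602b8ab7c4bd5ebd7b00750f5f401d0319d50f610f503d8a9243855c957190f4c31ba2d43fd4f6d3e048351d5401a7cd9f2921e409032b1198215a3e4305119456ca9c456e5d3574e11027c13db90439ef8f4d08245ecaa9420e5e05782082d034a20834e4e213313b3cf469d4cf489d4274e0c443dfa1e83844e0024ba1f047ca9e447e5d557490aa8f693da8f6c9d6a75d075c686aa743f75ddd77a0765077a1ec2f24df53739cc0f383cf0f3a9d3274f,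
  nat_lit 0xd9447baa243755d9575908c8234a95c2365cd17336f62cad015dbb36f5d8cd6eedbbc0286ca36edd8c3b285bb402e9bb26ed99bd6ee5bd401f2ca86f599b27485d2a0495bfb74a1a1d716dc68028ece971a989f71b5cb800f9cb6b41d896b391c620615c06719abfeb399cb403ddac872c5983137c59caa3459e5d9d76a68b9a2b0506c2ab0a2c2d686da2204cda19b0a5a1c6905a2c00e2c3b695da5e72198a7a909c7d720acf151083cd4fe828d50ed4403ca0f23086c4a63b5cf243c9cf2d0d682273b74f2e09b448da2d03f6a3153f74fe43b4aa643615dd5769,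
  nat_lit 0xa0c50cf158440c4b712de0af0239aa8421d5df577e0ee03ba0ef02774cf83c03bd4f443cf8f429d44f404e2900e11d43c64e252df074c321a97c2c35cf173b0f0c59baa3c3c75db176bb542d570101d50b551a5f7512d4f0112d1c7505a5b747ad410501c1a748ac2c0e38390a93c3925cb172b66459170312c0f665d9c86ceac7d027da9c6ce58756c85b220136c736a8d88db21db4705a1b486d319636e5dba005b5b786e79b90649991f0681922646ebe1649597203f596dafdd96e07741f2aa041f45d7575eb3fad090131cbab41998da1b5124105c1cc4bed368,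
  nat_lit 0xa15c20d08b4237a091338664998b012d98eb00d98c6e52c9503f1b8a6e61b8c628abc302818a0629189e626989c00f188f622589773b1cea0321cbb739d99db479cfa01a9cf8b492c086e9dbb00651b886e7da116eb2c9d0419b7b6e65a076b02c57054dabe6ae5abc6b0dacc046dac96ab5ac64bf8f7c4bd824e4be92fca13500d08ec24ca0f9322a1c41db08c0393a1b93394b0027d08e8357a0952ba4dac218086821ca1bd36c6d06c85029ac766c9daf5b1d5b2a02c2c726c99b016d3db29055ac896d36bf4b48dce1a982d2073d1c7b4fd04da481845da3043c1,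
  nat_lit 0x1704553a9a42f35d157390aa42ccab742ce5eb97ad6a81aa40191a9d6a899a96a7db3602a2c786ce19cf6aaac4e04c9aa66ab2c226aa5aba05e9ab76ae2c2616d4554a98c5315d0173f683da170631a18b092c2766ad9ca029ec0eb0319ce0bac674ab6c22b5ea57ac64ad9500596bed65399523b60ed510dc3603b58ecb9d0c2e9071c5db3c38f103b78edb08a022a3b727333c4c27517382cb48952266a5dc280571c2770a9abdb32acd10435c30b339ac766799200351998665999cb01197101b99aeb00ac094c090334be4380a0fd2fd481055d134c3254801202,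
  nat_lit 0x9cf4efa173c2c23b34efc484830f11d02cf9f1d21148384570ef447f48067c5180444ca98434f5cf573e9f442e1158044548912109f3c44b481c56f3c3e7c43bd8ef007181c83bbcef2736ad1903d5c0e737992914dc3faa96c3fc5cd9738b01d9a401d19a066999a867ada0b0491a0c6816c230b742e2ab8c1d15ecd7b4af7192c03d1923af8d9286212bbd00ed8826221880621d8b702a98ba6296bc97375ce205a5b79b3819533b40ec80de42883b30eca9ce4eec07381d03bba73210fc442ab944445ed97b573d9cf30116ce8b4958817395cd302aed1d739abc8]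
theorem W0_c : blocks (rows 11 5 16 27 2047 65535 134217727 14 16383 84 A 6389 567 cols 21) 21 JW0 0 = true := by decide +kernel
theorem W0 : On (Row.{u} rels LW par A 6389 567 cols) 0 567 :=
  rows_of_blocks hpar (by decide) hcols W0_c (by decide +kernel)
theorem idx : Idx.{u} rels [[0], [2], [4], [10], [6], [8]] [[0], [2], [4], [10], [6]] 567 :=
  idx_of_cert hpar hR (K := K) (by decide +kernel) (T := 1841) (T' := 1920) (by decide) D0
    (subs := [1,2,3,4,5]) (by decide +kernel) (T1 := 1845) (by decide) (N := 6389) S0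
    (by decide) (n' := 567) (by decide) W0 (by decide +kernel) (by decide +kernel)
end T3
theorem b3 : Bound.{u} rels [[0], [2], [4], [10], [6], [8]] 3265920 := .of_idx T3.idx (b2.mono (by decide +kernel)) (by decide)
def t0 : Net := [(nat_lit 0x5140110540445145001141041440550500101450541504410455154140045150550044, nat_lit 1),
  (nat_lit 0x2112022133101232002011133133100200300013233030302120303331333131220200, nat_lit 2),
  (nat_lit 0x10201060103050e0a000b070c0a05070a0805060f0c09070e08040501020b06080202, nat_lit 4),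
  (nat_lit 0xab00ba003e00e5004300fd008700ac00cc00c500a100ef00be006d00f9004400ca, nat_lit 8),
  (nat_lit 0xd40000d15c00004180000005a700007c270000cc4c0000d6cf0000df680000f562, nat_lit 16),
  (nat_lit 0x18d76ab50000000068c81ebf00000000ba48663800000000bb2c8602, nat_lit 32),
  (nat_lit 0x7995b6674b6a134a00000000000000009f40bb6070cf7350, nat_lit 64),
  (nat_lit 0x1e9db57bc19099a0a1221adcba1d5012, nat_lit 128),
  (nat_lit 0xdbfff9, nat_lit 256),
  (nat_lit 0x591010, nat_lit 128),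
  (nat_lit 0x36a68c272308192000000000000000000000000000803760, nat_lit 64),
  (nat_lit 0x66a02086000000002480c01b00000000480cae18000000000048e560, nat_lit 32),
  (nat_lit 0xf2000005020000c0300000d1c50000c4230000190c000038d30000f02800004200, nat_lit 16),
  (nat_lit 0xe300ff007a00930021001a00e000e80008008400a500eb00f8005a001a00040080, nat_lit 8),
  (nat_lit 0x304010002010509080209050e0803070a08070409040d040c0a0606060409000a0000, nat_lit 4),
  (nat_lit 0x2112023133001333102011123133000200310013223030302120303231322130220200, nat_lit 2),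
  (nat_lit 0x5140110540445145001141041440550500101450541504000455154140045150450044, nat_lit 1)]
def t1 : Net := [(nat_lit 0x405445444504511441040541505150405440044004445005444505110045004140540, nat_lit 1),
  (nat_lit 0x1211322013300130211333231321112333031311131002202130121303010222222320, nat_lit 2),
  (nat_lit 0x5060307040e0e0f0b0c0e020204020b05080f070c0a0c0206000e0d02080f0403000c, nat_lit 4),
  (nat_lit 0x270022000b00f8006f002f00e40074002700a200b6007900a5009d0067006c0091, nat_lit 8),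
  (nat_lit 0xaf000031920000022500007a370000b1b70000bfdd0000ae2d000034d100007e01, nat_lit 16),
  (nat_lit 0x1f5396ef00000000725dd17a00000000fabdae4800000000e03af48f, nat_lit 32),
  (nat_lit 0x33afadbb131c9fff0000000000000000b84b0116a289b79f, nat_lit 64),
  (nat_lit 0x26a323424253c3b561077e93fca0131f, nat_lit 128),
  (nat_lit 0xbbfdff, nat_lit 256),
  (nat_lit 0x982153, nat_lit 128),
  (nat_lit 0x438440019a1a417300000000000000000000000000294969, nat_lit 64),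
  (nat_lit 0x1d5a53c2000000001128198a0000000028216cb000000000009a7c33, nat_lit 32),
  (nat_lit 0xf30000c93b000016600000029b00001b870000481d0000cab50000003100009c00, nat_lit 16),
  (nat_lit 0x5300ba009a000400c20022006c00fc001c000a000600e8007d008d009e00e40001, nat_lit 8),
  (nat_lit 0x80a06060c090b0303080b030a0407020d0c0c0a000b0008040906070e0d03000f0800, nat_lit 4),
  (nat_lit 0x3211322013222111200333021231112313100313131220002120123103210000223100, nat_lit 2),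
  (nat_lit 0x405445444504410451040541545150405440044004445005404505110045004140540, nat_lit 1)]
def t2 : Net := [(nat_lit 0x414015100010551505145454500515114401014550454510404440145040514054101, nat_lit 1),
  (nat_lit 0x101121030233211013301101212023113201121010000031112031212110003100012, nat_lit 2),
  (nat_lit 0xc02010b0d010e06050f060f05050c0c01010b09070d06030407050f020d04050804, nat_lit 4),
  (nat_lit 0xc0076000600c200170006009200b900e300c10039009f005b00f0006a00250066, nat_lit 8),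
  (nat_lit 0x8700001d32000033330000c8bc0000043c0000a35000009d6f00005bd2000013c2, nat_lit 16),
  (nat_lit 0xe243112500000000de71878600000000af8717cc00000000cc767220, nat_lit 32),
  (nat_lit 0x116ed1476506066800000000000000000bde0e065cdf166c, nat_lit 64),
  (nat_lit 0x66e0a31cd128668d282d52f8a7a27b02, nat_lit 128),
  (nat_lit 0xfdffff, nat_lit 256),
  (nat_lit 0x61e228, nat_lit 128),
  (nat_lit 0x468860c022020b0700000000000000000000000000dc7475, nat_lit 64),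
  (nat_lit 0xc140312a00000000c94500dc00000000431539e70000000000309010, nat_lit 32),
  (nat_lit 0x7b000012a00000562700005043000014c800008309000041f000008fd400008100, nat_lit 16),
  (nat_lit 0xa100020087006b00570017005700f1005200360025001400c300f8004000150010, nat_lit 8),
  (nat_lit 0x20d0e0405080b0d06070a060007080a0d0e010e02000a080209070d0b060203090100, nat_lit 4),
  (nat_lit 0x3231122031231321033321101212223311031131003200011312031212110003302000, nat_lit 2),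
  (nat_lit 0x4510015100014540505045454504515114111015551054510444440045040514410140, nat_lit 1)]
def t3 : Net := [(nat_lit 0x5055154005101055044414144111140504540144501004501001510015401554544511, nat_lit 1),
  (nat_lit 0x1333310121001101001221220100030210003002122013333130031231012132201021, nat_lit 2),
  (nat_lit 0xe05000b09090c08000d010d05010e0b0a0507090f02050c060804090d0f090305030c, nat_lit 4),
  (nat_lit 0x7700f8000800540095002700950082009d0050001b005f00f600fe003400a200cc, nat_lit 8),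
  (nat_lit 0xcd00009fc000000eae0000f8760000c0ba0000920f00005a4d00002e19000003f7, nat_lit 16),
  (nat_lit 0xe5c62ee50000000035e5c1e00000000010470f100000000081378d45, nat_lit 32),
  (nat_lit 0xc9d57482d232d9a60000000000000000129d99728f29f61b, nat_lit 64),
  (nat_lit 0x1faa1db17b7042eb65d1ebc28c2533d9, nat_lit 128),
  (nat_lit 0xfffbff, nat_lit 256),
  (nat_lit 0x28b187, nat_lit 128),
  (nat_lit 0x626ae630920970b300000000000000000000000000a78225, nat_lit 64),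
  (nat_lit 0xb9c8583e0000000018a4c97c0000000021a481070000000000c3821d, nat_lit 32),
  (nat_lit 0xf80000975200004ab20000ab560000c5fc000023690000233a0000511100000800, nat_lit 16),
  (nat_lit 0x1600ea000400a000c5003200e600330064005100a5008b008a00ad0076005a0000, nat_lit 8),
  (nat_lit 0x4050f040e0e090b0a000004050b0708070e03000d0a0a090b080f0a060f030a0b0000, nat_lit 4),
  (nat_lit 0x133131320101113121200220001030002300123102311112333011320112110301020, nat_lit 2),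
  (nat_lit 0x141515550001015005414554045150444540010501505455150100010001540100454, nat_lit 1)]
def t4 : Net := [(nat_lit 0x4151154404040455501145511151100504014415501105450101455114555154511404, nat_lit 1),
  (nat_lit 0x1133130210212030310032130333121012301121210200023203132131020010331301, nat_lit 2),
  (nat_lit 0xd08040c00020708070a080a05040f070d020a0c010d0c0008070d090701010d010708, nat_lit 4),
  (nat_lit 0xfe00f00062006d0093005d001900f80049009d007900c2001d0086009a0026007f, nat_lit 8),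
  (nat_lit 0xd2000095a800006ecd000022d000001c3c00006f5500006f5700000ec40000b7bb, nat_lit 16),
  (nat_lit 0x6d06ab5a000000002a04439d0000000023aed91300000000ab4d8adc, nat_lit 32),
  (nat_lit 0xaa21a931701407430000000000000000836aa1ae5a8187d3, nat_lit 64),
  (nat_lit 0x82efde47d1c855614a702a9a34a4acbb, nat_lit 128),
  (nat_lit 0xff7fff, nat_lit 256),
  (nat_lit 0x14026d, nat_lit 128),
  (nat_lit 0x2f00d041ca8ca00000000000000000000000000103991, nat_lit 64),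
  (nat_lit 0x46418b82000000000aeb065400000000402523830000000000511702, nat_lit 32),
  (nat_lit 0x850000c0160000841d0000d8450000fc8800004c8a000030c30000558c00000300, nat_lit 16),
  (nat_lit 0xc8004800280000006100e500f200ae007a001100c1001c00c30091004800280046, nat_lit 8),
  (nat_lit 0x10209050f06090e0d08020d050f040308040b020d0e0c0c0e080703000b050e0e0600, nat_lit 4),
  (nat_lit 0x2120321132320213222201110132311000032110212221103020011233300023330000, nat_lit 2),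
  (nat_lit 0x554551504440144144154101145051540544445401400055550000404055405114154, nat_lit 1)]
def t5 : Net := [(nat_lit 0x4510105415551501450510145000150110051154010010451045011501450401010400, nat_lit 1),
  (nat_lit 0x3313123111130022001022000022202011000321031012120021302213311013222020, nat_lit 2),
  (nat_lit 0x509070200060c04090e0b0b0507010f0c03060a02060a0a020b0a08050a0b0a0f0001, nat_lit 4),
  (nat_lit 0x26004e00d80083004b009e00d500fa003b00db006a007c001e003a003700d300f1, nat_lit 8),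
  (nat_lit 0x1900001f750000983600004414000044ba0000fdb70000f9b8000093f700002c6d, nat_lit 16),
  (nat_lit 0xd3ca375400000000077a2c640000000060e84aa000000000af2a0949, nat_lit 32),
  (nat_lit 0xfcb69d1423de1fef0000000000000000ed1f84833aeddd2c, nat_lit 64),
  (nat_lit 0x4ec9ec0136ae33bc7934f7264150f330, nat_lit 128),
  (nat_lit 0xedff7f, nat_lit 256),
  (nat_lit 0x17a70, nat_lit 128),
  (nat_lit 0x33bc190414f7b2cc00000000000000000000000000aca55c, nat_lit 64),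
  (nat_lit 0x6e0f345200000000208e042000000000d52beaa80000000000c00401, nat_lit 32),
  (nat_lit 0x59000031280000a6100000c010000064940000d5b40000d1500000a79100000000, nat_lit 16),
  (nat_lit 0x3006500e300a7008100b4007c00f8001300e9002600ef00890012002100580041, nat_lit 8),
  (nat_lit 0xd01050803060505020603020c0b0b0f050b0b080a0f03030a0203000d030102060000, nat_lit 4),
  (nat_lit 0x3313123111130022001022000022202011000321021012120021302213311013222020, nat_lit 2),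
  (nat_lit 0x4510105415551501450510145000150110051154010010451045011501450401010400, nat_lit 1)]
def C : Ctx := ⟨280, 9, [t0, t1, t2, t3, t4, t5, Cfsg.Agent.S2090.t0, Cfsg.Agent.S2090.t1, Cfsg.Agent.S2090.t2, Cfsg.Agent.S2090.t3]⟩
theorem hC : C.ok = true := by decide +kernel
def lk : ℕ → ℕ → ℕ := look C 64
theorem hlk : Good C lk := good_look hC (by decide +kernel)
theorem hrel : ∀ r ∈ rels, C.ev r = 1 := rels_of_eqW hC (by decide +kernel)
def wM : List Word := [[0], [2], [4], [10], [6]]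
def ws : List Word := [[0], [2], [4], [10], [6], [8]]
def lowM_w1 : List Word := [[0,7,10,4], [4,2,7,4,7]]
theorem lowM_1 : Low (C.grp lowM_w1) 48 [1] :=
  low_orb hC hlk 1 (by decide) [(1,0), (1,1), (1,2), (1,3), (81,0), (81,2), (81,3), (55,1), (55,2), (55,3), (174,0), (174,1), (174,2), (84,0), (84,1), (84,3), (5,0), (5,2), (5,3), (260,0), (260,1), (206,1), (206,3), (225,1), (225,2), (23,0), (23,2), (17,1), (212,2), (11,1), (274,1), (274,2), (178,0), (258,3), (189,0), (97,0), (197,1), (167,2), (186,1), (63,3), (146,0), (56,0), (162,2), (68,1), (219,3), (41,2), (164,3)] (m := 48) (grp_mono _ (by decide +kernel))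
    (by decide +kernel) (by decide +kernel) (low_nil C) (by decide)
theorem lowM : Low (C.grp wM) 5760 [0,1] :=
  low_orb hC hlk 0 (by decide) [(0,0), (0,2), (0,4), (0,6), (0,8), (0,9), (264,2), (264,4), (264,6), (264,8), (264,9), (171,0), (171,4), (171,6), (171,8), (171,9), (230,0), (230,2), (230,8), (230,9), (130,2), (130,4), (130,8), (130,9), (29,4), (21,4), (21,6), (117,0), (117,4), (117,6), (117,8), (117,9), (133,0), (133,2), (133,8), (133,9), (66,2), (66,4), (66,8), (66,9), (20,4), (52,4), (87,2), (87,6), (87,9), (278,2), (278,6), (268,2), (268,4), (268,9), (121,6), (243,4), (93,4), (93,9), (26,4), (26,6), (102,4), (119,4), (119,6), (163,0), (163,4), (163,9), (191,0), (191,2), (191,8), (191,9), (221,4), (221,6), (183,6), (211,0), (211,2), (211,6), (211,8), (211,9), (34,2), (34,4), (170,2), (170,6), (123,2), (188,2), (269,4), (277,4), (277,6), (89,9), (138,4), (138,6), (215,6), (215,8),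 (180,4), (180,6), (136,4), (24,8), (152,4), (48,8), (224,4), (199,4), (275,4), (275,9), (139,2), (139,8), (139,9), (47,4), (47,6), (208,4), (54,6), (144,8), (99,8), (69,2), (69,9), (120,4), (120,6), (135,2), (135,4), (18,0), (18,9), (247,2), (247,9), (36,6), (176,6)] (m := 120) (le_of_subst _ [[0,9,6,4], [4,2,9,4,9]] (by decide +kernel))
    (by decide +kernel) (by decide +kernel) lowM_1 (by decide)
theorem le : Cfsg.Agent.S2090.C.grp Cfsg.Agent.S2090.gens ≤ C.grp ws := by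
  refine (grp_le_iff _).2 fun w hw => ?_
  have h : ∀ i < 4, C.ev [2 * (i + 6)] ∈ C.grp ws := fun i hi => by
    rw [← Ctx.eq_of_eqW hC ((by decide +kernel : ∀ i < 4, C.eqW (subst ws (nth [[2,8,6,9,6,11,8,6,8,6,9,2], [0,9,11,4,6,8,6,10,6,9,4], [0,2,6,9,6,10,6,11,6,10,9,6], [10,6,8,6,10,6,11,6,9,6,11]] [] i)) [2 * (i + 6)] = true) i hi)]
    exact subst_mem_grp _ _ _
  obtain ⟨i, hi, rfl⟩ := List.mem_map.1 hw
  have := h i (List.mem_range.1 hi)
  rw [Ctx.ev, ev_gen] at this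
  rw [ev_gen]
  exact this
theorem eq : Cfsg.Agent.S2090.C.grp Cfsg.Agent.S2090.gens = C.grp ws :=
  Subgroup.eq_of_le_of_card_ge le ((b3 _ _ hrel).2.trans Cfsg.Agent.S2090.card.ge)
theorem card : Nat.card (C.grp ws) = 3265920 := eq ▸ Cfsg.Agent.S2090.card
theorem iso {F : Type*} [Field F] [Fintype F] (hF : Fintype.card F = 9) :
    Nonempty (C.grp ws ≃* Cfsg.PSU 4 F 3) := eq ▸ Cfsg.Agent.S2090.iso hF
def cons : List Word := [[10,6,4,6,4,10,6,10,4,7,4,7,10,7], [10,6,4,6,4,10,0,2,0,2,10,4,7,4,7,10,2], [10,6,4,6,4,10,2,10,4,7,4,7,10,2,0,2,0,2]]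
theorem der : ∀ r ∈ cons, Der.{u} relsA r := by
  have h : ∀ v ∈ [[6,8,4,8,4,6,8,6,4,9,4,9,6,9], [6,8,4,8,4,6,0,2,0,2,6,4,9,4,9,6,2], [6,8,4,8,4,6,2,6,4,9,4,9,6,2,0,2,0,2]], Der.{u} relsA (subst wM v) := fun v hv =>
    Der.of_bound b2 (q := C.g) (fun r hr => hrel r ((by decide +kernel : ∀ r ∈ relsA, r ∈ rels) r hr)) lowM.1 v
      (Ctx.eq_of_eqW hC (v := []) ((by decide +kernel : ∀ v ∈ [[6,8,4,8,4,6,8,6,4,9,4,9,6,9], [6,8,4,8,4,6,0,2,0,2,6,4,9,4,9,6,2], [6,8,4,8,4,6,2,6,4,9,4,9,6,2,0,2,0,2]], C.eqW (subst wM v) [] = true) v hv))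
  intro r hr
  obtain ⟨v, hv, rfl⟩ := (by decide +kernel : ∀ r ∈ cons, ∃ v ∈ [[6,8,4,8,4,6,8,6,4,9,4,9,6,9], [6,8,4,8,4,6,0,2,0,2,6,4,9,4,9,6,2], [6,8,4,8,4,6,2,6,4,9,4,9,6,2,0,2,0,2]], subst wM v = r) r hr
  exact h v hv
end
end CA.U43T
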