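import Cfsg.Agent.Lib.Rec.U43B0
import Cfsg.Agent.Lib.Rec.U43H

/-! Kernel checks in the model of the involution centraliser of order 1152. -/

set_option autoImplicit false
set_option linter.all false
set_option maxRecDepth 100000

namespace CA.U43C

open CA.CNet CA.CWord CA.RegM CA.U43H CA.U43B

/-- `A B a b z s` -/
def mac : List Word := [[2,6], [2,4,6], [12], [14], [0,0], [0,4]]
/-- `a c q w y` -/
def big : List Word := [[12], [2,4,6,14,0,0,0,4], [0,6], [8,11], [8,10]]
noncomputable def K (m : Word) : ℕ := key (subst mac m)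
def RW : List Word := ([[], [0]].flatMap fun u => [[], [2]].flatMap fun v => [[], [4]].flatMap fun w =>
  [[], [6]].flatMap fun x => [[], [8]].flatMap fun y => [[], [10]].map fun z => u ++ v ++ w ++ x ++ y ++ z)
def rR : List Word := [[0, 0], [4, 0, 5, 1], [6, 0, 7, 1, 11, 9], [2, 2], [2, 0, 3, 1, 9],
  [4, 2, 5, 3, 11, 9], [6, 2, 7, 3]]
def qa : List Word := [[0, 8], [2], [0, 4, 8, 10], [2, 6, 8], [8], [8, 10]]
def tau (u v : Word) : List Word := [u, v, [4], [6], [8, 10], [10]]
def τ : List Word := tau [0,4,10] [2,6,10]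
noncomputable def rho (u v : Word) (w : Word) : Word := subst qa (subst (tau u v) w)

theorem k_R : lall El (fun w => imp (eqk key (inn w S) S) (lany RW fun m => eqk key w (subst mac m))) = true := by
  decide +kernel

theorem k_rR : ∀ r ∈ rR, K r = K [] := by decide +kernel

theorem k_qa : ∀ i < 6, key (inn [0,6] (nth mac [] i)) = K (nth qa [] i) := by decide +kernel

theorem k_tau : ∀ u ∈ RW, (∀ r ∈ rR.take 3, K (subst (tau u []) r) = K []) → ∀ v ∈ RW,
    (∀ r ∈ rR, K (subst (tau u v) r) = K []) →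
    (∀ x ∈ [[0], [2]], K (subst (tau u v) (subst (tau u v) x)) = K x) →
    (K ((rho u v)^[3] [8]) = K [8] ∧ K ((rho u v)^[3] [10]) = K [10]) ∧
    (∀ m ∈ RW, K (rho u v m) = K m → K m = K []) ∧
    ((∀ x ∈ [[0], [2]], K ((rho u v)^[3] x) = K x) → u = [0,4,10] ∧ v = [2,6,10]) := by
  decide +kernel

def W1 : List Word := [[], [10], [8], [8, 10], [4], [4, 10], [4, 8], [4, 8, 10], [0], [0, 10], [0, 8],
  [0, 8, 10], [0, 4], [0, 4, 10], [0, 4, 8], [0, 4, 8, 10]]
def W2 : List Word := [[], [10], [8], [8, 10], [6], [6, 10], [6, 8], [6, 8, 10], [2], [2, 10], [2, 8],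
  [2, 8, 10], [2, 6], [2, 6, 10], [2, 6, 8], [2, 6, 8, 10]]
def fc : List ℕ := [0, 1, 2, 3, 6, 7, 4, 5, 9, 8, 11, 10, 15, 14, 13, 12]
def fy : List ℕ := [0, 8, 2, 10, 4, 12, 6, 14, 9, 1, 11, 3, 13, 5, 15, 7]
def ft : List ℕ := [0, 1, 3, 2, 4, 5, 7, 6, 13, 12, 14, 15, 9, 8, 10, 11]
def fq : List ℕ := [0, 3, 2, 1, 14, 13, 12, 15, 8, 11, 10, 9, 6, 5, 4, 7]
def fw : List ℕ := [0, 8, 2, 10, 14, 6, 12, 4, 11, 3, 9, 1, 5, 13, 7, 15]

/-- `W` lists a self-centralising elementary abelian subgroup -/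
def SC (W : List Word) : Prop := nth W [] 2 = [8] ∧ nth W [] 1 = [10] ∧
  (∀ n < 16, K (nth W [] n ++ nth W [] n) = K []) ∧ ∀ m ∈ RW, (∀ n < 16, K (inn m (nth W [] n)) = K (nth W [] n)) →
    ∃ n < 16, K m = K (nth W [] n)

theorem sc1 : SC W1 := by unfold SC; decide +kernel
theorem sc2 : SC W2 := by unfold SC; decide +kernel

def hs : List Word := [[14, 3], [12, 3], [], [3], [10, 3], [10], [1, 8], [8], [10, 1, 8], [10, 8], [2, 1], [7], [9], [9, 3], [10, 9], [10, 9, 3], [11], [11, 3], [3, 14], [12, 7], [11, 8], [11, 1, 8], [1], [14, 5], [12, 5], [12], [14, 9], [12, 7, 11], [8, 14, 6], [12, 5, 10], [12, 11, 1], [12, 10, 7], [11, 9, 3], [11, 9], [9, 5], [3, 9], [8, 3], [14], [12, 10], [8, 1], [14, 9, 5], [12, 10, 5], [8, 14], [12, 11], [11, 1], [12, 11, 7], [14, 8], [9, 14], [10, 14], [11, 14]]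

theorem k_inv : lall El (fun e => imp (eqk key (e ++ e) []) (bor (eqk key e []) (lany hs fun h =>
    lany [[8], [8,10], [0,4,10], [2,6,10]] fun r => eqk key e (inn h (subst mac r))))) = true := by
  decide +kernel

def wa : Word := [12]
def wc : Word := [2,4,6,14,0,0,0,4]
def ww : Word := [8,11]
def wy : Word := [8,10]
noncomputable def tt (i j : ℕ) : Word := wpow (wa ++ wc) i ++ wpow wc j

theorem k_cen : lall El (fun e => imp (lany [0, 1, 2] fun k => eqk key (inn e ww) (wpow ww k))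
    (imp (eqk key (inn e wa) wa) (imp (eqk key (inn e wc) wc)
    (imp (eqk key (e ++ e) []) (bor (eqk key e []) (eqk key e Z)))))) = true := by decide +kernel

theorem k_max : lall El (fun e => imp (lany [0, 1, 2] fun k => eqk key (inn e ww) (wpow ww k))
    (lany [0,1,2,3] fun i => lany [0,1] fun j => bor (eqk key e (tt i j))
      (band (eqk key (wpow (wpow (tt i j ++ e) 4) 3) []) (bnot (eqk key (wpow (tt i j ++ e) 4) []))))) = true := by
  decide +kernel

theorem k_odd : lall El (fun e => imp (lany [0, 1, 2] fun k => eqk key (inn e ww) (wpow ww k))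
    (band (eqk key (wpow e 12) []) (imp (eqk key (wpow e 3) []) (lany [0,1,2] fun j =>
      bor (eqk key e (wpow ww j)) (lany [1,2] fun k => eqk key (winv wy ++ wpow e k) (wpow ww j)))))) = true := by
  decide +kernel

end CA.U43C
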