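import Cfsg.Agent.Lib.Rec.RegM
set_option autoImplicit false
set_option linter.all false
set_option maxRecDepth 100000
universe u
namespace CA.U43Q
open CA.CNet CA.CWord CA.CLevel CA.CSimple CA.CPoint CA.CTodd CA.CLow CA.RegM
noncomputable section
def rels : List Word := [[0,0,0,0], [0,0,3,3], [0,2,1,2], [0,4,1,5], [0,6,1,7], [2,4,3,5], [2,6,3,7], [0,0,5,5], [0,0,7,7], [4,6,5,6]]
namespace T0
noncomputable def A_0 : List (ℕ) := [nat_lit 0xe40443ae1102304406a110b90442c2110320442101c09287026c1c0f88703c41c0a98703b01001b04008a100b10402e21002a04026a1d0930743c21d0f90742861d02404c06e130c904c3021304204c2500405081016404001810070120c10483221203a0481620305100c126030c38283300a0b28282ec0a01182816e180f30603ea1807206032e0b0ba82c2cc0b00982c3ec190f28641e8190b387c2f01f0d187c3ce160620582ee1e0d98781a8170a38142b00504a81400c050608140d01503b054362150d105428c0704b81c1e40707081c0ca09010824024090d08500ce140430501ca1a00c03818a0107b0681901a0dc0300c20c06881836e0d00a8341cc1b0408381e20800b83c228050e1850208060e98542680702182424808019800146010c203c166020ca0383e61b0b20343c61a0ba0300a20d0ab0200ee0004c0202821b0d403418c020330001aa020db03c1d0020440001ee0201100002200]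
noncomputable def A : List (List (ℕ)) := [A_0]
noncomputable def K_0 : List (ℕ) := [nat_lit 0x89442371d82c26271587c461b0a8d4623d1c814120d088a45a17038641e1d198bc060000]
noncomputable def K : List (List (ℕ)) := [K_0]
noncomputable def R_0 : List (Rule) := [Rule.mk (nat_lit 7) (nat_lit 33) (Steps.bwd (nat_lit 7) (Steps.bwd (nat_lit 2) (Steps.fwd (nat_lit 512) Steps.nil))) (nat_lit 17) (nat_lit 1),
  Rule.mk (nat_lit 1) (nat_lit 33) (Steps.bwd (nat_lit 8) (Steps.fwd (nat_lit 512) (Steps.bwd (nat_lit 7) Steps.nil))) (nat_lit 9) (nat_lit 2),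
  Rule.mk (nat_lit 1) (nat_lit 33) (Steps.bwd (nat_lit 8) (Steps.bwd (nat_lit 2) (Steps.fwd (nat_lit 4096) Steps.nil))) (nat_lit 9) (nat_lit 2),
  Rule.mk (nat_lit 6) (nat_lit 33) (Steps.bwd (nat_lit 6) (Steps.bwd (nat_lit 1) (Steps.bwd (nat_lit 1) Steps.nil))) (nat_lit 14) (nat_lit 3),
  Rule.mk (nat_lit 5) (nat_lit 33) (Steps.bwd (nat_lit 5) (Steps.bwd (nat_lit 2) (Steps.fwd (nat_lit 512) Steps.nil))) (nat_lit 15) (nat_lit 1),
  Rule.mk (nat_lit 7) (nat_lit 33) (Steps.bwd (nat_lit 5) (Steps.fwd (nat_lit 4096) (Steps.bwd (nat_lit 6) Steps.nil))) (nat_lit 18) (nat_lit 0),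
  Rule.mk (nat_lit 1) (nat_lit 33) (Steps.bwd (nat_lit 6) (Steps.fwd (nat_lit 512) (Steps.bwd (nat_lit 5) Steps.nil))) (nat_lit 7) (nat_lit 2),
  Rule.mk (nat_lit 1) (nat_lit 33) (Steps.bwd (nat_lit 6) (Steps.bwd (nat_lit 2) (Steps.fwd (nat_lit 3072) Steps.nil))) (nat_lit 7) (nat_lit 2),
  Rule.mk (nat_lit 8) (nat_lit 33) (Steps.bwd (nat_lit 6) (Steps.fwd (nat_lit 3584) (Steps.fwd (nat_lit 3072) Steps.nil))) (nat_lit 19) (nat_lit 3),
  Rule.mk (nat_lit 8) (nat_lit 33) (Steps.bwd (nat_lit 8) (Steps.bwd (nat_lit 1) (Steps.bwd (nat_lit 1) Steps.nil))) (nat_lit 16) (nat_lit 3),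
  Rule.mk (nat_lit 6) (nat_lit 33) (Steps.bwd (nat_lit 8) (Steps.bwd (nat_lit 5) (Steps.fwd (nat_lit 3584) Steps.nil))) (nat_lit 19) (nat_lit 0),
  Rule.mk (nat_lit 5) (nat_lit 33) (Steps.bwd (nat_lit 7) (Steps.bwd (nat_lit 6) (Steps.fwd (nat_lit 4096) Steps.nil))) (nat_lit 18) (nat_lit 1),
  Rule.mk (nat_lit 8) (nat_lit 33) (Steps.bwd (nat_lit 6) (Steps.bwd (nat_lit 8) (Steps.bwd (nat_lit 5) Steps.nil))) (nat_lit 19) (nat_lit 3),
  Rule.mk (nat_lit 5) (nat_lit 33) (Steps.bwd (nat_lit 8) (Steps.fwd (nat_lit 2560) (Steps.bwd (nat_lit 8) Steps.nil))) (nat_lit 19) (nat_lit 2),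
  Rule.mk (nat_lit 6) (nat_lit 33) (Steps.bwd (nat_lit 1) (Steps.fwd (nat_lit 3072) (Steps.fwd (nat_lit 512) Steps.nil))) (nat_lit 6) (nat_lit 0),
  Rule.mk (nat_lit 7) (nat_lit 33) (Steps.bwd (nat_lit 1) (Steps.bwd (nat_lit 8) (Steps.fwd (nat_lit 512) Steps.nil))) (nat_lit 9) (nat_lit 1),
  Rule.mk (nat_lit 1) (nat_lit 33) (Steps.bwd (nat_lit 1) (Steps.bwd (nat_lit 6) (Steps.bwd (nat_lit 6) Steps.nil))) (nat_lit 14) (nat_lit 1),
  Rule.mk (nat_lit 2) (nat_lit 33) (Steps.bwd (nat_lit 8) (Steps.bwd (nat_lit 1) (Steps.fwd (nat_lit 4096) Steps.nil))) (nat_lit 8) (nat_lit 3),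
  Rule.mk (nat_lit 5) (nat_lit 33) (Steps.bwd (nat_lit 8) (Steps.bwd (nat_lit 6) (Steps.fwd (nat_lit 3584) Steps.nil))) (nat_lit 19) (nat_lit 2),
  Rule.mk (nat_lit 1) (nat_lit 33) (Steps.bwd (nat_lit 7) (Steps.fwd (nat_lit 512) (Steps.bwd (nat_lit 8) Steps.nil))) (nat_lit 8) (nat_lit 1),
  Rule.mk (nat_lit 2) (nat_lit 33) (Steps.bwd (nat_lit 7) (Steps.fwd (nat_lit 1024) (Steps.fwd (nat_lit 3584) Steps.nil))) (nat_lit 9) (nat_lit 0),
  Rule.mk (nat_lit 7) (nat_lit 33) (Steps.bwd (nat_lit 7) (Steps.fwd (nat_lit 512) (Steps.bwd (nat_lit 2) Steps.nil))) (nat_lit 17) (nat_lit 1),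
  Rule.mk (nat_lit 6) (nat_lit 33) (Steps.bwd (nat_lit 7) (Steps.fwd (nat_lit 3072) (Steps.bwd (nat_lit 7) Steps.nil))) (nat_lit 18) (nat_lit 3),
  Rule.mk (nat_lit 2) (nat_lit 33) (Steps.bwd (nat_lit 6) (Steps.bwd (nat_lit 1) (Steps.bwd (nat_lit 5) Steps.nil))) (nat_lit 6) (nat_lit 3),
  Rule.mk (nat_lit 1) (nat_lit 33) (Steps.bwd (nat_lit 6) (Steps.fwd (nat_lit 512) (Steps.fwd (nat_lit 3072) Steps.nil))) (nat_lit 7) (nat_lit 2),
  Rule.mk (nat_lit 8) (nat_lit 33) (Steps.bwd (nat_lit 6) (Steps.bwd (nat_lit 8) (Steps.fwd (nat_lit 3072) Steps.nil))) (nat_lit 19) (nat_lit 3),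
  Rule.mk (nat_lit 1) (nat_lit 33) (Steps.bwd (nat_lit 1) (Steps.bwd (nat_lit 1) (Steps.bwd (nat_lit 1) Steps.nil))) (nat_lit 0) (nat_lit 0),
  Rule.mk (nat_lit 6) (nat_lit 33) (Steps.bwd (nat_lit 1) (Steps.bwd (nat_lit 5) (Steps.bwd (nat_lit 2) Steps.nil))) (nat_lit 6) (nat_lit 0),
  Rule.mk (nat_lit 5) (nat_lit 33) (Steps.bwd (nat_lit 1) (Steps.fwd (nat_lit 2560) (Steps.bwd (nat_lit 2) Steps.nil))) (nat_lit 7) (nat_lit 1),
  Rule.mk (nat_lit 8) (nat_lit 33) (Steps.bwd (nat_lit 1) (Steps.fwd (nat_lit 4096) (Steps.bwd (nat_lit 2) Steps.nil))) (nat_lit 8) (nat_lit 0),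
  Rule.mk (nat_lit 7) (nat_lit 33) (Steps.bwd (nat_lit 1) (Steps.fwd (nat_lit 3584) (Steps.fwd (nat_lit 512) Steps.nil))) (nat_lit 9) (nat_lit 1),
  Rule.mk (nat_lit 4) (nat_lit 33) (Steps.bwd (nat_lit 4) (Steps.bwd (nat_lit 1) (Steps.bwd (nat_lit 1) Steps.nil))) (nat_lit 2) (nat_lit 3),
  Rule.mk (nat_lit 3) (nat_lit 33) (Steps.bwd (nat_lit 3) (Steps.bwd (nat_lit 2) (Steps.fwd (nat_lit 512) Steps.nil))) (nat_lit 3) (nat_lit 1),
  Rule.mk (nat_lit 7) (nat_lit 33) (Steps.bwd (nat_lit 3) (Steps.bwd (nat_lit 8) (Steps.bwd (nat_lit 4) Steps.nil))) (nat_lit 13) (nat_lit 1),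
  Rule.mk (nat_lit 7) (nat_lit 33) (Steps.bwd (nat_lit 4) (Steps.fwd (nat_lit 3584) (Steps.bwd (nat_lit 3) Steps.nil))) (nat_lit 12) (nat_lit 2),
  Rule.mk (nat_lit 3) (nat_lit 33) (Steps.bwd (nat_lit 3) (Steps.fwd (nat_lit 512) (Steps.fwd (nat_lit 512) Steps.nil))) (nat_lit 3) (nat_lit 1),
  Rule.mk (nat_lit 8) (nat_lit 33) (Steps.bwd (nat_lit 3) (Steps.bwd (nat_lit 7) (Steps.bwd (nat_lit 4) Steps.nil))) (nat_lit 12) (nat_lit 0),
  Rule.mk (nat_lit 4) (nat_lit 33) (Steps.bwd (nat_lit 4) (Steps.bwd (nat_lit 1) (Steps.fwd (nat_lit 1024) Steps.nil))) (nat_lit 2) (nat_lit 3),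
  Rule.mk (nat_lit 5) (nat_lit 33) (Steps.bwd (nat_lit 4) (Steps.bwd (nat_lit 6) (Steps.bwd (nat_lit 3) Steps.nil))) (nat_lit 10) (nat_lit 2),
  Rule.mk (nat_lit 6) (nat_lit 33) (Steps.bwd (nat_lit 4) (Steps.bwd (nat_lit 5) (Steps.bwd (nat_lit 3) Steps.nil))) (nat_lit 11) (nat_lit 3),
  Rule.mk (nat_lit 6) (nat_lit 33) (Steps.bwd (nat_lit 3) (Steps.fwd (nat_lit 3072) (Steps.bwd (nat_lit 4) Steps.nil))) (nat_lit 10) (nat_lit 0),
  Rule.mk (nat_lit 5) (nat_lit 33) (Steps.bwd (nat_lit 3) (Steps.fwd (nat_lit 2560) (Steps.bwd (nat_lit 4) Steps.nil))) (nat_lit 11) (nat_lit 1),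
  Rule.mk (nat_lit 7) (nat_lit 33) (Steps.bwd (nat_lit 3) (Steps.fwd (nat_lit 3584) (Steps.bwd (nat_lit 4) Steps.nil))) (nat_lit 13) (nat_lit 1),
  Rule.mk (nat_lit 6) (nat_lit 33) (Steps.bwd (nat_lit 4) (Steps.fwd (nat_lit 3072) (Steps.bwd (nat_lit 3) Steps.nil))) (nat_lit 11) (nat_lit 3),
  Rule.mk (nat_lit 6) (nat_lit 33) (Steps.bwd (nat_lit 3) (Steps.bwd (nat_lit 5) (Steps.bwd (nat_lit 4) Steps.nil))) (nat_lit 10) (nat_lit 0),
  Rule.mk (nat_lit 3) (nat_lit 33) (Steps.bwd (nat_lit 3) (Steps.fwd (nat_lit 512) (Steps.bwd (nat_lit 2) Steps.nil))) (nat_lit 3) (nat_lit 1),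
  Rule.mk (nat_lit 2) (nat_lit 33) (Steps.bwd (nat_lit 3) (Steps.fwd (nat_lit 1024) (Steps.bwd (nat_lit 3) Steps.nil))) (nat_lit 4) (nat_lit 3),
  Rule.mk (nat_lit 1) (nat_lit 33) (Steps.bwd (nat_lit 3) (Steps.fwd (nat_lit 512) (Steps.bwd (nat_lit 3) Steps.nil))) (nat_lit 4) (nat_lit 1),
  Rule.mk (nat_lit 1) (nat_lit 33) (Steps.bwd (nat_lit 4) (Steps.fwd (nat_lit 512) (Steps.bwd (nat_lit 4) Steps.nil))) (nat_lit 5) (nat_lit 2),
  Rule.mk (nat_lit 2) (nat_lit 33) (Steps.bwd (nat_lit 4) (Steps.bwd (nat_lit 1) (Steps.bwd (nat_lit 4) Steps.nil))) (nat_lit 5) (nat_lit 0),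
  Rule.mk (nat_lit 8) (nat_lit 33) (Steps.bwd (nat_lit 4) (Steps.fwd (nat_lit 4096) (Steps.bwd (nat_lit 3) Steps.nil))) (nat_lit 13) (nat_lit 3),
  Rule.mk (nat_lit 2) (nat_lit 33) (Steps.bwd (nat_lit 3) (Steps.bwd (nat_lit 3) (Steps.fwd (nat_lit 512) Steps.nil))) (nat_lit 3) (nat_lit 0),
  Rule.mk (nat_lit 4) (nat_lit 33) (Steps.bwd (nat_lit 4) (Steps.fwd (nat_lit 1024) (Steps.bwd (nat_lit 1) Steps.nil))) (nat_lit 2) (nat_lit 3),
  Rule.mk (nat_lit 1) (nat_lit 33) (Steps.bwd (nat_lit 4) (Steps.bwd (nat_lit 4) (Steps.fwd (nat_lit 1024) Steps.nil))) (nat_lit 2) (nat_lit 2),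
  Rule.mk (nat_lit 2) (nat_lit 33) (Steps.bwd (nat_lit 4) (Steps.fwd (nat_lit 1024) (Steps.bwd (nat_lit 4) Steps.nil))) (nat_lit 5) (nat_lit 0),
  Rule.mk (nat_lit 8) (nat_lit 33) (Steps.bwd (nat_lit 4) (Steps.bwd (nat_lit 7) (Steps.bwd (nat_lit 3) Steps.nil))) (nat_lit 13) (nat_lit 3),
  Rule.mk (nat_lit 5) (nat_lit 33) (Steps.bwd (nat_lit 3) (Steps.bwd (nat_lit 6) (Steps.bwd (nat_lit 4) Steps.nil))) (nat_lit 11) (nat_lit 1),
  Rule.mk (nat_lit 5) (nat_lit 33) (Steps.bwd (nat_lit 4) (Steps.fwd (nat_lit 2560) (Steps.bwd (nat_lit 3) Steps.nil))) (nat_lit 10) (nat_lit 2)]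
noncomputable def R : List (List (Rule)) := [R_0]
def LW : List Word := [[], [0], [1], [2], [3], [4], [5], [6], [7]]
def par : Par := ⟨9, 4, 13, 22, 511, 8191, 4194303⟩
theorem hpar : par.ok := by decide
theorem hR0_0 : lall (R) (fun l => lall l (ruleOK rels LW par)) = true := by decide +kernel
theorem hR0 : lall (R) (fun l => lall l (ruleOK rels LW par)) = true := hR0_0
theorem hR : RulesOK rels LW par R := rulesOK_of rfl hR0
def cols : List (ℕ × ℕ) := [(512, 2), (1536, 4), (2560, 6), (3584, 8)]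
theorem hcols : lall cols (colOK rels LW par) = true := by decide +kernel
noncomputable def JS0 : List ℕ := [nat_lit 0x30d05ef030322e74743516b8140a8b1b190d858d0142e2b10641715320a0a8a58038b852b810682858623213aa07190994018104c98b8202508080e1224051489110381846802c14223c0008111c0001820d00800146098441f2c02020f14211207890f0903a4004481d1c021f0e8c22108705000043820743e1c0c001f0e041e0e8701,
  nat_lit 0x29488b98347644c8263b21e2271c90a007164858014ae41bc4e57205c07159022068d87f2844543ea826301eda21110f21030c879183c963bb014261d4e2d170e600292c7358308c38a810431bd24a248da1020746d401c4c359c26141a4c030f8d2202884672854743290041f19461c0e8c60008e063102012308462041840340d0c1f,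
  nat_lit 0xa8f8bf1874805eb0463e2ef43a36173205030b7b14cd45a8014382d4a1b20167909120b148bc8a57c0120b2b683b21956e0490cabc0607c54a0206829ce2b2414b216920a388c48c5080105e28720f1893e9140c49d808c624dbcba2f2648072d1338068c0971870604adc0c0824ec42171235030b09128345e47c00a0723685d16916e,
  nat_lit 0xb201833]
theorem S0_c : blocks (facts 9 4 13 22 511 8191 4194303 9 511 6 63 A R 32) 32 JS0 286 = true := by decide +kernel
theorem S0 : On (Step.{u} rels LW par A) 286 414 :=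
  steps_of_blocks hpar hR S0_c (by decide +kernel)
theorem D0_c : allB (defOK 9 13 22 511 4194303 287 A K) 1 2 = true := by decide +kernel
theorem D0 : On (fun r => defOK par.W par.WL par.E par.mW par.mE 287 A K r = true) 256 384 :=
  On.of_allB D0_c
noncomputable def JW0 : List ℕ := [nat_lit 0x2b8a92c86b2e09b2e855164641b0680fc4e158523bd33461284ace4470cf244aa45c732609c44c832c49547c472d0a546c5f30523418cc380d1408de1c051424741e4674348410044404481345c414603f8eb2b4d54d4f927cfa3d0f62f5203b52d2dcf0280a22987d238922588b49cd8428da4dce31dcfc348cb21cd63252f12cf22f8c218cc61bc431f87a2045b230884e1304513b39ce8440dd490c54393c]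
theorem W0_c : blocks (rows 9 4 13 22 511 8191 4194303 10 1023 40 A 414 32 cols 32) 32 JW0 0 = true := by decide +kernel
theorem W0 : On (Row.{u} rels LW par A 414 32 cols) 0 32 :=
  rows_of_blocks hpar (by decide) hcols W0_c (by decide +kernel)
theorem idx : Idx.{u} rels [[0], [2], [4], [6]] [] 32 :=
  idx_of_cert hpar hR (K := K) (by decide +kernel) (T := 287) (T' := 384) (by decide) D0
    (subs := []) (by decide +kernel) (T1 := 286) (by decide) (N := 414) S0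
    (by decide) (n' := 32) (by decide) W0 (by decide +kernel) (by decide +kernel)
end T0
theorem b0 : Bound.{u} rels [[0], [2], [4], [6]] 32 := .of_idx T0.idx (.nil _) (by decide)
def t0 : Net := [(nat_lit 0x41500401, nat_lit 1),
  (nat_lit 0x33330002, nat_lit 2),
  (nat_lit 0x30f0800, nat_lit 4),
  (nat_lit 0x3c00f6, nat_lit 8),
  (nat_lit 0x3000100, nat_lit 4),
  (nat_lit 0x1320, nat_lit 2),
  (nat_lit 0x554, nat_lit 1)]
def t1 : Net := [(nat_lit 0x4105405, nat_lit 1),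
  (nat_lit 0x3323201, nat_lit 2),
  (nat_lit 0xd000e, nat_lit 4),
  (nat_lit 0x2300de, nat_lit 8),
  (nat_lit 0x2fd0, nat_lit 16),
  (nat_lit 0x1f0000, nat_lit 8),
  (nat_lit 0xf000d00, nat_lit 4),
  (nat_lit 0x30010000, nat_lit 2),
  (nat_lit 0x550, nat_lit 1)]
def t2 : Net := [(nat_lit 0x54111415, nat_lit 1),
  (nat_lit 0x22121200, nat_lit 2),
  (nat_lit 0xb030f03, nat_lit 4),
  (nat_lit 0x8300de, nat_lit 8),
  (nat_lit 0xa758, nat_lit 16),
  (nat_lit 0xae0000, nat_lit 8),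
  (nat_lit 0x4000c00, nat_lit 4),
  (nat_lit 0x11212120, nat_lit 2),
  (nat_lit 0x111140, nat_lit 1)]
def t3 : Net := [(nat_lit 0x555455, nat_lit 1),
  (nat_lit 0x13112231, nat_lit 2),
  (nat_lit 0x3010e0d, nat_lit 4),
  (nat_lit 0x8300c6, nat_lit 8),
  (nat_lit 0x3c78, nat_lit 16),
  (nat_lit 0x440000, nat_lit 8),
  (nat_lit 0x7050000, nat_lit 4),
  (nat_lit 0x11110000, nat_lit 2),
  (nat_lit 0x144100, nat_lit 1)]
def C : Ctx := ⟨32, 5, [t0, t1, t2, t3]⟩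
theorem hC : C.ok = true := by decide +kernel
def lk : ℕ → ℕ → ℕ := look C 32
theorem hlk : Good C lk := good_look hC (by decide +kernel)
def ws : List Word := [[0], [2], [4], [6]]
theorem bound : Bound.{u} rels ws 32 := b0
def Ek : List (Word × List Word) := [([], []), ([1], [[2]]), ([0], [[2]]), ([3], [[0]]), ([2], [[0]]), ([5], [[6]]),
  ([4], [[6]]), ([7], [[4]]), ([6], [[4]]), ([1,1], []), ([2,1], [[0]]), ([3,1], [[0]]),
  ([5,1], [[2]]), ([4,1], [[2]]), ([7,1], [[2]]), ([6,1], [[2]]), ([5,3], [[0]]), ([4,3], [[0]]),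
  ([7,3], [[0]]), ([6,3], [[0]]), ([6,5], [[4]]), ([7,5], [[4]]), ([4,3,1], [[0]]), ([5,3,1], [[0]]),
  ([6,3,1], [[0]]), ([7,3,1], [[0]]), ([6,5,1], [[2]]), ([7,5,1], [[2]]), ([6,5,3], [[0]]), ([7,5,3], [[0]]),
  ([7,5,3,1], [[0]]), ([6,5,3,1], [[0]])]
def key (w : Word) : ℕ := ipt lk w 0
def El : List Word := lmap Prod.fst Ek
theorem low : Low (C.grp ws) 32 [0] :=
  low_clo hC hlk 0 (by decide) [0,2,4,6,0,0] (m := 32) (us := []) (grp_mono _ (by simp)) (by decide +kernel) (by decide +kernel) (low_nil C) (by decide)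
theorem reg : Reg C lk 4 ws rels Ek [0,0] :=
  ⟨hlk, rfl, sing_of _ _ (by decide), by decide, rels_of_eqW hC (by decide +kernel), low, bound,
    by decide +kernel, by decide +kernel⟩
theorem md {G : Type u} [Group G] {l : List G} (hl : l.length = 4) (hr : ∀ r ∈ rels, ev (gl l) r = 1)
    (hz : ev (gl l) [0,0] ≠ 1) : Md (gl l) key El (grp (gl l) ws) ∧ Nat.card (grp (gl l) ws) = 32 :=
  reg.md bound (gl_one hl) hr hz
end
end CA.U43Q
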